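import Cfsg.Agent.Lib.Helper18.ONM.EX
import Cfsg.Agent.Lib.Helper23.L34T

/-!
# S2052 assembly in `_of` form (helper18)

From the pieces [LIFT-O], [E8], [LIFT-I] (statements of `notes/S2052_Skel_helper18.lean.txt`), the two coset
enumeration bounds, the model and the facts about `P`: the Schur multiplier of the O'Nan group is cyclic of order 3.
-/

set_option autoImplicit false
set_option maxRecDepth 100000
set_option linter.unusedVariables false

namespace Cfsg.Agent.Lib.Helper18.ONM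

open Cfsg Cfsg.Agent.Helper4.TC

namespace ASM

theorem card_eq_ker_mul {Γ : Type} [Group Γ] [Finite Γ] (σ : Γ →* P) (hs : Function.Surjective σ) :
    Nat.card Γ = Nat.card σ.ker * Nat.card P := by
  rw [← Subgroup.card_mul_index σ.ker, Subgroup.index_ker,
    MonoidHom.range_eq_top.mpr hs, Subgroup.card_top]

theorem cent_mem (hP : RelPOK) {Γ : Type} [Group Γ] (σ : Γ →* P) (g : Gen → Γ)
    (hg : ∀ x, σ (g x) = PresentedGroup.of x) (ρ : List ℕ) (hρ : ρ ∈ relP) :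
    evc g dec ρ ∈ σ.ker := by
  rw [MonoidHom.mem_ker, Schur.map_evc]
  have : (fun x => σ (g x)) = PresentedGroup.of (rels := RP) := funext hg
  rw [this]
  exact hP ρ hρ

end ASM

open ASM in
/-- no stem extension of `P` has a kernel of even order -/
theorem not_two_dvd_of (hP : RelPOK) (hconj : ConjOK) [Finite P]
    (hcardP : Nat.card P = 460815505920)
    (hE8 : ∀ {Γ : Type} [Group Γ] [Finite Γ] (σ : Γ →* P), Function.Surjective σ →
      σ.ker ≤ Subgroup.center Γ → (∀ z ∈ σ.ker, z ^ 2 = 1) →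
      ∀ γ : Γ, σ γ = PresentedGroup.of Cfsg.Spor.ON.Gen.a → γ ^ 2 = 1)
    (hLI : ∀ {Γ : Type} [Group Γ] [Finite Γ] (σ : Γ →* P), Function.Surjective σ →
      σ.ker ≤ Subgroup.center Γ → (∀ z ∈ σ.ker, z ^ 2 = 1) →
      (∀ γ : Γ, σ γ = PresentedGroup.of Cfsg.Spor.ON.Gen.a → γ ^ 2 = 1) →
      ∃ g : Gen → Γ, (∀ x, σ (g x) = PresentedGroup.of x) ∧ ∀ b ∈ exactI, evc g dec b = 1)
    (hTCI : Finite PI ∧ Nat.card PI ≤ 460815505920)
    {Γ : Type} [Group Γ] [Finite Γ] (σ : Γ →* P) (hσ : IsStemExtension σ) :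
    ¬ 2 ∣ Nat.card σ.ker := by
  intro hdvd
  haveI : Fact (Nat.Prime 2) := ⟨Nat.prime_two⟩
  obtain ⟨Γ', _, _, σ', hσ', hexp, z, hz, hz1⟩ := Schur.exists_stem_exponent σ hσ 2 hdvd
  have hsq := hE8 σ' hσ'.1 hσ'.2.1 hexp
  obtain ⟨g, hg, hex⟩ := hLI σ' hσ'.1 hσ'.2.1 hexp hsq
  obtain ⟨φ0, hφ0⟩ := Schur.exists_hom_weak ONCod.coding σ'.ker hσ'.2.1 2 hexp g exactI centI
    gensL hex (fun ρ hρ => cent_mem hP σ' g hg ρ (by
      have h' : ρ = r1 ∨ ρ = r3 ∨ ρ = r4 ∨ ρ = R7 := by simpa [centI] using hρ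
      rcases h' with rfl | rfl | rfl | rfl <;> exact List.mem_append_right _ (by simp)))
  have hr : φ0.range = ⊤ := by
    apply Schur.eq_top_of_map_eq_top σ' hσ'
    rw [eq_top_iff, ← PresentedGroup.closure_range_of RP, Subgroup.closure_le]
    rintro _ ⟨x, rfl⟩
    exact ⟨g x, ⟨PresentedGroup.of x, hφ0 x⟩, hg x⟩
  have hsurj : Function.Surjective φ0 := MonoidHom.range_eq_top.mp hr
  haveI : Finite (PresentedGroup (relSet dec (exactI ++ Schur.weakify 2 gensL centI))) := hTCI.1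
  have hle : Nat.card Γ' ≤ 460815505920 :=
    (Nat.card_le_card_of_surjective φ0 hsurj).trans hTCI.2
  rw [card_eq_ker_mul σ' hσ'.1, hcardP] at hle
  have hk1 : Nat.card σ'.ker ≤ 1 := by
    by_contra hlt
    push Not at hlt
    have : 2 * 460815505920 ≤ Nat.card σ'.ker * 460815505920 := Nat.mul_le_mul_right _ hlt
    omega
  have hbot : σ'.ker = ⊥ := by
    apply Subgroup.card_eq_one.mp
    have hpos : 0 < Nat.card σ'.ker := Nat.card_pos
    omega
  rw [hbot, Subgroup.mem_bot] at hz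
  exact hz1 hz

open ASM in
/-- the kernel of a stem extension of `P` has order at most 3 -/
theorem card_ker_le_three_of (hP : RelPOK) (hE : ExtraOK) [Finite P]
    (hcardP : Nat.card P = 460815505920)
    (hLO : ∀ {Γ : Type} [Group Γ] [Finite Γ] (σ : Γ →* P), Function.Surjective σ →
      σ.ker ≤ Subgroup.center Γ → Odd (Nat.card σ.ker) →
      ∃ g : Gen → Γ, (∀ x, σ (g x) = PresentedGroup.of x) ∧ ∀ b ∈ exactO, evc g dec b = 1)
    (hTCO : Finite PO ∧ Nat.card PO ≤ 3 * 460815505920)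
    (h2 : ∀ {Γ : Type} [Group Γ] [Finite Γ] (σ : Γ →* P), IsStemExtension σ →
      ¬ 2 ∣ Nat.card σ.ker)
    {Γ : Type} [Group Γ] [Finite Γ] (σ : Γ →* P) (hσ : IsStemExtension σ) :
    Nat.card σ.ker ≤ 3 := by
  have hodd : Odd (Nat.card σ.ker) := by
    rw [Nat.odd_iff]
    have := h2 σ hσ
    omega
  obtain ⟨g, hg, hex⟩ := hLO σ hσ.1 hσ.2.1 hodd
  obtain ⟨φ0, hφ0⟩ := Schur.exists_hom_weak0 ONCod.coding σ.ker hσ.2.1 g exactO centO gensL hex
    (fun ρ hρ => cent_mem hP σ g hg ρ (by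
      have h' : ρ = R5 ∨ ρ = R6 ∨ ρ = R7 := by simpa [centO] using hρ
      rcases h' with rfl | rfl | rfl <;> exact List.mem_append_right _ (by simp)))
  have hr : φ0.range = ⊤ := by
    apply Schur.eq_top_of_map_eq_top σ hσ
    rw [eq_top_iff, ← PresentedGroup.closure_range_of RP, Subgroup.closure_le]
    rintro _ ⟨x, rfl⟩
    exact ⟨g x, ⟨PresentedGroup.of x, hφ0 x⟩, hg x⟩
  have hsurj : Function.Surjective φ0 := MonoidHom.range_eq_top.mp hr
  haveI : Finite (PresentedGroup (relSet dec (exactO ++ Schur.weakify0 gensL centO))) := hTCO.1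
  have hle : Nat.card Γ ≤ 3 * 460815505920 :=
    (Nat.card_le_card_of_surjective φ0 hsurj).trans hTCO.2
  rw [card_eq_ker_mul σ hσ.1, hcardP] at hle
  exact Nat.le_of_mul_le_mul_right hle (by norm_num)

/-- **[ASM]** -/
theorem main_of (hP : RelPOK) (hE : ExtraOK) (hconj : ConjOK) [Finite P]
    (hcardP : Nat.card P = 460815505920)
    (hLO : ∀ {Γ : Type} [Group Γ] [Finite Γ] (σ : Γ →* P), Function.Surjective σ →
      σ.ker ≤ Subgroup.center Γ → Odd (Nat.card σ.ker) →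
      ∃ g : Gen → Γ, (∀ x, σ (g x) = PresentedGroup.of x) ∧ ∀ b ∈ exactO, evc g dec b = 1)
    (hE8 : ∀ {Γ : Type} [Group Γ] [Finite Γ] (σ : Γ →* P), Function.Surjective σ →
      σ.ker ≤ Subgroup.center Γ → (∀ z ∈ σ.ker, z ^ 2 = 1) →
      ∀ γ : Γ, σ γ = PresentedGroup.of Cfsg.Spor.ON.Gen.a → γ ^ 2 = 1)
    (hLI : ∀ {Γ : Type} [Group Γ] [Finite Γ] (σ : Γ →* P), Function.Surjective σ →
      σ.ker ≤ Subgroup.center Γ → (∀ z ∈ σ.ker, z ^ 2 = 1) →
      (∀ γ : Γ, σ γ = PresentedGroup.of Cfsg.Spor.ON.Gen.a → γ ^ 2 = 1) →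
      ∃ g : Gen → Γ, (∀ x, σ (g x) = PresentedGroup.of x) ∧ ∀ b ∈ exactI, evc g dec b = 1)
    (hTCO : Finite PO ∧ Nat.card PO ≤ 3 * 460815505920)
    (hTCI : Finite PI ∧ Nat.card PI ≤ 460815505920)
    (hmodel : ∃ (Δ : Type) (_ : Group Δ) (φ : PO →* Δ),
      φ (evc (PresentedGroup.of (rels := RO)) dec R5) ≠ 1) :
    Cfsg.HasCyclicSchurMultiplier Cfsg.Spor.ON 3 := by
  have h2 : ∀ {Γ : Type} [Group Γ] [Finite Γ] (σ : Γ →* P), IsStemExtension σ →
      ¬ 2 ∣ Nat.card σ.ker := fun σ hσ =>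
    not_two_dvd_of hP hconj hcardP hE8 hLI hTCI σ hσ
  show Cfsg.HasSchurMultiplier P (Multiplicative (ZMod 3))
  refine Cfsg.Agent.Lib.Helper7.L34.hasSchurMultiplier_of_card_le
    (exists_cover_of hP hE hcardP hTCO hmodel h2) ?_
  intro Γ _ _ σ hσ
  have h3 : Nat.card (Multiplicative (ZMod 3)) = 3 := by
    rw [Nat.card_eq_fintype_card, Fintype.card_multiplicative, ZMod.card]
  rw [h3]
  exact card_ker_le_three_of hP hE hcardP hLO hTCO h2 σ hσ

end Cfsg.Agent.Lib.Helper18.ONM
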