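import Cfsg.Agent.Lib.Helper4.TC.ONCod
import Cfsg.Agent.Lib.Helper4.TC.Schur3
import Cfsg.Prelude.Def_KGroupFacts

set_option autoImplicit false
set_option maxRecDepth 100000
set_option linter.unusedVariables false

/-! Schur multiplier of the O'Nan group (S2052, architect helper18): the basic objects.

Generators `g a b c d e f` of the presentation of `Cfsg.Spor.ON`, in helper4's coding `ONCod`
(codes `0 2 4 6 8 10 12`, odd codes = inverses; a code word `[l₁, …, lₙ]` is in APPLICATION order and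
evaluates to `gl lₙ * ⋯ * gl l₁`).  All relator words below are helper4's `ONL37.bases` verbatim.

* `PO` ("odd" weak group, also the covering group `3.O'N`): squares, Coxeter relators, `r1 … r4` and the two
  extra relators `n1 : a = (g c)^4`, `n2 : g c d c d = c ^ t` hold; `R5 R6 R7` are only central.
* `PI` (weak group for a kernel of exponent 2 in which involutions lift to involutions): Coxeter relators,
  `r2`, `R5`, `R6` hold; `r1 r3 r4 R7` are central of order at most 2. -/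

namespace Cfsg.Agent.Lib.Helper18.ONM

open Cfsg Cfsg.Agent.Helper4.TC

abbrev Gen : Type := Cfsg.Spor.ON.Gen
abbrev dec : ℕ → Letter Gen := ONCod.dec
abbrev enc : Gen → ℕ := ONCod.enc
/-- the relators of the O'Nan group -/
abbrev RP : Set (FreeGroup Gen) :=
  Cfsg.Spor.coxRelators Cfsg.Spor.ON.edges ∪ {r | r ∈ Cfsg.Spor.ON.extra}
/-- the O'Nan group (definitionally `Cfsg.Spor.ON`) -/
abbrev P : Type := PresentedGroup RP

/-- the seven generators, as code words -/
def gensL : List (List ℕ) := [[0], [2], [4], [6], [8], [10], [12]]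

/-- the 36 Coxeter relators (squares, `(x y)^m` in both orders) -/
def coxL : List (List ℕ) := [
  [2, 2],
  [4, 2, 4, 2, 4, 2],
  [6, 2, 6, 2],
  [8, 2, 8, 2],
  [10, 2, 10, 2],
  [12, 2, 12, 2],
  [2, 4, 2, 4, 2, 4],
  [4, 4],
  [6, 4, 6, 4, 6, 4],
  [8, 4, 8, 4],
  [10, 4, 10, 4],
  [12, 4, 12, 4],
  [2, 6, 2, 6],
  [4, 6, 4, 6, 4, 6],
  [6, 6],
  [8, 6, 8, 6, 8, 6, 8, 6, 8, 6, 8, 6, 8, 6, 8, 6],
  [10, 6, 10, 6],
  [12, 6, 12, 6],
  [2, 8, 2, 8],
  [4, 8, 4, 8],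
  [6, 8, 6, 8, 6, 8, 6, 8, 6, 8, 6, 8, 6, 8, 6, 8],
  [8, 8],
  [10, 8, 10, 8, 10, 8],
  [12, 8, 12, 8],
  [2, 10, 2, 10],
  [4, 10, 4, 10],
  [6, 10, 6, 10],
  [8, 10, 8, 10, 8, 10],
  [10, 10],
  [12, 10, 12, 10, 12, 10],
  [2, 12, 2, 12],
  [4, 12, 4, 12],
  [6, 12, 6, 12],
  [8, 12, 8, 12],
  [10, 12, 10, 12, 10, 12],
  [12, 12]]

/-- `a f g⁻²` -/
def r1 : List ℕ := [1, 1, 12, 2]

/-- `a f (c d)⁻⁴` -/
def r2 : List ℕ := [7, 9, 7, 9, 7, 9, 7, 9, 12, 2]

/-- `c c^(dgdg)` -/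
def r3 : List ℕ := [0, 8, 0, 8, 6, 9, 1, 9, 1, 6]

/-- `d d^(cgcg)` -/
def r4 : List ℕ := [0, 6, 0, 6, 8, 7, 1, 7, 1, 8]

/-- `(b c d g)^5` -/
def R5 : List ℕ := [0, 8, 6, 4, 0, 8, 6, 4, 0, 8, 6, 4, 0, 8, 6, 4, 0, 8, 6, 4]

/-- `g b g^c g^b g^c` -/
def R6 : List ℕ := [6, 0, 7, 4, 0, 5, 6, 0, 7, 4, 0]

/-- `g e g^d g^e g^d` -/
def R7 : List ℕ := [8, 0, 9, 10, 0, 11, 8, 0, 9, 10, 0]

/-- `a = (g c)^4` (application order: `a⁻¹ (g c)^4`) -/
def n1 : List ℕ := [3, 0, 6, 0, 6, 0, 6, 0, 6]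

/-- `g c d c d = c ^ t`, `t = d c d e g⁻¹ d e g c d⁻¹ e⁻¹` (application order) -/
def n2 : List ℕ := [9, 7, 9, 7, 1, 10, 8, 7, 1, 11, 9, 0, 11, 9, 7, 9, 6, 8, 6, 8, 10, 1, 8, 10, 0, 6, 9, 11]


/-- the relators which hold exactly for the canonical lifts when the kernel has odd order -/
def exactO : List (List ℕ) := coxL ++ [r1, r2, r3, r4, n1, n2]
def centO : List (List ℕ) := [R5, R6, R7]
def relO : List (List ℕ) := exactO ++ Schur.weakify0 gensL centO
abbrev RO : Set (FreeGroup Gen) := relSet dec relO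
/-- the weak group for kernels of odd order; also the covering group -/
abbrev PO : Type := PresentedGroup RO

/-- the relators which hold for suitably normalised lifts when the kernel has exponent 2 and involutions
lift to involutions -/
def exactI : List (List ℕ) := coxL ++ [r2, R5, R6]
def centI : List (List ℕ) := [r1, r3, r4, R7]
def relI : List (List ℕ) := exactI ++ Schur.weakify 2 gensL centI
abbrev RI : Set (FreeGroup Gen) := relSet dec relI
abbrev PI : Type := PresentedGroup RI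

end Cfsg.Agent.Lib.Helper18.ONM
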