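import Cfsg.Agent.Lib.Helper18.ONM.TCIB
import Cfsg.Agent.Lib.Helper18.ONM.Defs
import Cfsg.Agent.Lib.Helper4.TC.ONSMain

set_option autoImplicit false
set_option maxRecDepth 100000
set_option linter.unusedVariables false

/-! S2052 piece [TC-I] (helper18): the order of the weak group `PI` from the coset enumeration certificate `TCI`
(index 122760 over `⟨a, …, f⟩`, helper24's emitter for helper4's checker) and helper4's bound for the group
presented by the relators in `a, …, f` (`ONS.card0`, the order of `L₃(7):2`). -/

namespace Cfsg.Agent.Lib.Helper18.ONM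

open Cfsg Cfsg.Agent.Helper4.TC

namespace CardI

/-- the group presented by the relators which the certificate uses -/
theorem card_cert : Finite (PresentedGroup (relSet dec TCI.bases)) ∧
    Nat.card (PresentedGroup (relSet dec TCI.bases)) ≤ 122760 * 3753792 := by
  have h := stage_bound (relSet dec TCI.bases) (relSet dec ONZ1.bases) (relSet dec TCI.subsL)
    TCI.bases ONZ1.bases TCI.subsL
    (fun x : Gen => decide (x ∈ ([.a, .b, .c, .d, .e, .f] : List Gen)))
    (mem_relSet _) (fun r hr => hr) (fun s hs => hs) (by decide +kernel) (by decide +kernel)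
    TCI.n 3753792 TCI.bound ONS.card0
  exact ⟨h.1, h.2.trans (by decide)⟩

/-- every relator of the certificate is a relator of the weak group or the inverse of one -/
theorem bases_ok : ∀ b ∈ TCI.bases, b ∈ relI ∨ invW b ∈ relI := by decide +kernel

end CardI

/-- **[TC-I]** -/
theorem card_PI : Finite PI ∧ Nat.card PI ≤ 460815505920 := by
  have hrel : ∀ r ∈ relSet dec TCI.bases,
      FreeGroup.lift (PresentedGroup.of (rels := RI)) r = 1 := by
    rintro r ⟨b, hb, rfl⟩
    rw [lift_wordF]
    rcases CardI.bases_ok b hb with h | h
    · rw [evc_of]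
      exact PresentedGroup.one_of_mem (mem_relSet relI b h)
    · have h1 : evc (PresentedGroup.of (rels := RI)) dec (invW b) = 1 := by
        rw [evc_of]
        exact PresentedGroup.one_of_mem (mem_relSet relI _ h)
      rw [evc_invW _ ONCod.coding] at h1
      exact inv_eq_one.mp h1
  have hsurj : Function.Surjective (PresentedGroup.toGroup hrel) := by
    rw [← MonoidHom.range_eq_top, eq_top_iff, ← PresentedGroup.closure_range_of RI,
      Subgroup.closure_le]
    rintro _ ⟨x, rfl⟩
    exact ⟨PresentedGroup.of x, PresentedGroup.toGroup.of hrel⟩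
  haveI := CardI.card_cert.1
  haveI : Finite PI := Finite.of_surjective _ hsurj
  refine ⟨inferInstance, (Nat.card_le_card_of_surjective _ hsurj).trans ?_⟩
  exact CardI.card_cert.2.trans (by norm_num)

end Cfsg.Agent.Lib.Helper18.ONM
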