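import Cfsg.Agent.Lib.Helper18.ONM.Defs

set_option autoImplicit false
set_option maxRecDepth 100000
set_option linter.unusedVariables false

/-! S2052 (architect helper18): the facts about the O'Nan group `P` itself which the lifting pieces use, as
propositions (they are proved from helper4's model in `ONM/Facts.lean`). -/

namespace Cfsg.Agent.Lib.Helper18.ONM

open Cfsg Cfsg.Agent.Helper4.TC

/-- the relator words of `P` -/
def relP : List (List ℕ) := coxL ++ [r1, r2, r3, r4, R5, R6, R7]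

/-- all relator words evaluate to one in `P` -/
def RelPOK : Prop := ∀ b ∈ relP, evc (PresentedGroup.of (rels := RP)) dec b = 1

/-- the two extra relators of `PO` hold in `P` -/
def ExtraOK : Prop := evc (PresentedGroup.of (rels := RP)) dec n1 = 1 ∧
  evc (PresentedGroup.of (rels := RP)) dec n2 = 1

/-- involution words `w` with conjugators `u`: in `P`, `w = u a u⁻¹` (as `evc` values):
`b c d e f`, the ten products of commuting generators, and `a c f` -/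
def conjI : List (List ℕ × List ℕ) := [
  ([4], [4, 2]),
  ([6], [4, 2, 6, 4]),
  ([8], [4, 2, 6, 4, 8, 6, 4, 8, 10, 0, 4, 6, 8, 10, 1, 11, 5, 7, 9, 7]),
  ([10], [4, 1, 6, 4, 2, 8, 6, 4, 8, 10, 1, 6, 4, 8, 7, 9, 11, 1, 11, 9, 7, 9]),
  ([12], [4, 1, 6, 4, 2, 8, 6, 4, 8, 10, 1, 6, 4, 8, 7, 0, 9, 11, 9, 7, 1, 9, 1, 11]),
  ([2, 6], [4, 0, 6, 4, 1, 4]),
  ([2, 8], [4, 0, 6, 4, 1, 4, 8, 6, 4, 8, 6, 10, 8, 12, 11, 3, 5]),
  ([2, 10], [4, 2, 6, 4, 0, 8, 6, 8, 10, 1, 4, 2, 6, 4, 1]),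
  ([2, 12], [4, 0, 6, 4, 1, 4, 8, 6, 4, 2, 8, 6, 4]),
  ([4, 8], [4, 0, 6, 4, 1, 4, 8, 6, 4, 8, 6, 10, 8, 12, 11]),
  ([4, 10], [4, 0, 6, 4, 1, 4, 8, 6, 4, 8, 6, 10, 12]),
  ([4, 12], [4, 0, 6, 4, 1, 4, 8, 6, 4, 8, 6]),
  ([6, 10], [4, 0, 6, 4, 1, 4, 8, 6, 8, 10, 12]),
  ([6, 12], [4, 0, 6, 4, 1, 4, 8, 6, 8]),
  ([8, 12], [4, 0, 6, 4, 1, 4, 8, 6, 4, 8, 6, 10, 8, 12, 11, 3, 5, 7, 9, 7]),
  ([2, 6, 12], [4, 2, 6, 4, 8, 6, 8])]

/-- all the involutions of `conjI` are conjugate to `a` in `P` -/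
def ConjOK : Prop := ∀ p ∈ conjI, evc (PresentedGroup.of (rels := RP)) dec p.1 =
  evc (PresentedGroup.of (rels := RP)) dec p.2 * PresentedGroup.of Cfsg.Spor.ON.Gen.a *
    (evc (PresentedGroup.of (rels := RP)) dec p.2)⁻¹

end Cfsg.Agent.Lib.Helper18.ONM
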