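import Cfsg.Agent.Lib.Helper18.ONM.Conj

/-!
# S2052 piece [EX] (helper18): the weak group `PO` is a stem extension of the O'Nan group with kernel of order 3

In `_of` form: the facts about `P` (`RelPOK`, `ExtraOK`, its order), the coset enumeration bound for `PO`, the
model in which `R5` acts non-trivially and the absence of stem extensions with a kernel of even order enter as
hypotheses.
-/

set_option autoImplicit false
set_option maxRecDepth 100000
set_option linter.unusedVariables false

namespace Cfsg.Agent.Lib.Helper18.ONM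

open Cfsg Cfsg.Agent.Helper4.TC

namespace EX

/-- the code word of a generator -/
def gwd (k : Gen) : List ℕ := [enc k]

theorem evc_gwd {Q : Type*} [Group Q] (f : Gen → Q) (k : Gen) : evc f dec (gwd k) = f k := by
  unfold gwd
  rw [evc_cons, evc_nil, one_mul]
  have h : dec (enc k) = (k, true) := ONCod.coding.dec_enc k
  rw [h]
  rfl

theorem gwd_mem (k : Gen) : gwd k ∈ gensL := by
  cases k <;> decide

theorem comm_word_mem (k : Gen) (ρ : List ℕ) (L : List (List ℕ)) (hρ : ρ ∈ L) :
    invW (gwd k) ++ invW ρ ++ gwd k ++ ρ ∈ Schur.weakify0 gensL L := by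
  unfold Schur.weakify0
  exact List.mem_flatMap.mpr ⟨ρ, hρ, List.mem_map.mpr ⟨gwd k, gwd_mem k, rfl⟩⟩

/-- a commutator word which is trivial: the two elements commute -/
theorem commute_of_comm_word {Q : Type*} [Group Q] (f : Gen → Q) (x ρ : List ℕ)
    (h : evc f dec (invW x ++ invW ρ ++ x ++ ρ) = 1) :
    evc f dec ρ * evc f dec x = evc f dec x * evc f dec ρ := by
  rw [evc_append, evc_append, evc_append, evc_invW f ONCod.coding,
    evc_invW f ONCod.coding] at h
  have h2 : evc f dec ρ * evc f dec x * (evc f dec ρ)⁻¹ * (evc f dec x)⁻¹ = 1 := by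
    rw [← h]
    group
  calc evc f dec ρ * evc f dec x
      = (evc f dec ρ * evc f dec x * (evc f dec ρ)⁻¹ * (evc f dec x)⁻¹) *
          (evc f dec x * evc f dec ρ) := by group
    _ = evc f dec x * evc f dec ρ := by rw [h2, one_mul]

/-- the relators of `PO` hold in `PO` -/
theorem relO_one (b : List ℕ) (hb : b ∈ relO) :
    evc (PresentedGroup.of (rels := RO)) dec b = 1 := by
  rw [evc_of]
  exact PresentedGroup.one_of_mem (mem_relSet relO b hb)

/-- an element commuting with the generators is central -/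
theorem center_of_comm (g : PO)
    (hg : ∀ k, g * PresentedGroup.of k = PresentedGroup.of k * g) :
    g ∈ Subgroup.center PO := by
  have h : (⊤ : Subgroup PO) ≤ Subgroup.centralizer {g} := by
    rw [← PresentedGroup.closure_range_of RO, Subgroup.closure_le]
    rintro _ ⟨k, rfl⟩
    rw [SetLike.mem_coe, Subgroup.mem_centralizer_iff]
    intro h hh
    rw [Set.mem_singleton_iff.mp hh]
    exact hg k
  rw [Subgroup.mem_center_iff]
  intro x
  have hx := Subgroup.mem_centralizer_iff.mp (h (Subgroup.mem_top x)) g (Set.mem_singleton _)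
  exact hx.symm

theorem rho_center (ρ : List ℕ) (hρ : ρ ∈ centO) :
    evc (PresentedGroup.of (rels := RO)) dec ρ ∈ Subgroup.center PO := by
  apply center_of_comm
  intro k
  have h := commute_of_comm_word (PresentedGroup.of (rels := RO)) (gwd k) ρ
    (relO_one _ (List.mem_append_right _ (comm_word_mem k ρ _ hρ)))
  rw [evc_gwd] at h
  exact h

/-! ### words in a commutative group -/

/-- the exponent sum of a generator in a code word -/
def esum (x : Gen) : List ℕ → ℤ
  | [] => 0
  | c :: w => esum x w + (if (dec c).1 = x then (if (dec c).2 then 1 else -1) else 0)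

/-- the product of the powers of the images of the generators -/
def pr {A : Type*} [CommGroup A] (f : Gen → A) (e : Gen → ℤ) : A :=
  f .g ^ e .g * f .a ^ e .a * f .b ^ e .b * f .c ^ e .c * f .d ^ e .d * f .e ^ e .e * f .f ^ e .f

theorem pr_step {A : Type*} [CommGroup A] (f : Gen → A) (e : Gen → ℤ) (l : Letter Gen) :
    pr f (fun x => e x + (if l.1 = x then (if l.2 then 1 else -1) else 0)) = pr f e * gl f l := by
  rcases l with ⟨y, s⟩
  cases y <;> cases s <;>
    simp [pr, gl, zpow_add, zpow_neg, mul_comm, mul_left_comm, mul_assoc]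

theorem evc_eq_pr {A : Type*} [CommGroup A] (f : Gen → A) (w : List ℕ) :
    evc f dec w = pr f (fun x => esum x w) := by
  induction w with
  | nil => simp [evc_nil, pr, esum]
  | cons c u ih =>
    rw [evc_cons, ih, ← pr_step]
    rfl

theorem pr_add {A : Type*} [CommGroup A] (f : Gen → A) (e1 e2 : Gen → ℤ) :
    pr f (fun x => e1 x + e2 x) = pr f e1 * pr f e2 := by
  simp [pr, zpow_add, mul_comm, mul_left_comm, mul_assoc]

theorem pr_zsmul {A : Type*} [CommGroup A] (f : Gen → A) (k : ℤ) (e : Gen → ℤ) :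
    pr f (fun x => k * e x) = pr f e ^ k := by
  simp [pr, zpow_mul, mul_zpow, mul_comm k]

theorem pr_zero {A : Type*} [CommGroup A] (f : Gen → A) : pr f (fun _ => 0) = 1 := by
  simp [pr]

/-- an integer combination of exponent vectors of trivial words -/
theorem pr_comb {A : Type*} [CommGroup A] (f : Gen → A) (L : List (ℤ × List ℕ))
    (h : ∀ p ∈ L, pr f (fun x => esum x p.2) = 1) :
    pr f (fun x => (L.map fun p => p.1 * esum x p.2).sum) = 1 := by
  induction L with
  | nil => simpa using pr_zero f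
  | cons p L ih =>
    have h1 : (fun x => ((p :: L).map fun p => p.1 * esum x p.2).sum) =
        fun x => p.1 * esum x p.2 + (L.map fun p => p.1 * esum x p.2).sum := by
      funext x
      rw [List.map_cons, List.sum_cons]
    rw [h1, pr_add, pr_zsmul, h p List.mem_cons_self, one_zpow, one_mul]
    exact ih fun q hq => h q (List.mem_cons_of_mem _ hq)

/-- the unit vector -/
def delta (y : Gen) : Gen → ℤ := fun x => if x = y then 1 else 0

theorem pr_delta {A : Type*} [CommGroup A] (f : Gen → A) (y : Gen) : pr f (delta y) = f y := by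
  cases y <;> simp [pr, delta]

/-- the integer combinations of relators of `exactO` whose exponent vectors are the unit vectors -/
def comb : Gen → List (ℤ × List ℕ)
  | .g => [(-1, [9, 7, 9, 7, 1, 10, 8, 7, 1, 11, 9, 0, 11, 9, 7, 9, 6, 8, 6, 8, 10, 1, 8, 10, 0, 6, 9, 11]), (-1, [6, 4, 6, 4, 6, 4]), (3, [6, 6]), (1, [4, 2, 4, 2, 4, 2]), (-1, [2, 2]), (-1, [3, 0, 6, 0, 6, 0, 6, 0, 6]), (-2, [1, 1, 12, 2]), (1, [12, 12]), (-1, [8, 8])]
  | .a => [(1, [3, 0, 6, 0, 6, 0, 6, 0, 6]), (2, [1, 1, 12, 2]), (-2, [6, 6]), (-1, [12, 12])]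
  | .b => [(1, [4, 2, 4, 2, 4, 2]), (-1, [2, 2]), (-1, [4, 4]), (-1, [3, 0, 6, 0, 6, 0, 6, 0, 6]), (-2, [1, 1, 12, 2]), (2, [6, 6]), (1, [12, 12])]
  | .c => [(1, [6, 4, 6, 4, 6, 4]), (-3, [6, 6]), (-1, [4, 2, 4, 2, 4, 2]), (1, [2, 2]), (1, [3, 0, 6, 0, 6, 0, 6, 0, 6]), (2, [1, 1, 12, 2]), (-1, [12, 12])]
  | .d => [(1, [10, 8, 10, 8, 10, 8]), (1, [8, 8]), (-1, [12, 10, 12, 10, 12, 10]), (2, [12, 12]), (1, [7, 9, 7, 9, 7, 9, 7, 9, 12, 2]), (4, [6, 6]), (-1, [3, 0, 6, 0, 6, 0, 6, 0, 6]), (-2, [1, 1, 12, 2])]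
  | .e => [(1, [12, 10, 12, 10, 12, 10]), (-1, [10, 10]), (-2, [12, 12]), (-1, [7, 9, 7, 9, 7, 9, 7, 9, 12, 2]), (-4, [6, 6]), (-2, [8, 8]), (1, [3, 0, 6, 0, 6, 0, 6, 0, 6]), (2, [1, 1, 12, 2])]
  | .f => [(1, [7, 9, 7, 9, 7, 9, 7, 9, 12, 2]), (4, [6, 6]), (2, [8, 8]), (-1, [3, 0, 6, 0, 6, 0, 6, 0, 6]), (-2, [1, 1, 12, 2]), (1, [12, 12])]

theorem comb_mem : ∀ y : Gen, ∀ p ∈ comb y, p.2 ∈ exactO := by
  intro y
  cases y <;> decide

theorem comb_delta : ∀ y x : Gen, ((comb y).map fun p => p.1 * esum x p.2).sum = delta y x := by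
  intro y x
  cases y <;> cases x <;> decide

end EX

open EX in
/-- `PO` is perfect -/
theorem perfect_PO : commutator PO = ⊤ := by
  let π : PO →* Abelianization PO := Abelianization.of
  let f : Gen → Abelianization PO := fun k => π (PresentedGroup.of k)
  have hrel : ∀ b ∈ relO, pr f (fun x => esum x b) = 1 := by
    intro b hb
    have h := Schur.map_evc (dec := dec) π (PresentedGroup.of (rels := RO)) b
    rw [relO_one b hb, map_one] at h
    rw [← evc_eq_pr]
    exact h.symm
  have hall : ∀ y, f y = 1 := by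
    intro y
    have h := pr_comb f (comb y) fun p hp => hrel p.2 (List.mem_append_left _ (comb_mem y p hp))
    have h2 : (fun x => ((comb y).map fun p => p.1 * esum x p.2).sum) = delta y :=
      funext (comb_delta y)
    rw [h2, pr_delta] at h
    exact h
  rw [eq_top_iff, ← PresentedGroup.closure_range_of RO, Subgroup.closure_le]
  rintro _ ⟨k, rfl⟩
  have hk : π (PresentedGroup.of k) = 1 := hall k
  rw [SetLike.mem_coe, ← Abelianization.ker_of PO]
  exact MonoidHom.mem_ker.mpr hk

open EX in
/-- **[EX]** the covering group, from the facts about `P`, the bound for `PO`, a homomorphism in which `R5`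
survives, and the absence of stem extensions of `P` with a kernel of even order -/
theorem exists_cover_of (hP : RelPOK) (hE : ExtraOK) [Finite P] (hcardP : Nat.card P = 460815505920)
    (hTC : Finite PO ∧ Nat.card PO ≤ 3 * 460815505920)
    (hmodel : ∃ (Δ : Type) (_ : Group Δ) (φ : PO →* Δ),
      φ (evc (PresentedGroup.of (rels := RO)) dec R5) ≠ 1)
    (h2 : ∀ {Γ : Type} [Group Γ] [Finite Γ] (σ : Γ →* P), IsStemExtension σ →
      ¬ 2 ∣ Nat.card σ.ker) :
    ∃ (Γ : Type) (_ : Group Γ) (_ : Finite Γ) (σ : Γ →* P), IsStemExtension σ ∧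
      Nonempty (σ.ker ≃* Multiplicative (ZMod 3)) := by
  haveI : Finite PO := hTC.1
  -- the map onto `P`
  obtain ⟨σ, hσof⟩ : ∃ σ : PO →* P, ∀ x, σ (PresentedGroup.of x) = PresentedGroup.of x := by
    refine Schur.exists_hom_weak0 ONCod.coding (⊥ : Subgroup P) bot_le
      (PresentedGroup.of (rels := RP)) exactO centO gensL ?_ ?_
    · intro b hb
      have hb' : b ∈ coxL ++ [r1, r2, r3, r4, n1, n2] := hb
      rcases List.mem_append.mp hb' with h | h
      · exact hP b (List.mem_append_left _ h)
      · have h' : b = r1 ∨ b = r2 ∨ b = r3 ∨ b = r4 ∨ b = n1 ∨ b = n2 := by simpa using h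
        rcases h' with rfl | rfl | rfl | rfl | rfl | rfl
        · exact hP _ (List.mem_append_right _ (by simp))
        · exact hP _ (List.mem_append_right _ (by simp))
        · exact hP _ (List.mem_append_right _ (by simp))
        · exact hP _ (List.mem_append_right _ (by simp))
        · exact hE.1
        · exact hE.2
    · intro ρ hρ
      have h' : ρ = R5 ∨ ρ = R6 ∨ ρ = R7 := by simpa [centO] using hρ
      rw [Subgroup.mem_bot]
      rcases h' with rfl | rfl | rfl
      · exact hP _ (List.mem_append_right _ (by simp))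
      · exact hP _ (List.mem_append_right _ (by simp))
      · exact hP _ (List.mem_append_right _ (by simp))
  have hsurj : Function.Surjective σ := by
    rw [← MonoidHom.range_eq_top, eq_top_iff, ← PresentedGroup.closure_range_of RP,
      Subgroup.closure_le]
    rintro _ ⟨k, rfl⟩
    exact ⟨PresentedGroup.of k, hσof k⟩
  -- the central element
  set ρ5 : PO := evc (PresentedGroup.of (rels := RO)) dec R5 with hρ5
  have hρ5c : ρ5 ∈ Subgroup.center PO := rho_center R5 (by simp [centO])
  have hρ5k : ρ5 ∈ σ.ker := by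
    rw [MonoidHom.mem_ker, hρ5, Schur.map_evc]
    have : (fun x => σ (PresentedGroup.of (rels := RO) x)) = PresentedGroup.of (rels := RP) :=
      funext hσof
    rw [this]
    exact hP _ (List.mem_append_right _ (by simp))
  have hρ5ne : ρ5 ≠ 1 := by
    obtain ⟨Δ, _, φ, hφ⟩ := hmodel
    intro h1
    apply hφ
    rw [h1, map_one]
  -- the order of the kernel
  have hc1 : Nat.card PO = Nat.card σ.ker * Nat.card P := by
    rw [← Subgroup.card_mul_index σ.ker, Subgroup.index_ker,
      MonoidHom.range_eq_top.mpr hsurj, Subgroup.card_top]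
  have hk3 : Nat.card σ.ker ≤ 3 := by
    have h := hTC.2
    rw [hc1, hcardP] at h
    exact Nat.le_of_mul_le_mul_right h (by norm_num)
  -- the cyclic subgroup generated by `ρ5`
  have hZle : Subgroup.zpowers ρ5 ≤ σ.ker := by
    rw [Subgroup.zpowers_le]
    exact hρ5k
  have hZ2 : 2 ≤ Nat.card (Subgroup.zpowers ρ5) := by
    rw [Nat.card_zpowers]
    have h1 : orderOf ρ5 ≠ 1 := fun h => hρ5ne (orderOf_eq_one_iff.mp h)
    have h0 : 0 < orderOf ρ5 := orderOf_pos ρ5
    omega
  have hZdvd : Nat.card (Subgroup.zpowers ρ5) ∣ Nat.card σ.ker := Subgroup.card_dvd_of_le hZle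
  have hZeq : Subgroup.zpowers ρ5 = σ.ker := by
    apply Subgroup.eq_of_le_of_card_ge hZle
    have hpos : 0 < Nat.card σ.ker := Nat.card_pos
    have hle := Nat.le_of_dvd hpos hZdvd
    interval_cases hk : Nat.card σ.ker
    · omega
    · omega
    · obtain ⟨c, hc⟩ := hZdvd
      have : Nat.card (Subgroup.zpowers ρ5) = 3 := by
        rcases Nat.lt_or_ge (Nat.card (Subgroup.zpowers ρ5)) 3 with hlt | hge
        · have h2' : Nat.card (Subgroup.zpowers ρ5) = 2 := by omega
          rw [h2'] at hc
          omega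
        · omega
      omega
  have hcen : σ.ker ≤ Subgroup.center PO := by
    rw [← hZeq, Subgroup.zpowers_le]
    exact hρ5c
  have hstem : IsStemExtension σ := by
    refine ⟨hsurj, hcen, ?_⟩
    rw [perfect_PO]
    exact le_top
  have hodd := h2 σ hstem
  have hk3' : Nat.card σ.ker = 3 := by
    have hge : 2 ≤ Nat.card σ.ker := hZeq ▸ hZ2
    have hne : Nat.card σ.ker ≠ 2 := fun h => hodd (by rw [h])
    omega
  haveI : Fact (Nat.Prime 3) := ⟨by norm_num⟩
  haveI hcyc : IsCyclic σ.ker := isCyclic_of_prime_card hk3'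
  refine ⟨PO, inferInstance, inferInstance, σ, hstem, ⟨?_⟩⟩
  have e := zmodCyclicMulEquiv hcyc
  rw [hk3'] at e
  exact e.symm

end Cfsg.Agent.Lib.Helper18.ONM
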