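import Cfsg.Agent.Lib.Helper18.ONM.Conj
import Cfsg.Agent.Lib.Helper4.TC.ONSMain
import Cfsg.Agent.Lib.Helper4.TC.Embed

set_option autoImplicit false
set_option maxRecDepth 100000
set_option linter.unusedVariables false

/-! S2052 piece [CONJ] (helper18): the facts about the O'Nan group `P` used by the lifting pieces, from helper4's
checked permutation model on 122760 points (a word fixing the four base points is trivial). -/

namespace Cfsg.Agent.Lib.Helper18.ONM

open Cfsg Cfsg.Agent.Helper4.TC

namespace Facts

/-- a word fixing the four base points of helper4's model is trivial in `P` -/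
theorem hone (w : List ℕ) (hw : fixesB ONL37.mdata [0, 1, 9, 2] w = true) :
    evc (PresentedGroup.of (rels := RP)) dec w = 1 := by
  obtain ⟨h1, h2⟩ := fixesB_sound hw
  rw [evc_of]
  refine word_eq_one_of_base ONL37.coding ONL37.hR1 ONL37.model_ok 460815505920 (by norm_num)
    ONS.card_top ONS.specs ONS.levels_ok (by decide) w h1 ?_ ?_
  · exact h2 0 (by decide)
  · intro s hs
    have hs' : s.b ∈ ([0, 1, 9, 2] : List ℕ) := by
      have : s.b ∈ ONS.specs.map fun s => s.b := List.mem_map_of_mem hs
      have e : (ONS.specs.map fun s => s.b) = [1, 9, 2] := rfl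
      rw [e] at this
      exact List.mem_cons_of_mem _ this
    exact h2 s.b hs'

theorem relP_eq : relP = ONL37.bases := by decide

/-- the relator words for the conjugacy statements: `w⁻¹ u a u⁻¹` as a code word -/
def conjW (p : List ℕ × List ℕ) : List ℕ := invW p.2 ++ [2] ++ p.2 ++ invW p.1

theorem conj_chk : ∀ p ∈ conjI, fixesB ONL37.mdata [0, 1, 9, 2] (conjW p) = true := by decide +kernel

theorem extra_chk : fixesB ONL37.mdata [0, 1, 9, 2] n1 = true ∧
    fixesB ONL37.mdata [0, 1, 9, 2] n2 = true := by decide +kernel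

end Facts

theorem relP_ok : RelPOK := by
  intro b hb
  rw [evc_of]
  exact PresentedGroup.one_of_mem (ONL37.hR2 b (Facts.relP_eq ▸ hb))

theorem extra_ok : ExtraOK := ⟨Facts.hone _ Facts.extra_chk.1, Facts.hone _ Facts.extra_chk.2⟩

theorem conj_ok : ConjOK := by
  intro p hp
  have h := Facts.hone _ (Facts.conj_chk p hp)
  unfold Facts.conjW at h
  rw [evc_append, evc_append, evc_append, evc_invW _ ONCod.coding, evc_invW _ ONCod.coding,
    evc_cons, evc_nil, one_mul] at h
  have hgl : gl (PresentedGroup.of (rels := RP)) (dec 2) = PresentedGroup.of Cfsg.Spor.ON.Gen.a := rfl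
  rw [hgl] at h
  -- h : (evc w)⁻¹ * (evc u * (a * (evc u)⁻¹)) = 1
  have h2 := eq_of_inv_mul_eq_one h
  rw [h2]
  group

end Cfsg.Agent.Lib.Helper18.ONM
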