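import Cfsg.Agent.Lib.Helper18.ONM.ASM
import Cfsg.Agent.Lib.Helper18.ONM.Facts
import Cfsg.Agent.Lib.Helper18.ONM.CardI
import Cfsg.Agent.Lib.Helper18.ONM.CardO
import Cfsg.Agent.Lib.Helper23.ONMLIFTO
import Cfsg.Agent.Lib.Helper17.ONME8
import Cfsg.Agent.Lib.Helper3.ONMLIFTI
import Cfsg.Agent.Lib.Helper19.ONMMB

/-!
# S2052 (helper18, architect): the Schur multiplier of the O'Nan group is cyclic of order 3

Pieces: [LIFT-O] helper23, [E8] helper17, [LIFT-I] helper3, [MODEL] helper19 (the 368280-point model of `3.O'N`),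
coset enumeration certificates `TCO` (index 368280) and `TCI` (index 122760) in helper4's format by helper24's
emitter, helper4's O'Nan closure (`ONS`: order, `L₃(7):2`, base-point word check).
-/

set_option autoImplicit false
set_option maxRecDepth 100000
set_option linter.unusedVariables false

namespace Cfsg.Agent.Lib.Helper18.ONM

open Cfsg Cfsg.Agent.Helper4.TC

theorem main : Cfsg.HasCyclicSchurMultiplier Cfsg.Spor.ON 3 := by
  haveI : Finite P := ONS.card_top.1
  exact main_of relP_ok extra_ok conj_ok ONS.main.2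
    (fun σ hs hc ho => exists_lifts_odd relP_ok extra_ok σ hs hc ho)
    (fun σ hs hc he γ hγ => sq_lift_a_eq_one relP_ok conj_ok σ hs hc he γ hγ)
    (fun σ hs hc he hsq => exists_lifts_I relP_ok conj_ok σ hs hc he hsq)
    card_PO card_PI exists_model_odd

end Cfsg.Agent.Lib.Helper18.ONM
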