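import Cfsg.Agent.Lib.Helper18.ONM.TCID
import Cfsg.Agent.Lib.Helper4.TC.Strict

set_option autoImplicit false
set_option maxRecDepth 100000
set_option linter.unusedVariables false
set_option Elab.async false

namespace Cfsg.Agent.Lib.Helper18.ONM.TCI

open Cfsg.Agent.Helper4.TC

theorem e7_c8 : edgeRange data 7 16384 131072 = true := edgeRange_strict data 7 16384 131072 (by decide +kernel)
theorem e7_c9 : edgeRange data 7 16384 147456 = true := edgeRange_strict data 7 16384 147456 (by decide +kernel)
theorem e7_c10 : edgeRange data 7 16384 163840 = true := edgeRange_strict data 7 16384 163840 (by decide +kernel)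
theorem e7_c11 : edgeRange data 7 16384 180224 = true := edgeRange_strict data 7 16384 180224 (by decide +kernel)

end Cfsg.Agent.Lib.Helper18.ONM.TCI
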