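import Cfsg.Agent.Lib.Helper18.ONM.TCID
import Cfsg.Agent.Lib.Helper4.TC.Strict
import Cfsg.Agent.Lib.Helper7.TCSplit

set_option autoImplicit false
set_option maxRecDepth 100000
set_option linter.unusedVariables false
set_option Elab.async false

namespace Cfsg.Agent.Lib.Helper18.ONM.TCI

open Cfsg.Agent.Helper4.TC
open Cfsg.Agent.Lib.Helper7.TCSplit

theorem cnt0_p0 : countFinal data 32768 0 0 = 5092 := countFinal_strict data 32768 0 0 5092 (by decide +kernel)
theorem cnt0_p1 : countFinal data 32768 32768 0 = 20136 := countFinal_strict data 32768 32768 0 20136 (by decide +kernel)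
theorem cnt0_p2 : countFinal data 32768 65536 0 = 18203 := countFinal_strict data 32768 65536 0 18203 (by decide +kernel)
theorem cnt0_p3 : countFinal data 32768 98304 0 = 13102 := countFinal_strict data 32768 98304 0 13102 (by decide +kernel)
theorem cnt0_p4 : countFinal data 32768 131072 0 = 16607 := countFinal_strict data 32768 131072 0 16607 (by decide +kernel)
theorem cnt0_p5 : countFinal data 32768 163840 0 = 9901 := countFinal_strict data 32768 163840 0 9901 (by decide +kernel)
theorem cnt0_p6 : countFinal data 32768 196608 0 = 26153 := countFinal_strict data 32768 196608 0 26153 (by decide +kernel)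
theorem cnt0_p7 : countFinal data 13614 229376 0 = 13566 := countFinal_strict data 13614 229376 0 13566 (by decide +kernel)
theorem cnt0 : countFinal data 242990 0 0 = 122760 :=
  countFinal_glue data 32768 210222 242990 0 32768 5092 117668 122760 rfl rfl rfl cnt0_p0 (countFinal_glue data 32768 177454 210222 32768 65536 20136 97532 117668 rfl rfl rfl cnt0_p1 (countFinal_glue data 32768 144686 177454 65536 98304 18203 79329 97532 rfl rfl rfl cnt0_p2 (countFinal_glue data 32768 111918 144686 98304 131072 13102 66227 79329 rfl rfl rfl cnt0_p3 (countFinal_glue data 32768 79150 111918 131072 163840 16607 49620 66227 rfl rfl rfl cnt0_p4 (countFinal_glue data 32768 46382 79150 163840 196608 9901 39719 49620 rfl rfl rfl cnt0_p5 (countFinal_glue data 32768 13614 46382 196608 229376 26153 13566 39719 rfl rfl rfl cnt0_p6 (cnt0_p7)))))))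
theorem rows0_p0 : rowsRange data 242990 2048 0 = true := rowsRange_strict data 242990 2048 0 (by decide +kernel)
theorem rows0_p1 : rowsRange data 242990 2048 2048 = true := rowsRange_strict data 242990 2048 2048 (by decide +kernel)
theorem rows0_p2 : rowsRange data 242990 2048 4096 = true := rowsRange_strict data 242990 2048 4096 (by decide +kernel)
theorem rows0_p3 : rowsRange data 242990 2048 6144 = true := rowsRange_strict data 242990 2048 6144 (by decide +kernel)
theorem rows0_p4 : rowsRange data 242990 2048 8192 = true := rowsRange_strict data 242990 2048 8192 (by decide +kernel)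
theorem rows0_p5 : rowsRange data 242990 2048 10240 = true := rowsRange_strict data 242990 2048 10240 (by decide +kernel)
theorem rows0_p6 : rowsRange data 242990 2048 12288 = true := rowsRange_strict data 242990 2048 12288 (by decide +kernel)
theorem rows0_p7 : rowsRange data 242990 2048 14336 = true := rowsRange_strict data 242990 2048 14336 (by decide +kernel)
theorem rows0 : rowsRange data 242990 16384 0 = true :=
  rowsRange_glue data 242990 2048 14336 16384 0 2048 rfl rfl rows0_p0 (rowsRange_glue data 242990 2048 12288 14336 2048 4096 rfl rfl rows0_p1 (rowsRange_glue data 242990 2048 10240 12288 4096 6144 rfl rfl rows0_p2 (rowsRange_glue data 242990 2048 8192 10240 6144 8192 rfl rfl rows0_p3 (rowsRange_glue data 242990 2048 6144 8192 8192 10240 rfl rfl rows0_p4 (rowsRange_glue data 242990 2048 4096 6144 10240 12288 rfl rfl rows0_p5 (rowsRange_glue data 242990 2048 2048 4096 12288 14336 rfl rfl rows0_p6 (rows0_p7)))))))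
theorem rows1_p0 : rowsRange data 242990 2048 16384 = true := rowsRange_strict data 242990 2048 16384 (by decide +kernel)
theorem rows1_p1 : rowsRange data 242990 2048 18432 = true := rowsRange_strict data 242990 2048 18432 (by decide +kernel)
theorem rows1_p2 : rowsRange data 242990 2048 20480 = true := rowsRange_strict data 242990 2048 20480 (by decide +kernel)
theorem rows1_p3 : rowsRange data 242990 2048 22528 = true := rowsRange_strict data 242990 2048 22528 (by decide +kernel)
theorem rows1_p4 : rowsRange data 242990 2048 24576 = true := rowsRange_strict data 242990 2048 24576 (by decide +kernel)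
theorem rows1_p5 : rowsRange data 242990 2048 26624 = true := rowsRange_strict data 242990 2048 26624 (by decide +kernel)
theorem rows1_p6 : rowsRange data 242990 2048 28672 = true := rowsRange_strict data 242990 2048 28672 (by decide +kernel)
theorem rows1_p7 : rowsRange data 242990 2048 30720 = true := rowsRange_strict data 242990 2048 30720 (by decide +kernel)
theorem rows1 : rowsRange data 242990 16384 16384 = true :=
  rowsRange_glue data 242990 2048 14336 16384 16384 18432 rfl rfl rows1_p0 (rowsRange_glue data 242990 2048 12288 14336 18432 20480 rfl rfl rows1_p1 (rowsRange_glue data 242990 2048 10240 12288 20480 22528 rfl rfl rows1_p2 (rowsRange_glue data 242990 2048 8192 10240 22528 24576 rfl rfl rows1_p3 (rowsRange_glue data 242990 2048 6144 8192 24576 26624 rfl rfl rows1_p4 (rowsRange_glue data 242990 2048 4096 6144 26624 28672 rfl rfl rows1_p5 (rowsRange_glue data 242990 2048 2048 4096 28672 30720 rfl rfl rows1_p6 (rows1_p7)))))))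
theorem rows2_p0 : rowsRange data 242990 2048 32768 = true := rowsRange_strict data 242990 2048 32768 (by decide +kernel)
theorem rows2_p1 : rowsRange data 242990 2048 34816 = true := rowsRange_strict data 242990 2048 34816 (by decide +kernel)
theorem rows2_p2 : rowsRange data 242990 2048 36864 = true := rowsRange_strict data 242990 2048 36864 (by decide +kernel)
theorem rows2_p3 : rowsRange data 242990 2048 38912 = true := rowsRange_strict data 242990 2048 38912 (by decide +kernel)
theorem rows2_p4 : rowsRange data 242990 2048 40960 = true := rowsRange_strict data 242990 2048 40960 (by decide +kernel)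
theorem rows2_p5 : rowsRange data 242990 2048 43008 = true := rowsRange_strict data 242990 2048 43008 (by decide +kernel)
theorem rows2_p6 : rowsRange data 242990 2048 45056 = true := rowsRange_strict data 242990 2048 45056 (by decide +kernel)
theorem rows2_p7 : rowsRange data 242990 2048 47104 = true := rowsRange_strict data 242990 2048 47104 (by decide +kernel)
theorem rows2 : rowsRange data 242990 16384 32768 = true :=
  rowsRange_glue data 242990 2048 14336 16384 32768 34816 rfl rfl rows2_p0 (rowsRange_glue data 242990 2048 12288 14336 34816 36864 rfl rfl rows2_p1 (rowsRange_glue data 242990 2048 10240 12288 36864 38912 rfl rfl rows2_p2 (rowsRange_glue data 242990 2048 8192 10240 38912 40960 rfl rfl rows2_p3 (rowsRange_glue data 242990 2048 6144 8192 40960 43008 rfl rfl rows2_p4 (rowsRange_glue data 242990 2048 4096 6144 43008 45056 rfl rfl rows2_p5 (rowsRange_glue data 242990 2048 2048 4096 45056 47104 rfl rfl rows2_p6 (rows2_p7)))))))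
theorem rows3_p0 : rowsRange data 242990 2048 49152 = true := rowsRange_strict data 242990 2048 49152 (by decide +kernel)
theorem rows3_p1 : rowsRange data 242990 2048 51200 = true := rowsRange_strict data 242990 2048 51200 (by decide +kernel)
theorem rows3_p2 : rowsRange data 242990 2048 53248 = true := rowsRange_strict data 242990 2048 53248 (by decide +kernel)
theorem rows3_p3 : rowsRange data 242990 2048 55296 = true := rowsRange_strict data 242990 2048 55296 (by decide +kernel)
theorem rows3_p4 : rowsRange data 242990 2048 57344 = true := rowsRange_strict data 242990 2048 57344 (by decide +kernel)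
theorem rows3_p5 : rowsRange data 242990 2048 59392 = true := rowsRange_strict data 242990 2048 59392 (by decide +kernel)
theorem rows3_p6 : rowsRange data 242990 2048 61440 = true := rowsRange_strict data 242990 2048 61440 (by decide +kernel)
theorem rows3_p7 : rowsRange data 242990 2048 63488 = true := rowsRange_strict data 242990 2048 63488 (by decide +kernel)
theorem rows3 : rowsRange data 242990 16384 49152 = true :=
  rowsRange_glue data 242990 2048 14336 16384 49152 51200 rfl rfl rows3_p0 (rowsRange_glue data 242990 2048 12288 14336 51200 53248 rfl rfl rows3_p1 (rowsRange_glue data 242990 2048 10240 12288 53248 55296 rfl rfl rows3_p2 (rowsRange_glue data 242990 2048 8192 10240 55296 57344 rfl rfl rows3_p3 (rowsRange_glue data 242990 2048 6144 8192 57344 59392 rfl rfl rows3_p4 (rowsRange_glue data 242990 2048 4096 6144 59392 61440 rfl rfl rows3_p5 (rowsRange_glue data 242990 2048 2048 4096 61440 63488 rfl rfl rows3_p6 (rows3_p7)))))))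

end Cfsg.Agent.Lib.Helper18.ONM.TCI
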