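import Cfsg.Agent.Lib.Helper18.ONM.TCID
import Cfsg.Agent.Lib.Helper4.TC.Strict
import Cfsg.Agent.Lib.Helper7.TCSplit

set_option autoImplicit false
set_option maxRecDepth 100000
set_option linter.unusedVariables false
set_option Elab.async false

namespace Cfsg.Agent.Lib.Helper18.ONM.TCI

open Cfsg.Agent.Helper4.TC
open Cfsg.Agent.Lib.Helper7.TCSplit

theorem rows12_p0 : rowsRange data 242990 2048 196608 = true := rowsRange_strict data 242990 2048 196608 (by decide +kernel)
theorem rows12_p1 : rowsRange data 242990 2048 198656 = true := rowsRange_strict data 242990 2048 198656 (by decide +kernel)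
theorem rows12_p2 : rowsRange data 242990 2048 200704 = true := rowsRange_strict data 242990 2048 200704 (by decide +kernel)
theorem rows12_p3 : rowsRange data 242990 2048 202752 = true := rowsRange_strict data 242990 2048 202752 (by decide +kernel)
theorem rows12_p4 : rowsRange data 242990 2048 204800 = true := rowsRange_strict data 242990 2048 204800 (by decide +kernel)
theorem rows12_p5 : rowsRange data 242990 2048 206848 = true := rowsRange_strict data 242990 2048 206848 (by decide +kernel)
theorem rows12_p6 : rowsRange data 242990 2048 208896 = true := rowsRange_strict data 242990 2048 208896 (by decide +kernel)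
theorem rows12_p7 : rowsRange data 242990 2048 210944 = true := rowsRange_strict data 242990 2048 210944 (by decide +kernel)
theorem rows12 : rowsRange data 242990 16384 196608 = true :=
  rowsRange_glue data 242990 2048 14336 16384 196608 198656 rfl rfl rows12_p0 (rowsRange_glue data 242990 2048 12288 14336 198656 200704 rfl rfl rows12_p1 (rowsRange_glue data 242990 2048 10240 12288 200704 202752 rfl rfl rows12_p2 (rowsRange_glue data 242990 2048 8192 10240 202752 204800 rfl rfl rows12_p3 (rowsRange_glue data 242990 2048 6144 8192 204800 206848 rfl rfl rows12_p4 (rowsRange_glue data 242990 2048 4096 6144 206848 208896 rfl rfl rows12_p5 (rowsRange_glue data 242990 2048 2048 4096 208896 210944 rfl rfl rows12_p6 (rows12_p7)))))))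
theorem rows13_p0 : rowsRange data 242990 2048 212992 = true := rowsRange_strict data 242990 2048 212992 (by decide +kernel)
theorem rows13_p1 : rowsRange data 242990 2048 215040 = true := rowsRange_strict data 242990 2048 215040 (by decide +kernel)
theorem rows13_p2 : rowsRange data 242990 2048 217088 = true := rowsRange_strict data 242990 2048 217088 (by decide +kernel)
theorem rows13_p3 : rowsRange data 242990 2048 219136 = true := rowsRange_strict data 242990 2048 219136 (by decide +kernel)
theorem rows13_p4 : rowsRange data 242990 2048 221184 = true := rowsRange_strict data 242990 2048 221184 (by decide +kernel)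
theorem rows13_p5 : rowsRange data 242990 2048 223232 = true := rowsRange_strict data 242990 2048 223232 (by decide +kernel)
theorem rows13_p6 : rowsRange data 242990 2048 225280 = true := rowsRange_strict data 242990 2048 225280 (by decide +kernel)
theorem rows13_p7 : rowsRange data 242990 2048 227328 = true := rowsRange_strict data 242990 2048 227328 (by decide +kernel)
theorem rows13 : rowsRange data 242990 16384 212992 = true :=
  rowsRange_glue data 242990 2048 14336 16384 212992 215040 rfl rfl rows13_p0 (rowsRange_glue data 242990 2048 12288 14336 215040 217088 rfl rfl rows13_p1 (rowsRange_glue data 242990 2048 10240 12288 217088 219136 rfl rfl rows13_p2 (rowsRange_glue data 242990 2048 8192 10240 219136 221184 rfl rfl rows13_p3 (rowsRange_glue data 242990 2048 6144 8192 221184 223232 rfl rfl rows13_p4 (rowsRange_glue data 242990 2048 4096 6144 223232 225280 rfl rfl rows13_p5 (rowsRange_glue data 242990 2048 2048 4096 225280 227328 rfl rfl rows13_p6 (rows13_p7)))))))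
theorem rows14_p0 : rowsRange data 242990 2048 229376 = true := rowsRange_strict data 242990 2048 229376 (by decide +kernel)
theorem rows14_p1 : rowsRange data 242990 2048 231424 = true := rowsRange_strict data 242990 2048 231424 (by decide +kernel)
theorem rows14_p2 : rowsRange data 242990 2048 233472 = true := rowsRange_strict data 242990 2048 233472 (by decide +kernel)
theorem rows14_p3 : rowsRange data 242990 2048 235520 = true := rowsRange_strict data 242990 2048 235520 (by decide +kernel)
theorem rows14_p4 : rowsRange data 242990 2048 237568 = true := rowsRange_strict data 242990 2048 237568 (by decide +kernel)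
theorem rows14_p5 : rowsRange data 242990 2048 239616 = true := rowsRange_strict data 242990 2048 239616 (by decide +kernel)
theorem rows14_p6 : rowsRange data 242990 1326 241664 = true := rowsRange_strict data 242990 1326 241664 (by decide +kernel)
theorem rows14 : rowsRange data 242990 13614 229376 = true :=
  rowsRange_glue data 242990 2048 11566 13614 229376 231424 rfl rfl rows14_p0 (rowsRange_glue data 242990 2048 9518 11566 231424 233472 rfl rfl rows14_p1 (rowsRange_glue data 242990 2048 7470 9518 233472 235520 rfl rfl rows14_p2 (rowsRange_glue data 242990 2048 5422 7470 235520 237568 rfl rfl rows14_p3 (rowsRange_glue data 242990 2048 3374 5422 237568 239616 rfl rfl rows14_p4 (rowsRange_glue data 242990 2048 1326 3374 239616 241664 rfl rfl rows14_p5 (rows14_p6))))))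

end Cfsg.Agent.Lib.Helper18.ONM.TCI
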