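import Cfsg.Agent.Lib.Helper4.TC.Perm
import Cfsg.Agent.Lib.Helper4.TC.ONCod
import Cfsg.Agent.Lib.Helper18.ONM.TCIFin
import Cfsg.Agent.Lib.Helper18.ONM.TCICM0
import Cfsg.Agent.Lib.Helper18.ONM.TCICM1
import Cfsg.Agent.Lib.Helper18.ONM.TCICM2
import Cfsg.Agent.Lib.Helper18.ONM.TCICM3
import Cfsg.Agent.Lib.Helper18.ONM.TCICE0x0
import Cfsg.Agent.Lib.Helper18.ONM.TCICE0x1
import Cfsg.Agent.Lib.Helper18.ONM.TCICE0x2
import Cfsg.Agent.Lib.Helper18.ONM.TCICE0x3
import Cfsg.Agent.Lib.Helper18.ONM.TCICE1x0
import Cfsg.Agent.Lib.Helper18.ONM.TCICE1x1
import Cfsg.Agent.Lib.Helper18.ONM.TCICE1x2
import Cfsg.Agent.Lib.Helper18.ONM.TCICE1x3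
import Cfsg.Agent.Lib.Helper18.ONM.TCICE2x0
import Cfsg.Agent.Lib.Helper18.ONM.TCICE2x1
import Cfsg.Agent.Lib.Helper18.ONM.TCICE2x2
import Cfsg.Agent.Lib.Helper18.ONM.TCICE2x3
import Cfsg.Agent.Lib.Helper18.ONM.TCICE3x0
import Cfsg.Agent.Lib.Helper18.ONM.TCICE3x1
import Cfsg.Agent.Lib.Helper18.ONM.TCICE3x2
import Cfsg.Agent.Lib.Helper18.ONM.TCICE3x3
import Cfsg.Agent.Lib.Helper18.ONM.TCICE4x0
import Cfsg.Agent.Lib.Helper18.ONM.TCICE4x1
import Cfsg.Agent.Lib.Helper18.ONM.TCICE4x2
import Cfsg.Agent.Lib.Helper18.ONM.TCICE4x3
import Cfsg.Agent.Lib.Helper18.ONM.TCICE5x0
import Cfsg.Agent.Lib.Helper18.ONM.TCICE5x1
import Cfsg.Agent.Lib.Helper18.ONM.TCICE5x2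
import Cfsg.Agent.Lib.Helper18.ONM.TCICE5x3
import Cfsg.Agent.Lib.Helper18.ONM.TCICE6x0
import Cfsg.Agent.Lib.Helper18.ONM.TCICE6x1
import Cfsg.Agent.Lib.Helper18.ONM.TCICE6x2
import Cfsg.Agent.Lib.Helper18.ONM.TCICE6x3
import Cfsg.Agent.Lib.Helper18.ONM.TCICE7x0
import Cfsg.Agent.Lib.Helper18.ONM.TCICE7x1
import Cfsg.Agent.Lib.Helper18.ONM.TCICE7x2
import Cfsg.Agent.Lib.Helper18.ONM.TCICE7x3
import Cfsg.Agent.Lib.Helper18.ONM.TCICE8x0
import Cfsg.Agent.Lib.Helper18.ONM.TCICE8x1
import Cfsg.Agent.Lib.Helper18.ONM.TCICE8x2
import Cfsg.Agent.Lib.Helper18.ONM.TCICE8x3
import Cfsg.Agent.Lib.Helper18.ONM.TCICE9x0
import Cfsg.Agent.Lib.Helper18.ONM.TCICE9x1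
import Cfsg.Agent.Lib.Helper18.ONM.TCICE9x2
import Cfsg.Agent.Lib.Helper18.ONM.TCICE9x3
import Cfsg.Agent.Lib.Helper18.ONM.TCICE10x0
import Cfsg.Agent.Lib.Helper18.ONM.TCICE10x1
import Cfsg.Agent.Lib.Helper18.ONM.TCICE10x2
import Cfsg.Agent.Lib.Helper18.ONM.TCICE10x3
import Cfsg.Agent.Lib.Helper18.ONM.TCICE11x0
import Cfsg.Agent.Lib.Helper18.ONM.TCICE11x1
import Cfsg.Agent.Lib.Helper18.ONM.TCICE11x2
import Cfsg.Agent.Lib.Helper18.ONM.TCICE11x3
import Cfsg.Agent.Lib.Helper18.ONM.TCICE12x0
import Cfsg.Agent.Lib.Helper18.ONM.TCICE12x1
import Cfsg.Agent.Lib.Helper18.ONM.TCICE12x2
import Cfsg.Agent.Lib.Helper18.ONM.TCICE12x3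
import Cfsg.Agent.Lib.Helper18.ONM.TCICE13x0
import Cfsg.Agent.Lib.Helper18.ONM.TCICE13x1
import Cfsg.Agent.Lib.Helper18.ONM.TCICE13x2
import Cfsg.Agent.Lib.Helper18.ONM.TCICE13x3
import Cfsg.Agent.Lib.Helper18.ONM.TCICF0
import Cfsg.Agent.Lib.Helper18.ONM.TCICF1
import Cfsg.Agent.Lib.Helper18.ONM.TCICF2
import Cfsg.Agent.Lib.Helper18.ONM.TCICF3

set_option autoImplicit false
set_option maxRecDepth 100000
set_option linter.unusedVariables false

namespace Cfsg.Agent.Lib.Helper18.ONM.TCI

open Cfsg.Agent.Helper4.TC

theorem allE0 : ∀ k, k < 262144 → justE data 0 k = true := by
  intro k hk
  by_cases hh1 : k < 131072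
  · skip
    by_cases hh2 : k < 65536
    · skip
      by_cases hh3 : k < 32768
      · skip
        by_cases hh4 : k < 16384
        · skip
          exact edgeRange_sound data 0 16384 0 e0_c0 k (by omega) (by omega)
        · skip
          exact edgeRange_sound data 0 16384 16384 e0_c1 k (by omega) (by omega)
      · skip
        by_cases hh5 : k < 49152
        · skip
          exact edgeRange_sound data 0 16384 32768 e0_c2 k (by omega) (by omega)
        · skip
          exact edgeRange_sound data 0 16384 49152 e0_c3 k (by omega) (by omega)
    · skip
      by_cases hh6 : k < 98304
      · skip
        by_cases hh7 : k < 81920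
        · skip
          exact edgeRange_sound data 0 16384 65536 e0_c4 k (by omega) (by omega)
        · skip
          exact edgeRange_sound data 0 16384 81920 e0_c5 k (by omega) (by omega)
      · skip
        by_cases hh8 : k < 114688
        · skip
          exact edgeRange_sound data 0 16384 98304 e0_c6 k (by omega) (by omega)
        · skip
          exact edgeRange_sound data 0 16384 114688 e0_c7 k (by omega) (by omega)
  · skip
    by_cases hh9 : k < 196608
    · skip
      by_cases hh10 : k < 163840
      · skip
        by_cases hh11 : k < 147456
        · skip
          exact edgeRange_sound data 0 16384 131072 e0_c8 k (by omega) (by omega)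
        · skip
          exact edgeRange_sound data 0 16384 147456 e0_c9 k (by omega) (by omega)
      · skip
        by_cases hh12 : k < 180224
        · skip
          exact edgeRange_sound data 0 16384 163840 e0_c10 k (by omega) (by omega)
        · skip
          exact edgeRange_sound data 0 16384 180224 e0_c11 k (by omega) (by omega)
    · skip
      by_cases hh13 : k < 229376
      · skip
        by_cases hh14 : k < 212992
        · skip
          exact edgeRange_sound data 0 16384 196608 e0_c12 k (by omega) (by omega)
        · skip
          exact edgeRange_sound data 0 16384 212992 e0_c13 k (by omega) (by omega)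
      · skip
        by_cases hh15 : k < 242990
        · skip
          exact edgeRange_sound data 0 13614 229376 e0_c14 k (by omega) (by omega)
        · skip
          exact edgeRange_sound data 0 19154 242990 e0_c15 k (by omega) (by omega)

theorem allE1 : ∀ k, k < 262144 → justE data 1 k = true := by
  intro k hk
  by_cases hh1 : k < 131072
  · skip
    by_cases hh2 : k < 65536
    · skip
      by_cases hh3 : k < 32768
      · skip
        by_cases hh4 : k < 16384
        · skip
          exact edgeRange_sound data 1 16384 0 e1_c0 k (by omega) (by omega)
        · skip
          exact edgeRange_sound data 1 16384 16384 e1_c1 k (by omega) (by omega)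
      · skip
        by_cases hh5 : k < 49152
        · skip
          exact edgeRange_sound data 1 16384 32768 e1_c2 k (by omega) (by omega)
        · skip
          exact edgeRange_sound data 1 16384 49152 e1_c3 k (by omega) (by omega)
    · skip
      by_cases hh6 : k < 98304
      · skip
        by_cases hh7 : k < 81920
        · skip
          exact edgeRange_sound data 1 16384 65536 e1_c4 k (by omega) (by omega)
        · skip
          exact edgeRange_sound data 1 16384 81920 e1_c5 k (by omega) (by omega)
      · skip
        by_cases hh8 : k < 114688
        · skip
          exact edgeRange_sound data 1 16384 98304 e1_c6 k (by omega) (by omega)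
        · skip
          exact edgeRange_sound data 1 16384 114688 e1_c7 k (by omega) (by omega)
  · skip
    by_cases hh9 : k < 196608
    · skip
      by_cases hh10 : k < 163840
      · skip
        by_cases hh11 : k < 147456
        · skip
          exact edgeRange_sound data 1 16384 131072 e1_c8 k (by omega) (by omega)
        · skip
          exact edgeRange_sound data 1 16384 147456 e1_c9 k (by omega) (by omega)
      · skip
        by_cases hh12 : k < 180224
        · skip
          exact edgeRange_sound data 1 16384 163840 e1_c10 k (by omega) (by omega)
        · skip
          exact edgeRange_sound data 1 16384 180224 e1_c11 k (by omega) (by omega)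
    · skip
      by_cases hh13 : k < 229376
      · skip
        by_cases hh14 : k < 212992
        · skip
          exact edgeRange_sound data 1 16384 196608 e1_c12 k (by omega) (by omega)
        · skip
          exact edgeRange_sound data 1 16384 212992 e1_c13 k (by omega) (by omega)
      · skip
        by_cases hh15 : k < 242990
        · skip
          exact edgeRange_sound data 1 13614 229376 e1_c14 k (by omega) (by omega)
        · skip
          exact edgeRange_sound data 1 19154 242990 e1_c15 k (by omega) (by omega)

theorem allE2 : ∀ k, k < 262144 → justE data 2 k = true := by
  intro k hk
  by_cases hh1 : k < 131072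
  · skip
    by_cases hh2 : k < 65536
    · skip
      by_cases hh3 : k < 32768
      · skip
        by_cases hh4 : k < 16384
        · skip
          exact edgeRange_sound data 2 16384 0 e2_c0 k (by omega) (by omega)
        · skip
          exact edgeRange_sound data 2 16384 16384 e2_c1 k (by omega) (by omega)
      · skip
        by_cases hh5 : k < 49152
        · skip
          exact edgeRange_sound data 2 16384 32768 e2_c2 k (by omega) (by omega)
        · skip
          exact edgeRange_sound data 2 16384 49152 e2_c3 k (by omega) (by omega)
    · skip
      by_cases hh6 : k < 98304
      · skip
        by_cases hh7 : k < 81920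
        · skip
          exact edgeRange_sound data 2 16384 65536 e2_c4 k (by omega) (by omega)
        · skip
          exact edgeRange_sound data 2 16384 81920 e2_c5 k (by omega) (by omega)
      · skip
        by_cases hh8 : k < 114688
        · skip
          exact edgeRange_sound data 2 16384 98304 e2_c6 k (by omega) (by omega)
        · skip
          exact edgeRange_sound data 2 16384 114688 e2_c7 k (by omega) (by omega)
  · skip
    by_cases hh9 : k < 196608
    · skip
      by_cases hh10 : k < 163840
      · skip
        by_cases hh11 : k < 147456
        · skip
          exact edgeRange_sound data 2 16384 131072 e2_c8 k (by omega) (by omega)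
        · skip
          exact edgeRange_sound data 2 16384 147456 e2_c9 k (by omega) (by omega)
      · skip
        by_cases hh12 : k < 180224
        · skip
          exact edgeRange_sound data 2 16384 163840 e2_c10 k (by omega) (by omega)
        · skip
          exact edgeRange_sound data 2 16384 180224 e2_c11 k (by omega) (by omega)
    · skip
      by_cases hh13 : k < 229376
      · skip
        by_cases hh14 : k < 212992
        · skip
          exact edgeRange_sound data 2 16384 196608 e2_c12 k (by omega) (by omega)
        · skip
          exact edgeRange_sound data 2 16384 212992 e2_c13 k (by omega) (by omega)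
      · skip
        by_cases hh15 : k < 242990
        · skip
          exact edgeRange_sound data 2 13614 229376 e2_c14 k (by omega) (by omega)
        · skip
          exact edgeRange_sound data 2 19154 242990 e2_c15 k (by omega) (by omega)

theorem allE3 : ∀ k, k < 262144 → justE data 3 k = true := by
  intro k hk
  by_cases hh1 : k < 131072
  · skip
    by_cases hh2 : k < 65536
    · skip
      by_cases hh3 : k < 32768
      · skip
        by_cases hh4 : k < 16384
        · skip
          exact edgeRange_sound data 3 16384 0 e3_c0 k (by omega) (by omega)
        · skip
          exact edgeRange_sound data 3 16384 16384 e3_c1 k (by omega) (by omega)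
      · skip
        by_cases hh5 : k < 49152
        · skip
          exact edgeRange_sound data 3 16384 32768 e3_c2 k (by omega) (by omega)
        · skip
          exact edgeRange_sound data 3 16384 49152 e3_c3 k (by omega) (by omega)
    · skip
      by_cases hh6 : k < 98304
      · skip
        by_cases hh7 : k < 81920
        · skip
          exact edgeRange_sound data 3 16384 65536 e3_c4 k (by omega) (by omega)
        · skip
          exact edgeRange_sound data 3 16384 81920 e3_c5 k (by omega) (by omega)
      · skip
        by_cases hh8 : k < 114688
        · skip
          exact edgeRange_sound data 3 16384 98304 e3_c6 k (by omega) (by omega)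
        · skip
          exact edgeRange_sound data 3 16384 114688 e3_c7 k (by omega) (by omega)
  · skip
    by_cases hh9 : k < 196608
    · skip
      by_cases hh10 : k < 163840
      · skip
        by_cases hh11 : k < 147456
        · skip
          exact edgeRange_sound data 3 16384 131072 e3_c8 k (by omega) (by omega)
        · skip
          exact edgeRange_sound data 3 16384 147456 e3_c9 k (by omega) (by omega)
      · skip
        by_cases hh12 : k < 180224
        · skip
          exact edgeRange_sound data 3 16384 163840 e3_c10 k (by omega) (by omega)
        · skip
          exact edgeRange_sound data 3 16384 180224 e3_c11 k (by omega) (by omega)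
    · skip
      by_cases hh13 : k < 229376
      · skip
        by_cases hh14 : k < 212992
        · skip
          exact edgeRange_sound data 3 16384 196608 e3_c12 k (by omega) (by omega)
        · skip
          exact edgeRange_sound data 3 16384 212992 e3_c13 k (by omega) (by omega)
      · skip
        by_cases hh15 : k < 242990
        · skip
          exact edgeRange_sound data 3 13614 229376 e3_c14 k (by omega) (by omega)
        · skip
          exact edgeRange_sound data 3 19154 242990 e3_c15 k (by omega) (by omega)

theorem allE4 : ∀ k, k < 262144 → justE data 4 k = true := by
  intro k hk
  by_cases hh1 : k < 131072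
  · skip
    by_cases hh2 : k < 65536
    · skip
      by_cases hh3 : k < 32768
      · skip
        by_cases hh4 : k < 16384
        · skip
          exact edgeRange_sound data 4 16384 0 e4_c0 k (by omega) (by omega)
        · skip
          exact edgeRange_sound data 4 16384 16384 e4_c1 k (by omega) (by omega)
      · skip
        by_cases hh5 : k < 49152
        · skip
          exact edgeRange_sound data 4 16384 32768 e4_c2 k (by omega) (by omega)
        · skip
          exact edgeRange_sound data 4 16384 49152 e4_c3 k (by omega) (by omega)
    · skip
      by_cases hh6 : k < 98304
      · skip
        by_cases hh7 : k < 81920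
        · skip
          exact edgeRange_sound data 4 16384 65536 e4_c4 k (by omega) (by omega)
        · skip
          exact edgeRange_sound data 4 16384 81920 e4_c5 k (by omega) (by omega)
      · skip
        by_cases hh8 : k < 114688
        · skip
          exact edgeRange_sound data 4 16384 98304 e4_c6 k (by omega) (by omega)
        · skip
          exact edgeRange_sound data 4 16384 114688 e4_c7 k (by omega) (by omega)
  · skip
    by_cases hh9 : k < 196608
    · skip
      by_cases hh10 : k < 163840
      · skip
        by_cases hh11 : k < 147456
        · skip
          exact edgeRange_sound data 4 16384 131072 e4_c8 k (by omega) (by omega)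
        · skip
          exact edgeRange_sound data 4 16384 147456 e4_c9 k (by omega) (by omega)
      · skip
        by_cases hh12 : k < 180224
        · skip
          exact edgeRange_sound data 4 16384 163840 e4_c10 k (by omega) (by omega)
        · skip
          exact edgeRange_sound data 4 16384 180224 e4_c11 k (by omega) (by omega)
    · skip
      by_cases hh13 : k < 229376
      · skip
        by_cases hh14 : k < 212992
        · skip
          exact edgeRange_sound data 4 16384 196608 e4_c12 k (by omega) (by omega)
        · skip
          exact edgeRange_sound data 4 16384 212992 e4_c13 k (by omega) (by omega)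
      · skip
        by_cases hh15 : k < 242990
        · skip
          exact edgeRange_sound data 4 13614 229376 e4_c14 k (by omega) (by omega)
        · skip
          exact edgeRange_sound data 4 19154 242990 e4_c15 k (by omega) (by omega)

theorem allE5 : ∀ k, k < 262144 → justE data 5 k = true := by
  intro k hk
  by_cases hh1 : k < 131072
  · skip
    by_cases hh2 : k < 65536
    · skip
      by_cases hh3 : k < 32768
      · skip
        by_cases hh4 : k < 16384
        · skip
          exact edgeRange_sound data 5 16384 0 e5_c0 k (by omega) (by omega)
        · skip
          exact edgeRange_sound data 5 16384 16384 e5_c1 k (by omega) (by omega)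
      · skip
        by_cases hh5 : k < 49152
        · skip
          exact edgeRange_sound data 5 16384 32768 e5_c2 k (by omega) (by omega)
        · skip
          exact edgeRange_sound data 5 16384 49152 e5_c3 k (by omega) (by omega)
    · skip
      by_cases hh6 : k < 98304
      · skip
        by_cases hh7 : k < 81920
        · skip
          exact edgeRange_sound data 5 16384 65536 e5_c4 k (by omega) (by omega)
        · skip
          exact edgeRange_sound data 5 16384 81920 e5_c5 k (by omega) (by omega)
      · skip
        by_cases hh8 : k < 114688
        · skip
          exact edgeRange_sound data 5 16384 98304 e5_c6 k (by omega) (by omega)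
        · skip
          exact edgeRange_sound data 5 16384 114688 e5_c7 k (by omega) (by omega)
  · skip
    by_cases hh9 : k < 196608
    · skip
      by_cases hh10 : k < 163840
      · skip
        by_cases hh11 : k < 147456
        · skip
          exact edgeRange_sound data 5 16384 131072 e5_c8 k (by omega) (by omega)
        · skip
          exact edgeRange_sound data 5 16384 147456 e5_c9 k (by omega) (by omega)
      · skip
        by_cases hh12 : k < 180224
        · skip
          exact edgeRange_sound data 5 16384 163840 e5_c10 k (by omega) (by omega)
        · skip
          exact edgeRange_sound data 5 16384 180224 e5_c11 k (by omega) (by omega)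
    · skip
      by_cases hh13 : k < 229376
      · skip
        by_cases hh14 : k < 212992
        · skip
          exact edgeRange_sound data 5 16384 196608 e5_c12 k (by omega) (by omega)
        · skip
          exact edgeRange_sound data 5 16384 212992 e5_c13 k (by omega) (by omega)
      · skip
        by_cases hh15 : k < 242990
        · skip
          exact edgeRange_sound data 5 13614 229376 e5_c14 k (by omega) (by omega)
        · skip
          exact edgeRange_sound data 5 19154 242990 e5_c15 k (by omega) (by omega)

theorem allE6 : ∀ k, k < 262144 → justE data 6 k = true := by
  intro k hk
  by_cases hh1 : k < 131072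
  · skip
    by_cases hh2 : k < 65536
    · skip
      by_cases hh3 : k < 32768
      · skip
        by_cases hh4 : k < 16384
        · skip
          exact edgeRange_sound data 6 16384 0 e6_c0 k (by omega) (by omega)
        · skip
          exact edgeRange_sound data 6 16384 16384 e6_c1 k (by omega) (by omega)
      · skip
        by_cases hh5 : k < 49152
        · skip
          exact edgeRange_sound data 6 16384 32768 e6_c2 k (by omega) (by omega)
        · skip
          exact edgeRange_sound data 6 16384 49152 e6_c3 k (by omega) (by omega)
    · skip
      by_cases hh6 : k < 98304
      · skip
        by_cases hh7 : k < 81920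
        · skip
          exact edgeRange_sound data 6 16384 65536 e6_c4 k (by omega) (by omega)
        · skip
          exact edgeRange_sound data 6 16384 81920 e6_c5 k (by omega) (by omega)
      · skip
        by_cases hh8 : k < 114688
        · skip
          exact edgeRange_sound data 6 16384 98304 e6_c6 k (by omega) (by omega)
        · skip
          exact edgeRange_sound data 6 16384 114688 e6_c7 k (by omega) (by omega)
  · skip
    by_cases hh9 : k < 196608
    · skip
      by_cases hh10 : k < 163840
      · skip
        by_cases hh11 : k < 147456
        · skip
          exact edgeRange_sound data 6 16384 131072 e6_c8 k (by omega) (by omega)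
        · skip
          exact edgeRange_sound data 6 16384 147456 e6_c9 k (by omega) (by omega)
      · skip
        by_cases hh12 : k < 180224
        · skip
          exact edgeRange_sound data 6 16384 163840 e6_c10 k (by omega) (by omega)
        · skip
          exact edgeRange_sound data 6 16384 180224 e6_c11 k (by omega) (by omega)
    · skip
      by_cases hh13 : k < 229376
      · skip
        by_cases hh14 : k < 212992
        · skip
          exact edgeRange_sound data 6 16384 196608 e6_c12 k (by omega) (by omega)
        · skip
          exact edgeRange_sound data 6 16384 212992 e6_c13 k (by omega) (by omega)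
      · skip
        by_cases hh15 : k < 242990
        · skip
          exact edgeRange_sound data 6 13614 229376 e6_c14 k (by omega) (by omega)
        · skip
          exact edgeRange_sound data 6 19154 242990 e6_c15 k (by omega) (by omega)

theorem allE7 : ∀ k, k < 262144 → justE data 7 k = true := by
  intro k hk
  by_cases hh1 : k < 131072
  · skip
    by_cases hh2 : k < 65536
    · skip
      by_cases hh3 : k < 32768
      · skip
        by_cases hh4 : k < 16384
        · skip
          exact edgeRange_sound data 7 16384 0 e7_c0 k (by omega) (by omega)
        · skip
          exact edgeRange_sound data 7 16384 16384 e7_c1 k (by omega) (by omega)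
      · skip
        by_cases hh5 : k < 49152
        · skip
          exact edgeRange_sound data 7 16384 32768 e7_c2 k (by omega) (by omega)
        · skip
          exact edgeRange_sound data 7 16384 49152 e7_c3 k (by omega) (by omega)
    · skip
      by_cases hh6 : k < 98304
      · skip
        by_cases hh7 : k < 81920
        · skip
          exact edgeRange_sound data 7 16384 65536 e7_c4 k (by omega) (by omega)
        · skip
          exact edgeRange_sound data 7 16384 81920 e7_c5 k (by omega) (by omega)
      · skip
        by_cases hh8 : k < 114688
        · skip
          exact edgeRange_sound data 7 16384 98304 e7_c6 k (by omega) (by omega)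
        · skip
          exact edgeRange_sound data 7 16384 114688 e7_c7 k (by omega) (by omega)
  · skip
    by_cases hh9 : k < 196608
    · skip
      by_cases hh10 : k < 163840
      · skip
        by_cases hh11 : k < 147456
        · skip
          exact edgeRange_sound data 7 16384 131072 e7_c8 k (by omega) (by omega)
        · skip
          exact edgeRange_sound data 7 16384 147456 e7_c9 k (by omega) (by omega)
      · skip
        by_cases hh12 : k < 180224
        · skip
          exact edgeRange_sound data 7 16384 163840 e7_c10 k (by omega) (by omega)
        · skip
          exact edgeRange_sound data 7 16384 180224 e7_c11 k (by omega) (by omega)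
    · skip
      by_cases hh13 : k < 229376
      · skip
        by_cases hh14 : k < 212992
        · skip
          exact edgeRange_sound data 7 16384 196608 e7_c12 k (by omega) (by omega)
        · skip
          exact edgeRange_sound data 7 16384 212992 e7_c13 k (by omega) (by omega)
      · skip
        by_cases hh15 : k < 242990
        · skip
          exact edgeRange_sound data 7 13614 229376 e7_c14 k (by omega) (by omega)
        · skip
          exact edgeRange_sound data 7 19154 242990 e7_c15 k (by omega) (by omega)

theorem allE8 : ∀ k, k < 262144 → justE data 8 k = true := by
  intro k hk
  by_cases hh1 : k < 131072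
  · skip
    by_cases hh2 : k < 65536
    · skip
      by_cases hh3 : k < 32768
      · skip
        by_cases hh4 : k < 16384
        · skip
          exact edgeRange_sound data 8 16384 0 e8_c0 k (by omega) (by omega)
        · skip
          exact edgeRange_sound data 8 16384 16384 e8_c1 k (by omega) (by omega)
      · skip
        by_cases hh5 : k < 49152
        · skip
          exact edgeRange_sound data 8 16384 32768 e8_c2 k (by omega) (by omega)
        · skip
          exact edgeRange_sound data 8 16384 49152 e8_c3 k (by omega) (by omega)
    · skip
      by_cases hh6 : k < 98304
      · skip
        by_cases hh7 : k < 81920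
        · skip
          exact edgeRange_sound data 8 16384 65536 e8_c4 k (by omega) (by omega)
        · skip
          exact edgeRange_sound data 8 16384 81920 e8_c5 k (by omega) (by omega)
      · skip
        by_cases hh8 : k < 114688
        · skip
          exact edgeRange_sound data 8 16384 98304 e8_c6 k (by omega) (by omega)
        · skip
          exact edgeRange_sound data 8 16384 114688 e8_c7 k (by omega) (by omega)
  · skip
    by_cases hh9 : k < 196608
    · skip
      by_cases hh10 : k < 163840
      · skip
        by_cases hh11 : k < 147456
        · skip
          exact edgeRange_sound data 8 16384 131072 e8_c8 k (by omega) (by omega)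
        · skip
          exact edgeRange_sound data 8 16384 147456 e8_c9 k (by omega) (by omega)
      · skip
        by_cases hh12 : k < 180224
        · skip
          exact edgeRange_sound data 8 16384 163840 e8_c10 k (by omega) (by omega)
        · skip
          exact edgeRange_sound data 8 16384 180224 e8_c11 k (by omega) (by omega)
    · skip
      by_cases hh13 : k < 229376
      · skip
        by_cases hh14 : k < 212992
        · skip
          exact edgeRange_sound data 8 16384 196608 e8_c12 k (by omega) (by omega)
        · skip
          exact edgeRange_sound data 8 16384 212992 e8_c13 k (by omega) (by omega)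
      · skip
        by_cases hh15 : k < 242990
        · skip
          exact edgeRange_sound data 8 13614 229376 e8_c14 k (by omega) (by omega)
        · skip
          exact edgeRange_sound data 8 19154 242990 e8_c15 k (by omega) (by omega)

theorem allE9 : ∀ k, k < 262144 → justE data 9 k = true := by
  intro k hk
  by_cases hh1 : k < 131072
  · skip
    by_cases hh2 : k < 65536
    · skip
      by_cases hh3 : k < 32768
      · skip
        by_cases hh4 : k < 16384
        · skip
          exact edgeRange_sound data 9 16384 0 e9_c0 k (by omega) (by omega)
        · skip
          exact edgeRange_sound data 9 16384 16384 e9_c1 k (by omega) (by omega)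
      · skip
        by_cases hh5 : k < 49152
        · skip
          exact edgeRange_sound data 9 16384 32768 e9_c2 k (by omega) (by omega)
        · skip
          exact edgeRange_sound data 9 16384 49152 e9_c3 k (by omega) (by omega)
    · skip
      by_cases hh6 : k < 98304
      · skip
        by_cases hh7 : k < 81920
        · skip
          exact edgeRange_sound data 9 16384 65536 e9_c4 k (by omega) (by omega)
        · skip
          exact edgeRange_sound data 9 16384 81920 e9_c5 k (by omega) (by omega)
      · skip
        by_cases hh8 : k < 114688
        · skip
          exact edgeRange_sound data 9 16384 98304 e9_c6 k (by omega) (by omega)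
        · skip
          exact edgeRange_sound data 9 16384 114688 e9_c7 k (by omega) (by omega)
  · skip
    by_cases hh9 : k < 196608
    · skip
      by_cases hh10 : k < 163840
      · skip
        by_cases hh11 : k < 147456
        · skip
          exact edgeRange_sound data 9 16384 131072 e9_c8 k (by omega) (by omega)
        · skip
          exact edgeRange_sound data 9 16384 147456 e9_c9 k (by omega) (by omega)
      · skip
        by_cases hh12 : k < 180224
        · skip
          exact edgeRange_sound data 9 16384 163840 e9_c10 k (by omega) (by omega)
        · skip
          exact edgeRange_sound data 9 16384 180224 e9_c11 k (by omega) (by omega)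
    · skip
      by_cases hh13 : k < 229376
      · skip
        by_cases hh14 : k < 212992
        · skip
          exact edgeRange_sound data 9 16384 196608 e9_c12 k (by omega) (by omega)
        · skip
          exact edgeRange_sound data 9 16384 212992 e9_c13 k (by omega) (by omega)
      · skip
        by_cases hh15 : k < 242990
        · skip
          exact edgeRange_sound data 9 13614 229376 e9_c14 k (by omega) (by omega)
        · skip
          exact edgeRange_sound data 9 19154 242990 e9_c15 k (by omega) (by omega)

theorem allE10 : ∀ k, k < 262144 → justE data 10 k = true := by
  intro k hk
  by_cases hh1 : k < 131072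
  · skip
    by_cases hh2 : k < 65536
    · skip
      by_cases hh3 : k < 32768
      · skip
        by_cases hh4 : k < 16384
        · skip
          exact edgeRange_sound data 10 16384 0 e10_c0 k (by omega) (by omega)
        · skip
          exact edgeRange_sound data 10 16384 16384 e10_c1 k (by omega) (by omega)
      · skip
        by_cases hh5 : k < 49152
        · skip
          exact edgeRange_sound data 10 16384 32768 e10_c2 k (by omega) (by omega)
        · skip
          exact edgeRange_sound data 10 16384 49152 e10_c3 k (by omega) (by omega)
    · skip
      by_cases hh6 : k < 98304
      · skip
        by_cases hh7 : k < 81920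
        · skip
          exact edgeRange_sound data 10 16384 65536 e10_c4 k (by omega) (by omega)
        · skip
          exact edgeRange_sound data 10 16384 81920 e10_c5 k (by omega) (by omega)
      · skip
        by_cases hh8 : k < 114688
        · skip
          exact edgeRange_sound data 10 16384 98304 e10_c6 k (by omega) (by omega)
        · skip
          exact edgeRange_sound data 10 16384 114688 e10_c7 k (by omega) (by omega)
  · skip
    by_cases hh9 : k < 196608
    · skip
      by_cases hh10 : k < 163840
      · skip
        by_cases hh11 : k < 147456
        · skip
          exact edgeRange_sound data 10 16384 131072 e10_c8 k (by omega) (by omega)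
        · skip
          exact edgeRange_sound data 10 16384 147456 e10_c9 k (by omega) (by omega)
      · skip
        by_cases hh12 : k < 180224
        · skip
          exact edgeRange_sound data 10 16384 163840 e10_c10 k (by omega) (by omega)
        · skip
          exact edgeRange_sound data 10 16384 180224 e10_c11 k (by omega) (by omega)
    · skip
      by_cases hh13 : k < 229376
      · skip
        by_cases hh14 : k < 212992
        · skip
          exact edgeRange_sound data 10 16384 196608 e10_c12 k (by omega) (by omega)
        · skip
          exact edgeRange_sound data 10 16384 212992 e10_c13 k (by omega) (by omega)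
      · skip
        by_cases hh15 : k < 242990
        · skip
          exact edgeRange_sound data 10 13614 229376 e10_c14 k (by omega) (by omega)
        · skip
          exact edgeRange_sound data 10 19154 242990 e10_c15 k (by omega) (by omega)

theorem allE11 : ∀ k, k < 262144 → justE data 11 k = true := by
  intro k hk
  by_cases hh1 : k < 131072
  · skip
    by_cases hh2 : k < 65536
    · skip
      by_cases hh3 : k < 32768
      · skip
        by_cases hh4 : k < 16384
        · skip
          exact edgeRange_sound data 11 16384 0 e11_c0 k (by omega) (by omega)
        · skip
          exact edgeRange_sound data 11 16384 16384 e11_c1 k (by omega) (by omega)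
      · skip
        by_cases hh5 : k < 49152
        · skip
          exact edgeRange_sound data 11 16384 32768 e11_c2 k (by omega) (by omega)
        · skip
          exact edgeRange_sound data 11 16384 49152 e11_c3 k (by omega) (by omega)
    · skip
      by_cases hh6 : k < 98304
      · skip
        by_cases hh7 : k < 81920
        · skip
          exact edgeRange_sound data 11 16384 65536 e11_c4 k (by omega) (by omega)
        · skip
          exact edgeRange_sound data 11 16384 81920 e11_c5 k (by omega) (by omega)
      · skip
        by_cases hh8 : k < 114688
        · skip
          exact edgeRange_sound data 11 16384 98304 e11_c6 k (by omega) (by omega)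
        · skip
          exact edgeRange_sound data 11 16384 114688 e11_c7 k (by omega) (by omega)
  · skip
    by_cases hh9 : k < 196608
    · skip
      by_cases hh10 : k < 163840
      · skip
        by_cases hh11 : k < 147456
        · skip
          exact edgeRange_sound data 11 16384 131072 e11_c8 k (by omega) (by omega)
        · skip
          exact edgeRange_sound data 11 16384 147456 e11_c9 k (by omega) (by omega)
      · skip
        by_cases hh12 : k < 180224
        · skip
          exact edgeRange_sound data 11 16384 163840 e11_c10 k (by omega) (by omega)
        · skip
          exact edgeRange_sound data 11 16384 180224 e11_c11 k (by omega) (by omega)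
    · skip
      by_cases hh13 : k < 229376
      · skip
        by_cases hh14 : k < 212992
        · skip
          exact edgeRange_sound data 11 16384 196608 e11_c12 k (by omega) (by omega)
        · skip
          exact edgeRange_sound data 11 16384 212992 e11_c13 k (by omega) (by omega)
      · skip
        by_cases hh15 : k < 242990
        · skip
          exact edgeRange_sound data 11 13614 229376 e11_c14 k (by omega) (by omega)
        · skip
          exact edgeRange_sound data 11 19154 242990 e11_c15 k (by omega) (by omega)

theorem allE12 : ∀ k, k < 262144 → justE data 12 k = true := by
  intro k hk
  by_cases hh1 : k < 131072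
  · skip
    by_cases hh2 : k < 65536
    · skip
      by_cases hh3 : k < 32768
      · skip
        by_cases hh4 : k < 16384
        · skip
          exact edgeRange_sound data 12 16384 0 e12_c0 k (by omega) (by omega)
        · skip
          exact edgeRange_sound data 12 16384 16384 e12_c1 k (by omega) (by omega)
      · skip
        by_cases hh5 : k < 49152
        · skip
          exact edgeRange_sound data 12 16384 32768 e12_c2 k (by omega) (by omega)
        · skip
          exact edgeRange_sound data 12 16384 49152 e12_c3 k (by omega) (by omega)
    · skip
      by_cases hh6 : k < 98304
      · skip
        by_cases hh7 : k < 81920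
        · skip
          exact edgeRange_sound data 12 16384 65536 e12_c4 k (by omega) (by omega)
        · skip
          exact edgeRange_sound data 12 16384 81920 e12_c5 k (by omega) (by omega)
      · skip
        by_cases hh8 : k < 114688
        · skip
          exact edgeRange_sound data 12 16384 98304 e12_c6 k (by omega) (by omega)
        · skip
          exact edgeRange_sound data 12 16384 114688 e12_c7 k (by omega) (by omega)
  · skip
    by_cases hh9 : k < 196608
    · skip
      by_cases hh10 : k < 163840
      · skip
        by_cases hh11 : k < 147456
        · skip
          exact edgeRange_sound data 12 16384 131072 e12_c8 k (by omega) (by omega)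
        · skip
          exact edgeRange_sound data 12 16384 147456 e12_c9 k (by omega) (by omega)
      · skip
        by_cases hh12 : k < 180224
        · skip
          exact edgeRange_sound data 12 16384 163840 e12_c10 k (by omega) (by omega)
        · skip
          exact edgeRange_sound data 12 16384 180224 e12_c11 k (by omega) (by omega)
    · skip
      by_cases hh13 : k < 229376
      · skip
        by_cases hh14 : k < 212992
        · skip
          exact edgeRange_sound data 12 16384 196608 e12_c12 k (by omega) (by omega)
        · skip
          exact edgeRange_sound data 12 16384 212992 e12_c13 k (by omega) (by omega)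
      · skip
        by_cases hh15 : k < 242990
        · skip
          exact edgeRange_sound data 12 13614 229376 e12_c14 k (by omega) (by omega)
        · skip
          exact edgeRange_sound data 12 19154 242990 e12_c15 k (by omega) (by omega)

theorem allE13 : ∀ k, k < 262144 → justE data 13 k = true := by
  intro k hk
  by_cases hh1 : k < 131072
  · skip
    by_cases hh2 : k < 65536
    · skip
      by_cases hh3 : k < 32768
      · skip
        by_cases hh4 : k < 16384
        · skip
          exact edgeRange_sound data 13 16384 0 e13_c0 k (by omega) (by omega)
        · skip
          exact edgeRange_sound data 13 16384 16384 e13_c1 k (by omega) (by omega)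
      · skip
        by_cases hh5 : k < 49152
        · skip
          exact edgeRange_sound data 13 16384 32768 e13_c2 k (by omega) (by omega)
        · skip
          exact edgeRange_sound data 13 16384 49152 e13_c3 k (by omega) (by omega)
    · skip
      by_cases hh6 : k < 98304
      · skip
        by_cases hh7 : k < 81920
        · skip
          exact edgeRange_sound data 13 16384 65536 e13_c4 k (by omega) (by omega)
        · skip
          exact edgeRange_sound data 13 16384 81920 e13_c5 k (by omega) (by omega)
      · skip
        by_cases hh8 : k < 114688
        · skip
          exact edgeRange_sound data 13 16384 98304 e13_c6 k (by omega) (by omega)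
        · skip
          exact edgeRange_sound data 13 16384 114688 e13_c7 k (by omega) (by omega)
  · skip
    by_cases hh9 : k < 196608
    · skip
      by_cases hh10 : k < 163840
      · skip
        by_cases hh11 : k < 147456
        · skip
          exact edgeRange_sound data 13 16384 131072 e13_c8 k (by omega) (by omega)
        · skip
          exact edgeRange_sound data 13 16384 147456 e13_c9 k (by omega) (by omega)
      · skip
        by_cases hh12 : k < 180224
        · skip
          exact edgeRange_sound data 13 16384 163840 e13_c10 k (by omega) (by omega)
        · skip
          exact edgeRange_sound data 13 16384 180224 e13_c11 k (by omega) (by omega)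
    · skip
      by_cases hh13 : k < 229376
      · skip
        by_cases hh14 : k < 212992
        · skip
          exact edgeRange_sound data 13 16384 196608 e13_c12 k (by omega) (by omega)
        · skip
          exact edgeRange_sound data 13 16384 212992 e13_c13 k (by omega) (by omega)
      · skip
        by_cases hh15 : k < 242990
        · skip
          exact edgeRange_sound data 13 13614 229376 e13_c14 k (by omega) (by omega)
        · skip
          exact edgeRange_sound data 13 19154 242990 e13_c15 k (by omega) (by omega)

theorem allE : ∀ c k, c < data.nc → k ≤ data.mask → justE data c k = true := by
  intro c k hc hk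
  have hk' : k < 262144 := Nat.lt_succ_of_le hk
  have hc' : c < 14 := hc
  interval_cases c
  · exact allE0 k hk'
  · exact allE1 k hk'
  · exact allE2 k hk'
  · exact allE3 k hk'
  · exact allE4 k hk'
  · exact allE5 k hk'
  · exact allE6 k hk'
  · exact allE7 k hk'
  · exact allE8 k hk'
  · exact allE9 k hk'
  · exact allE10 k hk'
  · exact allE11 k hk'
  · exact allE12 k hk'
  · exact allE13 k hk'

theorem allM : ∀ k, k ≤ data.mask → justM data k = true := by
  intro k hk
  have hk' : k < 262144 := Nat.lt_succ_of_le hk
  by_cases hh1 : k < 131072
  · skip
    by_cases hh2 : k < 65536
    · skip
      by_cases hh3 : k < 32768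
      · skip
        by_cases hh4 : k < 16384
        · skip
          exact mergeRange_sound data 16384 0 m_c0 k (by omega) (by omega)
        · skip
          exact mergeRange_sound data 16384 16384 m_c1 k (by omega) (by omega)
      · skip
        by_cases hh5 : k < 49152
        · skip
          exact mergeRange_sound data 16384 32768 m_c2 k (by omega) (by omega)
        · skip
          exact mergeRange_sound data 16384 49152 m_c3 k (by omega) (by omega)
    · skip
      by_cases hh6 : k < 98304
      · skip
        by_cases hh7 : k < 81920
        · skip
          exact mergeRange_sound data 16384 65536 m_c4 k (by omega) (by omega)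
        · skip
          exact mergeRange_sound data 16384 81920 m_c5 k (by omega) (by omega)
      · skip
        by_cases hh8 : k < 114688
        · skip
          exact mergeRange_sound data 16384 98304 m_c6 k (by omega) (by omega)
        · skip
          exact mergeRange_sound data 16384 114688 m_c7 k (by omega) (by omega)
  · skip
    by_cases hh9 : k < 196608
    · skip
      by_cases hh10 : k < 163840
      · skip
        by_cases hh11 : k < 147456
        · skip
          exact mergeRange_sound data 16384 131072 m_c8 k (by omega) (by omega)
        · skip
          exact mergeRange_sound data 16384 147456 m_c9 k (by omega) (by omega)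
      · skip
        by_cases hh12 : k < 180224
        · skip
          exact mergeRange_sound data 16384 163840 m_c10 k (by omega) (by omega)
        · skip
          exact mergeRange_sound data 16384 180224 m_c11 k (by omega) (by omega)
    · skip
      by_cases hh13 : k < 229376
      · skip
        by_cases hh14 : k < 212992
        · skip
          exact mergeRange_sound data 16384 196608 m_c12 k (by omega) (by omega)
        · skip
          exact mergeRange_sound data 16384 212992 m_c13 k (by omega) (by omega)
      · skip
        by_cases hh15 : k < 242990
        · skip
          exact mergeRange_sound data 13614 229376 m_c14 k (by omega) (by omega)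
        · skip
          exact mergeRange_sound data 19154 242990 m_c15 k (by omega) (by omega)

theorem rows_all : ∀ k, k < M → isFinal data k = true → rowOK data M k data.nc = true := by
  intro k hk
  have hk' : k < 242990 := hk
  by_cases hh1 : k < 114688
  · skip
    by_cases hh2 : k < 49152
    · skip
      by_cases hh3 : k < 16384
      · skip
        exact rowsRange_sound data M 16384 0 rows0 k (by omega) (by omega)
      · skip
        by_cases hh4 : k < 32768
        · skip
          exact rowsRange_sound data M 16384 16384 rows1 k (by omega) (by omega)
        · skip
          exact rowsRange_sound data M 16384 32768 rows2 k (by omega) (by omega)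
    · skip
      by_cases hh5 : k < 81920
      · skip
        by_cases hh6 : k < 65536
        · skip
          exact rowsRange_sound data M 16384 49152 rows3 k (by omega) (by omega)
        · skip
          exact rowsRange_sound data M 16384 65536 rows4 k (by omega) (by omega)
      · skip
        by_cases hh7 : k < 98304
        · skip
          exact rowsRange_sound data M 16384 81920 rows5 k (by omega) (by omega)
        · skip
          exact rowsRange_sound data M 16384 98304 rows6 k (by omega) (by omega)
  · skip
    by_cases hh8 : k < 180224
    · skip
      by_cases hh9 : k < 147456
      · skip
        by_cases hh10 : k < 131072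
        · skip
          exact rowsRange_sound data M 16384 114688 rows7 k (by omega) (by omega)
        · skip
          exact rowsRange_sound data M 16384 131072 rows8 k (by omega) (by omega)
      · skip
        by_cases hh11 : k < 163840
        · skip
          exact rowsRange_sound data M 16384 147456 rows9 k (by omega) (by omega)
        · skip
          exact rowsRange_sound data M 16384 163840 rows10 k (by omega) (by omega)
    · skip
      by_cases hh12 : k < 212992
      · skip
        by_cases hh13 : k < 196608
        · skip
          exact rowsRange_sound data M 16384 180224 rows11 k (by omega) (by omega)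
        · skip
          exact rowsRange_sound data M 16384 196608 rows12 k (by omega) (by omega)
      · skip
        by_cases hh14 : k < 229376
        · skip
          exact rowsRange_sound data M 16384 212992 rows13 k (by omega) (by omega)
        · skip
          exact rowsRange_sound data M 13614 229376 rows14 k (by omega) (by omega)

theorem cnt_ok : countFinal data M 0 0 = n := by
  exact cnt0

theorem bound : Finite (PresentedGroup (relSet Cfsg.Agent.Helper4.TC.ONCod.dec bases) ⧸ (Subgroup.closure (relSet Cfsg.Agent.Helper4.TC.ONCod.dec subsL)).map (PresentedGroup.mk (relSet Cfsg.Agent.Helper4.TC.ONCod.dec bases))) ∧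
    Nat.card (PresentedGroup (relSet Cfsg.Agent.Helper4.TC.ONCod.dec bases) ⧸ (Subgroup.closure (relSet Cfsg.Agent.Helper4.TC.ONCod.dec subsL)).map (PresentedGroup.mk (relSet Cfsg.Agent.Helper4.TC.ONCod.dec bases))) ≤ n :=
  tc_bound data bases subsL rots Cfsg.Agent.Helper4.TC.ONCod.coding (mem_relSet bases) (mem_relSet subsL) words_ok allE allM M n fin0_ok (by decide) (by decide) cnt_ok rows_all

end Cfsg.Agent.Lib.Helper18.ONM.TCI
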