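import Cfsg.Agent.Lib.Helper18.ONM.TCIT0
import Cfsg.Agent.Lib.Helper18.ONM.TCIT1
import Cfsg.Agent.Lib.Helper18.ONM.TCIT2
import Cfsg.Agent.Lib.Helper18.ONM.TCIT3
import Cfsg.Agent.Lib.Helper18.ONM.TCIT4
import Cfsg.Agent.Lib.Helper18.ONM.TCIT5
import Cfsg.Agent.Lib.Helper18.ONM.TCIT6
import Cfsg.Agent.Lib.Helper18.ONM.TCIT7
import Cfsg.Agent.Lib.Helper18.ONM.TCIT8
import Cfsg.Agent.Lib.Helper18.ONM.TCIT9
import Cfsg.Agent.Lib.Helper18.ONM.TCIT10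
import Cfsg.Agent.Lib.Helper18.ONM.TCIT11
import Cfsg.Agent.Lib.Helper18.ONM.TCIT12
import Cfsg.Agent.Lib.Helper18.ONM.TCIT13
import Cfsg.Agent.Lib.Helper18.ONM.TCIT14
import Cfsg.Agent.Lib.Helper18.ONM.TCIT15
import Cfsg.Agent.Lib.Helper18.ONM.TCIT16
import Cfsg.Agent.Lib.Helper18.ONM.TCIT17
import Cfsg.Agent.Lib.Helper18.ONM.TCIT18
import Cfsg.Agent.Lib.Helper18.ONM.TCIT19
import Cfsg.Agent.Lib.Helper18.ONM.TCIT20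
import Cfsg.Agent.Lib.Helper18.ONM.TCIT21
import Cfsg.Agent.Lib.Helper18.ONM.TCIT22
import Cfsg.Agent.Lib.Helper18.ONM.TCIT23
import Cfsg.Agent.Lib.Helper18.ONM.TCIT24
import Cfsg.Agent.Lib.Helper18.ONM.TCIT25
import Cfsg.Agent.Lib.Helper18.ONM.TCIT26
import Cfsg.Agent.Lib.Helper18.ONM.TCIT27
import Cfsg.Agent.Lib.Helper18.ONM.TCIT28
import Cfsg.Agent.Lib.Helper18.ONM.TCIT29
import Cfsg.Agent.Lib.Helper18.ONM.TCIT30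
import Cfsg.Agent.Lib.Helper18.ONM.TCIT31
import Cfsg.Agent.Lib.Helper18.ONM.TCIT32
import Cfsg.Agent.Lib.Helper18.ONM.TCIT33
import Cfsg.Agent.Lib.Helper18.ONM.TCIT34
import Cfsg.Agent.Lib.Helper18.ONM.TCIT35
import Cfsg.Agent.Lib.Helper18.ONM.TCIT36
import Cfsg.Agent.Lib.Helper18.ONM.TCIT37
import Cfsg.Agent.Lib.Helper18.ONM.TCIT38
import Cfsg.Agent.Lib.Helper18.ONM.TCIT39
import Cfsg.Agent.Lib.Helper18.ONM.TCIT40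
import Cfsg.Agent.Lib.Helper18.ONM.TCIT41
import Cfsg.Agent.Lib.Helper18.ONM.TCIT42
import Cfsg.Agent.Lib.Helper18.ONM.TCIT43
import Cfsg.Agent.Lib.Helper18.ONM.TCIT44
import Cfsg.Agent.Lib.Helper18.ONM.TCIT45
import Cfsg.Agent.Lib.Helper18.ONM.TCIT46
import Cfsg.Agent.Lib.Helper18.ONM.TCIT47
import Cfsg.Agent.Lib.Helper18.ONM.TCIT48
import Cfsg.Agent.Lib.Helper18.ONM.TCIT49
import Cfsg.Agent.Lib.Helper18.ONM.TCIT50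
import Cfsg.Agent.Lib.Helper18.ONM.TCIT51
import Cfsg.Agent.Lib.Helper18.ONM.TCIT52
import Cfsg.Agent.Lib.Helper18.ONM.TCIT53
import Cfsg.Agent.Lib.Helper18.ONM.TCIT54
import Cfsg.Agent.Lib.Helper18.ONM.TCIT55
import Cfsg.Agent.Lib.Helper18.ONM.TCIT56
import Cfsg.Agent.Lib.Helper18.ONM.TCIT57
import Cfsg.Agent.Lib.Helper18.ONM.TCIT58
import Cfsg.Agent.Lib.Helper18.ONM.TCIT59
import Cfsg.Agent.Lib.Helper18.ONM.TCIT60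
import Cfsg.Agent.Lib.Helper18.ONM.TCIT61
import Cfsg.Agent.Lib.Helper18.ONM.TCIT62
import Cfsg.Agent.Lib.Helper18.ONM.TCIT63
import Cfsg.Agent.Lib.Helper18.ONM.TCIT64
import Cfsg.Agent.Lib.Helper18.ONM.TCIT65
import Cfsg.Agent.Lib.Helper18.ONM.TCIT66
import Cfsg.Agent.Lib.Helper18.ONM.TCIT67
import Cfsg.Agent.Lib.Helper18.ONM.TCIT68
import Cfsg.Agent.Lib.Helper18.ONM.TCIT69
import Cfsg.Agent.Lib.Helper18.ONM.TCIT70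
import Cfsg.Agent.Lib.Helper18.ONM.TCIT71
import Cfsg.Agent.Lib.Helper18.ONM.TCIT72
import Cfsg.Agent.Lib.Helper18.ONM.TCIT73
import Cfsg.Agent.Lib.Helper18.ONM.TCIT74
import Cfsg.Agent.Lib.Helper18.ONM.TCIT75
import Cfsg.Agent.Lib.Helper18.ONM.TCIT76
import Cfsg.Agent.Lib.Helper18.ONM.TCIT77
import Cfsg.Agent.Lib.Helper18.ONM.TCIT78
import Cfsg.Agent.Lib.Helper18.ONM.TCIT79
import Cfsg.Agent.Lib.Helper18.ONM.TCIT80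
import Cfsg.Agent.Lib.Helper18.ONM.TCIT81
import Cfsg.Agent.Lib.Helper18.ONM.TCIT82
import Cfsg.Agent.Lib.Helper18.ONM.TCIT83
import Cfsg.Agent.Lib.Helper18.ONM.TCIT84
import Cfsg.Agent.Lib.Helper18.ONM.TCIT85
import Cfsg.Agent.Lib.Helper18.ONM.TCIT86
import Cfsg.Agent.Lib.Helper18.ONM.TCIT87
import Cfsg.Agent.Lib.Helper18.ONM.TCIT88

set_option autoImplicit false
set_option maxRecDepth 100000
set_option linter.unusedVariables false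

namespace Cfsg.Agent.Lib.Helper18.ONM.TCI

open Cfsg.Agent.Helper4.TC

noncomputable def ecol0 (b : ℕ) : ℕ := (Bool.rec (motive := fun _ => ℕ) (Bool.rec (motive := fun _ => ℕ) (Bool.rec (motive := fun _ => ℕ) (Bool.rec (motive := fun _ => ℕ) (Bool.rec (motive := fun _ => ℕ) (Bool.rec (motive := fun _ => ℕ) (Bool.rec (motive := fun _ => ℕ) (e0_0) (e0_1) (Nat.ble 1 b)) (Bool.rec (motive := fun _ => ℕ) (e0_2) (e0_3) (Nat.ble 3 b)) (Nat.ble 2 b)) (Bool.rec (motive := fun _ => ℕ) (Bool.rec (motive := fun _ => ℕ) (e0_4) (e0_5) (Nat.ble 5 b)) (Bool.rec (motive := fun _ => ℕ) (e0_6) (e0_7) (Nat.ble 7 b)) (Nat.ble 6 b)) (Nat.ble 4 b)) (Bool.rec (motive := fun _ => ℕ) (Bool.rec (motive := fun _ => ℕ) (Bool.rec (motive := fun _ => ℕ) (e0_8) (e0_9) (Nat.ble 9 b)) (Bool.rec (motive := fun _ => ℕ) (e0_10) (e0_11) (Nat.ble 11 b)) (Nat.ble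 10 b)) (Bool.rec (motive := fun _ => ℕ) (Bool.rec (motive := fun _ => ℕ) (e0_12) (e0_13) (Nat.ble 13 b)) (Bool.rec (motive := fun _ => ℕ) (e0_14) (e0_15) (Nat.ble 15 b)) (Nat.ble 14 b)) (Nat.ble 12 b)) (Nat.ble 8 b)) (Bool.rec (motive := fun _ => ℕ) (Bool.rec (motive := fun _ => ℕ) (Bool.rec (motive := fun _ => ℕ) (Bool.rec (motive := fun _ => ℕ) (e0_16) (e0_17) (Nat.ble 17 b)) (Bool.rec (motive := fun _ => ℕ) (e0_18) (e0_19) (Nat.ble 19 b)) (Nat.ble 18 b)) (Bool.rec (motive := fun _ => ℕ) (Bool.rec (motive := fun _ => ℕ) (e0_20) (e0_21) (Nat.ble 21 b)) (Bool.rec (motive := fun _ => ℕ) (e0_22) (e0_23) (Nat.ble 23 b)) (Nat.ble 22 b)) (Nat.ble 20 b)) (Bool.rec (motive := fun _ => ℕ) (Bool.rec (motive := fun _ => ℕ) (Bool.rec (motive := fun _ => ℕ) (e0_24) (e0_25) (Nat.ble 25 b)) (Bool.rec (motive := fun _ => ℕ) (e0_26) (e0_27)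 (Nat.ble 27 b)) (Nat.ble 26 b)) (Bool.rec (motive := fun _ => ℕ) (Bool.rec (motive := fun _ => ℕ) (e0_28) (e0_29) (Nat.ble 29 b)) (Bool.rec (motive := fun _ => ℕ) (e0_30) (e0_31) (Nat.ble 31 b)) (Nat.ble 30 b)) (Nat.ble 28 b)) (Nat.ble 24 b)) (Nat.ble 16 b)) (Bool.rec (motive := fun _ => ℕ) (Bool.rec (motive := fun _ => ℕ) (Bool.rec (motive := fun _ => ℕ) (Bool.rec (motive := fun _ => ℕ) (Bool.rec (motive := fun _ => ℕ) (e0_32) (e0_33) (Nat.ble 33 b)) (Bool.rec (motive := fun _ => ℕ) (e0_34) (e0_35) (Nat.ble 35 b)) (Nat.ble 34 b)) (Bool.rec (motive := fun _ => ℕ) (Bool.rec (motive := fun _ => ℕ) (e0_36) (e0_37) (Nat.ble 37 b)) (Bool.rec (motive := fun _ => ℕ) (e0_38) (e0_39) (Nat.ble 39 b)) (Nat.ble 38 b)) (Nat.ble 36 b)) (Bool.rec (motive := fun _ => ℕ) (Bool.rec (motive := fun _ => ℕ) (Bool.rec (motive := fun _ => ℕ) (e0_40)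 (e0_41) (Nat.ble 41 b)) (Bool.rec (motive := fun _ => ℕ) (e0_42) (e0_43) (Nat.ble 43 b)) (Nat.ble 42 b)) (Bool.rec (motive := fun _ => ℕ) (Bool.rec (motive := fun _ => ℕ) (e0_44) (e0_45) (Nat.ble 45 b)) (Bool.rec (motive := fun _ => ℕ) (e0_46) (e0_47) (Nat.ble 47 b)) (Nat.ble 46 b)) (Nat.ble 44 b)) (Nat.ble 40 b)) (Bool.rec (motive := fun _ => ℕ) (Bool.rec (motive := fun _ => ℕ) (Bool.rec (motive := fun _ => ℕ) (Bool.rec (motive := fun _ => ℕ) (e0_48) (e0_49) (Nat.ble 49 b)) (Bool.rec (motive := fun _ => ℕ) (e0_50) (e0_51) (Nat.ble 51 b)) (Nat.ble 50 b)) (Bool.rec (motive := fun _ => ℕ) (Bool.rec (motive := fun _ => ℕ) (e0_52) (e0_53) (Nat.ble 53 b)) (Bool.rec (motive := fun _ => ℕ) (e0_54) (e0_55) (Nat.ble 55 b)) (Nat.ble 54 b)) (Nat.ble 52 b)) (Bool.rec (motive := fun _ => ℕ) (Bool.rec (motive := fun _ => ℕ) (Bool.rec (motive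 := fun _ => ℕ) (e0_56) (e0_57) (Nat.ble 57 b)) (Bool.rec (motive := fun _ => ℕ) (e0_58) (e0_59) (Nat.ble 59 b)) (Nat.ble 58 b)) (Bool.rec (motive := fun _ => ℕ) (Bool.rec (motive := fun _ => ℕ) (e0_60) (e0_61) (Nat.ble 61 b)) (Bool.rec (motive := fun _ => ℕ) (e0_62) (e0_63) (Nat.ble 63 b)) (Nat.ble 62 b)) (Nat.ble 60 b)) (Nat.ble 56 b)) (Nat.ble 48 b)) (Nat.ble 32 b)) (Bool.rec (motive := fun _ => ℕ) (Bool.rec (motive := fun _ => ℕ) (Bool.rec (motive := fun _ => ℕ) (Bool.rec (motive := fun _ => ℕ) (Bool.rec (motive := fun _ => ℕ) (Bool.rec (motive := fun _ => ℕ) (e0_64) (e0_65) (Nat.ble 65 b)) (Bool.rec (motive := fun _ => ℕ) (e0_66) (e0_67) (Nat.ble 67 b)) (Nat.ble 66 b)) (Bool.rec (motive := fun _ => ℕ) (Bool.rec (motive := fun _ => ℕ) (e0_68) (e0_69) (Nat.ble 69 b)) (Bool.rec (motive := fun _ => ℕ) (e0_70) (e0_71) (Nat.ble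 71 b)) (Nat.ble 70 b)) (Nat.ble 68 b)) (Bool.rec (motive := fun _ => ℕ) (Bool.rec (motive := fun _ => ℕ) (Bool.rec (motive := fun _ => ℕ) (e0_72) (e0_73) (Nat.ble 73 b)) (Bool.rec (motive := fun _ => ℕ) (e0_74) (e0_75) (Nat.ble 75 b)) (Nat.ble 74 b)) (Bool.rec (motive := fun _ => ℕ) (Bool.rec (motive := fun _ => ℕ) (e0_76) (e0_77) (Nat.ble 77 b)) (Bool.rec (motive := fun _ => ℕ) (e0_78) (e0_79) (Nat.ble 79 b)) (Nat.ble 78 b)) (Nat.ble 76 b)) (Nat.ble 72 b)) (Bool.rec (motive := fun _ => ℕ) (Bool.rec (motive := fun _ => ℕ) (Bool.rec (motive := fun _ => ℕ) (Bool.rec (motive := fun _ => ℕ) (e0_80) (e0_81) (Nat.ble 81 b)) (Bool.rec (motive := fun _ => ℕ) (e0_82) (e0_83) (Nat.ble 83 b)) (Nat.ble 82 b)) (Bool.rec (motive := fun _ => ℕ) (Bool.rec (motive := fun _ => ℕ) (e0_84) (e0_85) (Nat.ble 85 b)) (Bool.rec (motive := fun _ =>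 ℕ) (e0_86) (e0_87) (Nat.ble 87 b)) (Nat.ble 86 b)) (Nat.ble 84 b)) (Bool.rec (motive := fun _ => ℕ) (Bool.rec (motive := fun _ => ℕ) (Bool.rec (motive := fun _ => ℕ) (e0_88) (e0_89) (Nat.ble 89 b)) (Bool.rec (motive := fun _ => ℕ) (e0_90) (e0_91) (Nat.ble 91 b)) (Nat.ble 90 b)) (Bool.rec (motive := fun _ => ℕ) (Bool.rec (motive := fun _ => ℕ) (e0_92) (e0_93) (Nat.ble 93 b)) (Bool.rec (motive := fun _ => ℕ) (e0_94) (e0_95) (Nat.ble 95 b)) (Nat.ble 94 b)) (Nat.ble 92 b)) (Nat.ble 88 b)) (Nat.ble 80 b)) (Bool.rec (motive := fun _ => ℕ) (Bool.rec (motive := fun _ => ℕ) (Bool.rec (motive := fun _ => ℕ) (Bool.rec (motive := fun _ => ℕ) (Bool.rec (motive := fun _ => ℕ) (e0_96) (e0_97) (Nat.ble 97 b)) (Bool.rec (motive := fun _ => ℕ) (e0_98) (e0_99) (Nat.ble 99 b)) (Nat.ble 98 b)) (Bool.rec (motive := fun _ => ℕ) (Bool.rec (motive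 := fun _ => ℕ) (e0_100) (e0_101) (Nat.ble 101 b)) (Bool.rec (motive := fun _ => ℕ) (e0_102) (e0_103) (Nat.ble 103 b)) (Nat.ble 102 b)) (Nat.ble 100 b)) (Bool.rec (motive := fun _ => ℕ) (Bool.rec (motive := fun _ => ℕ) (Bool.rec (motive := fun _ => ℕ) (e0_104) (e0_105) (Nat.ble 105 b)) (Bool.rec (motive := fun _ => ℕ) (e0_106) (e0_107) (Nat.ble 107 b)) (Nat.ble 106 b)) (Bool.rec (motive := fun _ => ℕ) (Bool.rec (motive := fun _ => ℕ) (e0_108) (e0_109) (Nat.ble 109 b)) (Bool.rec (motive := fun _ => ℕ) (e0_110) (e0_111) (Nat.ble 111 b)) (Nat.ble 110 b)) (Nat.ble 108 b)) (Nat.ble 104 b)) (Bool.rec (motive := fun _ => ℕ) (Bool.rec (motive := fun _ => ℕ) (Bool.rec (motive := fun _ => ℕ) (Bool.rec (motive := fun _ => ℕ) (e0_112) (e0_113) (Nat.ble 113 b)) (Bool.rec (motive := fun _ => ℕ) (e0_114) (e0_115) (Nat.ble 115 b)) (Nat.ble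 114 b)) (Bool.rec (motive := fun _ => ℕ) (Bool.rec (motive := fun _ => ℕ) (e0_116) (e0_117) (Nat.ble 117 b)) (Bool.rec (motive := fun _ => ℕ) (e0_118) (0) (Nat.ble 119 b)) (Nat.ble 118 b)) (Nat.ble 116 b)) (0) (Nat.ble 120 b)) (Nat.ble 112 b)) (Nat.ble 96 b)) (Nat.ble 64 b))
noncomputable def jcol0 (b : ℕ) : ℕ := (Bool.rec (motive := fun _ => ℕ) (Bool.rec (motive := fun _ => ℕ) (Bool.rec (motive := fun _ => ℕ) (Bool.rec (motive := fun _ => ℕ) (Bool.rec (motive := fun _ => ℕ) (Bool.rec (motive := fun _ => ℕ) (Bool.rec (motive := fun _ => ℕ) (j0_0) (j0_1) (Nat.ble 1 b)) (Bool.rec (motive := fun _ => ℕ) (j0_2) (j0_3) (Nat.ble 3 b)) (Nat.ble 2 b)) (Bool.rec (motive := fun _ => ℕ) (Bool.rec (motive := fun _ => ℕ) (j0_4) (j0_5) (Nat.ble 5 b)) (Bool.rec (motive := fun _ => ℕ) (j0_6) (j0_7) (Nat.ble 7 b)) (Nat.ble 6 b)) (Nat.ble 4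 b)) (Bool.rec (motive := fun _ => ℕ) (Bool.rec (motive := fun _ => ℕ) (Bool.rec (motive := fun _ => ℕ) (j0_8) (j0_9) (Nat.ble 9 b)) (Bool.rec (motive := fun _ => ℕ) (j0_10) (j0_11) (Nat.ble 11 b)) (Nat.ble 10 b)) (Bool.rec (motive := fun _ => ℕ) (Bool.rec (motive := fun _ => ℕ) (j0_12) (j0_13) (Nat.ble 13 b)) (Bool.rec (motive := fun _ => ℕ) (j0_14) (j0_15) (Nat.ble 15 b)) (Nat.ble 14 b)) (Nat.ble 12 b)) (Nat.ble 8 b)) (Bool.rec (motive := fun _ => ℕ) (Bool.rec (motive := fun _ => ℕ) (Bool.rec (motive := fun _ => ℕ) (Bool.rec (motive := fun _ => ℕ) (j0_16) (j0_17) (Nat.ble 17 b)) (Bool.rec (motive := fun _ => ℕ) (j0_18) (j0_19) (Nat.ble 19 b)) (Nat.ble 18 b)) (Bool.rec (motive := fun _ => ℕ) (Bool.rec (motive := fun _ => ℕ) (j0_20) (j0_21) (Nat.ble 21 b)) (Bool.rec (motive := fun _ => ℕ) (j0_22) (j0_23) (Nat.ble 23 b)) (Nat.ble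 22 b)) (Nat.ble 20 b)) (Bool.rec (motive := fun _ => ℕ) (Bool.rec (motive := fun _ => ℕ) (Bool.rec (motive := fun _ => ℕ) (j0_24) (j0_25) (Nat.ble 25 b)) (Bool.rec (motive := fun _ => ℕ) (j0_26) (j0_27) (Nat.ble 27 b)) (Nat.ble 26 b)) (Bool.rec (motive := fun _ => ℕ) (Bool.rec (motive := fun _ => ℕ) (j0_28) (j0_29) (Nat.ble 29 b)) (Bool.rec (motive := fun _ => ℕ) (j0_30) (j0_31) (Nat.ble 31 b)) (Nat.ble 30 b)) (Nat.ble 28 b)) (Nat.ble 24 b)) (Nat.ble 16 b)) (Bool.rec (motive := fun _ => ℕ) (Bool.rec (motive := fun _ => ℕ) (Bool.rec (motive := fun _ => ℕ) (Bool.rec (motive := fun _ => ℕ) (Bool.rec (motive := fun _ => ℕ) (j0_32) (j0_33) (Nat.ble 33 b)) (Bool.rec (motive := fun _ => ℕ) (j0_34) (j0_35) (Nat.ble 35 b)) (Nat.ble 34 b)) (Bool.rec (motive := fun _ => ℕ) (Bool.rec (motive := fun _ => ℕ) (j0_36) (j0_37) (Nat.ble 37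 b)) (Bool.rec (motive := fun _ => ℕ) (j0_38) (j0_39) (Nat.ble 39 b)) (Nat.ble 38 b)) (Nat.ble 36 b)) (Bool.rec (motive := fun _ => ℕ) (Bool.rec (motive := fun _ => ℕ) (Bool.rec (motive := fun _ => ℕ) (j0_40) (j0_41) (Nat.ble 41 b)) (Bool.rec (motive := fun _ => ℕ) (j0_42) (j0_43) (Nat.ble 43 b)) (Nat.ble 42 b)) (Bool.rec (motive := fun _ => ℕ) (Bool.rec (motive := fun _ => ℕ) (j0_44) (j0_45) (Nat.ble 45 b)) (Bool.rec (motive := fun _ => ℕ) (j0_46) (j0_47) (Nat.ble 47 b)) (Nat.ble 46 b)) (Nat.ble 44 b)) (Nat.ble 40 b)) (Bool.rec (motive := fun _ => ℕ) (Bool.rec (motive := fun _ => ℕ) (Bool.rec (motive := fun _ => ℕ) (Bool.rec (motive := fun _ => ℕ) (j0_48) (j0_49) (Nat.ble 49 b)) (Bool.rec (motive := fun _ => ℕ) (j0_50) (j0_51) (Nat.ble 51 b)) (Nat.ble 50 b)) (Bool.rec (motive := fun _ => ℕ) (Bool.rec (motive := fun _ => ℕ)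 (j0_52) (j0_53) (Nat.ble 53 b)) (Bool.rec (motive := fun _ => ℕ) (j0_54) (j0_55) (Nat.ble 55 b)) (Nat.ble 54 b)) (Nat.ble 52 b)) (Bool.rec (motive := fun _ => ℕ) (Bool.rec (motive := fun _ => ℕ) (Bool.rec (motive := fun _ => ℕ) (j0_56) (j0_57) (Nat.ble 57 b)) (Bool.rec (motive := fun _ => ℕ) (j0_58) (j0_59) (Nat.ble 59 b)) (Nat.ble 58 b)) (Bool.rec (motive := fun _ => ℕ) (Bool.rec (motive := fun _ => ℕ) (j0_60) (j0_61) (Nat.ble 61 b)) (Bool.rec (motive := fun _ => ℕ) (j0_62) (j0_63) (Nat.ble 63 b)) (Nat.ble 62 b)) (Nat.ble 60 b)) (Nat.ble 56 b)) (Nat.ble 48 b)) (Nat.ble 32 b)) (Bool.rec (motive := fun _ => ℕ) (Bool.rec (motive := fun _ => ℕ) (Bool.rec (motive := fun _ => ℕ) (Bool.rec (motive := fun _ => ℕ) (Bool.rec (motive := fun _ => ℕ) (Bool.rec (motive := fun _ => ℕ) (j0_64) (j0_65) (Nat.ble 65 b)) (Bool.rec (motive :=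 fun _ => ℕ) (j0_66) (j0_67) (Nat.ble 67 b)) (Nat.ble 66 b)) (Bool.rec (motive := fun _ => ℕ) (Bool.rec (motive := fun _ => ℕ) (j0_68) (j0_69) (Nat.ble 69 b)) (Bool.rec (motive := fun _ => ℕ) (j0_70) (j0_71) (Nat.ble 71 b)) (Nat.ble 70 b)) (Nat.ble 68 b)) (Bool.rec (motive := fun _ => ℕ) (Bool.rec (motive := fun _ => ℕ) (Bool.rec (motive := fun _ => ℕ) (j0_72) (j0_73) (Nat.ble 73 b)) (Bool.rec (motive := fun _ => ℕ) (j0_74) (j0_75) (Nat.ble 75 b)) (Nat.ble 74 b)) (Bool.rec (motive := fun _ => ℕ) (Bool.rec (motive := fun _ => ℕ) (j0_76) (j0_77) (Nat.ble 77 b)) (Bool.rec (motive := fun _ => ℕ) (j0_78) (j0_79) (Nat.ble 79 b)) (Nat.ble 78 b)) (Nat.ble 76 b)) (Nat.ble 72 b)) (Bool.rec (motive := fun _ => ℕ) (Bool.rec (motive := fun _ => ℕ) (Bool.rec (motive := fun _ => ℕ) (Bool.rec (motive := fun _ => ℕ) (j0_80) (j0_81) (Nat.ble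 81 b)) (Bool.rec (motive := fun _ => ℕ) (j0_82) (j0_83) (Nat.ble 83 b)) (Nat.ble 82 b)) (Bool.rec (motive := fun _ => ℕ) (Bool.rec (motive := fun _ => ℕ) (j0_84) (j0_85) (Nat.ble 85 b)) (Bool.rec (motive := fun _ => ℕ) (j0_86) (j0_87) (Nat.ble 87 b)) (Nat.ble 86 b)) (Nat.ble 84 b)) (Bool.rec (motive := fun _ => ℕ) (Bool.rec (motive := fun _ => ℕ) (Bool.rec (motive := fun _ => ℕ) (j0_88) (j0_89) (Nat.ble 89 b)) (Bool.rec (motive := fun _ => ℕ) (j0_90) (j0_91) (Nat.ble 91 b)) (Nat.ble 90 b)) (Bool.rec (motive := fun _ => ℕ) (Bool.rec (motive := fun _ => ℕ) (j0_92) (j0_93) (Nat.ble 93 b)) (Bool.rec (motive := fun _ => ℕ) (j0_94) (j0_95) (Nat.ble 95 b)) (Nat.ble 94 b)) (Nat.ble 92 b)) (Nat.ble 88 b)) (Nat.ble 80 b)) (Bool.rec (motive := fun _ => ℕ) (Bool.rec (motive := fun _ => ℕ) (Bool.rec (motive := fun _ => ℕ) (Bool.rec (motive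 := fun _ => ℕ) (Bool.rec (motive := fun _ => ℕ) (j0_96) (j0_97) (Nat.ble 97 b)) (Bool.rec (motive := fun _ => ℕ) (j0_98) (j0_99) (Nat.ble 99 b)) (Nat.ble 98 b)) (Bool.rec (motive := fun _ => ℕ) (Bool.rec (motive := fun _ => ℕ) (j0_100) (j0_101) (Nat.ble 101 b)) (Bool.rec (motive := fun _ => ℕ) (j0_102) (j0_103) (Nat.ble 103 b)) (Nat.ble 102 b)) (Nat.ble 100 b)) (Bool.rec (motive := fun _ => ℕ) (Bool.rec (motive := fun _ => ℕ) (Bool.rec (motive := fun _ => ℕ) (j0_104) (j0_105) (Nat.ble 105 b)) (Bool.rec (motive := fun _ => ℕ) (j0_106) (j0_107) (Nat.ble 107 b)) (Nat.ble 106 b)) (Bool.rec (motive := fun _ => ℕ) (Bool.rec (motive := fun _ => ℕ) (j0_108) (j0_109) (Nat.ble 109 b)) (Bool.rec (motive := fun _ => ℕ) (j0_110) (j0_111) (Nat.ble 111 b)) (Nat.ble 110 b)) (Nat.ble 108 b)) (Nat.ble 104 b)) (Bool.rec (motive := fun _ => ℕ)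 (Bool.rec (motive := fun _ => ℕ) (Bool.rec (motive := fun _ => ℕ) (Bool.rec (motive := fun _ => ℕ) (j0_112) (j0_113) (Nat.ble 113 b)) (Bool.rec (motive := fun _ => ℕ) (j0_114) (j0_115) (Nat.ble 115 b)) (Nat.ble 114 b)) (Bool.rec (motive := fun _ => ℕ) (Bool.rec (motive := fun _ => ℕ) (j0_116) (j0_117) (Nat.ble 117 b)) (Bool.rec (motive := fun _ => ℕ) (j0_118) (0) (Nat.ble 119 b)) (Nat.ble 118 b)) (Nat.ble 116 b)) (0) (Nat.ble 120 b)) (Nat.ble 112 b)) (Nat.ble 96 b)) (Nat.ble 64 b))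
noncomputable def ecol1 (b : ℕ) : ℕ := (Bool.rec (motive := fun _ => ℕ) (Bool.rec (motive := fun _ => ℕ) (Bool.rec (motive := fun _ => ℕ) (Bool.rec (motive := fun _ => ℕ) (Bool.rec (motive := fun _ => ℕ) (Bool.rec (motive := fun _ => ℕ) (Bool.rec (motive := fun _ => ℕ) (e1_0) (e1_1) (Nat.ble 1 b)) (Bool.rec (motive := fun _ => ℕ) (e1_2) (e1_3) (Nat.ble 3 b)) (Nat.ble 2 b)) (Bool.rec (motive := fun _ => ℕ) (Bool.rec (motive := fun _ => ℕ) (e1_4) (e1_5) (Nat.ble 5 b)) (Bool.rec (motive := fun _ => ℕ) (e1_6) (e1_7) (Nat.ble 7 b)) (Nat.ble 6 b)) (Nat.ble 4 b)) (Bool.rec (motive := fun _ => ℕ) (Bool.rec (motive := fun _ => ℕ) (Bool.rec (motive := fun _ => ℕ) (e1_8) (e1_9) (Nat.ble 9 b)) (Bool.rec (motive := fun _ => ℕ) (e1_10) (e1_11) (Nat.ble 11 b)) (Nat.ble 10 b)) (Bool.rec (motive := fun _ => ℕ) (Bool.rec (motive := fun _ =>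 ℕ) (e1_12) (e1_13) (Nat.ble 13 b)) (Bool.rec (motive := fun _ => ℕ) (e1_14) (e1_15) (Nat.ble 15 b)) (Nat.ble 14 b)) (Nat.ble 12 b)) (Nat.ble 8 b)) (Bool.rec (motive := fun _ => ℕ) (Bool.rec (motive := fun _ => ℕ) (Bool.rec (motive := fun _ => ℕ) (Bool.rec (motive := fun _ => ℕ) (e1_16) (e1_17) (Nat.ble 17 b)) (Bool.rec (motive := fun _ => ℕ) (e1_18) (e1_19) (Nat.ble 19 b)) (Nat.ble 18 b)) (Bool.rec (motive := fun _ => ℕ) (Bool.rec (motive := fun _ => ℕ) (e1_20) (e1_21) (Nat.ble 21 b)) (Bool.rec (motive := fun _ => ℕ) (e1_22) (e1_23) (Nat.ble 23 b)) (Nat.ble 22 b)) (Nat.ble 20 b)) (Bool.rec (motive := fun _ => ℕ) (Bool.rec (motive := fun _ => ℕ) (Bool.rec (motive := fun _ => ℕ) (e1_24) (e1_25) (Nat.ble 25 b)) (Bool.rec (motive := fun _ => ℕ) (e1_26) (e1_27) (Nat.ble 27 b)) (Nat.ble 26 b)) (Bool.rec (motive := fun _ => ℕ) (Bool.rec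 (motive := fun _ => ℕ) (e1_28) (e1_29) (Nat.ble 29 b)) (Bool.rec (motive := fun _ => ℕ) (e1_30) (e1_31) (Nat.ble 31 b)) (Nat.ble 30 b)) (Nat.ble 28 b)) (Nat.ble 24 b)) (Nat.ble 16 b)) (Bool.rec (motive := fun _ => ℕ) (Bool.rec (motive := fun _ => ℕ) (Bool.rec (motive := fun _ => ℕ) (Bool.rec (motive := fun _ => ℕ) (Bool.rec (motive := fun _ => ℕ) (e1_32) (e1_33) (Nat.ble 33 b)) (Bool.rec (motive := fun _ => ℕ) (e1_34) (e1_35) (Nat.ble 35 b)) (Nat.ble 34 b)) (Bool.rec (motive := fun _ => ℕ) (Bool.rec (motive := fun _ => ℕ) (e1_36) (e1_37) (Nat.ble 37 b)) (Bool.rec (motive := fun _ => ℕ) (e1_38) (e1_39) (Nat.ble 39 b)) (Nat.ble 38 b)) (Nat.ble 36 b)) (Bool.rec (motive := fun _ => ℕ) (Bool.rec (motive := fun _ => ℕ) (Bool.rec (motive := fun _ => ℕ) (e1_40) (e1_41) (Nat.ble 41 b)) (Bool.rec (motive := fun _ => ℕ) (e1_42) (e1_43)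 (Nat.ble 43 b)) (Nat.ble 42 b)) (Bool.rec (motive := fun _ => ℕ) (Bool.rec (motive := fun _ => ℕ) (e1_44) (e1_45) (Nat.ble 45 b)) (Bool.rec (motive := fun _ => ℕ) (e1_46) (e1_47) (Nat.ble 47 b)) (Nat.ble 46 b)) (Nat.ble 44 b)) (Nat.ble 40 b)) (Bool.rec (motive := fun _ => ℕ) (Bool.rec (motive := fun _ => ℕ) (Bool.rec (motive := fun _ => ℕ) (Bool.rec (motive := fun _ => ℕ) (e1_48) (e1_49) (Nat.ble 49 b)) (Bool.rec (motive := fun _ => ℕ) (e1_50) (e1_51) (Nat.ble 51 b)) (Nat.ble 50 b)) (Bool.rec (motive := fun _ => ℕ) (Bool.rec (motive := fun _ => ℕ) (e1_52) (e1_53) (Nat.ble 53 b)) (Bool.rec (motive := fun _ => ℕ) (e1_54) (e1_55) (Nat.ble 55 b)) (Nat.ble 54 b)) (Nat.ble 52 b)) (Bool.rec (motive := fun _ => ℕ) (Bool.rec (motive := fun _ => ℕ) (Bool.rec (motive := fun _ => ℕ) (e1_56) (e1_57) (Nat.ble 57 b)) (Bool.rec (motive :=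 fun _ => ℕ) (e1_58) (e1_59) (Nat.ble 59 b)) (Nat.ble 58 b)) (Bool.rec (motive := fun _ => ℕ) (Bool.rec (motive := fun _ => ℕ) (e1_60) (e1_61) (Nat.ble 61 b)) (Bool.rec (motive := fun _ => ℕ) (e1_62) (e1_63) (Nat.ble 63 b)) (Nat.ble 62 b)) (Nat.ble 60 b)) (Nat.ble 56 b)) (Nat.ble 48 b)) (Nat.ble 32 b)) (Bool.rec (motive := fun _ => ℕ) (Bool.rec (motive := fun _ => ℕ) (Bool.rec (motive := fun _ => ℕ) (Bool.rec (motive := fun _ => ℕ) (Bool.rec (motive := fun _ => ℕ) (Bool.rec (motive := fun _ => ℕ) (e1_64) (e1_65) (Nat.ble 65 b)) (Bool.rec (motive := fun _ => ℕ) (e1_66) (e1_67) (Nat.ble 67 b)) (Nat.ble 66 b)) (Bool.rec (motive := fun _ => ℕ) (Bool.rec (motive := fun _ => ℕ) (e1_68) (e1_69) (Nat.ble 69 b)) (Bool.rec (motive := fun _ => ℕ) (e1_70) (e1_71) (Nat.ble 71 b)) (Nat.ble 70 b)) (Nat.ble 68 b)) (Bool.rec (motive := fun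 _ => ℕ) (Bool.rec (motive := fun _ => ℕ) (Bool.rec (motive := fun _ => ℕ) (e1_72) (e1_73) (Nat.ble 73 b)) (Bool.rec (motive := fun _ => ℕ) (e1_74) (e1_75) (Nat.ble 75 b)) (Nat.ble 74 b)) (Bool.rec (motive := fun _ => ℕ) (Bool.rec (motive := fun _ => ℕ) (e1_76) (e1_77) (Nat.ble 77 b)) (Bool.rec (motive := fun _ => ℕ) (e1_78) (e1_79) (Nat.ble 79 b)) (Nat.ble 78 b)) (Nat.ble 76 b)) (Nat.ble 72 b)) (Bool.rec (motive := fun _ => ℕ) (Bool.rec (motive := fun _ => ℕ) (Bool.rec (motive := fun _ => ℕ) (Bool.rec (motive := fun _ => ℕ) (e1_80) (e1_81) (Nat.ble 81 b)) (Bool.rec (motive := fun _ => ℕ) (e1_82) (e1_83) (Nat.ble 83 b)) (Nat.ble 82 b)) (Bool.rec (motive := fun _ => ℕ) (Bool.rec (motive := fun _ => ℕ) (e1_84) (e1_85) (Nat.ble 85 b)) (Bool.rec (motive := fun _ => ℕ) (e1_86) (e1_87) (Nat.ble 87 b)) (Nat.ble 86 b)) (Nat.ble 84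 b)) (Bool.rec (motive := fun _ => ℕ) (Bool.rec (motive := fun _ => ℕ) (Bool.rec (motive := fun _ => ℕ) (e1_88) (e1_89) (Nat.ble 89 b)) (Bool.rec (motive := fun _ => ℕ) (e1_90) (e1_91) (Nat.ble 91 b)) (Nat.ble 90 b)) (Bool.rec (motive := fun _ => ℕ) (Bool.rec (motive := fun _ => ℕ) (e1_92) (e1_93) (Nat.ble 93 b)) (Bool.rec (motive := fun _ => ℕ) (e1_94) (e1_95) (Nat.ble 95 b)) (Nat.ble 94 b)) (Nat.ble 92 b)) (Nat.ble 88 b)) (Nat.ble 80 b)) (Bool.rec (motive := fun _ => ℕ) (Bool.rec (motive := fun _ => ℕ) (Bool.rec (motive := fun _ => ℕ) (Bool.rec (motive := fun _ => ℕ) (Bool.rec (motive := fun _ => ℕ) (e1_96) (e1_97) (Nat.ble 97 b)) (Bool.rec (motive := fun _ => ℕ) (e1_98) (e1_99) (Nat.ble 99 b)) (Nat.ble 98 b)) (Bool.rec (motive := fun _ => ℕ) (Bool.rec (motive := fun _ => ℕ) (e1_100) (e1_101) (Nat.ble 101 b)) (Bool.rec (motive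 := fun _ => ℕ) (e1_102) (e1_103) (Nat.ble 103 b)) (Nat.ble 102 b)) (Nat.ble 100 b)) (Bool.rec (motive := fun _ => ℕ) (Bool.rec (motive := fun _ => ℕ) (Bool.rec (motive := fun _ => ℕ) (e1_104) (e1_105) (Nat.ble 105 b)) (Bool.rec (motive := fun _ => ℕ) (e1_106) (e1_107) (Nat.ble 107 b)) (Nat.ble 106 b)) (Bool.rec (motive := fun _ => ℕ) (Bool.rec (motive := fun _ => ℕ) (e1_108) (e1_109) (Nat.ble 109 b)) (Bool.rec (motive := fun _ => ℕ) (e1_110) (e1_111) (Nat.ble 111 b)) (Nat.ble 110 b)) (Nat.ble 108 b)) (Nat.ble 104 b)) (Bool.rec (motive := fun _ => ℕ) (Bool.rec (motive := fun _ => ℕ) (Bool.rec (motive := fun _ => ℕ) (Bool.rec (motive := fun _ => ℕ) (e1_112) (e1_113) (Nat.ble 113 b)) (Bool.rec (motive := fun _ => ℕ) (e1_114) (e1_115) (Nat.ble 115 b)) (Nat.ble 114 b)) (Bool.rec (motive := fun _ => ℕ) (Bool.rec (motive := fun _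 => ℕ) (e1_116) (e1_117) (Nat.ble 117 b)) (Bool.rec (motive := fun _ => ℕ) (e1_118) (0) (Nat.ble 119 b)) (Nat.ble 118 b)) (Nat.ble 116 b)) (0) (Nat.ble 120 b)) (Nat.ble 112 b)) (Nat.ble 96 b)) (Nat.ble 64 b))
noncomputable def jcol1 (b : ℕ) : ℕ := (Bool.rec (motive := fun _ => ℕ) (Bool.rec (motive := fun _ => ℕ) (Bool.rec (motive := fun _ => ℕ) (Bool.rec (motive := fun _ => ℕ) (Bool.rec (motive := fun _ => ℕ) (Bool.rec (motive := fun _ => ℕ) (Bool.rec (motive := fun _ => ℕ) (j1_0) (j1_1) (Nat.ble 1 b)) (Bool.rec (motive := fun _ => ℕ) (j1_2) (j1_3) (Nat.ble 3 b)) (Nat.ble 2 b)) (Bool.rec (motive := fun _ => ℕ) (Bool.rec (motive := fun _ => ℕ) (j1_4) (j1_5) (Nat.ble 5 b)) (Bool.rec (motive := fun _ => ℕ) (j1_6) (j1_7) (Nat.ble 7 b)) (Nat.ble 6 b)) (Nat.ble 4 b)) (Bool.rec (motive := fun _ => ℕ) (Bool.rec (motive := fun _ =>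 ℕ) (Bool.rec (motive := fun _ => ℕ) (j1_8) (j1_9) (Nat.ble 9 b)) (Bool.rec (motive := fun _ => ℕ) (j1_10) (j1_11) (Nat.ble 11 b)) (Nat.ble 10 b)) (Bool.rec (motive := fun _ => ℕ) (Bool.rec (motive := fun _ => ℕ) (j1_12) (j1_13) (Nat.ble 13 b)) (Bool.rec (motive := fun _ => ℕ) (j1_14) (j1_15) (Nat.ble 15 b)) (Nat.ble 14 b)) (Nat.ble 12 b)) (Nat.ble 8 b)) (Bool.rec (motive := fun _ => ℕ) (Bool.rec (motive := fun _ => ℕ) (Bool.rec (motive := fun _ => ℕ) (Bool.rec (motive := fun _ => ℕ) (j1_16) (j1_17) (Nat.ble 17 b)) (Bool.rec (motive := fun _ => ℕ) (j1_18) (j1_19) (Nat.ble 19 b)) (Nat.ble 18 b)) (Bool.rec (motive := fun _ => ℕ) (Bool.rec (motive := fun _ => ℕ) (j1_20) (j1_21) (Nat.ble 21 b)) (Bool.rec (motive := fun _ => ℕ) (j1_22) (j1_23) (Nat.ble 23 b)) (Nat.ble 22 b)) (Nat.ble 20 b)) (Bool.rec (motive := fun _ => ℕ) (Bool.rec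 (motive := fun _ => ℕ) (Bool.rec (motive := fun _ => ℕ) (j1_24) (j1_25) (Nat.ble 25 b)) (Bool.rec (motive := fun _ => ℕ) (j1_26) (j1_27) (Nat.ble 27 b)) (Nat.ble 26 b)) (Bool.rec (motive := fun _ => ℕ) (Bool.rec (motive := fun _ => ℕ) (j1_28) (j1_29) (Nat.ble 29 b)) (Bool.rec (motive := fun _ => ℕ) (j1_30) (j1_31) (Nat.ble 31 b)) (Nat.ble 30 b)) (Nat.ble 28 b)) (Nat.ble 24 b)) (Nat.ble 16 b)) (Bool.rec (motive := fun _ => ℕ) (Bool.rec (motive := fun _ => ℕ) (Bool.rec (motive := fun _ => ℕ) (Bool.rec (motive := fun _ => ℕ) (Bool.rec (motive := fun _ => ℕ) (j1_32) (j1_33) (Nat.ble 33 b)) (Bool.rec (motive := fun _ => ℕ) (j1_34) (j1_35) (Nat.ble 35 b)) (Nat.ble 34 b)) (Bool.rec (motive := fun _ => ℕ) (Bool.rec (motive := fun _ => ℕ) (j1_36) (j1_37) (Nat.ble 37 b)) (Bool.rec (motive := fun _ => ℕ) (j1_38) (j1_39) (Nat.ble 39 b))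 (Nat.ble 38 b)) (Nat.ble 36 b)) (Bool.rec (motive := fun _ => ℕ) (Bool.rec (motive := fun _ => ℕ) (Bool.rec (motive := fun _ => ℕ) (j1_40) (j1_41) (Nat.ble 41 b)) (Bool.rec (motive := fun _ => ℕ) (j1_42) (j1_43) (Nat.ble 43 b)) (Nat.ble 42 b)) (Bool.rec (motive := fun _ => ℕ) (Bool.rec (motive := fun _ => ℕ) (j1_44) (j1_45) (Nat.ble 45 b)) (Bool.rec (motive := fun _ => ℕ) (j1_46) (j1_47) (Nat.ble 47 b)) (Nat.ble 46 b)) (Nat.ble 44 b)) (Nat.ble 40 b)) (Bool.rec (motive := fun _ => ℕ) (Bool.rec (motive := fun _ => ℕ) (Bool.rec (motive := fun _ => ℕ) (Bool.rec (motive := fun _ => ℕ) (j1_48) (j1_49) (Nat.ble 49 b)) (Bool.rec (motive := fun _ => ℕ) (j1_50) (j1_51) (Nat.ble 51 b)) (Nat.ble 50 b)) (Bool.rec (motive := fun _ => ℕ) (Bool.rec (motive := fun _ => ℕ) (j1_52) (j1_53) (Nat.ble 53 b)) (Bool.rec (motive := fun _ => ℕ) (j1_54)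 (j1_55) (Nat.ble 55 b)) (Nat.ble 54 b)) (Nat.ble 52 b)) (Bool.rec (motive := fun _ => ℕ) (Bool.rec (motive := fun _ => ℕ) (Bool.rec (motive := fun _ => ℕ) (j1_56) (j1_57) (Nat.ble 57 b)) (Bool.rec (motive := fun _ => ℕ) (j1_58) (j1_59) (Nat.ble 59 b)) (Nat.ble 58 b)) (Bool.rec (motive := fun _ => ℕ) (Bool.rec (motive := fun _ => ℕ) (j1_60) (j1_61) (Nat.ble 61 b)) (Bool.rec (motive := fun _ => ℕ) (j1_62) (j1_63) (Nat.ble 63 b)) (Nat.ble 62 b)) (Nat.ble 60 b)) (Nat.ble 56 b)) (Nat.ble 48 b)) (Nat.ble 32 b)) (Bool.rec (motive := fun _ => ℕ) (Bool.rec (motive := fun _ => ℕ) (Bool.rec (motive := fun _ => ℕ) (Bool.rec (motive := fun _ => ℕ) (Bool.rec (motive := fun _ => ℕ) (Bool.rec (motive := fun _ => ℕ) (j1_64) (j1_65) (Nat.ble 65 b)) (Bool.rec (motive := fun _ => ℕ) (j1_66) (j1_67) (Nat.ble 67 b)) (Nat.ble 66 b)) (Bool.rec (motive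 := fun _ => ℕ) (Bool.rec (motive := fun _ => ℕ) (j1_68) (j1_69) (Nat.ble 69 b)) (Bool.rec (motive := fun _ => ℕ) (j1_70) (j1_71) (Nat.ble 71 b)) (Nat.ble 70 b)) (Nat.ble 68 b)) (Bool.rec (motive := fun _ => ℕ) (Bool.rec (motive := fun _ => ℕ) (Bool.rec (motive := fun _ => ℕ) (j1_72) (j1_73) (Nat.ble 73 b)) (Bool.rec (motive := fun _ => ℕ) (j1_74) (j1_75) (Nat.ble 75 b)) (Nat.ble 74 b)) (Bool.rec (motive := fun _ => ℕ) (Bool.rec (motive := fun _ => ℕ) (j1_76) (j1_77) (Nat.ble 77 b)) (Bool.rec (motive := fun _ => ℕ) (j1_78) (j1_79) (Nat.ble 79 b)) (Nat.ble 78 b)) (Nat.ble 76 b)) (Nat.ble 72 b)) (Bool.rec (motive := fun _ => ℕ) (Bool.rec (motive := fun _ => ℕ) (Bool.rec (motive := fun _ => ℕ) (Bool.rec (motive := fun _ => ℕ) (j1_80) (j1_81) (Nat.ble 81 b)) (Bool.rec (motive := fun _ => ℕ) (j1_82) (j1_83) (Nat.ble 83 b)) (Nat.ble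 82 b)) (Bool.rec (motive := fun _ => ℕ) (Bool.rec (motive := fun _ => ℕ) (j1_84) (j1_85) (Nat.ble 85 b)) (Bool.rec (motive := fun _ => ℕ) (j1_86) (j1_87) (Nat.ble 87 b)) (Nat.ble 86 b)) (Nat.ble 84 b)) (Bool.rec (motive := fun _ => ℕ) (Bool.rec (motive := fun _ => ℕ) (Bool.rec (motive := fun _ => ℕ) (j1_88) (j1_89) (Nat.ble 89 b)) (Bool.rec (motive := fun _ => ℕ) (j1_90) (j1_91) (Nat.ble 91 b)) (Nat.ble 90 b)) (Bool.rec (motive := fun _ => ℕ) (Bool.rec (motive := fun _ => ℕ) (j1_92) (j1_93) (Nat.ble 93 b)) (Bool.rec (motive := fun _ => ℕ) (j1_94) (j1_95) (Nat.ble 95 b)) (Nat.ble 94 b)) (Nat.ble 92 b)) (Nat.ble 88 b)) (Nat.ble 80 b)) (Bool.rec (motive := fun _ => ℕ) (Bool.rec (motive := fun _ => ℕ) (Bool.rec (motive := fun _ => ℕ) (Bool.rec (motive := fun _ => ℕ) (Bool.rec (motive := fun _ => ℕ) (j1_96) (j1_97) (Nat.ble 97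 b)) (Bool.rec (motive := fun _ => ℕ) (j1_98) (j1_99) (Nat.ble 99 b)) (Nat.ble 98 b)) (Bool.rec (motive := fun _ => ℕ) (Bool.rec (motive := fun _ => ℕ) (j1_100) (j1_101) (Nat.ble 101 b)) (Bool.rec (motive := fun _ => ℕ) (j1_102) (j1_103) (Nat.ble 103 b)) (Nat.ble 102 b)) (Nat.ble 100 b)) (Bool.rec (motive := fun _ => ℕ) (Bool.rec (motive := fun _ => ℕ) (Bool.rec (motive := fun _ => ℕ) (j1_104) (j1_105) (Nat.ble 105 b)) (Bool.rec (motive := fun _ => ℕ) (j1_106) (j1_107) (Nat.ble 107 b)) (Nat.ble 106 b)) (Bool.rec (motive := fun _ => ℕ) (Bool.rec (motive := fun _ => ℕ) (j1_108) (j1_109) (Nat.ble 109 b)) (Bool.rec (motive := fun _ => ℕ) (j1_110) (j1_111) (Nat.ble 111 b)) (Nat.ble 110 b)) (Nat.ble 108 b)) (Nat.ble 104 b)) (Bool.rec (motive := fun _ => ℕ) (Bool.rec (motive := fun _ => ℕ) (Bool.rec (motive := fun _ => ℕ) (Bool.rec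 (motive := fun _ => ℕ) (j1_112) (j1_113) (Nat.ble 113 b)) (Bool.rec (motive := fun _ => ℕ) (j1_114) (j1_115) (Nat.ble 115 b)) (Nat.ble 114 b)) (Bool.rec (motive := fun _ => ℕ) (Bool.rec (motive := fun _ => ℕ) (j1_116) (j1_117) (Nat.ble 117 b)) (Bool.rec (motive := fun _ => ℕ) (j1_118) (0) (Nat.ble 119 b)) (Nat.ble 118 b)) (Nat.ble 116 b)) (0) (Nat.ble 120 b)) (Nat.ble 112 b)) (Nat.ble 96 b)) (Nat.ble 64 b))
noncomputable def ecol2 (b : ℕ) : ℕ := (Bool.rec (motive := fun _ => ℕ) (Bool.rec (motive := fun _ => ℕ) (Bool.rec (motive := fun _ => ℕ) (Bool.rec (motive := fun _ => ℕ) (Bool.rec (motive := fun _ => ℕ) (Bool.rec (motive := fun _ => ℕ) (Bool.rec (motive := fun _ => ℕ) (e2_0) (e2_1) (Nat.ble 1 b)) (Bool.rec (motive := fun _ => ℕ) (e2_2) (e2_3) (Nat.ble 3 b)) (Nat.ble 2 b)) (Bool.rec (motive := fun _ => ℕ) (Bool.rec (motive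 := fun _ => ℕ) (e2_4) (e2_5) (Nat.ble 5 b)) (Bool.rec (motive := fun _ => ℕ) (e2_6) (e2_7) (Nat.ble 7 b)) (Nat.ble 6 b)) (Nat.ble 4 b)) (Bool.rec (motive := fun _ => ℕ) (Bool.rec (motive := fun _ => ℕ) (Bool.rec (motive := fun _ => ℕ) (e2_8) (e2_9) (Nat.ble 9 b)) (Bool.rec (motive := fun _ => ℕ) (e2_10) (e2_11) (Nat.ble 11 b)) (Nat.ble 10 b)) (Bool.rec (motive := fun _ => ℕ) (Bool.rec (motive := fun _ => ℕ) (e2_12) (e2_13) (Nat.ble 13 b)) (Bool.rec (motive := fun _ => ℕ) (e2_14) (e2_15) (Nat.ble 15 b)) (Nat.ble 14 b)) (Nat.ble 12 b)) (Nat.ble 8 b)) (Bool.rec (motive := fun _ => ℕ) (Bool.rec (motive := fun _ => ℕ) (Bool.rec (motive := fun _ => ℕ) (Bool.rec (motive := fun _ => ℕ) (e2_16) (e2_17) (Nat.ble 17 b)) (Bool.rec (motive := fun _ => ℕ) (e2_18) (e2_19) (Nat.ble 19 b)) (Nat.ble 18 b)) (Bool.rec (motive := fun _ => ℕ) (Bool.rec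 (motive := fun _ => ℕ) (e2_20) (e2_21) (Nat.ble 21 b)) (Bool.rec (motive := fun _ => ℕ) (e2_22) (e2_23) (Nat.ble 23 b)) (Nat.ble 22 b)) (Nat.ble 20 b)) (Bool.rec (motive := fun _ => ℕ) (Bool.rec (motive := fun _ => ℕ) (Bool.rec (motive := fun _ => ℕ) (e2_24) (e2_25) (Nat.ble 25 b)) (Bool.rec (motive := fun _ => ℕ) (e2_26) (e2_27) (Nat.ble 27 b)) (Nat.ble 26 b)) (Bool.rec (motive := fun _ => ℕ) (Bool.rec (motive := fun _ => ℕ) (e2_28) (e2_29) (Nat.ble 29 b)) (Bool.rec (motive := fun _ => ℕ) (e2_30) (e2_31) (Nat.ble 31 b)) (Nat.ble 30 b)) (Nat.ble 28 b)) (Nat.ble 24 b)) (Nat.ble 16 b)) (Bool.rec (motive := fun _ => ℕ) (Bool.rec (motive := fun _ => ℕ) (Bool.rec (motive := fun _ => ℕ) (Bool.rec (motive := fun _ => ℕ) (Bool.rec (motive := fun _ => ℕ) (e2_32) (e2_33) (Nat.ble 33 b)) (Bool.rec (motive := fun _ => ℕ) (e2_34) (e2_35)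 (Nat.ble 35 b)) (Nat.ble 34 b)) (Bool.rec (motive := fun _ => ℕ) (Bool.rec (motive := fun _ => ℕ) (e2_36) (e2_37) (Nat.ble 37 b)) (Bool.rec (motive := fun _ => ℕ) (e2_38) (e2_39) (Nat.ble 39 b)) (Nat.ble 38 b)) (Nat.ble 36 b)) (Bool.rec (motive := fun _ => ℕ) (Bool.rec (motive := fun _ => ℕ) (Bool.rec (motive := fun _ => ℕ) (e2_40) (e2_41) (Nat.ble 41 b)) (Bool.rec (motive := fun _ => ℕ) (e2_42) (e2_43) (Nat.ble 43 b)) (Nat.ble 42 b)) (Bool.rec (motive := fun _ => ℕ) (Bool.rec (motive := fun _ => ℕ) (e2_44) (e2_45) (Nat.ble 45 b)) (Bool.rec (motive := fun _ => ℕ) (e2_46) (e2_47) (Nat.ble 47 b)) (Nat.ble 46 b)) (Nat.ble 44 b)) (Nat.ble 40 b)) (Bool.rec (motive := fun _ => ℕ) (Bool.rec (motive := fun _ => ℕ) (Bool.rec (motive := fun _ => ℕ) (Bool.rec (motive := fun _ => ℕ) (e2_48) (e2_49) (Nat.ble 49 b)) (Bool.rec (motive :=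 fun _ => ℕ) (e2_50) (e2_51) (Nat.ble 51 b)) (Nat.ble 50 b)) (Bool.rec (motive := fun _ => ℕ) (Bool.rec (motive := fun _ => ℕ) (e2_52) (e2_53) (Nat.ble 53 b)) (Bool.rec (motive := fun _ => ℕ) (e2_54) (e2_55) (Nat.ble 55 b)) (Nat.ble 54 b)) (Nat.ble 52 b)) (Bool.rec (motive := fun _ => ℕ) (Bool.rec (motive := fun _ => ℕ) (Bool.rec (motive := fun _ => ℕ) (e2_56) (e2_57) (Nat.ble 57 b)) (Bool.rec (motive := fun _ => ℕ) (e2_58) (e2_59) (Nat.ble 59 b)) (Nat.ble 58 b)) (Bool.rec (motive := fun _ => ℕ) (Bool.rec (motive := fun _ => ℕ) (e2_60) (e2_61) (Nat.ble 61 b)) (Bool.rec (motive := fun _ => ℕ) (e2_62) (e2_63) (Nat.ble 63 b)) (Nat.ble 62 b)) (Nat.ble 60 b)) (Nat.ble 56 b)) (Nat.ble 48 b)) (Nat.ble 32 b)) (Bool.rec (motive := fun _ => ℕ) (Bool.rec (motive := fun _ => ℕ) (Bool.rec (motive := fun _ => ℕ) (Bool.rec (motive := fun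 _ => ℕ) (Bool.rec (motive := fun _ => ℕ) (Bool.rec (motive := fun _ => ℕ) (e2_64) (e2_65) (Nat.ble 65 b)) (Bool.rec (motive := fun _ => ℕ) (e2_66) (e2_67) (Nat.ble 67 b)) (Nat.ble 66 b)) (Bool.rec (motive := fun _ => ℕ) (Bool.rec (motive := fun _ => ℕ) (e2_68) (e2_69) (Nat.ble 69 b)) (Bool.rec (motive := fun _ => ℕ) (e2_70) (e2_71) (Nat.ble 71 b)) (Nat.ble 70 b)) (Nat.ble 68 b)) (Bool.rec (motive := fun _ => ℕ) (Bool.rec (motive := fun _ => ℕ) (Bool.rec (motive := fun _ => ℕ) (e2_72) (e2_73) (Nat.ble 73 b)) (Bool.rec (motive := fun _ => ℕ) (e2_74) (e2_75) (Nat.ble 75 b)) (Nat.ble 74 b)) (Bool.rec (motive := fun _ => ℕ) (Bool.rec (motive := fun _ => ℕ) (e2_76) (e2_77) (Nat.ble 77 b)) (Bool.rec (motive := fun _ => ℕ) (e2_78) (e2_79) (Nat.ble 79 b)) (Nat.ble 78 b)) (Nat.ble 76 b)) (Nat.ble 72 b)) (Bool.rec (motive := fun _ =>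 ℕ) (Bool.rec (motive := fun _ => ℕ) (Bool.rec (motive := fun _ => ℕ) (Bool.rec (motive := fun _ => ℕ) (e2_80) (e2_81) (Nat.ble 81 b)) (Bool.rec (motive := fun _ => ℕ) (e2_82) (e2_83) (Nat.ble 83 b)) (Nat.ble 82 b)) (Bool.rec (motive := fun _ => ℕ) (Bool.rec (motive := fun _ => ℕ) (e2_84) (e2_85) (Nat.ble 85 b)) (Bool.rec (motive := fun _ => ℕ) (e2_86) (e2_87) (Nat.ble 87 b)) (Nat.ble 86 b)) (Nat.ble 84 b)) (Bool.rec (motive := fun _ => ℕ) (Bool.rec (motive := fun _ => ℕ) (Bool.rec (motive := fun _ => ℕ) (e2_88) (e2_89) (Nat.ble 89 b)) (Bool.rec (motive := fun _ => ℕ) (e2_90) (e2_91) (Nat.ble 91 b)) (Nat.ble 90 b)) (Bool.rec (motive := fun _ => ℕ) (Bool.rec (motive := fun _ => ℕ) (e2_92) (e2_93) (Nat.ble 93 b)) (Bool.rec (motive := fun _ => ℕ) (e2_94) (e2_95) (Nat.ble 95 b)) (Nat.ble 94 b)) (Nat.ble 92 b)) (Nat.ble 88 b)) (Nat.ble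 80 b)) (Bool.rec (motive := fun _ => ℕ) (Bool.rec (motive := fun _ => ℕ) (Bool.rec (motive := fun _ => ℕ) (Bool.rec (motive := fun _ => ℕ) (Bool.rec (motive := fun _ => ℕ) (e2_96) (e2_97) (Nat.ble 97 b)) (Bool.rec (motive := fun _ => ℕ) (e2_98) (e2_99) (Nat.ble 99 b)) (Nat.ble 98 b)) (Bool.rec (motive := fun _ => ℕ) (Bool.rec (motive := fun _ => ℕ) (e2_100) (e2_101) (Nat.ble 101 b)) (Bool.rec (motive := fun _ => ℕ) (e2_102) (e2_103) (Nat.ble 103 b)) (Nat.ble 102 b)) (Nat.ble 100 b)) (Bool.rec (motive := fun _ => ℕ) (Bool.rec (motive := fun _ => ℕ) (Bool.rec (motive := fun _ => ℕ) (e2_104) (e2_105) (Nat.ble 105 b)) (Bool.rec (motive := fun _ => ℕ) (e2_106) (e2_107) (Nat.ble 107 b)) (Nat.ble 106 b)) (Bool.rec (motive := fun _ => ℕ) (Bool.rec (motive := fun _ => ℕ) (e2_108) (e2_109) (Nat.ble 109 b)) (Bool.rec (motive := fun _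 => ℕ) (e2_110) (e2_111) (Nat.ble 111 b)) (Nat.ble 110 b)) (Nat.ble 108 b)) (Nat.ble 104 b)) (Bool.rec (motive := fun _ => ℕ) (Bool.rec (motive := fun _ => ℕ) (Bool.rec (motive := fun _ => ℕ) (Bool.rec (motive := fun _ => ℕ) (e2_112) (e2_113) (Nat.ble 113 b)) (Bool.rec (motive := fun _ => ℕ) (e2_114) (e2_115) (Nat.ble 115 b)) (Nat.ble 114 b)) (Bool.rec (motive := fun _ => ℕ) (Bool.rec (motive := fun _ => ℕ) (e2_116) (e2_117) (Nat.ble 117 b)) (Bool.rec (motive := fun _ => ℕ) (e2_118) (0) (Nat.ble 119 b)) (Nat.ble 118 b)) (Nat.ble 116 b)) (0) (Nat.ble 120 b)) (Nat.ble 112 b)) (Nat.ble 96 b)) (Nat.ble 64 b))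
noncomputable def jcol2 (b : ℕ) : ℕ := (Bool.rec (motive := fun _ => ℕ) (Bool.rec (motive := fun _ => ℕ) (Bool.rec (motive := fun _ => ℕ) (Bool.rec (motive := fun _ => ℕ) (Bool.rec (motive := fun _ => ℕ) (Bool.rec (motive := fun _ => ℕ) (Bool.rec (motive := fun _ => ℕ) (j2_0) (j2_1) (Nat.ble 1 b)) (Bool.rec (motive := fun _ => ℕ) (j2_2) (j2_3) (Nat.ble 3 b)) (Nat.ble 2 b)) (Bool.rec (motive := fun _ => ℕ) (Bool.rec (motive := fun _ => ℕ) (j2_4) (j2_5) (Nat.ble 5 b)) (Bool.rec (motive := fun _ => ℕ) (j2_6) (j2_7) (Nat.ble 7 b)) (Nat.ble 6 b)) (Nat.ble 4 b)) (Bool.rec (motive := fun _ => ℕ) (Bool.rec (motive := fun _ => ℕ) (Bool.rec (motive := fun _ => ℕ) (j2_8) (j2_9) (Nat.ble 9 b)) (Bool.rec (motive := fun _ => ℕ) (j2_10) (j2_11) (Nat.ble 11 b)) (Nat.ble 10 b)) (Bool.rec (motive := fun _ => ℕ) (Bool.rec (motive := fun _ =>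 ℕ) (j2_12) (j2_13) (Nat.ble 13 b)) (Bool.rec (motive := fun _ => ℕ) (j2_14) (j2_15) (Nat.ble 15 b)) (Nat.ble 14 b)) (Nat.ble 12 b)) (Nat.ble 8 b)) (Bool.rec (motive := fun _ => ℕ) (Bool.rec (motive := fun _ => ℕ) (Bool.rec (motive := fun _ => ℕ) (Bool.rec (motive := fun _ => ℕ) (j2_16) (j2_17) (Nat.ble 17 b)) (Bool.rec (motive := fun _ => ℕ) (j2_18) (j2_19) (Nat.ble 19 b)) (Nat.ble 18 b)) (Bool.rec (motive := fun _ => ℕ) (Bool.rec (motive := fun _ => ℕ) (j2_20) (j2_21) (Nat.ble 21 b)) (Bool.rec (motive := fun _ => ℕ) (j2_22) (j2_23) (Nat.ble 23 b)) (Nat.ble 22 b)) (Nat.ble 20 b)) (Bool.rec (motive := fun _ => ℕ) (Bool.rec (motive := fun _ => ℕ) (Bool.rec (motive := fun _ => ℕ) (j2_24) (j2_25) (Nat.ble 25 b)) (Bool.rec (motive := fun _ => ℕ) (j2_26) (j2_27) (Nat.ble 27 b)) (Nat.ble 26 b)) (Bool.rec (motive := fun _ => ℕ) (Bool.rec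 (motive := fun _ => ℕ) (j2_28) (j2_29) (Nat.ble 29 b)) (Bool.rec (motive := fun _ => ℕ) (j2_30) (j2_31) (Nat.ble 31 b)) (Nat.ble 30 b)) (Nat.ble 28 b)) (Nat.ble 24 b)) (Nat.ble 16 b)) (Bool.rec (motive := fun _ => ℕ) (Bool.rec (motive := fun _ => ℕ) (Bool.rec (motive := fun _ => ℕ) (Bool.rec (motive := fun _ => ℕ) (Bool.rec (motive := fun _ => ℕ) (j2_32) (j2_33) (Nat.ble 33 b)) (Bool.rec (motive := fun _ => ℕ) (j2_34) (j2_35) (Nat.ble 35 b)) (Nat.ble 34 b)) (Bool.rec (motive := fun _ => ℕ) (Bool.rec (motive := fun _ => ℕ) (j2_36) (j2_37) (Nat.ble 37 b)) (Bool.rec (motive := fun _ => ℕ) (j2_38) (j2_39) (Nat.ble 39 b)) (Nat.ble 38 b)) (Nat.ble 36 b)) (Bool.rec (motive := fun _ => ℕ) (Bool.rec (motive := fun _ => ℕ) (Bool.rec (motive := fun _ => ℕ) (j2_40) (j2_41) (Nat.ble 41 b)) (Bool.rec (motive := fun _ => ℕ) (j2_42) (j2_43)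 (Nat.ble 43 b)) (Nat.ble 42 b)) (Bool.rec (motive := fun _ => ℕ) (Bool.rec (motive := fun _ => ℕ) (j2_44) (j2_45) (Nat.ble 45 b)) (Bool.rec (motive := fun _ => ℕ) (j2_46) (j2_47) (Nat.ble 47 b)) (Nat.ble 46 b)) (Nat.ble 44 b)) (Nat.ble 40 b)) (Bool.rec (motive := fun _ => ℕ) (Bool.rec (motive := fun _ => ℕ) (Bool.rec (motive := fun _ => ℕ) (Bool.rec (motive := fun _ => ℕ) (j2_48) (j2_49) (Nat.ble 49 b)) (Bool.rec (motive := fun _ => ℕ) (j2_50) (j2_51) (Nat.ble 51 b)) (Nat.ble 50 b)) (Bool.rec (motive := fun _ => ℕ) (Bool.rec (motive := fun _ => ℕ) (j2_52) (j2_53) (Nat.ble 53 b)) (Bool.rec (motive := fun _ => ℕ) (j2_54) (j2_55) (Nat.ble 55 b)) (Nat.ble 54 b)) (Nat.ble 52 b)) (Bool.rec (motive := fun _ => ℕ) (Bool.rec (motive := fun _ => ℕ) (Bool.rec (motive := fun _ => ℕ) (j2_56) (j2_57) (Nat.ble 57 b)) (Bool.rec (motive :=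 fun _ => ℕ) (j2_58) (j2_59) (Nat.ble 59 b)) (Nat.ble 58 b)) (Bool.rec (motive := fun _ => ℕ) (Bool.rec (motive := fun _ => ℕ) (j2_60) (j2_61) (Nat.ble 61 b)) (Bool.rec (motive := fun _ => ℕ) (j2_62) (j2_63) (Nat.ble 63 b)) (Nat.ble 62 b)) (Nat.ble 60 b)) (Nat.ble 56 b)) (Nat.ble 48 b)) (Nat.ble 32 b)) (Bool.rec (motive := fun _ => ℕ) (Bool.rec (motive := fun _ => ℕ) (Bool.rec (motive := fun _ => ℕ) (Bool.rec (motive := fun _ => ℕ) (Bool.rec (motive := fun _ => ℕ) (Bool.rec (motive := fun _ => ℕ) (j2_64) (j2_65) (Nat.ble 65 b)) (Bool.rec (motive := fun _ => ℕ) (j2_66) (j2_67) (Nat.ble 67 b)) (Nat.ble 66 b)) (Bool.rec (motive := fun _ => ℕ) (Bool.rec (motive := fun _ => ℕ) (j2_68) (j2_69) (Nat.ble 69 b)) (Bool.rec (motive := fun _ => ℕ) (j2_70) (j2_71) (Nat.ble 71 b)) (Nat.ble 70 b)) (Nat.ble 68 b)) (Bool.rec (motive := fun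 _ => ℕ) (Bool.rec (motive := fun _ => ℕ) (Bool.rec (motive := fun _ => ℕ) (j2_72) (j2_73) (Nat.ble 73 b)) (Bool.rec (motive := fun _ => ℕ) (j2_74) (j2_75) (Nat.ble 75 b)) (Nat.ble 74 b)) (Bool.rec (motive := fun _ => ℕ) (Bool.rec (motive := fun _ => ℕ) (j2_76) (j2_77) (Nat.ble 77 b)) (Bool.rec (motive := fun _ => ℕ) (j2_78) (j2_79) (Nat.ble 79 b)) (Nat.ble 78 b)) (Nat.ble 76 b)) (Nat.ble 72 b)) (Bool.rec (motive := fun _ => ℕ) (Bool.rec (motive := fun _ => ℕ) (Bool.rec (motive := fun _ => ℕ) (Bool.rec (motive := fun _ => ℕ) (j2_80) (j2_81) (Nat.ble 81 b)) (Bool.rec (motive := fun _ => ℕ) (j2_82) (j2_83) (Nat.ble 83 b)) (Nat.ble 82 b)) (Bool.rec (motive := fun _ => ℕ) (Bool.rec (motive := fun _ => ℕ) (j2_84) (j2_85) (Nat.ble 85 b)) (Bool.rec (motive := fun _ => ℕ) (j2_86) (j2_87) (Nat.ble 87 b)) (Nat.ble 86 b)) (Nat.ble 84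 b)) (Bool.rec (motive := fun _ => ℕ) (Bool.rec (motive := fun _ => ℕ) (Bool.rec (motive := fun _ => ℕ) (j2_88) (j2_89) (Nat.ble 89 b)) (Bool.rec (motive := fun _ => ℕ) (j2_90) (j2_91) (Nat.ble 91 b)) (Nat.ble 90 b)) (Bool.rec (motive := fun _ => ℕ) (Bool.rec (motive := fun _ => ℕ) (j2_92) (j2_93) (Nat.ble 93 b)) (Bool.rec (motive := fun _ => ℕ) (j2_94) (j2_95) (Nat.ble 95 b)) (Nat.ble 94 b)) (Nat.ble 92 b)) (Nat.ble 88 b)) (Nat.ble 80 b)) (Bool.rec (motive := fun _ => ℕ) (Bool.rec (motive := fun _ => ℕ) (Bool.rec (motive := fun _ => ℕ) (Bool.rec (motive := fun _ => ℕ) (Bool.rec (motive := fun _ => ℕ) (j2_96) (j2_97) (Nat.ble 97 b)) (Bool.rec (motive := fun _ => ℕ) (j2_98) (j2_99) (Nat.ble 99 b)) (Nat.ble 98 b)) (Bool.rec (motive := fun _ => ℕ) (Bool.rec (motive := fun _ => ℕ) (j2_100) (j2_101) (Nat.ble 101 b)) (Bool.rec (motive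 := fun _ => ℕ) (j2_102) (j2_103) (Nat.ble 103 b)) (Nat.ble 102 b)) (Nat.ble 100 b)) (Bool.rec (motive := fun _ => ℕ) (Bool.rec (motive := fun _ => ℕ) (Bool.rec (motive := fun _ => ℕ) (j2_104) (j2_105) (Nat.ble 105 b)) (Bool.rec (motive := fun _ => ℕ) (j2_106) (j2_107) (Nat.ble 107 b)) (Nat.ble 106 b)) (Bool.rec (motive := fun _ => ℕ) (Bool.rec (motive := fun _ => ℕ) (j2_108) (j2_109) (Nat.ble 109 b)) (Bool.rec (motive := fun _ => ℕ) (j2_110) (j2_111) (Nat.ble 111 b)) (Nat.ble 110 b)) (Nat.ble 108 b)) (Nat.ble 104 b)) (Bool.rec (motive := fun _ => ℕ) (Bool.rec (motive := fun _ => ℕ) (Bool.rec (motive := fun _ => ℕ) (Bool.rec (motive := fun _ => ℕ) (j2_112) (j2_113) (Nat.ble 113 b)) (Bool.rec (motive := fun _ => ℕ) (j2_114) (j2_115) (Nat.ble 115 b)) (Nat.ble 114 b)) (Bool.rec (motive := fun _ => ℕ) (Bool.rec (motive := fun _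 => ℕ) (j2_116) (j2_117) (Nat.ble 117 b)) (Bool.rec (motive := fun _ => ℕ) (j2_118) (0) (Nat.ble 119 b)) (Nat.ble 118 b)) (Nat.ble 116 b)) (0) (Nat.ble 120 b)) (Nat.ble 112 b)) (Nat.ble 96 b)) (Nat.ble 64 b))
noncomputable def ecol3 (b : ℕ) : ℕ := (Bool.rec (motive := fun _ => ℕ) (Bool.rec (motive := fun _ => ℕ) (Bool.rec (motive := fun _ => ℕ) (Bool.rec (motive := fun _ => ℕ) (Bool.rec (motive := fun _ => ℕ) (Bool.rec (motive := fun _ => ℕ) (Bool.rec (motive := fun _ => ℕ) (e3_0) (e3_1) (Nat.ble 1 b)) (Bool.rec (motive := fun _ => ℕ) (e3_2) (e3_3) (Nat.ble 3 b)) (Nat.ble 2 b)) (Bool.rec (motive := fun _ => ℕ) (Bool.rec (motive := fun _ => ℕ) (e3_4) (e3_5) (Nat.ble 5 b)) (Bool.rec (motive := fun _ => ℕ) (e3_6) (e3_7) (Nat.ble 7 b)) (Nat.ble 6 b)) (Nat.ble 4 b)) (Bool.rec (motive := fun _ => ℕ) (Bool.rec (motive := fun _ =>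 ℕ) (Bool.rec (motive := fun _ => ℕ) (e3_8) (e3_9) (Nat.ble 9 b)) (Bool.rec (motive := fun _ => ℕ) (e3_10) (e3_11) (Nat.ble 11 b)) (Nat.ble 10 b)) (Bool.rec (motive := fun _ => ℕ) (Bool.rec (motive := fun _ => ℕ) (e3_12) (e3_13) (Nat.ble 13 b)) (Bool.rec (motive := fun _ => ℕ) (e3_14) (e3_15) (Nat.ble 15 b)) (Nat.ble 14 b)) (Nat.ble 12 b)) (Nat.ble 8 b)) (Bool.rec (motive := fun _ => ℕ) (Bool.rec (motive := fun _ => ℕ) (Bool.rec (motive := fun _ => ℕ) (Bool.rec (motive := fun _ => ℕ) (e3_16) (e3_17) (Nat.ble 17 b)) (Bool.rec (motive := fun _ => ℕ) (e3_18) (e3_19) (Nat.ble 19 b)) (Nat.ble 18 b)) (Bool.rec (motive := fun _ => ℕ) (Bool.rec (motive := fun _ => ℕ) (e3_20) (e3_21) (Nat.ble 21 b)) (Bool.rec (motive := fun _ => ℕ) (e3_22) (e3_23) (Nat.ble 23 b)) (Nat.ble 22 b)) (Nat.ble 20 b)) (Bool.rec (motive := fun _ => ℕ) (Bool.rec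 (motive := fun _ => ℕ) (Bool.rec (motive := fun _ => ℕ) (e3_24) (e3_25) (Nat.ble 25 b)) (Bool.rec (motive := fun _ => ℕ) (e3_26) (e3_27) (Nat.ble 27 b)) (Nat.ble 26 b)) (Bool.rec (motive := fun _ => ℕ) (Bool.rec (motive := fun _ => ℕ) (e3_28) (e3_29) (Nat.ble 29 b)) (Bool.rec (motive := fun _ => ℕ) (e3_30) (e3_31) (Nat.ble 31 b)) (Nat.ble 30 b)) (Nat.ble 28 b)) (Nat.ble 24 b)) (Nat.ble 16 b)) (Bool.rec (motive := fun _ => ℕ) (Bool.rec (motive := fun _ => ℕ) (Bool.rec (motive := fun _ => ℕ) (Bool.rec (motive := fun _ => ℕ) (Bool.rec (motive := fun _ => ℕ) (e3_32) (e3_33) (Nat.ble 33 b)) (Bool.rec (motive := fun _ => ℕ) (e3_34) (e3_35) (Nat.ble 35 b)) (Nat.ble 34 b)) (Bool.rec (motive := fun _ => ℕ) (Bool.rec (motive := fun _ => ℕ) (e3_36) (e3_37) (Nat.ble 37 b)) (Bool.rec (motive := fun _ => ℕ) (e3_38) (e3_39) (Nat.ble 39 b))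 (Nat.ble 38 b)) (Nat.ble 36 b)) (Bool.rec (motive := fun _ => ℕ) (Bool.rec (motive := fun _ => ℕ) (Bool.rec (motive := fun _ => ℕ) (e3_40) (e3_41) (Nat.ble 41 b)) (Bool.rec (motive := fun _ => ℕ) (e3_42) (e3_43) (Nat.ble 43 b)) (Nat.ble 42 b)) (Bool.rec (motive := fun _ => ℕ) (Bool.rec (motive := fun _ => ℕ) (e3_44) (e3_45) (Nat.ble 45 b)) (Bool.rec (motive := fun _ => ℕ) (e3_46) (e3_47) (Nat.ble 47 b)) (Nat.ble 46 b)) (Nat.ble 44 b)) (Nat.ble 40 b)) (Bool.rec (motive := fun _ => ℕ) (Bool.rec (motive := fun _ => ℕ) (Bool.rec (motive := fun _ => ℕ) (Bool.rec (motive := fun _ => ℕ) (e3_48) (e3_49) (Nat.ble 49 b)) (Bool.rec (motive := fun _ => ℕ) (e3_50) (e3_51) (Nat.ble 51 b)) (Nat.ble 50 b)) (Bool.rec (motive := fun _ => ℕ) (Bool.rec (motive := fun _ => ℕ) (e3_52) (e3_53) (Nat.ble 53 b)) (Bool.rec (motive := fun _ => ℕ) (e3_54)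 (e3_55) (Nat.ble 55 b)) (Nat.ble 54 b)) (Nat.ble 52 b)) (Bool.rec (motive := fun _ => ℕ) (Bool.rec (motive := fun _ => ℕ) (Bool.rec (motive := fun _ => ℕ) (e3_56) (e3_57) (Nat.ble 57 b)) (Bool.rec (motive := fun _ => ℕ) (e3_58) (e3_59) (Nat.ble 59 b)) (Nat.ble 58 b)) (Bool.rec (motive := fun _ => ℕ) (Bool.rec (motive := fun _ => ℕ) (e3_60) (e3_61) (Nat.ble 61 b)) (Bool.rec (motive := fun _ => ℕ) (e3_62) (e3_63) (Nat.ble 63 b)) (Nat.ble 62 b)) (Nat.ble 60 b)) (Nat.ble 56 b)) (Nat.ble 48 b)) (Nat.ble 32 b)) (Bool.rec (motive := fun _ => ℕ) (Bool.rec (motive := fun _ => ℕ) (Bool.rec (motive := fun _ => ℕ) (Bool.rec (motive := fun _ => ℕ) (Bool.rec (motive := fun _ => ℕ) (Bool.rec (motive := fun _ => ℕ) (e3_64) (e3_65) (Nat.ble 65 b)) (Bool.rec (motive := fun _ => ℕ) (e3_66) (e3_67) (Nat.ble 67 b)) (Nat.ble 66 b)) (Bool.rec (motive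 := fun _ => ℕ) (Bool.rec (motive := fun _ => ℕ) (e3_68) (e3_69) (Nat.ble 69 b)) (Bool.rec (motive := fun _ => ℕ) (e3_70) (e3_71) (Nat.ble 71 b)) (Nat.ble 70 b)) (Nat.ble 68 b)) (Bool.rec (motive := fun _ => ℕ) (Bool.rec (motive := fun _ => ℕ) (Bool.rec (motive := fun _ => ℕ) (e3_72) (e3_73) (Nat.ble 73 b)) (Bool.rec (motive := fun _ => ℕ) (e3_74) (e3_75) (Nat.ble 75 b)) (Nat.ble 74 b)) (Bool.rec (motive := fun _ => ℕ) (Bool.rec (motive := fun _ => ℕ) (e3_76) (e3_77) (Nat.ble 77 b)) (Bool.rec (motive := fun _ => ℕ) (e3_78) (e3_79) (Nat.ble 79 b)) (Nat.ble 78 b)) (Nat.ble 76 b)) (Nat.ble 72 b)) (Bool.rec (motive := fun _ => ℕ) (Bool.rec (motive := fun _ => ℕ) (Bool.rec (motive := fun _ => ℕ) (Bool.rec (motive := fun _ => ℕ) (e3_80) (e3_81) (Nat.ble 81 b)) (Bool.rec (motive := fun _ => ℕ) (e3_82) (e3_83) (Nat.ble 83 b)) (Nat.ble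 82 b)) (Bool.rec (motive := fun _ => ℕ) (Bool.rec (motive := fun _ => ℕ) (e3_84) (e3_85) (Nat.ble 85 b)) (Bool.rec (motive := fun _ => ℕ) (e3_86) (e3_87) (Nat.ble 87 b)) (Nat.ble 86 b)) (Nat.ble 84 b)) (Bool.rec (motive := fun _ => ℕ) (Bool.rec (motive := fun _ => ℕ) (Bool.rec (motive := fun _ => ℕ) (e3_88) (e3_89) (Nat.ble 89 b)) (Bool.rec (motive := fun _ => ℕ) (e3_90) (e3_91) (Nat.ble 91 b)) (Nat.ble 90 b)) (Bool.rec (motive := fun _ => ℕ) (Bool.rec (motive := fun _ => ℕ) (e3_92) (e3_93) (Nat.ble 93 b)) (Bool.rec (motive := fun _ => ℕ) (e3_94) (e3_95) (Nat.ble 95 b)) (Nat.ble 94 b)) (Nat.ble 92 b)) (Nat.ble 88 b)) (Nat.ble 80 b)) (Bool.rec (motive := fun _ => ℕ) (Bool.rec (motive := fun _ => ℕ) (Bool.rec (motive := fun _ => ℕ) (Bool.rec (motive := fun _ => ℕ) (Bool.rec (motive := fun _ => ℕ) (e3_96) (e3_97) (Nat.ble 97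 b)) (Bool.rec (motive := fun _ => ℕ) (e3_98) (e3_99) (Nat.ble 99 b)) (Nat.ble 98 b)) (Bool.rec (motive := fun _ => ℕ) (Bool.rec (motive := fun _ => ℕ) (e3_100) (e3_101) (Nat.ble 101 b)) (Bool.rec (motive := fun _ => ℕ) (e3_102) (e3_103) (Nat.ble 103 b)) (Nat.ble 102 b)) (Nat.ble 100 b)) (Bool.rec (motive := fun _ => ℕ) (Bool.rec (motive := fun _ => ℕ) (Bool.rec (motive := fun _ => ℕ) (e3_104) (e3_105) (Nat.ble 105 b)) (Bool.rec (motive := fun _ => ℕ) (e3_106) (e3_107) (Nat.ble 107 b)) (Nat.ble 106 b)) (Bool.rec (motive := fun _ => ℕ) (Bool.rec (motive := fun _ => ℕ) (e3_108) (e3_109) (Nat.ble 109 b)) (Bool.rec (motive := fun _ => ℕ) (e3_110) (e3_111) (Nat.ble 111 b)) (Nat.ble 110 b)) (Nat.ble 108 b)) (Nat.ble 104 b)) (Bool.rec (motive := fun _ => ℕ) (Bool.rec (motive := fun _ => ℕ) (Bool.rec (motive := fun _ => ℕ) (Bool.rec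 (motive := fun _ => ℕ) (e3_112) (e3_113) (Nat.ble 113 b)) (Bool.rec (motive := fun _ => ℕ) (e3_114) (e3_115) (Nat.ble 115 b)) (Nat.ble 114 b)) (Bool.rec (motive := fun _ => ℕ) (Bool.rec (motive := fun _ => ℕ) (e3_116) (e3_117) (Nat.ble 117 b)) (Bool.rec (motive := fun _ => ℕ) (e3_118) (0) (Nat.ble 119 b)) (Nat.ble 118 b)) (Nat.ble 116 b)) (0) (Nat.ble 120 b)) (Nat.ble 112 b)) (Nat.ble 96 b)) (Nat.ble 64 b))
noncomputable def jcol3 (b : ℕ) : ℕ := (Bool.rec (motive := fun _ => ℕ) (Bool.rec (motive := fun _ => ℕ) (Bool.rec (motive := fun _ => ℕ) (Bool.rec (motive := fun _ => ℕ) (Bool.rec (motive := fun _ => ℕ) (Bool.rec (motive := fun _ => ℕ) (Bool.rec (motive := fun _ => ℕ) (j3_0) (j3_1) (Nat.ble 1 b)) (Bool.rec (motive := fun _ => ℕ) (j3_2) (j3_3) (Nat.ble 3 b)) (Nat.ble 2 b)) (Bool.rec (motive := fun _ => ℕ) (Bool.rec (motive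 := fun _ => ℕ) (j3_4) (j3_5) (Nat.ble 5 b)) (Bool.rec (motive := fun _ => ℕ) (j3_6) (j3_7) (Nat.ble 7 b)) (Nat.ble 6 b)) (Nat.ble 4 b)) (Bool.rec (motive := fun _ => ℕ) (Bool.rec (motive := fun _ => ℕ) (Bool.rec (motive := fun _ => ℕ) (j3_8) (j3_9) (Nat.ble 9 b)) (Bool.rec (motive := fun _ => ℕ) (j3_10) (j3_11) (Nat.ble 11 b)) (Nat.ble 10 b)) (Bool.rec (motive := fun _ => ℕ) (Bool.rec (motive := fun _ => ℕ) (j3_12) (j3_13) (Nat.ble 13 b)) (Bool.rec (motive := fun _ => ℕ) (j3_14) (j3_15) (Nat.ble 15 b)) (Nat.ble 14 b)) (Nat.ble 12 b)) (Nat.ble 8 b)) (Bool.rec (motive := fun _ => ℕ) (Bool.rec (motive := fun _ => ℕ) (Bool.rec (motive := fun _ => ℕ) (Bool.rec (motive := fun _ => ℕ) (j3_16) (j3_17) (Nat.ble 17 b)) (Bool.rec (motive := fun _ => ℕ) (j3_18) (j3_19) (Nat.ble 19 b)) (Nat.ble 18 b)) (Bool.rec (motive := fun _ => ℕ) (Bool.rec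 (motive := fun _ => ℕ) (j3_20) (j3_21) (Nat.ble 21 b)) (Bool.rec (motive := fun _ => ℕ) (j3_22) (j3_23) (Nat.ble 23 b)) (Nat.ble 22 b)) (Nat.ble 20 b)) (Bool.rec (motive := fun _ => ℕ) (Bool.rec (motive := fun _ => ℕ) (Bool.rec (motive := fun _ => ℕ) (j3_24) (j3_25) (Nat.ble 25 b)) (Bool.rec (motive := fun _ => ℕ) (j3_26) (j3_27) (Nat.ble 27 b)) (Nat.ble 26 b)) (Bool.rec (motive := fun _ => ℕ) (Bool.rec (motive := fun _ => ℕ) (j3_28) (j3_29) (Nat.ble 29 b)) (Bool.rec (motive := fun _ => ℕ) (j3_30) (j3_31) (Nat.ble 31 b)) (Nat.ble 30 b)) (Nat.ble 28 b)) (Nat.ble 24 b)) (Nat.ble 16 b)) (Bool.rec (motive := fun _ => ℕ) (Bool.rec (motive := fun _ => ℕ) (Bool.rec (motive := fun _ => ℕ) (Bool.rec (motive := fun _ => ℕ) (Bool.rec (motive := fun _ => ℕ) (j3_32) (j3_33) (Nat.ble 33 b)) (Bool.rec (motive := fun _ => ℕ) (j3_34) (j3_35)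 (Nat.ble 35 b)) (Nat.ble 34 b)) (Bool.rec (motive := fun _ => ℕ) (Bool.rec (motive := fun _ => ℕ) (j3_36) (j3_37) (Nat.ble 37 b)) (Bool.rec (motive := fun _ => ℕ) (j3_38) (j3_39) (Nat.ble 39 b)) (Nat.ble 38 b)) (Nat.ble 36 b)) (Bool.rec (motive := fun _ => ℕ) (Bool.rec (motive := fun _ => ℕ) (Bool.rec (motive := fun _ => ℕ) (j3_40) (j3_41) (Nat.ble 41 b)) (Bool.rec (motive := fun _ => ℕ) (j3_42) (j3_43) (Nat.ble 43 b)) (Nat.ble 42 b)) (Bool.rec (motive := fun _ => ℕ) (Bool.rec (motive := fun _ => ℕ) (j3_44) (j3_45) (Nat.ble 45 b)) (Bool.rec (motive := fun _ => ℕ) (j3_46) (j3_47) (Nat.ble 47 b)) (Nat.ble 46 b)) (Nat.ble 44 b)) (Nat.ble 40 b)) (Bool.rec (motive := fun _ => ℕ) (Bool.rec (motive := fun _ => ℕ) (Bool.rec (motive := fun _ => ℕ) (Bool.rec (motive := fun _ => ℕ) (j3_48) (j3_49) (Nat.ble 49 b)) (Bool.rec (motive :=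 fun _ => ℕ) (j3_50) (j3_51) (Nat.ble 51 b)) (Nat.ble 50 b)) (Bool.rec (motive := fun _ => ℕ) (Bool.rec (motive := fun _ => ℕ) (j3_52) (j3_53) (Nat.ble 53 b)) (Bool.rec (motive := fun _ => ℕ) (j3_54) (j3_55) (Nat.ble 55 b)) (Nat.ble 54 b)) (Nat.ble 52 b)) (Bool.rec (motive := fun _ => ℕ) (Bool.rec (motive := fun _ => ℕ) (Bool.rec (motive := fun _ => ℕ) (j3_56) (j3_57) (Nat.ble 57 b)) (Bool.rec (motive := fun _ => ℕ) (j3_58) (j3_59) (Nat.ble 59 b)) (Nat.ble 58 b)) (Bool.rec (motive := fun _ => ℕ) (Bool.rec (motive := fun _ => ℕ) (j3_60) (j3_61) (Nat.ble 61 b)) (Bool.rec (motive := fun _ => ℕ) (j3_62) (j3_63) (Nat.ble 63 b)) (Nat.ble 62 b)) (Nat.ble 60 b)) (Nat.ble 56 b)) (Nat.ble 48 b)) (Nat.ble 32 b)) (Bool.rec (motive := fun _ => ℕ) (Bool.rec (motive := fun _ => ℕ) (Bool.rec (motive := fun _ => ℕ) (Bool.rec (motive := fun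 _ => ℕ) (Bool.rec (motive := fun _ => ℕ) (Bool.rec (motive := fun _ => ℕ) (j3_64) (j3_65) (Nat.ble 65 b)) (Bool.rec (motive := fun _ => ℕ) (j3_66) (j3_67) (Nat.ble 67 b)) (Nat.ble 66 b)) (Bool.rec (motive := fun _ => ℕ) (Bool.rec (motive := fun _ => ℕ) (j3_68) (j3_69) (Nat.ble 69 b)) (Bool.rec (motive := fun _ => ℕ) (j3_70) (j3_71) (Nat.ble 71 b)) (Nat.ble 70 b)) (Nat.ble 68 b)) (Bool.rec (motive := fun _ => ℕ) (Bool.rec (motive := fun _ => ℕ) (Bool.rec (motive := fun _ => ℕ) (j3_72) (j3_73) (Nat.ble 73 b)) (Bool.rec (motive := fun _ => ℕ) (j3_74) (j3_75) (Nat.ble 75 b)) (Nat.ble 74 b)) (Bool.rec (motive := fun _ => ℕ) (Bool.rec (motive := fun _ => ℕ) (j3_76) (j3_77) (Nat.ble 77 b)) (Bool.rec (motive := fun _ => ℕ) (j3_78) (j3_79) (Nat.ble 79 b)) (Nat.ble 78 b)) (Nat.ble 76 b)) (Nat.ble 72 b)) (Bool.rec (motive := fun _ =>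 ℕ) (Bool.rec (motive := fun _ => ℕ) (Bool.rec (motive := fun _ => ℕ) (Bool.rec (motive := fun _ => ℕ) (j3_80) (j3_81) (Nat.ble 81 b)) (Bool.rec (motive := fun _ => ℕ) (j3_82) (j3_83) (Nat.ble 83 b)) (Nat.ble 82 b)) (Bool.rec (motive := fun _ => ℕ) (Bool.rec (motive := fun _ => ℕ) (j3_84) (j3_85) (Nat.ble 85 b)) (Bool.rec (motive := fun _ => ℕ) (j3_86) (j3_87) (Nat.ble 87 b)) (Nat.ble 86 b)) (Nat.ble 84 b)) (Bool.rec (motive := fun _ => ℕ) (Bool.rec (motive := fun _ => ℕ) (Bool.rec (motive := fun _ => ℕ) (j3_88) (j3_89) (Nat.ble 89 b)) (Bool.rec (motive := fun _ => ℕ) (j3_90) (j3_91) (Nat.ble 91 b)) (Nat.ble 90 b)) (Bool.rec (motive := fun _ => ℕ) (Bool.rec (motive := fun _ => ℕ) (j3_92) (j3_93) (Nat.ble 93 b)) (Bool.rec (motive := fun _ => ℕ) (j3_94) (j3_95) (Nat.ble 95 b)) (Nat.ble 94 b)) (Nat.ble 92 b)) (Nat.ble 88 b)) (Nat.ble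 80 b)) (Bool.rec (motive := fun _ => ℕ) (Bool.rec (motive := fun _ => ℕ) (Bool.rec (motive := fun _ => ℕ) (Bool.rec (motive := fun _ => ℕ) (Bool.rec (motive := fun _ => ℕ) (j3_96) (j3_97) (Nat.ble 97 b)) (Bool.rec (motive := fun _ => ℕ) (j3_98) (j3_99) (Nat.ble 99 b)) (Nat.ble 98 b)) (Bool.rec (motive := fun _ => ℕ) (Bool.rec (motive := fun _ => ℕ) (j3_100) (j3_101) (Nat.ble 101 b)) (Bool.rec (motive := fun _ => ℕ) (j3_102) (j3_103) (Nat.ble 103 b)) (Nat.ble 102 b)) (Nat.ble 100 b)) (Bool.rec (motive := fun _ => ℕ) (Bool.rec (motive := fun _ => ℕ) (Bool.rec (motive := fun _ => ℕ) (j3_104) (j3_105) (Nat.ble 105 b)) (Bool.rec (motive := fun _ => ℕ) (j3_106) (j3_107) (Nat.ble 107 b)) (Nat.ble 106 b)) (Bool.rec (motive := fun _ => ℕ) (Bool.rec (motive := fun _ => ℕ) (j3_108) (j3_109) (Nat.ble 109 b)) (Bool.rec (motive := fun _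 => ℕ) (j3_110) (j3_111) (Nat.ble 111 b)) (Nat.ble 110 b)) (Nat.ble 108 b)) (Nat.ble 104 b)) (Bool.rec (motive := fun _ => ℕ) (Bool.rec (motive := fun _ => ℕ) (Bool.rec (motive := fun _ => ℕ) (Bool.rec (motive := fun _ => ℕ) (j3_112) (j3_113) (Nat.ble 113 b)) (Bool.rec (motive := fun _ => ℕ) (j3_114) (j3_115) (Nat.ble 115 b)) (Nat.ble 114 b)) (Bool.rec (motive := fun _ => ℕ) (Bool.rec (motive := fun _ => ℕ) (j3_116) (j3_117) (Nat.ble 117 b)) (Bool.rec (motive := fun _ => ℕ) (j3_118) (0) (Nat.ble 119 b)) (Nat.ble 118 b)) (Nat.ble 116 b)) (0) (Nat.ble 120 b)) (Nat.ble 112 b)) (Nat.ble 96 b)) (Nat.ble 64 b))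
noncomputable def ecol4 (b : ℕ) : ℕ := (Bool.rec (motive := fun _ => ℕ) (Bool.rec (motive := fun _ => ℕ) (Bool.rec (motive := fun _ => ℕ) (Bool.rec (motive := fun _ => ℕ) (Bool.rec (motive := fun _ => ℕ) (Bool.rec (motive := fun _ => ℕ) (Bool.rec (motive := fun _ => ℕ) (e4_0) (e4_1) (Nat.ble 1 b)) (Bool.rec (motive := fun _ => ℕ) (e4_2) (e4_3) (Nat.ble 3 b)) (Nat.ble 2 b)) (Bool.rec (motive := fun _ => ℕ) (Bool.rec (motive := fun _ => ℕ) (e4_4) (e4_5) (Nat.ble 5 b)) (Bool.rec (motive := fun _ => ℕ) (e4_6) (e4_7) (Nat.ble 7 b)) (Nat.ble 6 b)) (Nat.ble 4 b)) (Bool.rec (motive := fun _ => ℕ) (Bool.rec (motive := fun _ => ℕ) (Bool.rec (motive := fun _ => ℕ) (e4_8) (e4_9) (Nat.ble 9 b)) (Bool.rec (motive := fun _ => ℕ) (e4_10) (e4_11) (Nat.ble 11 b)) (Nat.ble 10 b)) (Bool.rec (motive := fun _ => ℕ) (Bool.rec (motive := fun _ =>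 ℕ) (e4_12) (e4_13) (Nat.ble 13 b)) (Bool.rec (motive := fun _ => ℕ) (e4_14) (e4_15) (Nat.ble 15 b)) (Nat.ble 14 b)) (Nat.ble 12 b)) (Nat.ble 8 b)) (Bool.rec (motive := fun _ => ℕ) (Bool.rec (motive := fun _ => ℕ) (Bool.rec (motive := fun _ => ℕ) (Bool.rec (motive := fun _ => ℕ) (e4_16) (e4_17) (Nat.ble 17 b)) (Bool.rec (motive := fun _ => ℕ) (e4_18) (e4_19) (Nat.ble 19 b)) (Nat.ble 18 b)) (Bool.rec (motive := fun _ => ℕ) (Bool.rec (motive := fun _ => ℕ) (e4_20) (e4_21) (Nat.ble 21 b)) (Bool.rec (motive := fun _ => ℕ) (e4_22) (e4_23) (Nat.ble 23 b)) (Nat.ble 22 b)) (Nat.ble 20 b)) (Bool.rec (motive := fun _ => ℕ) (Bool.rec (motive := fun _ => ℕ) (Bool.rec (motive := fun _ => ℕ) (e4_24) (e4_25) (Nat.ble 25 b)) (Bool.rec (motive := fun _ => ℕ) (e4_26) (e4_27) (Nat.ble 27 b)) (Nat.ble 26 b)) (Bool.rec (motive := fun _ => ℕ) (Bool.rec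 (motive := fun _ => ℕ) (e4_28) (e4_29) (Nat.ble 29 b)) (Bool.rec (motive := fun _ => ℕ) (e4_30) (e4_31) (Nat.ble 31 b)) (Nat.ble 30 b)) (Nat.ble 28 b)) (Nat.ble 24 b)) (Nat.ble 16 b)) (Bool.rec (motive := fun _ => ℕ) (Bool.rec (motive := fun _ => ℕ) (Bool.rec (motive := fun _ => ℕ) (Bool.rec (motive := fun _ => ℕ) (Bool.rec (motive := fun _ => ℕ) (e4_32) (e4_33) (Nat.ble 33 b)) (Bool.rec (motive := fun _ => ℕ) (e4_34) (e4_35) (Nat.ble 35 b)) (Nat.ble 34 b)) (Bool.rec (motive := fun _ => ℕ) (Bool.rec (motive := fun _ => ℕ) (e4_36) (e4_37) (Nat.ble 37 b)) (Bool.rec (motive := fun _ => ℕ) (e4_38) (e4_39) (Nat.ble 39 b)) (Nat.ble 38 b)) (Nat.ble 36 b)) (Bool.rec (motive := fun _ => ℕ) (Bool.rec (motive := fun _ => ℕ) (Bool.rec (motive := fun _ => ℕ) (e4_40) (e4_41) (Nat.ble 41 b)) (Bool.rec (motive := fun _ => ℕ) (e4_42) (e4_43)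 (Nat.ble 43 b)) (Nat.ble 42 b)) (Bool.rec (motive := fun _ => ℕ) (Bool.rec (motive := fun _ => ℕ) (e4_44) (e4_45) (Nat.ble 45 b)) (Bool.rec (motive := fun _ => ℕ) (e4_46) (e4_47) (Nat.ble 47 b)) (Nat.ble 46 b)) (Nat.ble 44 b)) (Nat.ble 40 b)) (Bool.rec (motive := fun _ => ℕ) (Bool.rec (motive := fun _ => ℕ) (Bool.rec (motive := fun _ => ℕ) (Bool.rec (motive := fun _ => ℕ) (e4_48) (e4_49) (Nat.ble 49 b)) (Bool.rec (motive := fun _ => ℕ) (e4_50) (e4_51) (Nat.ble 51 b)) (Nat.ble 50 b)) (Bool.rec (motive := fun _ => ℕ) (Bool.rec (motive := fun _ => ℕ) (e4_52) (e4_53) (Nat.ble 53 b)) (Bool.rec (motive := fun _ => ℕ) (e4_54) (e4_55) (Nat.ble 55 b)) (Nat.ble 54 b)) (Nat.ble 52 b)) (Bool.rec (motive := fun _ => ℕ) (Bool.rec (motive := fun _ => ℕ) (Bool.rec (motive := fun _ => ℕ) (e4_56) (e4_57) (Nat.ble 57 b)) (Bool.rec (motive :=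 fun _ => ℕ) (e4_58) (e4_59) (Nat.ble 59 b)) (Nat.ble 58 b)) (Bool.rec (motive := fun _ => ℕ) (Bool.rec (motive := fun _ => ℕ) (e4_60) (e4_61) (Nat.ble 61 b)) (Bool.rec (motive := fun _ => ℕ) (e4_62) (e4_63) (Nat.ble 63 b)) (Nat.ble 62 b)) (Nat.ble 60 b)) (Nat.ble 56 b)) (Nat.ble 48 b)) (Nat.ble 32 b)) (Bool.rec (motive := fun _ => ℕ) (Bool.rec (motive := fun _ => ℕ) (Bool.rec (motive := fun _ => ℕ) (Bool.rec (motive := fun _ => ℕ) (Bool.rec (motive := fun _ => ℕ) (Bool.rec (motive := fun _ => ℕ) (e4_64) (e4_65) (Nat.ble 65 b)) (Bool.rec (motive := fun _ => ℕ) (e4_66) (e4_67) (Nat.ble 67 b)) (Nat.ble 66 b)) (Bool.rec (motive := fun _ => ℕ) (Bool.rec (motive := fun _ => ℕ) (e4_68) (e4_69) (Nat.ble 69 b)) (Bool.rec (motive := fun _ => ℕ) (e4_70) (e4_71) (Nat.ble 71 b)) (Nat.ble 70 b)) (Nat.ble 68 b)) (Bool.rec (motive := fun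 _ => ℕ) (Bool.rec (motive := fun _ => ℕ) (Bool.rec (motive := fun _ => ℕ) (e4_72) (e4_73) (Nat.ble 73 b)) (Bool.rec (motive := fun _ => ℕ) (e4_74) (e4_75) (Nat.ble 75 b)) (Nat.ble 74 b)) (Bool.rec (motive := fun _ => ℕ) (Bool.rec (motive := fun _ => ℕ) (e4_76) (e4_77) (Nat.ble 77 b)) (Bool.rec (motive := fun _ => ℕ) (e4_78) (e4_79) (Nat.ble 79 b)) (Nat.ble 78 b)) (Nat.ble 76 b)) (Nat.ble 72 b)) (Bool.rec (motive := fun _ => ℕ) (Bool.rec (motive := fun _ => ℕ) (Bool.rec (motive := fun _ => ℕ) (Bool.rec (motive := fun _ => ℕ) (e4_80) (e4_81) (Nat.ble 81 b)) (Bool.rec (motive := fun _ => ℕ) (e4_82) (e4_83) (Nat.ble 83 b)) (Nat.ble 82 b)) (Bool.rec (motive := fun _ => ℕ) (Bool.rec (motive := fun _ => ℕ) (e4_84) (e4_85) (Nat.ble 85 b)) (Bool.rec (motive := fun _ => ℕ) (e4_86) (e4_87) (Nat.ble 87 b)) (Nat.ble 86 b)) (Nat.ble 84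 b)) (Bool.rec (motive := fun _ => ℕ) (Bool.rec (motive := fun _ => ℕ) (Bool.rec (motive := fun _ => ℕ) (e4_88) (e4_89) (Nat.ble 89 b)) (Bool.rec (motive := fun _ => ℕ) (e4_90) (e4_91) (Nat.ble 91 b)) (Nat.ble 90 b)) (Bool.rec (motive := fun _ => ℕ) (Bool.rec (motive := fun _ => ℕ) (e4_92) (e4_93) (Nat.ble 93 b)) (Bool.rec (motive := fun _ => ℕ) (e4_94) (e4_95) (Nat.ble 95 b)) (Nat.ble 94 b)) (Nat.ble 92 b)) (Nat.ble 88 b)) (Nat.ble 80 b)) (Bool.rec (motive := fun _ => ℕ) (Bool.rec (motive := fun _ => ℕ) (Bool.rec (motive := fun _ => ℕ) (Bool.rec (motive := fun _ => ℕ) (Bool.rec (motive := fun _ => ℕ) (e4_96) (e4_97) (Nat.ble 97 b)) (Bool.rec (motive := fun _ => ℕ) (e4_98) (e4_99) (Nat.ble 99 b)) (Nat.ble 98 b)) (Bool.rec (motive := fun _ => ℕ) (Bool.rec (motive := fun _ => ℕ) (e4_100) (e4_101) (Nat.ble 101 b)) (Bool.rec (motive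 := fun _ => ℕ) (e4_102) (e4_103) (Nat.ble 103 b)) (Nat.ble 102 b)) (Nat.ble 100 b)) (Bool.rec (motive := fun _ => ℕ) (Bool.rec (motive := fun _ => ℕ) (Bool.rec (motive := fun _ => ℕ) (e4_104) (e4_105) (Nat.ble 105 b)) (Bool.rec (motive := fun _ => ℕ) (e4_106) (e4_107) (Nat.ble 107 b)) (Nat.ble 106 b)) (Bool.rec (motive := fun _ => ℕ) (Bool.rec (motive := fun _ => ℕ) (e4_108) (e4_109) (Nat.ble 109 b)) (Bool.rec (motive := fun _ => ℕ) (e4_110) (e4_111) (Nat.ble 111 b)) (Nat.ble 110 b)) (Nat.ble 108 b)) (Nat.ble 104 b)) (Bool.rec (motive := fun _ => ℕ) (Bool.rec (motive := fun _ => ℕ) (Bool.rec (motive := fun _ => ℕ) (Bool.rec (motive := fun _ => ℕ) (e4_112) (e4_113) (Nat.ble 113 b)) (Bool.rec (motive := fun _ => ℕ) (e4_114) (e4_115) (Nat.ble 115 b)) (Nat.ble 114 b)) (Bool.rec (motive := fun _ => ℕ) (Bool.rec (motive := fun _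 => ℕ) (e4_116) (e4_117) (Nat.ble 117 b)) (Bool.rec (motive := fun _ => ℕ) (e4_118) (0) (Nat.ble 119 b)) (Nat.ble 118 b)) (Nat.ble 116 b)) (0) (Nat.ble 120 b)) (Nat.ble 112 b)) (Nat.ble 96 b)) (Nat.ble 64 b))
noncomputable def jcol4 (b : ℕ) : ℕ := (Bool.rec (motive := fun _ => ℕ) (Bool.rec (motive := fun _ => ℕ) (Bool.rec (motive := fun _ => ℕ) (Bool.rec (motive := fun _ => ℕ) (Bool.rec (motive := fun _ => ℕ) (Bool.rec (motive := fun _ => ℕ) (Bool.rec (motive := fun _ => ℕ) (j4_0) (j4_1) (Nat.ble 1 b)) (Bool.rec (motive := fun _ => ℕ) (j4_2) (j4_3) (Nat.ble 3 b)) (Nat.ble 2 b)) (Bool.rec (motive := fun _ => ℕ) (Bool.rec (motive := fun _ => ℕ) (j4_4) (j4_5) (Nat.ble 5 b)) (Bool.rec (motive := fun _ => ℕ) (j4_6) (j4_7) (Nat.ble 7 b)) (Nat.ble 6 b)) (Nat.ble 4 b)) (Bool.rec (motive := fun _ => ℕ) (Bool.rec (motive := fun _ =>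 ℕ) (Bool.rec (motive := fun _ => ℕ) (j4_8) (j4_9) (Nat.ble 9 b)) (Bool.rec (motive := fun _ => ℕ) (j4_10) (j4_11) (Nat.ble 11 b)) (Nat.ble 10 b)) (Bool.rec (motive := fun _ => ℕ) (Bool.rec (motive := fun _ => ℕ) (j4_12) (j4_13) (Nat.ble 13 b)) (Bool.rec (motive := fun _ => ℕ) (j4_14) (j4_15) (Nat.ble 15 b)) (Nat.ble 14 b)) (Nat.ble 12 b)) (Nat.ble 8 b)) (Bool.rec (motive := fun _ => ℕ) (Bool.rec (motive := fun _ => ℕ) (Bool.rec (motive := fun _ => ℕ) (Bool.rec (motive := fun _ => ℕ) (j4_16) (j4_17) (Nat.ble 17 b)) (Bool.rec (motive := fun _ => ℕ) (j4_18) (j4_19) (Nat.ble 19 b)) (Nat.ble 18 b)) (Bool.rec (motive := fun _ => ℕ) (Bool.rec (motive := fun _ => ℕ) (j4_20) (j4_21) (Nat.ble 21 b)) (Bool.rec (motive := fun _ => ℕ) (j4_22) (j4_23) (Nat.ble 23 b)) (Nat.ble 22 b)) (Nat.ble 20 b)) (Bool.rec (motive := fun _ => ℕ) (Bool.rec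 (motive := fun _ => ℕ) (Bool.rec (motive := fun _ => ℕ) (j4_24) (j4_25) (Nat.ble 25 b)) (Bool.rec (motive := fun _ => ℕ) (j4_26) (j4_27) (Nat.ble 27 b)) (Nat.ble 26 b)) (Bool.rec (motive := fun _ => ℕ) (Bool.rec (motive := fun _ => ℕ) (j4_28) (j4_29) (Nat.ble 29 b)) (Bool.rec (motive := fun _ => ℕ) (j4_30) (j4_31) (Nat.ble 31 b)) (Nat.ble 30 b)) (Nat.ble 28 b)) (Nat.ble 24 b)) (Nat.ble 16 b)) (Bool.rec (motive := fun _ => ℕ) (Bool.rec (motive := fun _ => ℕ) (Bool.rec (motive := fun _ => ℕ) (Bool.rec (motive := fun _ => ℕ) (Bool.rec (motive := fun _ => ℕ) (j4_32) (j4_33) (Nat.ble 33 b)) (Bool.rec (motive := fun _ => ℕ) (j4_34) (j4_35) (Nat.ble 35 b)) (Nat.ble 34 b)) (Bool.rec (motive := fun _ => ℕ) (Bool.rec (motive := fun _ => ℕ) (j4_36) (j4_37) (Nat.ble 37 b)) (Bool.rec (motive := fun _ => ℕ) (j4_38) (j4_39) (Nat.ble 39 b))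 (Nat.ble 38 b)) (Nat.ble 36 b)) (Bool.rec (motive := fun _ => ℕ) (Bool.rec (motive := fun _ => ℕ) (Bool.rec (motive := fun _ => ℕ) (j4_40) (j4_41) (Nat.ble 41 b)) (Bool.rec (motive := fun _ => ℕ) (j4_42) (j4_43) (Nat.ble 43 b)) (Nat.ble 42 b)) (Bool.rec (motive := fun _ => ℕ) (Bool.rec (motive := fun _ => ℕ) (j4_44) (j4_45) (Nat.ble 45 b)) (Bool.rec (motive := fun _ => ℕ) (j4_46) (j4_47) (Nat.ble 47 b)) (Nat.ble 46 b)) (Nat.ble 44 b)) (Nat.ble 40 b)) (Bool.rec (motive := fun _ => ℕ) (Bool.rec (motive := fun _ => ℕ) (Bool.rec (motive := fun _ => ℕ) (Bool.rec (motive := fun _ => ℕ) (j4_48) (j4_49) (Nat.ble 49 b)) (Bool.rec (motive := fun _ => ℕ) (j4_50) (j4_51) (Nat.ble 51 b)) (Nat.ble 50 b)) (Bool.rec (motive := fun _ => ℕ) (Bool.rec (motive := fun _ => ℕ) (j4_52) (j4_53) (Nat.ble 53 b)) (Bool.rec (motive := fun _ => ℕ) (j4_54)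 (j4_55) (Nat.ble 55 b)) (Nat.ble 54 b)) (Nat.ble 52 b)) (Bool.rec (motive := fun _ => ℕ) (Bool.rec (motive := fun _ => ℕ) (Bool.rec (motive := fun _ => ℕ) (j4_56) (j4_57) (Nat.ble 57 b)) (Bool.rec (motive := fun _ => ℕ) (j4_58) (j4_59) (Nat.ble 59 b)) (Nat.ble 58 b)) (Bool.rec (motive := fun _ => ℕ) (Bool.rec (motive := fun _ => ℕ) (j4_60) (j4_61) (Nat.ble 61 b)) (Bool.rec (motive := fun _ => ℕ) (j4_62) (j4_63) (Nat.ble 63 b)) (Nat.ble 62 b)) (Nat.ble 60 b)) (Nat.ble 56 b)) (Nat.ble 48 b)) (Nat.ble 32 b)) (Bool.rec (motive := fun _ => ℕ) (Bool.rec (motive := fun _ => ℕ) (Bool.rec (motive := fun _ => ℕ) (Bool.rec (motive := fun _ => ℕ) (Bool.rec (motive := fun _ => ℕ) (Bool.rec (motive := fun _ => ℕ) (j4_64) (j4_65) (Nat.ble 65 b)) (Bool.rec (motive := fun _ => ℕ) (j4_66) (j4_67) (Nat.ble 67 b)) (Nat.ble 66 b)) (Bool.rec (motive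 := fun _ => ℕ) (Bool.rec (motive := fun _ => ℕ) (j4_68) (j4_69) (Nat.ble 69 b)) (Bool.rec (motive := fun _ => ℕ) (j4_70) (j4_71) (Nat.ble 71 b)) (Nat.ble 70 b)) (Nat.ble 68 b)) (Bool.rec (motive := fun _ => ℕ) (Bool.rec (motive := fun _ => ℕ) (Bool.rec (motive := fun _ => ℕ) (j4_72) (j4_73) (Nat.ble 73 b)) (Bool.rec (motive := fun _ => ℕ) (j4_74) (j4_75) (Nat.ble 75 b)) (Nat.ble 74 b)) (Bool.rec (motive := fun _ => ℕ) (Bool.rec (motive := fun _ => ℕ) (j4_76) (j4_77) (Nat.ble 77 b)) (Bool.rec (motive := fun _ => ℕ) (j4_78) (j4_79) (Nat.ble 79 b)) (Nat.ble 78 b)) (Nat.ble 76 b)) (Nat.ble 72 b)) (Bool.rec (motive := fun _ => ℕ) (Bool.rec (motive := fun _ => ℕ) (Bool.rec (motive := fun _ => ℕ) (Bool.rec (motive := fun _ => ℕ) (j4_80) (j4_81) (Nat.ble 81 b)) (Bool.rec (motive := fun _ => ℕ) (j4_82) (j4_83) (Nat.ble 83 b)) (Nat.ble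 82 b)) (Bool.rec (motive := fun _ => ℕ) (Bool.rec (motive := fun _ => ℕ) (j4_84) (j4_85) (Nat.ble 85 b)) (Bool.rec (motive := fun _ => ℕ) (j4_86) (j4_87) (Nat.ble 87 b)) (Nat.ble 86 b)) (Nat.ble 84 b)) (Bool.rec (motive := fun _ => ℕ) (Bool.rec (motive := fun _ => ℕ) (Bool.rec (motive := fun _ => ℕ) (j4_88) (j4_89) (Nat.ble 89 b)) (Bool.rec (motive := fun _ => ℕ) (j4_90) (j4_91) (Nat.ble 91 b)) (Nat.ble 90 b)) (Bool.rec (motive := fun _ => ℕ) (Bool.rec (motive := fun _ => ℕ) (j4_92) (j4_93) (Nat.ble 93 b)) (Bool.rec (motive := fun _ => ℕ) (j4_94) (j4_95) (Nat.ble 95 b)) (Nat.ble 94 b)) (Nat.ble 92 b)) (Nat.ble 88 b)) (Nat.ble 80 b)) (Bool.rec (motive := fun _ => ℕ) (Bool.rec (motive := fun _ => ℕ) (Bool.rec (motive := fun _ => ℕ) (Bool.rec (motive := fun _ => ℕ) (Bool.rec (motive := fun _ => ℕ) (j4_96) (j4_97) (Nat.ble 97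 b)) (Bool.rec (motive := fun _ => ℕ) (j4_98) (j4_99) (Nat.ble 99 b)) (Nat.ble 98 b)) (Bool.rec (motive := fun _ => ℕ) (Bool.rec (motive := fun _ => ℕ) (j4_100) (j4_101) (Nat.ble 101 b)) (Bool.rec (motive := fun _ => ℕ) (j4_102) (j4_103) (Nat.ble 103 b)) (Nat.ble 102 b)) (Nat.ble 100 b)) (Bool.rec (motive := fun _ => ℕ) (Bool.rec (motive := fun _ => ℕ) (Bool.rec (motive := fun _ => ℕ) (j4_104) (j4_105) (Nat.ble 105 b)) (Bool.rec (motive := fun _ => ℕ) (j4_106) (j4_107) (Nat.ble 107 b)) (Nat.ble 106 b)) (Bool.rec (motive := fun _ => ℕ) (Bool.rec (motive := fun _ => ℕ) (j4_108) (j4_109) (Nat.ble 109 b)) (Bool.rec (motive := fun _ => ℕ) (j4_110) (j4_111) (Nat.ble 111 b)) (Nat.ble 110 b)) (Nat.ble 108 b)) (Nat.ble 104 b)) (Bool.rec (motive := fun _ => ℕ) (Bool.rec (motive := fun _ => ℕ) (Bool.rec (motive := fun _ => ℕ) (Bool.rec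 (motive := fun _ => ℕ) (j4_112) (j4_113) (Nat.ble 113 b)) (Bool.rec (motive := fun _ => ℕ) (j4_114) (j4_115) (Nat.ble 115 b)) (Nat.ble 114 b)) (Bool.rec (motive := fun _ => ℕ) (Bool.rec (motive := fun _ => ℕ) (j4_116) (j4_117) (Nat.ble 117 b)) (Bool.rec (motive := fun _ => ℕ) (j4_118) (0) (Nat.ble 119 b)) (Nat.ble 118 b)) (Nat.ble 116 b)) (0) (Nat.ble 120 b)) (Nat.ble 112 b)) (Nat.ble 96 b)) (Nat.ble 64 b))
noncomputable def ecol5 (b : ℕ) : ℕ := (Bool.rec (motive := fun _ => ℕ) (Bool.rec (motive := fun _ => ℕ) (Bool.rec (motive := fun _ => ℕ) (Bool.rec (motive := fun _ => ℕ) (Bool.rec (motive := fun _ => ℕ) (Bool.rec (motive := fun _ => ℕ) (Bool.rec (motive := fun _ => ℕ) (e5_0) (e5_1) (Nat.ble 1 b)) (Bool.rec (motive := fun _ => ℕ) (e5_2) (e5_3) (Nat.ble 3 b)) (Nat.ble 2 b)) (Bool.rec (motive := fun _ => ℕ) (Bool.rec (motive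 := fun _ => ℕ) (e5_4) (e5_5) (Nat.ble 5 b)) (Bool.rec (motive := fun _ => ℕ) (e5_6) (e5_7) (Nat.ble 7 b)) (Nat.ble 6 b)) (Nat.ble 4 b)) (Bool.rec (motive := fun _ => ℕ) (Bool.rec (motive := fun _ => ℕ) (Bool.rec (motive := fun _ => ℕ) (e5_8) (e5_9) (Nat.ble 9 b)) (Bool.rec (motive := fun _ => ℕ) (e5_10) (e5_11) (Nat.ble 11 b)) (Nat.ble 10 b)) (Bool.rec (motive := fun _ => ℕ) (Bool.rec (motive := fun _ => ℕ) (e5_12) (e5_13) (Nat.ble 13 b)) (Bool.rec (motive := fun _ => ℕ) (e5_14) (e5_15) (Nat.ble 15 b)) (Nat.ble 14 b)) (Nat.ble 12 b)) (Nat.ble 8 b)) (Bool.rec (motive := fun _ => ℕ) (Bool.rec (motive := fun _ => ℕ) (Bool.rec (motive := fun _ => ℕ) (Bool.rec (motive := fun _ => ℕ) (e5_16) (e5_17) (Nat.ble 17 b)) (Bool.rec (motive := fun _ => ℕ) (e5_18) (e5_19) (Nat.ble 19 b)) (Nat.ble 18 b)) (Bool.rec (motive := fun _ => ℕ) (Bool.rec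 (motive := fun _ => ℕ) (e5_20) (e5_21) (Nat.ble 21 b)) (Bool.rec (motive := fun _ => ℕ) (e5_22) (e5_23) (Nat.ble 23 b)) (Nat.ble 22 b)) (Nat.ble 20 b)) (Bool.rec (motive := fun _ => ℕ) (Bool.rec (motive := fun _ => ℕ) (Bool.rec (motive := fun _ => ℕ) (e5_24) (e5_25) (Nat.ble 25 b)) (Bool.rec (motive := fun _ => ℕ) (e5_26) (e5_27) (Nat.ble 27 b)) (Nat.ble 26 b)) (Bool.rec (motive := fun _ => ℕ) (Bool.rec (motive := fun _ => ℕ) (e5_28) (e5_29) (Nat.ble 29 b)) (Bool.rec (motive := fun _ => ℕ) (e5_30) (e5_31) (Nat.ble 31 b)) (Nat.ble 30 b)) (Nat.ble 28 b)) (Nat.ble 24 b)) (Nat.ble 16 b)) (Bool.rec (motive := fun _ => ℕ) (Bool.rec (motive := fun _ => ℕ) (Bool.rec (motive := fun _ => ℕ) (Bool.rec (motive := fun _ => ℕ) (Bool.rec (motive := fun _ => ℕ) (e5_32) (e5_33) (Nat.ble 33 b)) (Bool.rec (motive := fun _ => ℕ) (e5_34) (e5_35)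 (Nat.ble 35 b)) (Nat.ble 34 b)) (Bool.rec (motive := fun _ => ℕ) (Bool.rec (motive := fun _ => ℕ) (e5_36) (e5_37) (Nat.ble 37 b)) (Bool.rec (motive := fun _ => ℕ) (e5_38) (e5_39) (Nat.ble 39 b)) (Nat.ble 38 b)) (Nat.ble 36 b)) (Bool.rec (motive := fun _ => ℕ) (Bool.rec (motive := fun _ => ℕ) (Bool.rec (motive := fun _ => ℕ) (e5_40) (e5_41) (Nat.ble 41 b)) (Bool.rec (motive := fun _ => ℕ) (e5_42) (e5_43) (Nat.ble 43 b)) (Nat.ble 42 b)) (Bool.rec (motive := fun _ => ℕ) (Bool.rec (motive := fun _ => ℕ) (e5_44) (e5_45) (Nat.ble 45 b)) (Bool.rec (motive := fun _ => ℕ) (e5_46) (e5_47) (Nat.ble 47 b)) (Nat.ble 46 b)) (Nat.ble 44 b)) (Nat.ble 40 b)) (Bool.rec (motive := fun _ => ℕ) (Bool.rec (motive := fun _ => ℕ) (Bool.rec (motive := fun _ => ℕ) (Bool.rec (motive := fun _ => ℕ) (e5_48) (e5_49) (Nat.ble 49 b)) (Bool.rec (motive :=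 fun _ => ℕ) (e5_50) (e5_51) (Nat.ble 51 b)) (Nat.ble 50 b)) (Bool.rec (motive := fun _ => ℕ) (Bool.rec (motive := fun _ => ℕ) (e5_52) (e5_53) (Nat.ble 53 b)) (Bool.rec (motive := fun _ => ℕ) (e5_54) (e5_55) (Nat.ble 55 b)) (Nat.ble 54 b)) (Nat.ble 52 b)) (Bool.rec (motive := fun _ => ℕ) (Bool.rec (motive := fun _ => ℕ) (Bool.rec (motive := fun _ => ℕ) (e5_56) (e5_57) (Nat.ble 57 b)) (Bool.rec (motive := fun _ => ℕ) (e5_58) (e5_59) (Nat.ble 59 b)) (Nat.ble 58 b)) (Bool.rec (motive := fun _ => ℕ) (Bool.rec (motive := fun _ => ℕ) (e5_60) (e5_61) (Nat.ble 61 b)) (Bool.rec (motive := fun _ => ℕ) (e5_62) (e5_63) (Nat.ble 63 b)) (Nat.ble 62 b)) (Nat.ble 60 b)) (Nat.ble 56 b)) (Nat.ble 48 b)) (Nat.ble 32 b)) (Bool.rec (motive := fun _ => ℕ) (Bool.rec (motive := fun _ => ℕ) (Bool.rec (motive := fun _ => ℕ) (Bool.rec (motive := fun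 _ => ℕ) (Bool.rec (motive := fun _ => ℕ) (Bool.rec (motive := fun _ => ℕ) (e5_64) (e5_65) (Nat.ble 65 b)) (Bool.rec (motive := fun _ => ℕ) (e5_66) (e5_67) (Nat.ble 67 b)) (Nat.ble 66 b)) (Bool.rec (motive := fun _ => ℕ) (Bool.rec (motive := fun _ => ℕ) (e5_68) (e5_69) (Nat.ble 69 b)) (Bool.rec (motive := fun _ => ℕ) (e5_70) (e5_71) (Nat.ble 71 b)) (Nat.ble 70 b)) (Nat.ble 68 b)) (Bool.rec (motive := fun _ => ℕ) (Bool.rec (motive := fun _ => ℕ) (Bool.rec (motive := fun _ => ℕ) (e5_72) (e5_73) (Nat.ble 73 b)) (Bool.rec (motive := fun _ => ℕ) (e5_74) (e5_75) (Nat.ble 75 b)) (Nat.ble 74 b)) (Bool.rec (motive := fun _ => ℕ) (Bool.rec (motive := fun _ => ℕ) (e5_76) (e5_77) (Nat.ble 77 b)) (Bool.rec (motive := fun _ => ℕ) (e5_78) (e5_79) (Nat.ble 79 b)) (Nat.ble 78 b)) (Nat.ble 76 b)) (Nat.ble 72 b)) (Bool.rec (motive := fun _ =>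 ℕ) (Bool.rec (motive := fun _ => ℕ) (Bool.rec (motive := fun _ => ℕ) (Bool.rec (motive := fun _ => ℕ) (e5_80) (e5_81) (Nat.ble 81 b)) (Bool.rec (motive := fun _ => ℕ) (e5_82) (e5_83) (Nat.ble 83 b)) (Nat.ble 82 b)) (Bool.rec (motive := fun _ => ℕ) (Bool.rec (motive := fun _ => ℕ) (e5_84) (e5_85) (Nat.ble 85 b)) (Bool.rec (motive := fun _ => ℕ) (e5_86) (e5_87) (Nat.ble 87 b)) (Nat.ble 86 b)) (Nat.ble 84 b)) (Bool.rec (motive := fun _ => ℕ) (Bool.rec (motive := fun _ => ℕ) (Bool.rec (motive := fun _ => ℕ) (e5_88) (e5_89) (Nat.ble 89 b)) (Bool.rec (motive := fun _ => ℕ) (e5_90) (e5_91) (Nat.ble 91 b)) (Nat.ble 90 b)) (Bool.rec (motive := fun _ => ℕ) (Bool.rec (motive := fun _ => ℕ) (e5_92) (e5_93) (Nat.ble 93 b)) (Bool.rec (motive := fun _ => ℕ) (e5_94) (e5_95) (Nat.ble 95 b)) (Nat.ble 94 b)) (Nat.ble 92 b)) (Nat.ble 88 b)) (Nat.ble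 80 b)) (Bool.rec (motive := fun _ => ℕ) (Bool.rec (motive := fun _ => ℕ) (Bool.rec (motive := fun _ => ℕ) (Bool.rec (motive := fun _ => ℕ) (Bool.rec (motive := fun _ => ℕ) (e5_96) (e5_97) (Nat.ble 97 b)) (Bool.rec (motive := fun _ => ℕ) (e5_98) (e5_99) (Nat.ble 99 b)) (Nat.ble 98 b)) (Bool.rec (motive := fun _ => ℕ) (Bool.rec (motive := fun _ => ℕ) (e5_100) (e5_101) (Nat.ble 101 b)) (Bool.rec (motive := fun _ => ℕ) (e5_102) (e5_103) (Nat.ble 103 b)) (Nat.ble 102 b)) (Nat.ble 100 b)) (Bool.rec (motive := fun _ => ℕ) (Bool.rec (motive := fun _ => ℕ) (Bool.rec (motive := fun _ => ℕ) (e5_104) (e5_105) (Nat.ble 105 b)) (Bool.rec (motive := fun _ => ℕ) (e5_106) (e5_107) (Nat.ble 107 b)) (Nat.ble 106 b)) (Bool.rec (motive := fun _ => ℕ) (Bool.rec (motive := fun _ => ℕ) (e5_108) (e5_109) (Nat.ble 109 b)) (Bool.rec (motive := fun _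 => ℕ) (e5_110) (e5_111) (Nat.ble 111 b)) (Nat.ble 110 b)) (Nat.ble 108 b)) (Nat.ble 104 b)) (Bool.rec (motive := fun _ => ℕ) (Bool.rec (motive := fun _ => ℕ) (Bool.rec (motive := fun _ => ℕ) (Bool.rec (motive := fun _ => ℕ) (e5_112) (e5_113) (Nat.ble 113 b)) (Bool.rec (motive := fun _ => ℕ) (e5_114) (e5_115) (Nat.ble 115 b)) (Nat.ble 114 b)) (Bool.rec (motive := fun _ => ℕ) (Bool.rec (motive := fun _ => ℕ) (e5_116) (e5_117) (Nat.ble 117 b)) (Bool.rec (motive := fun _ => ℕ) (e5_118) (0) (Nat.ble 119 b)) (Nat.ble 118 b)) (Nat.ble 116 b)) (0) (Nat.ble 120 b)) (Nat.ble 112 b)) (Nat.ble 96 b)) (Nat.ble 64 b))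
noncomputable def jcol5 (b : ℕ) : ℕ := (Bool.rec (motive := fun _ => ℕ) (Bool.rec (motive := fun _ => ℕ) (Bool.rec (motive := fun _ => ℕ) (Bool.rec (motive := fun _ => ℕ) (Bool.rec (motive := fun _ => ℕ) (Bool.rec (motive := fun _ => ℕ) (Bool.rec (motive := fun _ => ℕ) (j5_0) (j5_1) (Nat.ble 1 b)) (Bool.rec (motive := fun _ => ℕ) (j5_2) (j5_3) (Nat.ble 3 b)) (Nat.ble 2 b)) (Bool.rec (motive := fun _ => ℕ) (Bool.rec (motive := fun _ => ℕ) (j5_4) (j5_5) (Nat.ble 5 b)) (Bool.rec (motive := fun _ => ℕ) (j5_6) (j5_7) (Nat.ble 7 b)) (Nat.ble 6 b)) (Nat.ble 4 b)) (Bool.rec (motive := fun _ => ℕ) (Bool.rec (motive := fun _ => ℕ) (Bool.rec (motive := fun _ => ℕ) (j5_8) (j5_9) (Nat.ble 9 b)) (Bool.rec (motive := fun _ => ℕ) (j5_10) (j5_11) (Nat.ble 11 b)) (Nat.ble 10 b)) (Bool.rec (motive := fun _ => ℕ) (Bool.rec (motive := fun _ =>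 ℕ) (j5_12) (j5_13) (Nat.ble 13 b)) (Bool.rec (motive := fun _ => ℕ) (j5_14) (j5_15) (Nat.ble 15 b)) (Nat.ble 14 b)) (Nat.ble 12 b)) (Nat.ble 8 b)) (Bool.rec (motive := fun _ => ℕ) (Bool.rec (motive := fun _ => ℕ) (Bool.rec (motive := fun _ => ℕ) (Bool.rec (motive := fun _ => ℕ) (j5_16) (j5_17) (Nat.ble 17 b)) (Bool.rec (motive := fun _ => ℕ) (j5_18) (j5_19) (Nat.ble 19 b)) (Nat.ble 18 b)) (Bool.rec (motive := fun _ => ℕ) (Bool.rec (motive := fun _ => ℕ) (j5_20) (j5_21) (Nat.ble 21 b)) (Bool.rec (motive := fun _ => ℕ) (j5_22) (j5_23) (Nat.ble 23 b)) (Nat.ble 22 b)) (Nat.ble 20 b)) (Bool.rec (motive := fun _ => ℕ) (Bool.rec (motive := fun _ => ℕ) (Bool.rec (motive := fun _ => ℕ) (j5_24) (j5_25) (Nat.ble 25 b)) (Bool.rec (motive := fun _ => ℕ) (j5_26) (j5_27) (Nat.ble 27 b)) (Nat.ble 26 b)) (Bool.rec (motive := fun _ => ℕ) (Bool.rec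 (motive := fun _ => ℕ) (j5_28) (j5_29) (Nat.ble 29 b)) (Bool.rec (motive := fun _ => ℕ) (j5_30) (j5_31) (Nat.ble 31 b)) (Nat.ble 30 b)) (Nat.ble 28 b)) (Nat.ble 24 b)) (Nat.ble 16 b)) (Bool.rec (motive := fun _ => ℕ) (Bool.rec (motive := fun _ => ℕ) (Bool.rec (motive := fun _ => ℕ) (Bool.rec (motive := fun _ => ℕ) (Bool.rec (motive := fun _ => ℕ) (j5_32) (j5_33) (Nat.ble 33 b)) (Bool.rec (motive := fun _ => ℕ) (j5_34) (j5_35) (Nat.ble 35 b)) (Nat.ble 34 b)) (Bool.rec (motive := fun _ => ℕ) (Bool.rec (motive := fun _ => ℕ) (j5_36) (j5_37) (Nat.ble 37 b)) (Bool.rec (motive := fun _ => ℕ) (j5_38) (j5_39) (Nat.ble 39 b)) (Nat.ble 38 b)) (Nat.ble 36 b)) (Bool.rec (motive := fun _ => ℕ) (Bool.rec (motive := fun _ => ℕ) (Bool.rec (motive := fun _ => ℕ) (j5_40) (j5_41) (Nat.ble 41 b)) (Bool.rec (motive := fun _ => ℕ) (j5_42) (j5_43)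 (Nat.ble 43 b)) (Nat.ble 42 b)) (Bool.rec (motive := fun _ => ℕ) (Bool.rec (motive := fun _ => ℕ) (j5_44) (j5_45) (Nat.ble 45 b)) (Bool.rec (motive := fun _ => ℕ) (j5_46) (j5_47) (Nat.ble 47 b)) (Nat.ble 46 b)) (Nat.ble 44 b)) (Nat.ble 40 b)) (Bool.rec (motive := fun _ => ℕ) (Bool.rec (motive := fun _ => ℕ) (Bool.rec (motive := fun _ => ℕ) (Bool.rec (motive := fun _ => ℕ) (j5_48) (j5_49) (Nat.ble 49 b)) (Bool.rec (motive := fun _ => ℕ) (j5_50) (j5_51) (Nat.ble 51 b)) (Nat.ble 50 b)) (Bool.rec (motive := fun _ => ℕ) (Bool.rec (motive := fun _ => ℕ) (j5_52) (j5_53) (Nat.ble 53 b)) (Bool.rec (motive := fun _ => ℕ) (j5_54) (j5_55) (Nat.ble 55 b)) (Nat.ble 54 b)) (Nat.ble 52 b)) (Bool.rec (motive := fun _ => ℕ) (Bool.rec (motive := fun _ => ℕ) (Bool.rec (motive := fun _ => ℕ) (j5_56) (j5_57) (Nat.ble 57 b)) (Bool.rec (motive :=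 fun _ => ℕ) (j5_58) (j5_59) (Nat.ble 59 b)) (Nat.ble 58 b)) (Bool.rec (motive := fun _ => ℕ) (Bool.rec (motive := fun _ => ℕ) (j5_60) (j5_61) (Nat.ble 61 b)) (Bool.rec (motive := fun _ => ℕ) (j5_62) (j5_63) (Nat.ble 63 b)) (Nat.ble 62 b)) (Nat.ble 60 b)) (Nat.ble 56 b)) (Nat.ble 48 b)) (Nat.ble 32 b)) (Bool.rec (motive := fun _ => ℕ) (Bool.rec (motive := fun _ => ℕ) (Bool.rec (motive := fun _ => ℕ) (Bool.rec (motive := fun _ => ℕ) (Bool.rec (motive := fun _ => ℕ) (Bool.rec (motive := fun _ => ℕ) (j5_64) (j5_65) (Nat.ble 65 b)) (Bool.rec (motive := fun _ => ℕ) (j5_66) (j5_67) (Nat.ble 67 b)) (Nat.ble 66 b)) (Bool.rec (motive := fun _ => ℕ) (Bool.rec (motive := fun _ => ℕ) (j5_68) (j5_69) (Nat.ble 69 b)) (Bool.rec (motive := fun _ => ℕ) (j5_70) (j5_71) (Nat.ble 71 b)) (Nat.ble 70 b)) (Nat.ble 68 b)) (Bool.rec (motive := fun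 _ => ℕ) (Bool.rec (motive := fun _ => ℕ) (Bool.rec (motive := fun _ => ℕ) (j5_72) (j5_73) (Nat.ble 73 b)) (Bool.rec (motive := fun _ => ℕ) (j5_74) (j5_75) (Nat.ble 75 b)) (Nat.ble 74 b)) (Bool.rec (motive := fun _ => ℕ) (Bool.rec (motive := fun _ => ℕ) (j5_76) (j5_77) (Nat.ble 77 b)) (Bool.rec (motive := fun _ => ℕ) (j5_78) (j5_79) (Nat.ble 79 b)) (Nat.ble 78 b)) (Nat.ble 76 b)) (Nat.ble 72 b)) (Bool.rec (motive := fun _ => ℕ) (Bool.rec (motive := fun _ => ℕ) (Bool.rec (motive := fun _ => ℕ) (Bool.rec (motive := fun _ => ℕ) (j5_80) (j5_81) (Nat.ble 81 b)) (Bool.rec (motive := fun _ => ℕ) (j5_82) (j5_83) (Nat.ble 83 b)) (Nat.ble 82 b)) (Bool.rec (motive := fun _ => ℕ) (Bool.rec (motive := fun _ => ℕ) (j5_84) (j5_85) (Nat.ble 85 b)) (Bool.rec (motive := fun _ => ℕ) (j5_86) (j5_87) (Nat.ble 87 b)) (Nat.ble 86 b)) (Nat.ble 84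 b)) (Bool.rec (motive := fun _ => ℕ) (Bool.rec (motive := fun _ => ℕ) (Bool.rec (motive := fun _ => ℕ) (j5_88) (j5_89) (Nat.ble 89 b)) (Bool.rec (motive := fun _ => ℕ) (j5_90) (j5_91) (Nat.ble 91 b)) (Nat.ble 90 b)) (Bool.rec (motive := fun _ => ℕ) (Bool.rec (motive := fun _ => ℕ) (j5_92) (j5_93) (Nat.ble 93 b)) (Bool.rec (motive := fun _ => ℕ) (j5_94) (j5_95) (Nat.ble 95 b)) (Nat.ble 94 b)) (Nat.ble 92 b)) (Nat.ble 88 b)) (Nat.ble 80 b)) (Bool.rec (motive := fun _ => ℕ) (Bool.rec (motive := fun _ => ℕ) (Bool.rec (motive := fun _ => ℕ) (Bool.rec (motive := fun _ => ℕ) (Bool.rec (motive := fun _ => ℕ) (j5_96) (j5_97) (Nat.ble 97 b)) (Bool.rec (motive := fun _ => ℕ) (j5_98) (j5_99) (Nat.ble 99 b)) (Nat.ble 98 b)) (Bool.rec (motive := fun _ => ℕ) (Bool.rec (motive := fun _ => ℕ) (j5_100) (j5_101) (Nat.ble 101 b)) (Bool.rec (motive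 := fun _ => ℕ) (j5_102) (j5_103) (Nat.ble 103 b)) (Nat.ble 102 b)) (Nat.ble 100 b)) (Bool.rec (motive := fun _ => ℕ) (Bool.rec (motive := fun _ => ℕ) (Bool.rec (motive := fun _ => ℕ) (j5_104) (j5_105) (Nat.ble 105 b)) (Bool.rec (motive := fun _ => ℕ) (j5_106) (j5_107) (Nat.ble 107 b)) (Nat.ble 106 b)) (Bool.rec (motive := fun _ => ℕ) (Bool.rec (motive := fun _ => ℕ) (j5_108) (j5_109) (Nat.ble 109 b)) (Bool.rec (motive := fun _ => ℕ) (j5_110) (j5_111) (Nat.ble 111 b)) (Nat.ble 110 b)) (Nat.ble 108 b)) (Nat.ble 104 b)) (Bool.rec (motive := fun _ => ℕ) (Bool.rec (motive := fun _ => ℕ) (Bool.rec (motive := fun _ => ℕ) (Bool.rec (motive := fun _ => ℕ) (j5_112) (j5_113) (Nat.ble 113 b)) (Bool.rec (motive := fun _ => ℕ) (j5_114) (j5_115) (Nat.ble 115 b)) (Nat.ble 114 b)) (Bool.rec (motive := fun _ => ℕ) (Bool.rec (motive := fun _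 => ℕ) (j5_116) (j5_117) (Nat.ble 117 b)) (Bool.rec (motive := fun _ => ℕ) (j5_118) (0) (Nat.ble 119 b)) (Nat.ble 118 b)) (Nat.ble 116 b)) (0) (Nat.ble 120 b)) (Nat.ble 112 b)) (Nat.ble 96 b)) (Nat.ble 64 b))
noncomputable def ecol6 (b : ℕ) : ℕ := (Bool.rec (motive := fun _ => ℕ) (Bool.rec (motive := fun _ => ℕ) (Bool.rec (motive := fun _ => ℕ) (Bool.rec (motive := fun _ => ℕ) (Bool.rec (motive := fun _ => ℕ) (Bool.rec (motive := fun _ => ℕ) (Bool.rec (motive := fun _ => ℕ) (e6_0) (e6_1) (Nat.ble 1 b)) (Bool.rec (motive := fun _ => ℕ) (e6_2) (e6_3) (Nat.ble 3 b)) (Nat.ble 2 b)) (Bool.rec (motive := fun _ => ℕ) (Bool.rec (motive := fun _ => ℕ) (e6_4) (e6_5) (Nat.ble 5 b)) (Bool.rec (motive := fun _ => ℕ) (e6_6) (e6_7) (Nat.ble 7 b)) (Nat.ble 6 b)) (Nat.ble 4 b)) (Bool.rec (motive := fun _ => ℕ) (Bool.rec (motive := fun _ =>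 ℕ) (Bool.rec (motive := fun _ => ℕ) (e6_8) (e6_9) (Nat.ble 9 b)) (Bool.rec (motive := fun _ => ℕ) (e6_10) (e6_11) (Nat.ble 11 b)) (Nat.ble 10 b)) (Bool.rec (motive := fun _ => ℕ) (Bool.rec (motive := fun _ => ℕ) (e6_12) (e6_13) (Nat.ble 13 b)) (Bool.rec (motive := fun _ => ℕ) (e6_14) (e6_15) (Nat.ble 15 b)) (Nat.ble 14 b)) (Nat.ble 12 b)) (Nat.ble 8 b)) (Bool.rec (motive := fun _ => ℕ) (Bool.rec (motive := fun _ => ℕ) (Bool.rec (motive := fun _ => ℕ) (Bool.rec (motive := fun _ => ℕ) (e6_16) (e6_17) (Nat.ble 17 b)) (Bool.rec (motive := fun _ => ℕ) (e6_18) (e6_19) (Nat.ble 19 b)) (Nat.ble 18 b)) (Bool.rec (motive := fun _ => ℕ) (Bool.rec (motive := fun _ => ℕ) (e6_20) (e6_21) (Nat.ble 21 b)) (Bool.rec (motive := fun _ => ℕ) (e6_22) (e6_23) (Nat.ble 23 b)) (Nat.ble 22 b)) (Nat.ble 20 b)) (Bool.rec (motive := fun _ => ℕ) (Bool.rec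 (motive := fun _ => ℕ) (Bool.rec (motive := fun _ => ℕ) (e6_24) (e6_25) (Nat.ble 25 b)) (Bool.rec (motive := fun _ => ℕ) (e6_26) (e6_27) (Nat.ble 27 b)) (Nat.ble 26 b)) (Bool.rec (motive := fun _ => ℕ) (Bool.rec (motive := fun _ => ℕ) (e6_28) (e6_29) (Nat.ble 29 b)) (Bool.rec (motive := fun _ => ℕ) (e6_30) (e6_31) (Nat.ble 31 b)) (Nat.ble 30 b)) (Nat.ble 28 b)) (Nat.ble 24 b)) (Nat.ble 16 b)) (Bool.rec (motive := fun _ => ℕ) (Bool.rec (motive := fun _ => ℕ) (Bool.rec (motive := fun _ => ℕ) (Bool.rec (motive := fun _ => ℕ) (Bool.rec (motive := fun _ => ℕ) (e6_32) (e6_33) (Nat.ble 33 b)) (Bool.rec (motive := fun _ => ℕ) (e6_34) (e6_35) (Nat.ble 35 b)) (Nat.ble 34 b)) (Bool.rec (motive := fun _ => ℕ) (Bool.rec (motive := fun _ => ℕ) (e6_36) (e6_37) (Nat.ble 37 b)) (Bool.rec (motive := fun _ => ℕ) (e6_38) (e6_39) (Nat.ble 39 b))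 (Nat.ble 38 b)) (Nat.ble 36 b)) (Bool.rec (motive := fun _ => ℕ) (Bool.rec (motive := fun _ => ℕ) (Bool.rec (motive := fun _ => ℕ) (e6_40) (e6_41) (Nat.ble 41 b)) (Bool.rec (motive := fun _ => ℕ) (e6_42) (e6_43) (Nat.ble 43 b)) (Nat.ble 42 b)) (Bool.rec (motive := fun _ => ℕ) (Bool.rec (motive := fun _ => ℕ) (e6_44) (e6_45) (Nat.ble 45 b)) (Bool.rec (motive := fun _ => ℕ) (e6_46) (e6_47) (Nat.ble 47 b)) (Nat.ble 46 b)) (Nat.ble 44 b)) (Nat.ble 40 b)) (Bool.rec (motive := fun _ => ℕ) (Bool.rec (motive := fun _ => ℕ) (Bool.rec (motive := fun _ => ℕ) (Bool.rec (motive := fun _ => ℕ) (e6_48) (e6_49) (Nat.ble 49 b)) (Bool.rec (motive := fun _ => ℕ) (e6_50) (e6_51) (Nat.ble 51 b)) (Nat.ble 50 b)) (Bool.rec (motive := fun _ => ℕ) (Bool.rec (motive := fun _ => ℕ) (e6_52) (e6_53) (Nat.ble 53 b)) (Bool.rec (motive := fun _ => ℕ) (e6_54)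 (e6_55) (Nat.ble 55 b)) (Nat.ble 54 b)) (Nat.ble 52 b)) (Bool.rec (motive := fun _ => ℕ) (Bool.rec (motive := fun _ => ℕ) (Bool.rec (motive := fun _ => ℕ) (e6_56) (e6_57) (Nat.ble 57 b)) (Bool.rec (motive := fun _ => ℕ) (e6_58) (e6_59) (Nat.ble 59 b)) (Nat.ble 58 b)) (Bool.rec (motive := fun _ => ℕ) (Bool.rec (motive := fun _ => ℕ) (e6_60) (e6_61) (Nat.ble 61 b)) (Bool.rec (motive := fun _ => ℕ) (e6_62) (e6_63) (Nat.ble 63 b)) (Nat.ble 62 b)) (Nat.ble 60 b)) (Nat.ble 56 b)) (Nat.ble 48 b)) (Nat.ble 32 b)) (Bool.rec (motive := fun _ => ℕ) (Bool.rec (motive := fun _ => ℕ) (Bool.rec (motive := fun _ => ℕ) (Bool.rec (motive := fun _ => ℕ) (Bool.rec (motive := fun _ => ℕ) (Bool.rec (motive := fun _ => ℕ) (e6_64) (e6_65) (Nat.ble 65 b)) (Bool.rec (motive := fun _ => ℕ) (e6_66) (e6_67) (Nat.ble 67 b)) (Nat.ble 66 b)) (Bool.rec (motive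 := fun _ => ℕ) (Bool.rec (motive := fun _ => ℕ) (e6_68) (e6_69) (Nat.ble 69 b)) (Bool.rec (motive := fun _ => ℕ) (e6_70) (e6_71) (Nat.ble 71 b)) (Nat.ble 70 b)) (Nat.ble 68 b)) (Bool.rec (motive := fun _ => ℕ) (Bool.rec (motive := fun _ => ℕ) (Bool.rec (motive := fun _ => ℕ) (e6_72) (e6_73) (Nat.ble 73 b)) (Bool.rec (motive := fun _ => ℕ) (e6_74) (e6_75) (Nat.ble 75 b)) (Nat.ble 74 b)) (Bool.rec (motive := fun _ => ℕ) (Bool.rec (motive := fun _ => ℕ) (e6_76) (e6_77) (Nat.ble 77 b)) (Bool.rec (motive := fun _ => ℕ) (e6_78) (e6_79) (Nat.ble 79 b)) (Nat.ble 78 b)) (Nat.ble 76 b)) (Nat.ble 72 b)) (Bool.rec (motive := fun _ => ℕ) (Bool.rec (motive := fun _ => ℕ) (Bool.rec (motive := fun _ => ℕ) (Bool.rec (motive := fun _ => ℕ) (e6_80) (e6_81) (Nat.ble 81 b)) (Bool.rec (motive := fun _ => ℕ) (e6_82) (e6_83) (Nat.ble 83 b)) (Nat.ble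 82 b)) (Bool.rec (motive := fun _ => ℕ) (Bool.rec (motive := fun _ => ℕ) (e6_84) (e6_85) (Nat.ble 85 b)) (Bool.rec (motive := fun _ => ℕ) (e6_86) (e6_87) (Nat.ble 87 b)) (Nat.ble 86 b)) (Nat.ble 84 b)) (Bool.rec (motive := fun _ => ℕ) (Bool.rec (motive := fun _ => ℕ) (Bool.rec (motive := fun _ => ℕ) (e6_88) (e6_89) (Nat.ble 89 b)) (Bool.rec (motive := fun _ => ℕ) (e6_90) (e6_91) (Nat.ble 91 b)) (Nat.ble 90 b)) (Bool.rec (motive := fun _ => ℕ) (Bool.rec (motive := fun _ => ℕ) (e6_92) (e6_93) (Nat.ble 93 b)) (Bool.rec (motive := fun _ => ℕ) (e6_94) (e6_95) (Nat.ble 95 b)) (Nat.ble 94 b)) (Nat.ble 92 b)) (Nat.ble 88 b)) (Nat.ble 80 b)) (Bool.rec (motive := fun _ => ℕ) (Bool.rec (motive := fun _ => ℕ) (Bool.rec (motive := fun _ => ℕ) (Bool.rec (motive := fun _ => ℕ) (Bool.rec (motive := fun _ => ℕ) (e6_96) (e6_97) (Nat.ble 97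 b)) (Bool.rec (motive := fun _ => ℕ) (e6_98) (e6_99) (Nat.ble 99 b)) (Nat.ble 98 b)) (Bool.rec (motive := fun _ => ℕ) (Bool.rec (motive := fun _ => ℕ) (e6_100) (e6_101) (Nat.ble 101 b)) (Bool.rec (motive := fun _ => ℕ) (e6_102) (e6_103) (Nat.ble 103 b)) (Nat.ble 102 b)) (Nat.ble 100 b)) (Bool.rec (motive := fun _ => ℕ) (Bool.rec (motive := fun _ => ℕ) (Bool.rec (motive := fun _ => ℕ) (e6_104) (e6_105) (Nat.ble 105 b)) (Bool.rec (motive := fun _ => ℕ) (e6_106) (e6_107) (Nat.ble 107 b)) (Nat.ble 106 b)) (Bool.rec (motive := fun _ => ℕ) (Bool.rec (motive := fun _ => ℕ) (e6_108) (e6_109) (Nat.ble 109 b)) (Bool.rec (motive := fun _ => ℕ) (e6_110) (e6_111) (Nat.ble 111 b)) (Nat.ble 110 b)) (Nat.ble 108 b)) (Nat.ble 104 b)) (Bool.rec (motive := fun _ => ℕ) (Bool.rec (motive := fun _ => ℕ) (Bool.rec (motive := fun _ => ℕ) (Bool.rec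 (motive := fun _ => ℕ) (e6_112) (e6_113) (Nat.ble 113 b)) (Bool.rec (motive := fun _ => ℕ) (e6_114) (e6_115) (Nat.ble 115 b)) (Nat.ble 114 b)) (Bool.rec (motive := fun _ => ℕ) (Bool.rec (motive := fun _ => ℕ) (e6_116) (e6_117) (Nat.ble 117 b)) (Bool.rec (motive := fun _ => ℕ) (e6_118) (0) (Nat.ble 119 b)) (Nat.ble 118 b)) (Nat.ble 116 b)) (0) (Nat.ble 120 b)) (Nat.ble 112 b)) (Nat.ble 96 b)) (Nat.ble 64 b))
noncomputable def jcol6 (b : ℕ) : ℕ := (Bool.rec (motive := fun _ => ℕ) (Bool.rec (motive := fun _ => ℕ) (Bool.rec (motive := fun _ => ℕ) (Bool.rec (motive := fun _ => ℕ) (Bool.rec (motive := fun _ => ℕ) (Bool.rec (motive := fun _ => ℕ) (Bool.rec (motive := fun _ => ℕ) (j6_0) (j6_1) (Nat.ble 1 b)) (Bool.rec (motive := fun _ => ℕ) (j6_2) (j6_3) (Nat.ble 3 b)) (Nat.ble 2 b)) (Bool.rec (motive := fun _ => ℕ) (Bool.rec (motive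 := fun _ => ℕ) (j6_4) (j6_5) (Nat.ble 5 b)) (Bool.rec (motive := fun _ => ℕ) (j6_6) (j6_7) (Nat.ble 7 b)) (Nat.ble 6 b)) (Nat.ble 4 b)) (Bool.rec (motive := fun _ => ℕ) (Bool.rec (motive := fun _ => ℕ) (Bool.rec (motive := fun _ => ℕ) (j6_8) (j6_9) (Nat.ble 9 b)) (Bool.rec (motive := fun _ => ℕ) (j6_10) (j6_11) (Nat.ble 11 b)) (Nat.ble 10 b)) (Bool.rec (motive := fun _ => ℕ) (Bool.rec (motive := fun _ => ℕ) (j6_12) (j6_13) (Nat.ble 13 b)) (Bool.rec (motive := fun _ => ℕ) (j6_14) (j6_15) (Nat.ble 15 b)) (Nat.ble 14 b)) (Nat.ble 12 b)) (Nat.ble 8 b)) (Bool.rec (motive := fun _ => ℕ) (Bool.rec (motive := fun _ => ℕ) (Bool.rec (motive := fun _ => ℕ) (Bool.rec (motive := fun _ => ℕ) (j6_16) (j6_17) (Nat.ble 17 b)) (Bool.rec (motive := fun _ => ℕ) (j6_18) (j6_19) (Nat.ble 19 b)) (Nat.ble 18 b)) (Bool.rec (motive := fun _ => ℕ) (Bool.rec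 (motive := fun _ => ℕ) (j6_20) (j6_21) (Nat.ble 21 b)) (Bool.rec (motive := fun _ => ℕ) (j6_22) (j6_23) (Nat.ble 23 b)) (Nat.ble 22 b)) (Nat.ble 20 b)) (Bool.rec (motive := fun _ => ℕ) (Bool.rec (motive := fun _ => ℕ) (Bool.rec (motive := fun _ => ℕ) (j6_24) (j6_25) (Nat.ble 25 b)) (Bool.rec (motive := fun _ => ℕ) (j6_26) (j6_27) (Nat.ble 27 b)) (Nat.ble 26 b)) (Bool.rec (motive := fun _ => ℕ) (Bool.rec (motive := fun _ => ℕ) (j6_28) (j6_29) (Nat.ble 29 b)) (Bool.rec (motive := fun _ => ℕ) (j6_30) (j6_31) (Nat.ble 31 b)) (Nat.ble 30 b)) (Nat.ble 28 b)) (Nat.ble 24 b)) (Nat.ble 16 b)) (Bool.rec (motive := fun _ => ℕ) (Bool.rec (motive := fun _ => ℕ) (Bool.rec (motive := fun _ => ℕ) (Bool.rec (motive := fun _ => ℕ) (Bool.rec (motive := fun _ => ℕ) (j6_32) (j6_33) (Nat.ble 33 b)) (Bool.rec (motive := fun _ => ℕ) (j6_34) (j6_35)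 (Nat.ble 35 b)) (Nat.ble 34 b)) (Bool.rec (motive := fun _ => ℕ) (Bool.rec (motive := fun _ => ℕ) (j6_36) (j6_37) (Nat.ble 37 b)) (Bool.rec (motive := fun _ => ℕ) (j6_38) (j6_39) (Nat.ble 39 b)) (Nat.ble 38 b)) (Nat.ble 36 b)) (Bool.rec (motive := fun _ => ℕ) (Bool.rec (motive := fun _ => ℕ) (Bool.rec (motive := fun _ => ℕ) (j6_40) (j6_41) (Nat.ble 41 b)) (Bool.rec (motive := fun _ => ℕ) (j6_42) (j6_43) (Nat.ble 43 b)) (Nat.ble 42 b)) (Bool.rec (motive := fun _ => ℕ) (Bool.rec (motive := fun _ => ℕ) (j6_44) (j6_45) (Nat.ble 45 b)) (Bool.rec (motive := fun _ => ℕ) (j6_46) (j6_47) (Nat.ble 47 b)) (Nat.ble 46 b)) (Nat.ble 44 b)) (Nat.ble 40 b)) (Bool.rec (motive := fun _ => ℕ) (Bool.rec (motive := fun _ => ℕ) (Bool.rec (motive := fun _ => ℕ) (Bool.rec (motive := fun _ => ℕ) (j6_48) (j6_49) (Nat.ble 49 b)) (Bool.rec (motive :=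 fun _ => ℕ) (j6_50) (j6_51) (Nat.ble 51 b)) (Nat.ble 50 b)) (Bool.rec (motive := fun _ => ℕ) (Bool.rec (motive := fun _ => ℕ) (j6_52) (j6_53) (Nat.ble 53 b)) (Bool.rec (motive := fun _ => ℕ) (j6_54) (j6_55) (Nat.ble 55 b)) (Nat.ble 54 b)) (Nat.ble 52 b)) (Bool.rec (motive := fun _ => ℕ) (Bool.rec (motive := fun _ => ℕ) (Bool.rec (motive := fun _ => ℕ) (j6_56) (j6_57) (Nat.ble 57 b)) (Bool.rec (motive := fun _ => ℕ) (j6_58) (j6_59) (Nat.ble 59 b)) (Nat.ble 58 b)) (Bool.rec (motive := fun _ => ℕ) (Bool.rec (motive := fun _ => ℕ) (j6_60) (j6_61) (Nat.ble 61 b)) (Bool.rec (motive := fun _ => ℕ) (j6_62) (j6_63) (Nat.ble 63 b)) (Nat.ble 62 b)) (Nat.ble 60 b)) (Nat.ble 56 b)) (Nat.ble 48 b)) (Nat.ble 32 b)) (Bool.rec (motive := fun _ => ℕ) (Bool.rec (motive := fun _ => ℕ) (Bool.rec (motive := fun _ => ℕ) (Bool.rec (motive := fun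 _ => ℕ) (Bool.rec (motive := fun _ => ℕ) (Bool.rec (motive := fun _ => ℕ) (j6_64) (j6_65) (Nat.ble 65 b)) (Bool.rec (motive := fun _ => ℕ) (j6_66) (j6_67) (Nat.ble 67 b)) (Nat.ble 66 b)) (Bool.rec (motive := fun _ => ℕ) (Bool.rec (motive := fun _ => ℕ) (j6_68) (j6_69) (Nat.ble 69 b)) (Bool.rec (motive := fun _ => ℕ) (j6_70) (j6_71) (Nat.ble 71 b)) (Nat.ble 70 b)) (Nat.ble 68 b)) (Bool.rec (motive := fun _ => ℕ) (Bool.rec (motive := fun _ => ℕ) (Bool.rec (motive := fun _ => ℕ) (j6_72) (j6_73) (Nat.ble 73 b)) (Bool.rec (motive := fun _ => ℕ) (j6_74) (j6_75) (Nat.ble 75 b)) (Nat.ble 74 b)) (Bool.rec (motive := fun _ => ℕ) (Bool.rec (motive := fun _ => ℕ) (j6_76) (j6_77) (Nat.ble 77 b)) (Bool.rec (motive := fun _ => ℕ) (j6_78) (j6_79) (Nat.ble 79 b)) (Nat.ble 78 b)) (Nat.ble 76 b)) (Nat.ble 72 b)) (Bool.rec (motive := fun _ =>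 ℕ) (Bool.rec (motive := fun _ => ℕ) (Bool.rec (motive := fun _ => ℕ) (Bool.rec (motive := fun _ => ℕ) (j6_80) (j6_81) (Nat.ble 81 b)) (Bool.rec (motive := fun _ => ℕ) (j6_82) (j6_83) (Nat.ble 83 b)) (Nat.ble 82 b)) (Bool.rec (motive := fun _ => ℕ) (Bool.rec (motive := fun _ => ℕ) (j6_84) (j6_85) (Nat.ble 85 b)) (Bool.rec (motive := fun _ => ℕ) (j6_86) (j6_87) (Nat.ble 87 b)) (Nat.ble 86 b)) (Nat.ble 84 b)) (Bool.rec (motive := fun _ => ℕ) (Bool.rec (motive := fun _ => ℕ) (Bool.rec (motive := fun _ => ℕ) (j6_88) (j6_89) (Nat.ble 89 b)) (Bool.rec (motive := fun _ => ℕ) (j6_90) (j6_91) (Nat.ble 91 b)) (Nat.ble 90 b)) (Bool.rec (motive := fun _ => ℕ) (Bool.rec (motive := fun _ => ℕ) (j6_92) (j6_93) (Nat.ble 93 b)) (Bool.rec (motive := fun _ => ℕ) (j6_94) (j6_95) (Nat.ble 95 b)) (Nat.ble 94 b)) (Nat.ble 92 b)) (Nat.ble 88 b)) (Nat.ble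 80 b)) (Bool.rec (motive := fun _ => ℕ) (Bool.rec (motive := fun _ => ℕ) (Bool.rec (motive := fun _ => ℕ) (Bool.rec (motive := fun _ => ℕ) (Bool.rec (motive := fun _ => ℕ) (j6_96) (j6_97) (Nat.ble 97 b)) (Bool.rec (motive := fun _ => ℕ) (j6_98) (j6_99) (Nat.ble 99 b)) (Nat.ble 98 b)) (Bool.rec (motive := fun _ => ℕ) (Bool.rec (motive := fun _ => ℕ) (j6_100) (j6_101) (Nat.ble 101 b)) (Bool.rec (motive := fun _ => ℕ) (j6_102) (j6_103) (Nat.ble 103 b)) (Nat.ble 102 b)) (Nat.ble 100 b)) (Bool.rec (motive := fun _ => ℕ) (Bool.rec (motive := fun _ => ℕ) (Bool.rec (motive := fun _ => ℕ) (j6_104) (j6_105) (Nat.ble 105 b)) (Bool.rec (motive := fun _ => ℕ) (j6_106) (j6_107) (Nat.ble 107 b)) (Nat.ble 106 b)) (Bool.rec (motive := fun _ => ℕ) (Bool.rec (motive := fun _ => ℕ) (j6_108) (j6_109) (Nat.ble 109 b)) (Bool.rec (motive := fun _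 => ℕ) (j6_110) (j6_111) (Nat.ble 111 b)) (Nat.ble 110 b)) (Nat.ble 108 b)) (Nat.ble 104 b)) (Bool.rec (motive := fun _ => ℕ) (Bool.rec (motive := fun _ => ℕ) (Bool.rec (motive := fun _ => ℕ) (Bool.rec (motive := fun _ => ℕ) (j6_112) (j6_113) (Nat.ble 113 b)) (Bool.rec (motive := fun _ => ℕ) (j6_114) (j6_115) (Nat.ble 115 b)) (Nat.ble 114 b)) (Bool.rec (motive := fun _ => ℕ) (Bool.rec (motive := fun _ => ℕ) (j6_116) (j6_117) (Nat.ble 117 b)) (Bool.rec (motive := fun _ => ℕ) (j6_118) (0) (Nat.ble 119 b)) (Nat.ble 118 b)) (Nat.ble 116 b)) (0) (Nat.ble 120 b)) (Nat.ble 112 b)) (Nat.ble 96 b)) (Nat.ble 64 b))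
noncomputable def ecol7 (b : ℕ) : ℕ := (Bool.rec (motive := fun _ => ℕ) (Bool.rec (motive := fun _ => ℕ) (Bool.rec (motive := fun _ => ℕ) (Bool.rec (motive := fun _ => ℕ) (Bool.rec (motive := fun _ => ℕ) (Bool.rec (motive := fun _ => ℕ) (Bool.rec (motive := fun _ => ℕ) (e7_0) (e7_1) (Nat.ble 1 b)) (Bool.rec (motive := fun _ => ℕ) (e7_2) (e7_3) (Nat.ble 3 b)) (Nat.ble 2 b)) (Bool.rec (motive := fun _ => ℕ) (Bool.rec (motive := fun _ => ℕ) (e7_4) (e7_5) (Nat.ble 5 b)) (Bool.rec (motive := fun _ => ℕ) (e7_6) (e7_7) (Nat.ble 7 b)) (Nat.ble 6 b)) (Nat.ble 4 b)) (Bool.rec (motive := fun _ => ℕ) (Bool.rec (motive := fun _ => ℕ) (Bool.rec (motive := fun _ => ℕ) (e7_8) (e7_9) (Nat.ble 9 b)) (Bool.rec (motive := fun _ => ℕ) (e7_10) (e7_11) (Nat.ble 11 b)) (Nat.ble 10 b)) (Bool.rec (motive := fun _ => ℕ) (Bool.rec (motive := fun _ =>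 ℕ) (e7_12) (e7_13) (Nat.ble 13 b)) (Bool.rec (motive := fun _ => ℕ) (e7_14) (e7_15) (Nat.ble 15 b)) (Nat.ble 14 b)) (Nat.ble 12 b)) (Nat.ble 8 b)) (Bool.rec (motive := fun _ => ℕ) (Bool.rec (motive := fun _ => ℕ) (Bool.rec (motive := fun _ => ℕ) (Bool.rec (motive := fun _ => ℕ) (e7_16) (e7_17) (Nat.ble 17 b)) (Bool.rec (motive := fun _ => ℕ) (e7_18) (e7_19) (Nat.ble 19 b)) (Nat.ble 18 b)) (Bool.rec (motive := fun _ => ℕ) (Bool.rec (motive := fun _ => ℕ) (e7_20) (e7_21) (Nat.ble 21 b)) (Bool.rec (motive := fun _ => ℕ) (e7_22) (e7_23) (Nat.ble 23 b)) (Nat.ble 22 b)) (Nat.ble 20 b)) (Bool.rec (motive := fun _ => ℕ) (Bool.rec (motive := fun _ => ℕ) (Bool.rec (motive := fun _ => ℕ) (e7_24) (e7_25) (Nat.ble 25 b)) (Bool.rec (motive := fun _ => ℕ) (e7_26) (e7_27) (Nat.ble 27 b)) (Nat.ble 26 b)) (Bool.rec (motive := fun _ => ℕ) (Bool.rec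 (motive := fun _ => ℕ) (e7_28) (e7_29) (Nat.ble 29 b)) (Bool.rec (motive := fun _ => ℕ) (e7_30) (e7_31) (Nat.ble 31 b)) (Nat.ble 30 b)) (Nat.ble 28 b)) (Nat.ble 24 b)) (Nat.ble 16 b)) (Bool.rec (motive := fun _ => ℕ) (Bool.rec (motive := fun _ => ℕ) (Bool.rec (motive := fun _ => ℕ) (Bool.rec (motive := fun _ => ℕ) (Bool.rec (motive := fun _ => ℕ) (e7_32) (e7_33) (Nat.ble 33 b)) (Bool.rec (motive := fun _ => ℕ) (e7_34) (e7_35) (Nat.ble 35 b)) (Nat.ble 34 b)) (Bool.rec (motive := fun _ => ℕ) (Bool.rec (motive := fun _ => ℕ) (e7_36) (e7_37) (Nat.ble 37 b)) (Bool.rec (motive := fun _ => ℕ) (e7_38) (e7_39) (Nat.ble 39 b)) (Nat.ble 38 b)) (Nat.ble 36 b)) (Bool.rec (motive := fun _ => ℕ) (Bool.rec (motive := fun _ => ℕ) (Bool.rec (motive := fun _ => ℕ) (e7_40) (e7_41) (Nat.ble 41 b)) (Bool.rec (motive := fun _ => ℕ) (e7_42) (e7_43)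 (Nat.ble 43 b)) (Nat.ble 42 b)) (Bool.rec (motive := fun _ => ℕ) (Bool.rec (motive := fun _ => ℕ) (e7_44) (e7_45) (Nat.ble 45 b)) (Bool.rec (motive := fun _ => ℕ) (e7_46) (e7_47) (Nat.ble 47 b)) (Nat.ble 46 b)) (Nat.ble 44 b)) (Nat.ble 40 b)) (Bool.rec (motive := fun _ => ℕ) (Bool.rec (motive := fun _ => ℕ) (Bool.rec (motive := fun _ => ℕ) (Bool.rec (motive := fun _ => ℕ) (e7_48) (e7_49) (Nat.ble 49 b)) (Bool.rec (motive := fun _ => ℕ) (e7_50) (e7_51) (Nat.ble 51 b)) (Nat.ble 50 b)) (Bool.rec (motive := fun _ => ℕ) (Bool.rec (motive := fun _ => ℕ) (e7_52) (e7_53) (Nat.ble 53 b)) (Bool.rec (motive := fun _ => ℕ) (e7_54) (e7_55) (Nat.ble 55 b)) (Nat.ble 54 b)) (Nat.ble 52 b)) (Bool.rec (motive := fun _ => ℕ) (Bool.rec (motive := fun _ => ℕ) (Bool.rec (motive := fun _ => ℕ) (e7_56) (e7_57) (Nat.ble 57 b)) (Bool.rec (motive :=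 fun _ => ℕ) (e7_58) (e7_59) (Nat.ble 59 b)) (Nat.ble 58 b)) (Bool.rec (motive := fun _ => ℕ) (Bool.rec (motive := fun _ => ℕ) (e7_60) (e7_61) (Nat.ble 61 b)) (Bool.rec (motive := fun _ => ℕ) (e7_62) (e7_63) (Nat.ble 63 b)) (Nat.ble 62 b)) (Nat.ble 60 b)) (Nat.ble 56 b)) (Nat.ble 48 b)) (Nat.ble 32 b)) (Bool.rec (motive := fun _ => ℕ) (Bool.rec (motive := fun _ => ℕ) (Bool.rec (motive := fun _ => ℕ) (Bool.rec (motive := fun _ => ℕ) (Bool.rec (motive := fun _ => ℕ) (Bool.rec (motive := fun _ => ℕ) (e7_64) (e7_65) (Nat.ble 65 b)) (Bool.rec (motive := fun _ => ℕ) (e7_66) (e7_67) (Nat.ble 67 b)) (Nat.ble 66 b)) (Bool.rec (motive := fun _ => ℕ) (Bool.rec (motive := fun _ => ℕ) (e7_68) (e7_69) (Nat.ble 69 b)) (Bool.rec (motive := fun _ => ℕ) (e7_70) (e7_71) (Nat.ble 71 b)) (Nat.ble 70 b)) (Nat.ble 68 b)) (Bool.rec (motive := fun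 _ => ℕ) (Bool.rec (motive := fun _ => ℕ) (Bool.rec (motive := fun _ => ℕ) (e7_72) (e7_73) (Nat.ble 73 b)) (Bool.rec (motive := fun _ => ℕ) (e7_74) (e7_75) (Nat.ble 75 b)) (Nat.ble 74 b)) (Bool.rec (motive := fun _ => ℕ) (Bool.rec (motive := fun _ => ℕ) (e7_76) (e7_77) (Nat.ble 77 b)) (Bool.rec (motive := fun _ => ℕ) (e7_78) (e7_79) (Nat.ble 79 b)) (Nat.ble 78 b)) (Nat.ble 76 b)) (Nat.ble 72 b)) (Bool.rec (motive := fun _ => ℕ) (Bool.rec (motive := fun _ => ℕ) (Bool.rec (motive := fun _ => ℕ) (Bool.rec (motive := fun _ => ℕ) (e7_80) (e7_81) (Nat.ble 81 b)) (Bool.rec (motive := fun _ => ℕ) (e7_82) (e7_83) (Nat.ble 83 b)) (Nat.ble 82 b)) (Bool.rec (motive := fun _ => ℕ) (Bool.rec (motive := fun _ => ℕ) (e7_84) (e7_85) (Nat.ble 85 b)) (Bool.rec (motive := fun _ => ℕ) (e7_86) (e7_87) (Nat.ble 87 b)) (Nat.ble 86 b)) (Nat.ble 84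 b)) (Bool.rec (motive := fun _ => ℕ) (Bool.rec (motive := fun _ => ℕ) (Bool.rec (motive := fun _ => ℕ) (e7_88) (e7_89) (Nat.ble 89 b)) (Bool.rec (motive := fun _ => ℕ) (e7_90) (e7_91) (Nat.ble 91 b)) (Nat.ble 90 b)) (Bool.rec (motive := fun _ => ℕ) (Bool.rec (motive := fun _ => ℕ) (e7_92) (e7_93) (Nat.ble 93 b)) (Bool.rec (motive := fun _ => ℕ) (e7_94) (e7_95) (Nat.ble 95 b)) (Nat.ble 94 b)) (Nat.ble 92 b)) (Nat.ble 88 b)) (Nat.ble 80 b)) (Bool.rec (motive := fun _ => ℕ) (Bool.rec (motive := fun _ => ℕ) (Bool.rec (motive := fun _ => ℕ) (Bool.rec (motive := fun _ => ℕ) (Bool.rec (motive := fun _ => ℕ) (e7_96) (e7_97) (Nat.ble 97 b)) (Bool.rec (motive := fun _ => ℕ) (e7_98) (e7_99) (Nat.ble 99 b)) (Nat.ble 98 b)) (Bool.rec (motive := fun _ => ℕ) (Bool.rec (motive := fun _ => ℕ) (e7_100) (e7_101) (Nat.ble 101 b)) (Bool.rec (motive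 := fun _ => ℕ) (e7_102) (e7_103) (Nat.ble 103 b)) (Nat.ble 102 b)) (Nat.ble 100 b)) (Bool.rec (motive := fun _ => ℕ) (Bool.rec (motive := fun _ => ℕ) (Bool.rec (motive := fun _ => ℕ) (e7_104) (e7_105) (Nat.ble 105 b)) (Bool.rec (motive := fun _ => ℕ) (e7_106) (e7_107) (Nat.ble 107 b)) (Nat.ble 106 b)) (Bool.rec (motive := fun _ => ℕ) (Bool.rec (motive := fun _ => ℕ) (e7_108) (e7_109) (Nat.ble 109 b)) (Bool.rec (motive := fun _ => ℕ) (e7_110) (e7_111) (Nat.ble 111 b)) (Nat.ble 110 b)) (Nat.ble 108 b)) (Nat.ble 104 b)) (Bool.rec (motive := fun _ => ℕ) (Bool.rec (motive := fun _ => ℕ) (Bool.rec (motive := fun _ => ℕ) (Bool.rec (motive := fun _ => ℕ) (e7_112) (e7_113) (Nat.ble 113 b)) (Bool.rec (motive := fun _ => ℕ) (e7_114) (e7_115) (Nat.ble 115 b)) (Nat.ble 114 b)) (Bool.rec (motive := fun _ => ℕ) (Bool.rec (motive := fun _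 => ℕ) (e7_116) (e7_117) (Nat.ble 117 b)) (Bool.rec (motive := fun _ => ℕ) (e7_118) (0) (Nat.ble 119 b)) (Nat.ble 118 b)) (Nat.ble 116 b)) (0) (Nat.ble 120 b)) (Nat.ble 112 b)) (Nat.ble 96 b)) (Nat.ble 64 b))
noncomputable def jcol7 (b : ℕ) : ℕ := (Bool.rec (motive := fun _ => ℕ) (Bool.rec (motive := fun _ => ℕ) (Bool.rec (motive := fun _ => ℕ) (Bool.rec (motive := fun _ => ℕ) (Bool.rec (motive := fun _ => ℕ) (Bool.rec (motive := fun _ => ℕ) (Bool.rec (motive := fun _ => ℕ) (j7_0) (j7_1) (Nat.ble 1 b)) (Bool.rec (motive := fun _ => ℕ) (j7_2) (j7_3) (Nat.ble 3 b)) (Nat.ble 2 b)) (Bool.rec (motive := fun _ => ℕ) (Bool.rec (motive := fun _ => ℕ) (j7_4) (j7_5) (Nat.ble 5 b)) (Bool.rec (motive := fun _ => ℕ) (j7_6) (j7_7) (Nat.ble 7 b)) (Nat.ble 6 b)) (Nat.ble 4 b)) (Bool.rec (motive := fun _ => ℕ) (Bool.rec (motive := fun _ =>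 ℕ) (Bool.rec (motive := fun _ => ℕ) (j7_8) (j7_9) (Nat.ble 9 b)) (Bool.rec (motive := fun _ => ℕ) (j7_10) (j7_11) (Nat.ble 11 b)) (Nat.ble 10 b)) (Bool.rec (motive := fun _ => ℕ) (Bool.rec (motive := fun _ => ℕ) (j7_12) (j7_13) (Nat.ble 13 b)) (Bool.rec (motive := fun _ => ℕ) (j7_14) (j7_15) (Nat.ble 15 b)) (Nat.ble 14 b)) (Nat.ble 12 b)) (Nat.ble 8 b)) (Bool.rec (motive := fun _ => ℕ) (Bool.rec (motive := fun _ => ℕ) (Bool.rec (motive := fun _ => ℕ) (Bool.rec (motive := fun _ => ℕ) (j7_16) (j7_17) (Nat.ble 17 b)) (Bool.rec (motive := fun _ => ℕ) (j7_18) (j7_19) (Nat.ble 19 b)) (Nat.ble 18 b)) (Bool.rec (motive := fun _ => ℕ) (Bool.rec (motive := fun _ => ℕ) (j7_20) (j7_21) (Nat.ble 21 b)) (Bool.rec (motive := fun _ => ℕ) (j7_22) (j7_23) (Nat.ble 23 b)) (Nat.ble 22 b)) (Nat.ble 20 b)) (Bool.rec (motive := fun _ => ℕ) (Bool.rec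 (motive := fun _ => ℕ) (Bool.rec (motive := fun _ => ℕ) (j7_24) (j7_25) (Nat.ble 25 b)) (Bool.rec (motive := fun _ => ℕ) (j7_26) (j7_27) (Nat.ble 27 b)) (Nat.ble 26 b)) (Bool.rec (motive := fun _ => ℕ) (Bool.rec (motive := fun _ => ℕ) (j7_28) (j7_29) (Nat.ble 29 b)) (Bool.rec (motive := fun _ => ℕ) (j7_30) (j7_31) (Nat.ble 31 b)) (Nat.ble 30 b)) (Nat.ble 28 b)) (Nat.ble 24 b)) (Nat.ble 16 b)) (Bool.rec (motive := fun _ => ℕ) (Bool.rec (motive := fun _ => ℕ) (Bool.rec (motive := fun _ => ℕ) (Bool.rec (motive := fun _ => ℕ) (Bool.rec (motive := fun _ => ℕ) (j7_32) (j7_33) (Nat.ble 33 b)) (Bool.rec (motive := fun _ => ℕ) (j7_34) (j7_35) (Nat.ble 35 b)) (Nat.ble 34 b)) (Bool.rec (motive := fun _ => ℕ) (Bool.rec (motive := fun _ => ℕ) (j7_36) (j7_37) (Nat.ble 37 b)) (Bool.rec (motive := fun _ => ℕ) (j7_38) (j7_39) (Nat.ble 39 b))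 (Nat.ble 38 b)) (Nat.ble 36 b)) (Bool.rec (motive := fun _ => ℕ) (Bool.rec (motive := fun _ => ℕ) (Bool.rec (motive := fun _ => ℕ) (j7_40) (j7_41) (Nat.ble 41 b)) (Bool.rec (motive := fun _ => ℕ) (j7_42) (j7_43) (Nat.ble 43 b)) (Nat.ble 42 b)) (Bool.rec (motive := fun _ => ℕ) (Bool.rec (motive := fun _ => ℕ) (j7_44) (j7_45) (Nat.ble 45 b)) (Bool.rec (motive := fun _ => ℕ) (j7_46) (j7_47) (Nat.ble 47 b)) (Nat.ble 46 b)) (Nat.ble 44 b)) (Nat.ble 40 b)) (Bool.rec (motive := fun _ => ℕ) (Bool.rec (motive := fun _ => ℕ) (Bool.rec (motive := fun _ => ℕ) (Bool.rec (motive := fun _ => ℕ) (j7_48) (j7_49) (Nat.ble 49 b)) (Bool.rec (motive := fun _ => ℕ) (j7_50) (j7_51) (Nat.ble 51 b)) (Nat.ble 50 b)) (Bool.rec (motive := fun _ => ℕ) (Bool.rec (motive := fun _ => ℕ) (j7_52) (j7_53) (Nat.ble 53 b)) (Bool.rec (motive := fun _ => ℕ) (j7_54)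 (j7_55) (Nat.ble 55 b)) (Nat.ble 54 b)) (Nat.ble 52 b)) (Bool.rec (motive := fun _ => ℕ) (Bool.rec (motive := fun _ => ℕ) (Bool.rec (motive := fun _ => ℕ) (j7_56) (j7_57) (Nat.ble 57 b)) (Bool.rec (motive := fun _ => ℕ) (j7_58) (j7_59) (Nat.ble 59 b)) (Nat.ble 58 b)) (Bool.rec (motive := fun _ => ℕ) (Bool.rec (motive := fun _ => ℕ) (j7_60) (j7_61) (Nat.ble 61 b)) (Bool.rec (motive := fun _ => ℕ) (j7_62) (j7_63) (Nat.ble 63 b)) (Nat.ble 62 b)) (Nat.ble 60 b)) (Nat.ble 56 b)) (Nat.ble 48 b)) (Nat.ble 32 b)) (Bool.rec (motive := fun _ => ℕ) (Bool.rec (motive := fun _ => ℕ) (Bool.rec (motive := fun _ => ℕ) (Bool.rec (motive := fun _ => ℕ) (Bool.rec (motive := fun _ => ℕ) (Bool.rec (motive := fun _ => ℕ) (j7_64) (j7_65) (Nat.ble 65 b)) (Bool.rec (motive := fun _ => ℕ) (j7_66) (j7_67) (Nat.ble 67 b)) (Nat.ble 66 b)) (Bool.rec (motive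 := fun _ => ℕ) (Bool.rec (motive := fun _ => ℕ) (j7_68) (j7_69) (Nat.ble 69 b)) (Bool.rec (motive := fun _ => ℕ) (j7_70) (j7_71) (Nat.ble 71 b)) (Nat.ble 70 b)) (Nat.ble 68 b)) (Bool.rec (motive := fun _ => ℕ) (Bool.rec (motive := fun _ => ℕ) (Bool.rec (motive := fun _ => ℕ) (j7_72) (j7_73) (Nat.ble 73 b)) (Bool.rec (motive := fun _ => ℕ) (j7_74) (j7_75) (Nat.ble 75 b)) (Nat.ble 74 b)) (Bool.rec (motive := fun _ => ℕ) (Bool.rec (motive := fun _ => ℕ) (j7_76) (j7_77) (Nat.ble 77 b)) (Bool.rec (motive := fun _ => ℕ) (j7_78) (j7_79) (Nat.ble 79 b)) (Nat.ble 78 b)) (Nat.ble 76 b)) (Nat.ble 72 b)) (Bool.rec (motive := fun _ => ℕ) (Bool.rec (motive := fun _ => ℕ) (Bool.rec (motive := fun _ => ℕ) (Bool.rec (motive := fun _ => ℕ) (j7_80) (j7_81) (Nat.ble 81 b)) (Bool.rec (motive := fun _ => ℕ) (j7_82) (j7_83) (Nat.ble 83 b)) (Nat.ble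 82 b)) (Bool.rec (motive := fun _ => ℕ) (Bool.rec (motive := fun _ => ℕ) (j7_84) (j7_85) (Nat.ble 85 b)) (Bool.rec (motive := fun _ => ℕ) (j7_86) (j7_87) (Nat.ble 87 b)) (Nat.ble 86 b)) (Nat.ble 84 b)) (Bool.rec (motive := fun _ => ℕ) (Bool.rec (motive := fun _ => ℕ) (Bool.rec (motive := fun _ => ℕ) (j7_88) (j7_89) (Nat.ble 89 b)) (Bool.rec (motive := fun _ => ℕ) (j7_90) (j7_91) (Nat.ble 91 b)) (Nat.ble 90 b)) (Bool.rec (motive := fun _ => ℕ) (Bool.rec (motive := fun _ => ℕ) (j7_92) (j7_93) (Nat.ble 93 b)) (Bool.rec (motive := fun _ => ℕ) (j7_94) (j7_95) (Nat.ble 95 b)) (Nat.ble 94 b)) (Nat.ble 92 b)) (Nat.ble 88 b)) (Nat.ble 80 b)) (Bool.rec (motive := fun _ => ℕ) (Bool.rec (motive := fun _ => ℕ) (Bool.rec (motive := fun _ => ℕ) (Bool.rec (motive := fun _ => ℕ) (Bool.rec (motive := fun _ => ℕ) (j7_96) (j7_97) (Nat.ble 97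 b)) (Bool.rec (motive := fun _ => ℕ) (j7_98) (j7_99) (Nat.ble 99 b)) (Nat.ble 98 b)) (Bool.rec (motive := fun _ => ℕ) (Bool.rec (motive := fun _ => ℕ) (j7_100) (j7_101) (Nat.ble 101 b)) (Bool.rec (motive := fun _ => ℕ) (j7_102) (j7_103) (Nat.ble 103 b)) (Nat.ble 102 b)) (Nat.ble 100 b)) (Bool.rec (motive := fun _ => ℕ) (Bool.rec (motive := fun _ => ℕ) (Bool.rec (motive := fun _ => ℕ) (j7_104) (j7_105) (Nat.ble 105 b)) (Bool.rec (motive := fun _ => ℕ) (j7_106) (j7_107) (Nat.ble 107 b)) (Nat.ble 106 b)) (Bool.rec (motive := fun _ => ℕ) (Bool.rec (motive := fun _ => ℕ) (j7_108) (j7_109) (Nat.ble 109 b)) (Bool.rec (motive := fun _ => ℕ) (j7_110) (j7_111) (Nat.ble 111 b)) (Nat.ble 110 b)) (Nat.ble 108 b)) (Nat.ble 104 b)) (Bool.rec (motive := fun _ => ℕ) (Bool.rec (motive := fun _ => ℕ) (Bool.rec (motive := fun _ => ℕ) (Bool.rec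 (motive := fun _ => ℕ) (j7_112) (j7_113) (Nat.ble 113 b)) (Bool.rec (motive := fun _ => ℕ) (j7_114) (j7_115) (Nat.ble 115 b)) (Nat.ble 114 b)) (Bool.rec (motive := fun _ => ℕ) (Bool.rec (motive := fun _ => ℕ) (j7_116) (j7_117) (Nat.ble 117 b)) (Bool.rec (motive := fun _ => ℕ) (j7_118) (0) (Nat.ble 119 b)) (Nat.ble 118 b)) (Nat.ble 116 b)) (0) (Nat.ble 120 b)) (Nat.ble 112 b)) (Nat.ble 96 b)) (Nat.ble 64 b))
noncomputable def ecol8 (b : ℕ) : ℕ := (Bool.rec (motive := fun _ => ℕ) (Bool.rec (motive := fun _ => ℕ) (Bool.rec (motive := fun _ => ℕ) (Bool.rec (motive := fun _ => ℕ) (Bool.rec (motive := fun _ => ℕ) (Bool.rec (motive := fun _ => ℕ) (Bool.rec (motive := fun _ => ℕ) (e8_0) (e8_1) (Nat.ble 1 b)) (Bool.rec (motive := fun _ => ℕ) (e8_2) (e8_3) (Nat.ble 3 b)) (Nat.ble 2 b)) (Bool.rec (motive := fun _ => ℕ) (Bool.rec (motive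 := fun _ => ℕ) (e8_4) (e8_5) (Nat.ble 5 b)) (Bool.rec (motive := fun _ => ℕ) (e8_6) (e8_7) (Nat.ble 7 b)) (Nat.ble 6 b)) (Nat.ble 4 b)) (Bool.rec (motive := fun _ => ℕ) (Bool.rec (motive := fun _ => ℕ) (Bool.rec (motive := fun _ => ℕ) (e8_8) (e8_9) (Nat.ble 9 b)) (Bool.rec (motive := fun _ => ℕ) (e8_10) (e8_11) (Nat.ble 11 b)) (Nat.ble 10 b)) (Bool.rec (motive := fun _ => ℕ) (Bool.rec (motive := fun _ => ℕ) (e8_12) (e8_13) (Nat.ble 13 b)) (Bool.rec (motive := fun _ => ℕ) (e8_14) (e8_15) (Nat.ble 15 b)) (Nat.ble 14 b)) (Nat.ble 12 b)) (Nat.ble 8 b)) (Bool.rec (motive := fun _ => ℕ) (Bool.rec (motive := fun _ => ℕ) (Bool.rec (motive := fun _ => ℕ) (Bool.rec (motive := fun _ => ℕ) (e8_16) (e8_17) (Nat.ble 17 b)) (Bool.rec (motive := fun _ => ℕ) (e8_18) (e8_19) (Nat.ble 19 b)) (Nat.ble 18 b)) (Bool.rec (motive := fun _ => ℕ) (Bool.rec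 (motive := fun _ => ℕ) (e8_20) (e8_21) (Nat.ble 21 b)) (Bool.rec (motive := fun _ => ℕ) (e8_22) (e8_23) (Nat.ble 23 b)) (Nat.ble 22 b)) (Nat.ble 20 b)) (Bool.rec (motive := fun _ => ℕ) (Bool.rec (motive := fun _ => ℕ) (Bool.rec (motive := fun _ => ℕ) (e8_24) (e8_25) (Nat.ble 25 b)) (Bool.rec (motive := fun _ => ℕ) (e8_26) (e8_27) (Nat.ble 27 b)) (Nat.ble 26 b)) (Bool.rec (motive := fun _ => ℕ) (Bool.rec (motive := fun _ => ℕ) (e8_28) (e8_29) (Nat.ble 29 b)) (Bool.rec (motive := fun _ => ℕ) (e8_30) (e8_31) (Nat.ble 31 b)) (Nat.ble 30 b)) (Nat.ble 28 b)) (Nat.ble 24 b)) (Nat.ble 16 b)) (Bool.rec (motive := fun _ => ℕ) (Bool.rec (motive := fun _ => ℕ) (Bool.rec (motive := fun _ => ℕ) (Bool.rec (motive := fun _ => ℕ) (Bool.rec (motive := fun _ => ℕ) (e8_32) (e8_33) (Nat.ble 33 b)) (Bool.rec (motive := fun _ => ℕ) (e8_34) (e8_35)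 (Nat.ble 35 b)) (Nat.ble 34 b)) (Bool.rec (motive := fun _ => ℕ) (Bool.rec (motive := fun _ => ℕ) (e8_36) (e8_37) (Nat.ble 37 b)) (Bool.rec (motive := fun _ => ℕ) (e8_38) (e8_39) (Nat.ble 39 b)) (Nat.ble 38 b)) (Nat.ble 36 b)) (Bool.rec (motive := fun _ => ℕ) (Bool.rec (motive := fun _ => ℕ) (Bool.rec (motive := fun _ => ℕ) (e8_40) (e8_41) (Nat.ble 41 b)) (Bool.rec (motive := fun _ => ℕ) (e8_42) (e8_43) (Nat.ble 43 b)) (Nat.ble 42 b)) (Bool.rec (motive := fun _ => ℕ) (Bool.rec (motive := fun _ => ℕ) (e8_44) (e8_45) (Nat.ble 45 b)) (Bool.rec (motive := fun _ => ℕ) (e8_46) (e8_47) (Nat.ble 47 b)) (Nat.ble 46 b)) (Nat.ble 44 b)) (Nat.ble 40 b)) (Bool.rec (motive := fun _ => ℕ) (Bool.rec (motive := fun _ => ℕ) (Bool.rec (motive := fun _ => ℕ) (Bool.rec (motive := fun _ => ℕ) (e8_48) (e8_49) (Nat.ble 49 b)) (Bool.rec (motive :=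 fun _ => ℕ) (e8_50) (e8_51) (Nat.ble 51 b)) (Nat.ble 50 b)) (Bool.rec (motive := fun _ => ℕ) (Bool.rec (motive := fun _ => ℕ) (e8_52) (e8_53) (Nat.ble 53 b)) (Bool.rec (motive := fun _ => ℕ) (e8_54) (e8_55) (Nat.ble 55 b)) (Nat.ble 54 b)) (Nat.ble 52 b)) (Bool.rec (motive := fun _ => ℕ) (Bool.rec (motive := fun _ => ℕ) (Bool.rec (motive := fun _ => ℕ) (e8_56) (e8_57) (Nat.ble 57 b)) (Bool.rec (motive := fun _ => ℕ) (e8_58) (e8_59) (Nat.ble 59 b)) (Nat.ble 58 b)) (Bool.rec (motive := fun _ => ℕ) (Bool.rec (motive := fun _ => ℕ) (e8_60) (e8_61) (Nat.ble 61 b)) (Bool.rec (motive := fun _ => ℕ) (e8_62) (e8_63) (Nat.ble 63 b)) (Nat.ble 62 b)) (Nat.ble 60 b)) (Nat.ble 56 b)) (Nat.ble 48 b)) (Nat.ble 32 b)) (Bool.rec (motive := fun _ => ℕ) (Bool.rec (motive := fun _ => ℕ) (Bool.rec (motive := fun _ => ℕ) (Bool.rec (motive := fun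 _ => ℕ) (Bool.rec (motive := fun _ => ℕ) (Bool.rec (motive := fun _ => ℕ) (e8_64) (e8_65) (Nat.ble 65 b)) (Bool.rec (motive := fun _ => ℕ) (e8_66) (e8_67) (Nat.ble 67 b)) (Nat.ble 66 b)) (Bool.rec (motive := fun _ => ℕ) (Bool.rec (motive := fun _ => ℕ) (e8_68) (e8_69) (Nat.ble 69 b)) (Bool.rec (motive := fun _ => ℕ) (e8_70) (e8_71) (Nat.ble 71 b)) (Nat.ble 70 b)) (Nat.ble 68 b)) (Bool.rec (motive := fun _ => ℕ) (Bool.rec (motive := fun _ => ℕ) (Bool.rec (motive := fun _ => ℕ) (e8_72) (e8_73) (Nat.ble 73 b)) (Bool.rec (motive := fun _ => ℕ) (e8_74) (e8_75) (Nat.ble 75 b)) (Nat.ble 74 b)) (Bool.rec (motive := fun _ => ℕ) (Bool.rec (motive := fun _ => ℕ) (e8_76) (e8_77) (Nat.ble 77 b)) (Bool.rec (motive := fun _ => ℕ) (e8_78) (e8_79) (Nat.ble 79 b)) (Nat.ble 78 b)) (Nat.ble 76 b)) (Nat.ble 72 b)) (Bool.rec (motive := fun _ =>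 ℕ) (Bool.rec (motive := fun _ => ℕ) (Bool.rec (motive := fun _ => ℕ) (Bool.rec (motive := fun _ => ℕ) (e8_80) (e8_81) (Nat.ble 81 b)) (Bool.rec (motive := fun _ => ℕ) (e8_82) (e8_83) (Nat.ble 83 b)) (Nat.ble 82 b)) (Bool.rec (motive := fun _ => ℕ) (Bool.rec (motive := fun _ => ℕ) (e8_84) (e8_85) (Nat.ble 85 b)) (Bool.rec (motive := fun _ => ℕ) (e8_86) (e8_87) (Nat.ble 87 b)) (Nat.ble 86 b)) (Nat.ble 84 b)) (Bool.rec (motive := fun _ => ℕ) (Bool.rec (motive := fun _ => ℕ) (Bool.rec (motive := fun _ => ℕ) (e8_88) (e8_89) (Nat.ble 89 b)) (Bool.rec (motive := fun _ => ℕ) (e8_90) (e8_91) (Nat.ble 91 b)) (Nat.ble 90 b)) (Bool.rec (motive := fun _ => ℕ) (Bool.rec (motive := fun _ => ℕ) (e8_92) (e8_93) (Nat.ble 93 b)) (Bool.rec (motive := fun _ => ℕ) (e8_94) (e8_95) (Nat.ble 95 b)) (Nat.ble 94 b)) (Nat.ble 92 b)) (Nat.ble 88 b)) (Nat.ble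 80 b)) (Bool.rec (motive := fun _ => ℕ) (Bool.rec (motive := fun _ => ℕ) (Bool.rec (motive := fun _ => ℕ) (Bool.rec (motive := fun _ => ℕ) (Bool.rec (motive := fun _ => ℕ) (e8_96) (e8_97) (Nat.ble 97 b)) (Bool.rec (motive := fun _ => ℕ) (e8_98) (e8_99) (Nat.ble 99 b)) (Nat.ble 98 b)) (Bool.rec (motive := fun _ => ℕ) (Bool.rec (motive := fun _ => ℕ) (e8_100) (e8_101) (Nat.ble 101 b)) (Bool.rec (motive := fun _ => ℕ) (e8_102) (e8_103) (Nat.ble 103 b)) (Nat.ble 102 b)) (Nat.ble 100 b)) (Bool.rec (motive := fun _ => ℕ) (Bool.rec (motive := fun _ => ℕ) (Bool.rec (motive := fun _ => ℕ) (e8_104) (e8_105) (Nat.ble 105 b)) (Bool.rec (motive := fun _ => ℕ) (e8_106) (e8_107) (Nat.ble 107 b)) (Nat.ble 106 b)) (Bool.rec (motive := fun _ => ℕ) (Bool.rec (motive := fun _ => ℕ) (e8_108) (e8_109) (Nat.ble 109 b)) (Bool.rec (motive := fun _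 => ℕ) (e8_110) (e8_111) (Nat.ble 111 b)) (Nat.ble 110 b)) (Nat.ble 108 b)) (Nat.ble 104 b)) (Bool.rec (motive := fun _ => ℕ) (Bool.rec (motive := fun _ => ℕ) (Bool.rec (motive := fun _ => ℕ) (Bool.rec (motive := fun _ => ℕ) (e8_112) (e8_113) (Nat.ble 113 b)) (Bool.rec (motive := fun _ => ℕ) (e8_114) (e8_115) (Nat.ble 115 b)) (Nat.ble 114 b)) (Bool.rec (motive := fun _ => ℕ) (Bool.rec (motive := fun _ => ℕ) (e8_116) (e8_117) (Nat.ble 117 b)) (Bool.rec (motive := fun _ => ℕ) (e8_118) (0) (Nat.ble 119 b)) (Nat.ble 118 b)) (Nat.ble 116 b)) (0) (Nat.ble 120 b)) (Nat.ble 112 b)) (Nat.ble 96 b)) (Nat.ble 64 b))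
noncomputable def jcol8 (b : ℕ) : ℕ := (Bool.rec (motive := fun _ => ℕ) (Bool.rec (motive := fun _ => ℕ) (Bool.rec (motive := fun _ => ℕ) (Bool.rec (motive := fun _ => ℕ) (Bool.rec (motive := fun _ => ℕ) (Bool.rec (motive := fun _ => ℕ) (Bool.rec (motive := fun _ => ℕ) (j8_0) (j8_1) (Nat.ble 1 b)) (Bool.rec (motive := fun _ => ℕ) (j8_2) (j8_3) (Nat.ble 3 b)) (Nat.ble 2 b)) (Bool.rec (motive := fun _ => ℕ) (Bool.rec (motive := fun _ => ℕ) (j8_4) (j8_5) (Nat.ble 5 b)) (Bool.rec (motive := fun _ => ℕ) (j8_6) (j8_7) (Nat.ble 7 b)) (Nat.ble 6 b)) (Nat.ble 4 b)) (Bool.rec (motive := fun _ => ℕ) (Bool.rec (motive := fun _ => ℕ) (Bool.rec (motive := fun _ => ℕ) (j8_8) (j8_9) (Nat.ble 9 b)) (Bool.rec (motive := fun _ => ℕ) (j8_10) (j8_11) (Nat.ble 11 b)) (Nat.ble 10 b)) (Bool.rec (motive := fun _ => ℕ) (Bool.rec (motive := fun _ =>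 ℕ) (j8_12) (j8_13) (Nat.ble 13 b)) (Bool.rec (motive := fun _ => ℕ) (j8_14) (j8_15) (Nat.ble 15 b)) (Nat.ble 14 b)) (Nat.ble 12 b)) (Nat.ble 8 b)) (Bool.rec (motive := fun _ => ℕ) (Bool.rec (motive := fun _ => ℕ) (Bool.rec (motive := fun _ => ℕ) (Bool.rec (motive := fun _ => ℕ) (j8_16) (j8_17) (Nat.ble 17 b)) (Bool.rec (motive := fun _ => ℕ) (j8_18) (j8_19) (Nat.ble 19 b)) (Nat.ble 18 b)) (Bool.rec (motive := fun _ => ℕ) (Bool.rec (motive := fun _ => ℕ) (j8_20) (j8_21) (Nat.ble 21 b)) (Bool.rec (motive := fun _ => ℕ) (j8_22) (j8_23) (Nat.ble 23 b)) (Nat.ble 22 b)) (Nat.ble 20 b)) (Bool.rec (motive := fun _ => ℕ) (Bool.rec (motive := fun _ => ℕ) (Bool.rec (motive := fun _ => ℕ) (j8_24) (j8_25) (Nat.ble 25 b)) (Bool.rec (motive := fun _ => ℕ) (j8_26) (j8_27) (Nat.ble 27 b)) (Nat.ble 26 b)) (Bool.rec (motive := fun _ => ℕ) (Bool.rec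 (motive := fun _ => ℕ) (j8_28) (j8_29) (Nat.ble 29 b)) (Bool.rec (motive := fun _ => ℕ) (j8_30) (j8_31) (Nat.ble 31 b)) (Nat.ble 30 b)) (Nat.ble 28 b)) (Nat.ble 24 b)) (Nat.ble 16 b)) (Bool.rec (motive := fun _ => ℕ) (Bool.rec (motive := fun _ => ℕ) (Bool.rec (motive := fun _ => ℕ) (Bool.rec (motive := fun _ => ℕ) (Bool.rec (motive := fun _ => ℕ) (j8_32) (j8_33) (Nat.ble 33 b)) (Bool.rec (motive := fun _ => ℕ) (j8_34) (j8_35) (Nat.ble 35 b)) (Nat.ble 34 b)) (Bool.rec (motive := fun _ => ℕ) (Bool.rec (motive := fun _ => ℕ) (j8_36) (j8_37) (Nat.ble 37 b)) (Bool.rec (motive := fun _ => ℕ) (j8_38) (j8_39) (Nat.ble 39 b)) (Nat.ble 38 b)) (Nat.ble 36 b)) (Bool.rec (motive := fun _ => ℕ) (Bool.rec (motive := fun _ => ℕ) (Bool.rec (motive := fun _ => ℕ) (j8_40) (j8_41) (Nat.ble 41 b)) (Bool.rec (motive := fun _ => ℕ) (j8_42) (j8_43)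 (Nat.ble 43 b)) (Nat.ble 42 b)) (Bool.rec (motive := fun _ => ℕ) (Bool.rec (motive := fun _ => ℕ) (j8_44) (j8_45) (Nat.ble 45 b)) (Bool.rec (motive := fun _ => ℕ) (j8_46) (j8_47) (Nat.ble 47 b)) (Nat.ble 46 b)) (Nat.ble 44 b)) (Nat.ble 40 b)) (Bool.rec (motive := fun _ => ℕ) (Bool.rec (motive := fun _ => ℕ) (Bool.rec (motive := fun _ => ℕ) (Bool.rec (motive := fun _ => ℕ) (j8_48) (j8_49) (Nat.ble 49 b)) (Bool.rec (motive := fun _ => ℕ) (j8_50) (j8_51) (Nat.ble 51 b)) (Nat.ble 50 b)) (Bool.rec (motive := fun _ => ℕ) (Bool.rec (motive := fun _ => ℕ) (j8_52) (j8_53) (Nat.ble 53 b)) (Bool.rec (motive := fun _ => ℕ) (j8_54) (j8_55) (Nat.ble 55 b)) (Nat.ble 54 b)) (Nat.ble 52 b)) (Bool.rec (motive := fun _ => ℕ) (Bool.rec (motive := fun _ => ℕ) (Bool.rec (motive := fun _ => ℕ) (j8_56) (j8_57) (Nat.ble 57 b)) (Bool.rec (motive :=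 fun _ => ℕ) (j8_58) (j8_59) (Nat.ble 59 b)) (Nat.ble 58 b)) (Bool.rec (motive := fun _ => ℕ) (Bool.rec (motive := fun _ => ℕ) (j8_60) (j8_61) (Nat.ble 61 b)) (Bool.rec (motive := fun _ => ℕ) (j8_62) (j8_63) (Nat.ble 63 b)) (Nat.ble 62 b)) (Nat.ble 60 b)) (Nat.ble 56 b)) (Nat.ble 48 b)) (Nat.ble 32 b)) (Bool.rec (motive := fun _ => ℕ) (Bool.rec (motive := fun _ => ℕ) (Bool.rec (motive := fun _ => ℕ) (Bool.rec (motive := fun _ => ℕ) (Bool.rec (motive := fun _ => ℕ) (Bool.rec (motive := fun _ => ℕ) (j8_64) (j8_65) (Nat.ble 65 b)) (Bool.rec (motive := fun _ => ℕ) (j8_66) (j8_67) (Nat.ble 67 b)) (Nat.ble 66 b)) (Bool.rec (motive := fun _ => ℕ) (Bool.rec (motive := fun _ => ℕ) (j8_68) (j8_69) (Nat.ble 69 b)) (Bool.rec (motive := fun _ => ℕ) (j8_70) (j8_71) (Nat.ble 71 b)) (Nat.ble 70 b)) (Nat.ble 68 b)) (Bool.rec (motive := fun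 _ => ℕ) (Bool.rec (motive := fun _ => ℕ) (Bool.rec (motive := fun _ => ℕ) (j8_72) (j8_73) (Nat.ble 73 b)) (Bool.rec (motive := fun _ => ℕ) (j8_74) (j8_75) (Nat.ble 75 b)) (Nat.ble 74 b)) (Bool.rec (motive := fun _ => ℕ) (Bool.rec (motive := fun _ => ℕ) (j8_76) (j8_77) (Nat.ble 77 b)) (Bool.rec (motive := fun _ => ℕ) (j8_78) (j8_79) (Nat.ble 79 b)) (Nat.ble 78 b)) (Nat.ble 76 b)) (Nat.ble 72 b)) (Bool.rec (motive := fun _ => ℕ) (Bool.rec (motive := fun _ => ℕ) (Bool.rec (motive := fun _ => ℕ) (Bool.rec (motive := fun _ => ℕ) (j8_80) (j8_81) (Nat.ble 81 b)) (Bool.rec (motive := fun _ => ℕ) (j8_82) (j8_83) (Nat.ble 83 b)) (Nat.ble 82 b)) (Bool.rec (motive := fun _ => ℕ) (Bool.rec (motive := fun _ => ℕ) (j8_84) (j8_85) (Nat.ble 85 b)) (Bool.rec (motive := fun _ => ℕ) (j8_86) (j8_87) (Nat.ble 87 b)) (Nat.ble 86 b)) (Nat.ble 84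 b)) (Bool.rec (motive := fun _ => ℕ) (Bool.rec (motive := fun _ => ℕ) (Bool.rec (motive := fun _ => ℕ) (j8_88) (j8_89) (Nat.ble 89 b)) (Bool.rec (motive := fun _ => ℕ) (j8_90) (j8_91) (Nat.ble 91 b)) (Nat.ble 90 b)) (Bool.rec (motive := fun _ => ℕ) (Bool.rec (motive := fun _ => ℕ) (j8_92) (j8_93) (Nat.ble 93 b)) (Bool.rec (motive := fun _ => ℕ) (j8_94) (j8_95) (Nat.ble 95 b)) (Nat.ble 94 b)) (Nat.ble 92 b)) (Nat.ble 88 b)) (Nat.ble 80 b)) (Bool.rec (motive := fun _ => ℕ) (Bool.rec (motive := fun _ => ℕ) (Bool.rec (motive := fun _ => ℕ) (Bool.rec (motive := fun _ => ℕ) (Bool.rec (motive := fun _ => ℕ) (j8_96) (j8_97) (Nat.ble 97 b)) (Bool.rec (motive := fun _ => ℕ) (j8_98) (j8_99) (Nat.ble 99 b)) (Nat.ble 98 b)) (Bool.rec (motive := fun _ => ℕ) (Bool.rec (motive := fun _ => ℕ) (j8_100) (j8_101) (Nat.ble 101 b)) (Bool.rec (motive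 := fun _ => ℕ) (j8_102) (j8_103) (Nat.ble 103 b)) (Nat.ble 102 b)) (Nat.ble 100 b)) (Bool.rec (motive := fun _ => ℕ) (Bool.rec (motive := fun _ => ℕ) (Bool.rec (motive := fun _ => ℕ) (j8_104) (j8_105) (Nat.ble 105 b)) (Bool.rec (motive := fun _ => ℕ) (j8_106) (j8_107) (Nat.ble 107 b)) (Nat.ble 106 b)) (Bool.rec (motive := fun _ => ℕ) (Bool.rec (motive := fun _ => ℕ) (j8_108) (j8_109) (Nat.ble 109 b)) (Bool.rec (motive := fun _ => ℕ) (j8_110) (j8_111) (Nat.ble 111 b)) (Nat.ble 110 b)) (Nat.ble 108 b)) (Nat.ble 104 b)) (Bool.rec (motive := fun _ => ℕ) (Bool.rec (motive := fun _ => ℕ) (Bool.rec (motive := fun _ => ℕ) (Bool.rec (motive := fun _ => ℕ) (j8_112) (j8_113) (Nat.ble 113 b)) (Bool.rec (motive := fun _ => ℕ) (j8_114) (j8_115) (Nat.ble 115 b)) (Nat.ble 114 b)) (Bool.rec (motive := fun _ => ℕ) (Bool.rec (motive := fun _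 => ℕ) (j8_116) (j8_117) (Nat.ble 117 b)) (Bool.rec (motive := fun _ => ℕ) (j8_118) (0) (Nat.ble 119 b)) (Nat.ble 118 b)) (Nat.ble 116 b)) (0) (Nat.ble 120 b)) (Nat.ble 112 b)) (Nat.ble 96 b)) (Nat.ble 64 b))
noncomputable def ecol9 (b : ℕ) : ℕ := (Bool.rec (motive := fun _ => ℕ) (Bool.rec (motive := fun _ => ℕ) (Bool.rec (motive := fun _ => ℕ) (Bool.rec (motive := fun _ => ℕ) (Bool.rec (motive := fun _ => ℕ) (Bool.rec (motive := fun _ => ℕ) (Bool.rec (motive := fun _ => ℕ) (e9_0) (e9_1) (Nat.ble 1 b)) (Bool.rec (motive := fun _ => ℕ) (e9_2) (e9_3) (Nat.ble 3 b)) (Nat.ble 2 b)) (Bool.rec (motive := fun _ => ℕ) (Bool.rec (motive := fun _ => ℕ) (e9_4) (e9_5) (Nat.ble 5 b)) (Bool.rec (motive := fun _ => ℕ) (e9_6) (e9_7) (Nat.ble 7 b)) (Nat.ble 6 b)) (Nat.ble 4 b)) (Bool.rec (motive := fun _ => ℕ) (Bool.rec (motive := fun _ =>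 ℕ) (Bool.rec (motive := fun _ => ℕ) (e9_8) (e9_9) (Nat.ble 9 b)) (Bool.rec (motive := fun _ => ℕ) (e9_10) (e9_11) (Nat.ble 11 b)) (Nat.ble 10 b)) (Bool.rec (motive := fun _ => ℕ) (Bool.rec (motive := fun _ => ℕ) (e9_12) (e9_13) (Nat.ble 13 b)) (Bool.rec (motive := fun _ => ℕ) (e9_14) (e9_15) (Nat.ble 15 b)) (Nat.ble 14 b)) (Nat.ble 12 b)) (Nat.ble 8 b)) (Bool.rec (motive := fun _ => ℕ) (Bool.rec (motive := fun _ => ℕ) (Bool.rec (motive := fun _ => ℕ) (Bool.rec (motive := fun _ => ℕ) (e9_16) (e9_17) (Nat.ble 17 b)) (Bool.rec (motive := fun _ => ℕ) (e9_18) (e9_19) (Nat.ble 19 b)) (Nat.ble 18 b)) (Bool.rec (motive := fun _ => ℕ) (Bool.rec (motive := fun _ => ℕ) (e9_20) (e9_21) (Nat.ble 21 b)) (Bool.rec (motive := fun _ => ℕ) (e9_22) (e9_23) (Nat.ble 23 b)) (Nat.ble 22 b)) (Nat.ble 20 b)) (Bool.rec (motive := fun _ => ℕ) (Bool.rec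 (motive := fun _ => ℕ) (Bool.rec (motive := fun _ => ℕ) (e9_24) (e9_25) (Nat.ble 25 b)) (Bool.rec (motive := fun _ => ℕ) (e9_26) (e9_27) (Nat.ble 27 b)) (Nat.ble 26 b)) (Bool.rec (motive := fun _ => ℕ) (Bool.rec (motive := fun _ => ℕ) (e9_28) (e9_29) (Nat.ble 29 b)) (Bool.rec (motive := fun _ => ℕ) (e9_30) (e9_31) (Nat.ble 31 b)) (Nat.ble 30 b)) (Nat.ble 28 b)) (Nat.ble 24 b)) (Nat.ble 16 b)) (Bool.rec (motive := fun _ => ℕ) (Bool.rec (motive := fun _ => ℕ) (Bool.rec (motive := fun _ => ℕ) (Bool.rec (motive := fun _ => ℕ) (Bool.rec (motive := fun _ => ℕ) (e9_32) (e9_33) (Nat.ble 33 b)) (Bool.rec (motive := fun _ => ℕ) (e9_34) (e9_35) (Nat.ble 35 b)) (Nat.ble 34 b)) (Bool.rec (motive := fun _ => ℕ) (Bool.rec (motive := fun _ => ℕ) (e9_36) (e9_37) (Nat.ble 37 b)) (Bool.rec (motive := fun _ => ℕ) (e9_38) (e9_39) (Nat.ble 39 b))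 (Nat.ble 38 b)) (Nat.ble 36 b)) (Bool.rec (motive := fun _ => ℕ) (Bool.rec (motive := fun _ => ℕ) (Bool.rec (motive := fun _ => ℕ) (e9_40) (e9_41) (Nat.ble 41 b)) (Bool.rec (motive := fun _ => ℕ) (e9_42) (e9_43) (Nat.ble 43 b)) (Nat.ble 42 b)) (Bool.rec (motive := fun _ => ℕ) (Bool.rec (motive := fun _ => ℕ) (e9_44) (e9_45) (Nat.ble 45 b)) (Bool.rec (motive := fun _ => ℕ) (e9_46) (e9_47) (Nat.ble 47 b)) (Nat.ble 46 b)) (Nat.ble 44 b)) (Nat.ble 40 b)) (Bool.rec (motive := fun _ => ℕ) (Bool.rec (motive := fun _ => ℕ) (Bool.rec (motive := fun _ => ℕ) (Bool.rec (motive := fun _ => ℕ) (e9_48) (e9_49) (Nat.ble 49 b)) (Bool.rec (motive := fun _ => ℕ) (e9_50) (e9_51) (Nat.ble 51 b)) (Nat.ble 50 b)) (Bool.rec (motive := fun _ => ℕ) (Bool.rec (motive := fun _ => ℕ) (e9_52) (e9_53) (Nat.ble 53 b)) (Bool.rec (motive := fun _ => ℕ) (e9_54)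 (e9_55) (Nat.ble 55 b)) (Nat.ble 54 b)) (Nat.ble 52 b)) (Bool.rec (motive := fun _ => ℕ) (Bool.rec (motive := fun _ => ℕ) (Bool.rec (motive := fun _ => ℕ) (e9_56) (e9_57) (Nat.ble 57 b)) (Bool.rec (motive := fun _ => ℕ) (e9_58) (e9_59) (Nat.ble 59 b)) (Nat.ble 58 b)) (Bool.rec (motive := fun _ => ℕ) (Bool.rec (motive := fun _ => ℕ) (e9_60) (e9_61) (Nat.ble 61 b)) (Bool.rec (motive := fun _ => ℕ) (e9_62) (e9_63) (Nat.ble 63 b)) (Nat.ble 62 b)) (Nat.ble 60 b)) (Nat.ble 56 b)) (Nat.ble 48 b)) (Nat.ble 32 b)) (Bool.rec (motive := fun _ => ℕ) (Bool.rec (motive := fun _ => ℕ) (Bool.rec (motive := fun _ => ℕ) (Bool.rec (motive := fun _ => ℕ) (Bool.rec (motive := fun _ => ℕ) (Bool.rec (motive := fun _ => ℕ) (e9_64) (e9_65) (Nat.ble 65 b)) (Bool.rec (motive := fun _ => ℕ) (e9_66) (e9_67) (Nat.ble 67 b)) (Nat.ble 66 b)) (Bool.rec (motive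 := fun _ => ℕ) (Bool.rec (motive := fun _ => ℕ) (e9_68) (e9_69) (Nat.ble 69 b)) (Bool.rec (motive := fun _ => ℕ) (e9_70) (e9_71) (Nat.ble 71 b)) (Nat.ble 70 b)) (Nat.ble 68 b)) (Bool.rec (motive := fun _ => ℕ) (Bool.rec (motive := fun _ => ℕ) (Bool.rec (motive := fun _ => ℕ) (e9_72) (e9_73) (Nat.ble 73 b)) (Bool.rec (motive := fun _ => ℕ) (e9_74) (e9_75) (Nat.ble 75 b)) (Nat.ble 74 b)) (Bool.rec (motive := fun _ => ℕ) (Bool.rec (motive := fun _ => ℕ) (e9_76) (e9_77) (Nat.ble 77 b)) (Bool.rec (motive := fun _ => ℕ) (e9_78) (e9_79) (Nat.ble 79 b)) (Nat.ble 78 b)) (Nat.ble 76 b)) (Nat.ble 72 b)) (Bool.rec (motive := fun _ => ℕ) (Bool.rec (motive := fun _ => ℕ) (Bool.rec (motive := fun _ => ℕ) (Bool.rec (motive := fun _ => ℕ) (e9_80) (e9_81) (Nat.ble 81 b)) (Bool.rec (motive := fun _ => ℕ) (e9_82) (e9_83) (Nat.ble 83 b)) (Nat.ble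 82 b)) (Bool.rec (motive := fun _ => ℕ) (Bool.rec (motive := fun _ => ℕ) (e9_84) (e9_85) (Nat.ble 85 b)) (Bool.rec (motive := fun _ => ℕ) (e9_86) (e9_87) (Nat.ble 87 b)) (Nat.ble 86 b)) (Nat.ble 84 b)) (Bool.rec (motive := fun _ => ℕ) (Bool.rec (motive := fun _ => ℕ) (Bool.rec (motive := fun _ => ℕ) (e9_88) (e9_89) (Nat.ble 89 b)) (Bool.rec (motive := fun _ => ℕ) (e9_90) (e9_91) (Nat.ble 91 b)) (Nat.ble 90 b)) (Bool.rec (motive := fun _ => ℕ) (Bool.rec (motive := fun _ => ℕ) (e9_92) (e9_93) (Nat.ble 93 b)) (Bool.rec (motive := fun _ => ℕ) (e9_94) (e9_95) (Nat.ble 95 b)) (Nat.ble 94 b)) (Nat.ble 92 b)) (Nat.ble 88 b)) (Nat.ble 80 b)) (Bool.rec (motive := fun _ => ℕ) (Bool.rec (motive := fun _ => ℕ) (Bool.rec (motive := fun _ => ℕ) (Bool.rec (motive := fun _ => ℕ) (Bool.rec (motive := fun _ => ℕ) (e9_96) (e9_97) (Nat.ble 97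 b)) (Bool.rec (motive := fun _ => ℕ) (e9_98) (e9_99) (Nat.ble 99 b)) (Nat.ble 98 b)) (Bool.rec (motive := fun _ => ℕ) (Bool.rec (motive := fun _ => ℕ) (e9_100) (e9_101) (Nat.ble 101 b)) (Bool.rec (motive := fun _ => ℕ) (e9_102) (e9_103) (Nat.ble 103 b)) (Nat.ble 102 b)) (Nat.ble 100 b)) (Bool.rec (motive := fun _ => ℕ) (Bool.rec (motive := fun _ => ℕ) (Bool.rec (motive := fun _ => ℕ) (e9_104) (e9_105) (Nat.ble 105 b)) (Bool.rec (motive := fun _ => ℕ) (e9_106) (e9_107) (Nat.ble 107 b)) (Nat.ble 106 b)) (Bool.rec (motive := fun _ => ℕ) (Bool.rec (motive := fun _ => ℕ) (e9_108) (e9_109) (Nat.ble 109 b)) (Bool.rec (motive := fun _ => ℕ) (e9_110) (e9_111) (Nat.ble 111 b)) (Nat.ble 110 b)) (Nat.ble 108 b)) (Nat.ble 104 b)) (Bool.rec (motive := fun _ => ℕ) (Bool.rec (motive := fun _ => ℕ) (Bool.rec (motive := fun _ => ℕ) (Bool.rec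 (motive := fun _ => ℕ) (e9_112) (e9_113) (Nat.ble 113 b)) (Bool.rec (motive := fun _ => ℕ) (e9_114) (e9_115) (Nat.ble 115 b)) (Nat.ble 114 b)) (Bool.rec (motive := fun _ => ℕ) (Bool.rec (motive := fun _ => ℕ) (e9_116) (e9_117) (Nat.ble 117 b)) (Bool.rec (motive := fun _ => ℕ) (e9_118) (0) (Nat.ble 119 b)) (Nat.ble 118 b)) (Nat.ble 116 b)) (0) (Nat.ble 120 b)) (Nat.ble 112 b)) (Nat.ble 96 b)) (Nat.ble 64 b))
noncomputable def jcol9 (b : ℕ) : ℕ := (Bool.rec (motive := fun _ => ℕ) (Bool.rec (motive := fun _ => ℕ) (Bool.rec (motive := fun _ => ℕ) (Bool.rec (motive := fun _ => ℕ) (Bool.rec (motive := fun _ => ℕ) (Bool.rec (motive := fun _ => ℕ) (Bool.rec (motive := fun _ => ℕ) (j9_0) (j9_1) (Nat.ble 1 b)) (Bool.rec (motive := fun _ => ℕ) (j9_2) (j9_3) (Nat.ble 3 b)) (Nat.ble 2 b)) (Bool.rec (motive := fun _ => ℕ) (Bool.rec (motive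 := fun _ => ℕ) (j9_4) (j9_5) (Nat.ble 5 b)) (Bool.rec (motive := fun _ => ℕ) (j9_6) (j9_7) (Nat.ble 7 b)) (Nat.ble 6 b)) (Nat.ble 4 b)) (Bool.rec (motive := fun _ => ℕ) (Bool.rec (motive := fun _ => ℕ) (Bool.rec (motive := fun _ => ℕ) (j9_8) (j9_9) (Nat.ble 9 b)) (Bool.rec (motive := fun _ => ℕ) (j9_10) (j9_11) (Nat.ble 11 b)) (Nat.ble 10 b)) (Bool.rec (motive := fun _ => ℕ) (Bool.rec (motive := fun _ => ℕ) (j9_12) (j9_13) (Nat.ble 13 b)) (Bool.rec (motive := fun _ => ℕ) (j9_14) (j9_15) (Nat.ble 15 b)) (Nat.ble 14 b)) (Nat.ble 12 b)) (Nat.ble 8 b)) (Bool.rec (motive := fun _ => ℕ) (Bool.rec (motive := fun _ => ℕ) (Bool.rec (motive := fun _ => ℕ) (Bool.rec (motive := fun _ => ℕ) (j9_16) (j9_17) (Nat.ble 17 b)) (Bool.rec (motive := fun _ => ℕ) (j9_18) (j9_19) (Nat.ble 19 b)) (Nat.ble 18 b)) (Bool.rec (motive := fun _ => ℕ) (Bool.rec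 (motive := fun _ => ℕ) (j9_20) (j9_21) (Nat.ble 21 b)) (Bool.rec (motive := fun _ => ℕ) (j9_22) (j9_23) (Nat.ble 23 b)) (Nat.ble 22 b)) (Nat.ble 20 b)) (Bool.rec (motive := fun _ => ℕ) (Bool.rec (motive := fun _ => ℕ) (Bool.rec (motive := fun _ => ℕ) (j9_24) (j9_25) (Nat.ble 25 b)) (Bool.rec (motive := fun _ => ℕ) (j9_26) (j9_27) (Nat.ble 27 b)) (Nat.ble 26 b)) (Bool.rec (motive := fun _ => ℕ) (Bool.rec (motive := fun _ => ℕ) (j9_28) (j9_29) (Nat.ble 29 b)) (Bool.rec (motive := fun _ => ℕ) (j9_30) (j9_31) (Nat.ble 31 b)) (Nat.ble 30 b)) (Nat.ble 28 b)) (Nat.ble 24 b)) (Nat.ble 16 b)) (Bool.rec (motive := fun _ => ℕ) (Bool.rec (motive := fun _ => ℕ) (Bool.rec (motive := fun _ => ℕ) (Bool.rec (motive := fun _ => ℕ) (Bool.rec (motive := fun _ => ℕ) (j9_32) (j9_33) (Nat.ble 33 b)) (Bool.rec (motive := fun _ => ℕ) (j9_34) (j9_35)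 (Nat.ble 35 b)) (Nat.ble 34 b)) (Bool.rec (motive := fun _ => ℕ) (Bool.rec (motive := fun _ => ℕ) (j9_36) (j9_37) (Nat.ble 37 b)) (Bool.rec (motive := fun _ => ℕ) (j9_38) (j9_39) (Nat.ble 39 b)) (Nat.ble 38 b)) (Nat.ble 36 b)) (Bool.rec (motive := fun _ => ℕ) (Bool.rec (motive := fun _ => ℕ) (Bool.rec (motive := fun _ => ℕ) (j9_40) (j9_41) (Nat.ble 41 b)) (Bool.rec (motive := fun _ => ℕ) (j9_42) (j9_43) (Nat.ble 43 b)) (Nat.ble 42 b)) (Bool.rec (motive := fun _ => ℕ) (Bool.rec (motive := fun _ => ℕ) (j9_44) (j9_45) (Nat.ble 45 b)) (Bool.rec (motive := fun _ => ℕ) (j9_46) (j9_47) (Nat.ble 47 b)) (Nat.ble 46 b)) (Nat.ble 44 b)) (Nat.ble 40 b)) (Bool.rec (motive := fun _ => ℕ) (Bool.rec (motive := fun _ => ℕ) (Bool.rec (motive := fun _ => ℕ) (Bool.rec (motive := fun _ => ℕ) (j9_48) (j9_49) (Nat.ble 49 b)) (Bool.rec (motive :=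 fun _ => ℕ) (j9_50) (j9_51) (Nat.ble 51 b)) (Nat.ble 50 b)) (Bool.rec (motive := fun _ => ℕ) (Bool.rec (motive := fun _ => ℕ) (j9_52) (j9_53) (Nat.ble 53 b)) (Bool.rec (motive := fun _ => ℕ) (j9_54) (j9_55) (Nat.ble 55 b)) (Nat.ble 54 b)) (Nat.ble 52 b)) (Bool.rec (motive := fun _ => ℕ) (Bool.rec (motive := fun _ => ℕ) (Bool.rec (motive := fun _ => ℕ) (j9_56) (j9_57) (Nat.ble 57 b)) (Bool.rec (motive := fun _ => ℕ) (j9_58) (j9_59) (Nat.ble 59 b)) (Nat.ble 58 b)) (Bool.rec (motive := fun _ => ℕ) (Bool.rec (motive := fun _ => ℕ) (j9_60) (j9_61) (Nat.ble 61 b)) (Bool.rec (motive := fun _ => ℕ) (j9_62) (j9_63) (Nat.ble 63 b)) (Nat.ble 62 b)) (Nat.ble 60 b)) (Nat.ble 56 b)) (Nat.ble 48 b)) (Nat.ble 32 b)) (Bool.rec (motive := fun _ => ℕ) (Bool.rec (motive := fun _ => ℕ) (Bool.rec (motive := fun _ => ℕ) (Bool.rec (motive := fun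 _ => ℕ) (Bool.rec (motive := fun _ => ℕ) (Bool.rec (motive := fun _ => ℕ) (j9_64) (j9_65) (Nat.ble 65 b)) (Bool.rec (motive := fun _ => ℕ) (j9_66) (j9_67) (Nat.ble 67 b)) (Nat.ble 66 b)) (Bool.rec (motive := fun _ => ℕ) (Bool.rec (motive := fun _ => ℕ) (j9_68) (j9_69) (Nat.ble 69 b)) (Bool.rec (motive := fun _ => ℕ) (j9_70) (j9_71) (Nat.ble 71 b)) (Nat.ble 70 b)) (Nat.ble 68 b)) (Bool.rec (motive := fun _ => ℕ) (Bool.rec (motive := fun _ => ℕ) (Bool.rec (motive := fun _ => ℕ) (j9_72) (j9_73) (Nat.ble 73 b)) (Bool.rec (motive := fun _ => ℕ) (j9_74) (j9_75) (Nat.ble 75 b)) (Nat.ble 74 b)) (Bool.rec (motive := fun _ => ℕ) (Bool.rec (motive := fun _ => ℕ) (j9_76) (j9_77) (Nat.ble 77 b)) (Bool.rec (motive := fun _ => ℕ) (j9_78) (j9_79) (Nat.ble 79 b)) (Nat.ble 78 b)) (Nat.ble 76 b)) (Nat.ble 72 b)) (Bool.rec (motive := fun _ =>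 ℕ) (Bool.rec (motive := fun _ => ℕ) (Bool.rec (motive := fun _ => ℕ) (Bool.rec (motive := fun _ => ℕ) (j9_80) (j9_81) (Nat.ble 81 b)) (Bool.rec (motive := fun _ => ℕ) (j9_82) (j9_83) (Nat.ble 83 b)) (Nat.ble 82 b)) (Bool.rec (motive := fun _ => ℕ) (Bool.rec (motive := fun _ => ℕ) (j9_84) (j9_85) (Nat.ble 85 b)) (Bool.rec (motive := fun _ => ℕ) (j9_86) (j9_87) (Nat.ble 87 b)) (Nat.ble 86 b)) (Nat.ble 84 b)) (Bool.rec (motive := fun _ => ℕ) (Bool.rec (motive := fun _ => ℕ) (Bool.rec (motive := fun _ => ℕ) (j9_88) (j9_89) (Nat.ble 89 b)) (Bool.rec (motive := fun _ => ℕ) (j9_90) (j9_91) (Nat.ble 91 b)) (Nat.ble 90 b)) (Bool.rec (motive := fun _ => ℕ) (Bool.rec (motive := fun _ => ℕ) (j9_92) (j9_93) (Nat.ble 93 b)) (Bool.rec (motive := fun _ => ℕ) (j9_94) (j9_95) (Nat.ble 95 b)) (Nat.ble 94 b)) (Nat.ble 92 b)) (Nat.ble 88 b)) (Nat.ble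 80 b)) (Bool.rec (motive := fun _ => ℕ) (Bool.rec (motive := fun _ => ℕ) (Bool.rec (motive := fun _ => ℕ) (Bool.rec (motive := fun _ => ℕ) (Bool.rec (motive := fun _ => ℕ) (j9_96) (j9_97) (Nat.ble 97 b)) (Bool.rec (motive := fun _ => ℕ) (j9_98) (j9_99) (Nat.ble 99 b)) (Nat.ble 98 b)) (Bool.rec (motive := fun _ => ℕ) (Bool.rec (motive := fun _ => ℕ) (j9_100) (j9_101) (Nat.ble 101 b)) (Bool.rec (motive := fun _ => ℕ) (j9_102) (j9_103) (Nat.ble 103 b)) (Nat.ble 102 b)) (Nat.ble 100 b)) (Bool.rec (motive := fun _ => ℕ) (Bool.rec (motive := fun _ => ℕ) (Bool.rec (motive := fun _ => ℕ) (j9_104) (j9_105) (Nat.ble 105 b)) (Bool.rec (motive := fun _ => ℕ) (j9_106) (j9_107) (Nat.ble 107 b)) (Nat.ble 106 b)) (Bool.rec (motive := fun _ => ℕ) (Bool.rec (motive := fun _ => ℕ) (j9_108) (j9_109) (Nat.ble 109 b)) (Bool.rec (motive := fun _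 => ℕ) (j9_110) (j9_111) (Nat.ble 111 b)) (Nat.ble 110 b)) (Nat.ble 108 b)) (Nat.ble 104 b)) (Bool.rec (motive := fun _ => ℕ) (Bool.rec (motive := fun _ => ℕ) (Bool.rec (motive := fun _ => ℕ) (Bool.rec (motive := fun _ => ℕ) (j9_112) (j9_113) (Nat.ble 113 b)) (Bool.rec (motive := fun _ => ℕ) (j9_114) (j9_115) (Nat.ble 115 b)) (Nat.ble 114 b)) (Bool.rec (motive := fun _ => ℕ) (Bool.rec (motive := fun _ => ℕ) (j9_116) (j9_117) (Nat.ble 117 b)) (Bool.rec (motive := fun _ => ℕ) (j9_118) (0) (Nat.ble 119 b)) (Nat.ble 118 b)) (Nat.ble 116 b)) (0) (Nat.ble 120 b)) (Nat.ble 112 b)) (Nat.ble 96 b)) (Nat.ble 64 b))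
noncomputable def ecol10 (b : ℕ) : ℕ := (Bool.rec (motive := fun _ => ℕ) (Bool.rec (motive := fun _ => ℕ) (Bool.rec (motive := fun _ => ℕ) (Bool.rec (motive := fun _ => ℕ) (Bool.rec (motive := fun _ => ℕ) (Bool.rec (motive := fun _ => ℕ) (Bool.rec (motive := fun _ => ℕ) (e10_0) (e10_1) (Nat.ble 1 b)) (Bool.rec (motive := fun _ => ℕ) (e10_2) (e10_3) (Nat.ble 3 b)) (Nat.ble 2 b)) (Bool.rec (motive := fun _ => ℕ) (Bool.rec (motive := fun _ => ℕ) (e10_4) (e10_5) (Nat.ble 5 b)) (Bool.rec (motive := fun _ => ℕ) (e10_6) (e10_7) (Nat.ble 7 b)) (Nat.ble 6 b)) (Nat.ble 4 b)) (Bool.rec (motive := fun _ => ℕ) (Bool.rec (motive := fun _ => ℕ) (Bool.rec (motive := fun _ => ℕ) (e10_8) (e10_9) (Nat.ble 9 b)) (Bool.rec (motive := fun _ => ℕ) (e10_10) (e10_11) (Nat.ble 11 b)) (Nat.ble 10 b)) (Bool.rec (motive := fun _ => ℕ) (Bool.rec (motive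 := fun _ => ℕ) (e10_12) (e10_13) (Nat.ble 13 b)) (Bool.rec (motive := fun _ => ℕ) (e10_14) (e10_15) (Nat.ble 15 b)) (Nat.ble 14 b)) (Nat.ble 12 b)) (Nat.ble 8 b)) (Bool.rec (motive := fun _ => ℕ) (Bool.rec (motive := fun _ => ℕ) (Bool.rec (motive := fun _ => ℕ) (Bool.rec (motive := fun _ => ℕ) (e10_16) (e10_17) (Nat.ble 17 b)) (Bool.rec (motive := fun _ => ℕ) (e10_18) (e10_19) (Nat.ble 19 b)) (Nat.ble 18 b)) (Bool.rec (motive := fun _ => ℕ) (Bool.rec (motive := fun _ => ℕ) (e10_20) (e10_21) (Nat.ble 21 b)) (Bool.rec (motive := fun _ => ℕ) (e10_22) (e10_23) (Nat.ble 23 b)) (Nat.ble 22 b)) (Nat.ble 20 b)) (Bool.rec (motive := fun _ => ℕ) (Bool.rec (motive := fun _ => ℕ) (Bool.rec (motive := fun _ => ℕ) (e10_24) (e10_25) (Nat.ble 25 b)) (Bool.rec (motive := fun _ => ℕ) (e10_26) (e10_27) (Nat.ble 27 b)) (Nat.ble 26 b)) (Bool.rec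 (motive := fun _ => ℕ) (Bool.rec (motive := fun _ => ℕ) (e10_28) (e10_29) (Nat.ble 29 b)) (Bool.rec (motive := fun _ => ℕ) (e10_30) (e10_31) (Nat.ble 31 b)) (Nat.ble 30 b)) (Nat.ble 28 b)) (Nat.ble 24 b)) (Nat.ble 16 b)) (Bool.rec (motive := fun _ => ℕ) (Bool.rec (motive := fun _ => ℕ) (Bool.rec (motive := fun _ => ℕ) (Bool.rec (motive := fun _ => ℕ) (Bool.rec (motive := fun _ => ℕ) (e10_32) (e10_33) (Nat.ble 33 b)) (Bool.rec (motive := fun _ => ℕ) (e10_34) (e10_35) (Nat.ble 35 b)) (Nat.ble 34 b)) (Bool.rec (motive := fun _ => ℕ) (Bool.rec (motive := fun _ => ℕ) (e10_36) (e10_37) (Nat.ble 37 b)) (Bool.rec (motive := fun _ => ℕ) (e10_38) (e10_39) (Nat.ble 39 b)) (Nat.ble 38 b)) (Nat.ble 36 b)) (Bool.rec (motive := fun _ => ℕ) (Bool.rec (motive := fun _ => ℕ) (Bool.rec (motive := fun _ => ℕ) (e10_40) (e10_41) (Nat.ble 41 b))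 (Bool.rec (motive := fun _ => ℕ) (e10_42) (e10_43) (Nat.ble 43 b)) (Nat.ble 42 b)) (Bool.rec (motive := fun _ => ℕ) (Bool.rec (motive := fun _ => ℕ) (e10_44) (e10_45) (Nat.ble 45 b)) (Bool.rec (motive := fun _ => ℕ) (e10_46) (e10_47) (Nat.ble 47 b)) (Nat.ble 46 b)) (Nat.ble 44 b)) (Nat.ble 40 b)) (Bool.rec (motive := fun _ => ℕ) (Bool.rec (motive := fun _ => ℕ) (Bool.rec (motive := fun _ => ℕ) (Bool.rec (motive := fun _ => ℕ) (e10_48) (e10_49) (Nat.ble 49 b)) (Bool.rec (motive := fun _ => ℕ) (e10_50) (e10_51) (Nat.ble 51 b)) (Nat.ble 50 b)) (Bool.rec (motive := fun _ => ℕ) (Bool.rec (motive := fun _ => ℕ) (e10_52) (e10_53) (Nat.ble 53 b)) (Bool.rec (motive := fun _ => ℕ) (e10_54) (e10_55) (Nat.ble 55 b)) (Nat.ble 54 b)) (Nat.ble 52 b)) (Bool.rec (motive := fun _ => ℕ) (Bool.rec (motive := fun _ => ℕ) (Bool.rec (motive := fun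 _ => ℕ) (e10_56) (e10_57) (Nat.ble 57 b)) (Bool.rec (motive := fun _ => ℕ) (e10_58) (e10_59) (Nat.ble 59 b)) (Nat.ble 58 b)) (Bool.rec (motive := fun _ => ℕ) (Bool.rec (motive := fun _ => ℕ) (e10_60) (e10_61) (Nat.ble 61 b)) (Bool.rec (motive := fun _ => ℕ) (e10_62) (e10_63) (Nat.ble 63 b)) (Nat.ble 62 b)) (Nat.ble 60 b)) (Nat.ble 56 b)) (Nat.ble 48 b)) (Nat.ble 32 b)) (Bool.rec (motive := fun _ => ℕ) (Bool.rec (motive := fun _ => ℕ) (Bool.rec (motive := fun _ => ℕ) (Bool.rec (motive := fun _ => ℕ) (Bool.rec (motive := fun _ => ℕ) (Bool.rec (motive := fun _ => ℕ) (e10_64) (e10_65) (Nat.ble 65 b)) (Bool.rec (motive := fun _ => ℕ) (e10_66) (e10_67) (Nat.ble 67 b)) (Nat.ble 66 b)) (Bool.rec (motive := fun _ => ℕ) (Bool.rec (motive := fun _ => ℕ) (e10_68) (e10_69) (Nat.ble 69 b)) (Bool.rec (motive := fun _ => ℕ) (e10_70) (e10_71)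 (Nat.ble 71 b)) (Nat.ble 70 b)) (Nat.ble 68 b)) (Bool.rec (motive := fun _ => ℕ) (Bool.rec (motive := fun _ => ℕ) (Bool.rec (motive := fun _ => ℕ) (e10_72) (e10_73) (Nat.ble 73 b)) (Bool.rec (motive := fun _ => ℕ) (e10_74) (e10_75) (Nat.ble 75 b)) (Nat.ble 74 b)) (Bool.rec (motive := fun _ => ℕ) (Bool.rec (motive := fun _ => ℕ) (e10_76) (e10_77) (Nat.ble 77 b)) (Bool.rec (motive := fun _ => ℕ) (e10_78) (e10_79) (Nat.ble 79 b)) (Nat.ble 78 b)) (Nat.ble 76 b)) (Nat.ble 72 b)) (Bool.rec (motive := fun _ => ℕ) (Bool.rec (motive := fun _ => ℕ) (Bool.rec (motive := fun _ => ℕ) (Bool.rec (motive := fun _ => ℕ) (e10_80) (e10_81) (Nat.ble 81 b)) (Bool.rec (motive := fun _ => ℕ) (e10_82) (e10_83) (Nat.ble 83 b)) (Nat.ble 82 b)) (Bool.rec (motive := fun _ => ℕ) (Bool.rec (motive := fun _ => ℕ) (e10_84) (e10_85) (Nat.ble 85 b)) (Bool.rec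 (motive := fun _ => ℕ) (e10_86) (e10_87) (Nat.ble 87 b)) (Nat.ble 86 b)) (Nat.ble 84 b)) (Bool.rec (motive := fun _ => ℕ) (Bool.rec (motive := fun _ => ℕ) (Bool.rec (motive := fun _ => ℕ) (e10_88) (e10_89) (Nat.ble 89 b)) (Bool.rec (motive := fun _ => ℕ) (e10_90) (e10_91) (Nat.ble 91 b)) (Nat.ble 90 b)) (Bool.rec (motive := fun _ => ℕ) (Bool.rec (motive := fun _ => ℕ) (e10_92) (e10_93) (Nat.ble 93 b)) (Bool.rec (motive := fun _ => ℕ) (e10_94) (e10_95) (Nat.ble 95 b)) (Nat.ble 94 b)) (Nat.ble 92 b)) (Nat.ble 88 b)) (Nat.ble 80 b)) (Bool.rec (motive := fun _ => ℕ) (Bool.rec (motive := fun _ => ℕ) (Bool.rec (motive := fun _ => ℕ) (Bool.rec (motive := fun _ => ℕ) (Bool.rec (motive := fun _ => ℕ) (e10_96) (e10_97) (Nat.ble 97 b)) (Bool.rec (motive := fun _ => ℕ) (e10_98) (e10_99) (Nat.ble 99 b)) (Nat.ble 98 b)) (Bool.rec (motive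 := fun _ => ℕ) (Bool.rec (motive := fun _ => ℕ) (e10_100) (e10_101) (Nat.ble 101 b)) (Bool.rec (motive := fun _ => ℕ) (e10_102) (e10_103) (Nat.ble 103 b)) (Nat.ble 102 b)) (Nat.ble 100 b)) (Bool.rec (motive := fun _ => ℕ) (Bool.rec (motive := fun _ => ℕ) (Bool.rec (motive := fun _ => ℕ) (e10_104) (e10_105) (Nat.ble 105 b)) (Bool.rec (motive := fun _ => ℕ) (e10_106) (e10_107) (Nat.ble 107 b)) (Nat.ble 106 b)) (Bool.rec (motive := fun _ => ℕ) (Bool.rec (motive := fun _ => ℕ) (e10_108) (e10_109) (Nat.ble 109 b)) (Bool.rec (motive := fun _ => ℕ) (e10_110) (e10_111) (Nat.ble 111 b)) (Nat.ble 110 b)) (Nat.ble 108 b)) (Nat.ble 104 b)) (Bool.rec (motive := fun _ => ℕ) (Bool.rec (motive := fun _ => ℕ) (Bool.rec (motive := fun _ => ℕ) (Bool.rec (motive := fun _ => ℕ) (e10_112) (e10_113) (Nat.ble 113 b)) (Bool.rec (motive := fun _ =>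 ℕ) (e10_114) (e10_115) (Nat.ble 115 b)) (Nat.ble 114 b)) (Bool.rec (motive := fun _ => ℕ) (Bool.rec (motive := fun _ => ℕ) (e10_116) (e10_117) (Nat.ble 117 b)) (Bool.rec (motive := fun _ => ℕ) (e10_118) (0) (Nat.ble 119 b)) (Nat.ble 118 b)) (Nat.ble 116 b)) (0) (Nat.ble 120 b)) (Nat.ble 112 b)) (Nat.ble 96 b)) (Nat.ble 64 b))
noncomputable def jcol10 (b : ℕ) : ℕ := (Bool.rec (motive := fun _ => ℕ) (Bool.rec (motive := fun _ => ℕ) (Bool.rec (motive := fun _ => ℕ) (Bool.rec (motive := fun _ => ℕ) (Bool.rec (motive := fun _ => ℕ) (Bool.rec (motive := fun _ => ℕ) (Bool.rec (motive := fun _ => ℕ) (j10_0) (j10_1) (Nat.ble 1 b)) (Bool.rec (motive := fun _ => ℕ) (j10_2) (j10_3) (Nat.ble 3 b)) (Nat.ble 2 b)) (Bool.rec (motive := fun _ => ℕ) (Bool.rec (motive := fun _ => ℕ) (j10_4) (j10_5) (Nat.ble 5 b)) (Bool.rec (motive := fun _ =>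 ℕ) (j10_6) (j10_7) (Nat.ble 7 b)) (Nat.ble 6 b)) (Nat.ble 4 b)) (Bool.rec (motive := fun _ => ℕ) (Bool.rec (motive := fun _ => ℕ) (Bool.rec (motive := fun _ => ℕ) (j10_8) (j10_9) (Nat.ble 9 b)) (Bool.rec (motive := fun _ => ℕ) (j10_10) (j10_11) (Nat.ble 11 b)) (Nat.ble 10 b)) (Bool.rec (motive := fun _ => ℕ) (Bool.rec (motive := fun _ => ℕ) (j10_12) (j10_13) (Nat.ble 13 b)) (Bool.rec (motive := fun _ => ℕ) (j10_14) (j10_15) (Nat.ble 15 b)) (Nat.ble 14 b)) (Nat.ble 12 b)) (Nat.ble 8 b)) (Bool.rec (motive := fun _ => ℕ) (Bool.rec (motive := fun _ => ℕ) (Bool.rec (motive := fun _ => ℕ) (Bool.rec (motive := fun _ => ℕ) (j10_16) (j10_17) (Nat.ble 17 b)) (Bool.rec (motive := fun _ => ℕ) (j10_18) (j10_19) (Nat.ble 19 b)) (Nat.ble 18 b)) (Bool.rec (motive := fun _ => ℕ) (Bool.rec (motive := fun _ => ℕ) (j10_20) (j10_21) (Nat.ble 21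 b)) (Bool.rec (motive := fun _ => ℕ) (j10_22) (j10_23) (Nat.ble 23 b)) (Nat.ble 22 b)) (Nat.ble 20 b)) (Bool.rec (motive := fun _ => ℕ) (Bool.rec (motive := fun _ => ℕ) (Bool.rec (motive := fun _ => ℕ) (j10_24) (j10_25) (Nat.ble 25 b)) (Bool.rec (motive := fun _ => ℕ) (j10_26) (j10_27) (Nat.ble 27 b)) (Nat.ble 26 b)) (Bool.rec (motive := fun _ => ℕ) (Bool.rec (motive := fun _ => ℕ) (j10_28) (j10_29) (Nat.ble 29 b)) (Bool.rec (motive := fun _ => ℕ) (j10_30) (j10_31) (Nat.ble 31 b)) (Nat.ble 30 b)) (Nat.ble 28 b)) (Nat.ble 24 b)) (Nat.ble 16 b)) (Bool.rec (motive := fun _ => ℕ) (Bool.rec (motive := fun _ => ℕ) (Bool.rec (motive := fun _ => ℕ) (Bool.rec (motive := fun _ => ℕ) (Bool.rec (motive := fun _ => ℕ) (j10_32) (j10_33) (Nat.ble 33 b)) (Bool.rec (motive := fun _ => ℕ) (j10_34) (j10_35) (Nat.ble 35 b)) (Nat.ble 34 b)) (Bool.rec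 (motive := fun _ => ℕ) (Bool.rec (motive := fun _ => ℕ) (j10_36) (j10_37) (Nat.ble 37 b)) (Bool.rec (motive := fun _ => ℕ) (j10_38) (j10_39) (Nat.ble 39 b)) (Nat.ble 38 b)) (Nat.ble 36 b)) (Bool.rec (motive := fun _ => ℕ) (Bool.rec (motive := fun _ => ℕ) (Bool.rec (motive := fun _ => ℕ) (j10_40) (j10_41) (Nat.ble 41 b)) (Bool.rec (motive := fun _ => ℕ) (j10_42) (j10_43) (Nat.ble 43 b)) (Nat.ble 42 b)) (Bool.rec (motive := fun _ => ℕ) (Bool.rec (motive := fun _ => ℕ) (j10_44) (j10_45) (Nat.ble 45 b)) (Bool.rec (motive := fun _ => ℕ) (j10_46) (j10_47) (Nat.ble 47 b)) (Nat.ble 46 b)) (Nat.ble 44 b)) (Nat.ble 40 b)) (Bool.rec (motive := fun _ => ℕ) (Bool.rec (motive := fun _ => ℕ) (Bool.rec (motive := fun _ => ℕ) (Bool.rec (motive := fun _ => ℕ) (j10_48) (j10_49) (Nat.ble 49 b)) (Bool.rec (motive := fun _ => ℕ) (j10_50) (j10_51)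 (Nat.ble 51 b)) (Nat.ble 50 b)) (Bool.rec (motive := fun _ => ℕ) (Bool.rec (motive := fun _ => ℕ) (j10_52) (j10_53) (Nat.ble 53 b)) (Bool.rec (motive := fun _ => ℕ) (j10_54) (j10_55) (Nat.ble 55 b)) (Nat.ble 54 b)) (Nat.ble 52 b)) (Bool.rec (motive := fun _ => ℕ) (Bool.rec (motive := fun _ => ℕ) (Bool.rec (motive := fun _ => ℕ) (j10_56) (j10_57) (Nat.ble 57 b)) (Bool.rec (motive := fun _ => ℕ) (j10_58) (j10_59) (Nat.ble 59 b)) (Nat.ble 58 b)) (Bool.rec (motive := fun _ => ℕ) (Bool.rec (motive := fun _ => ℕ) (j10_60) (j10_61) (Nat.ble 61 b)) (Bool.rec (motive := fun _ => ℕ) (j10_62) (j10_63) (Nat.ble 63 b)) (Nat.ble 62 b)) (Nat.ble 60 b)) (Nat.ble 56 b)) (Nat.ble 48 b)) (Nat.ble 32 b)) (Bool.rec (motive := fun _ => ℕ) (Bool.rec (motive := fun _ => ℕ) (Bool.rec (motive := fun _ => ℕ) (Bool.rec (motive := fun _ => ℕ) (Bool.rec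 (motive := fun _ => ℕ) (Bool.rec (motive := fun _ => ℕ) (j10_64) (j10_65) (Nat.ble 65 b)) (Bool.rec (motive := fun _ => ℕ) (j10_66) (j10_67) (Nat.ble 67 b)) (Nat.ble 66 b)) (Bool.rec (motive := fun _ => ℕ) (Bool.rec (motive := fun _ => ℕ) (j10_68) (j10_69) (Nat.ble 69 b)) (Bool.rec (motive := fun _ => ℕ) (j10_70) (j10_71) (Nat.ble 71 b)) (Nat.ble 70 b)) (Nat.ble 68 b)) (Bool.rec (motive := fun _ => ℕ) (Bool.rec (motive := fun _ => ℕ) (Bool.rec (motive := fun _ => ℕ) (j10_72) (j10_73) (Nat.ble 73 b)) (Bool.rec (motive := fun _ => ℕ) (j10_74) (j10_75) (Nat.ble 75 b)) (Nat.ble 74 b)) (Bool.rec (motive := fun _ => ℕ) (Bool.rec (motive := fun _ => ℕ) (j10_76) (j10_77) (Nat.ble 77 b)) (Bool.rec (motive := fun _ => ℕ) (j10_78) (j10_79) (Nat.ble 79 b)) (Nat.ble 78 b)) (Nat.ble 76 b)) (Nat.ble 72 b)) (Bool.rec (motive := fun _ => ℕ)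 (Bool.rec (motive := fun _ => ℕ) (Bool.rec (motive := fun _ => ℕ) (Bool.rec (motive := fun _ => ℕ) (j10_80) (j10_81) (Nat.ble 81 b)) (Bool.rec (motive := fun _ => ℕ) (j10_82) (j10_83) (Nat.ble 83 b)) (Nat.ble 82 b)) (Bool.rec (motive := fun _ => ℕ) (Bool.rec (motive := fun _ => ℕ) (j10_84) (j10_85) (Nat.ble 85 b)) (Bool.rec (motive := fun _ => ℕ) (j10_86) (j10_87) (Nat.ble 87 b)) (Nat.ble 86 b)) (Nat.ble 84 b)) (Bool.rec (motive := fun _ => ℕ) (Bool.rec (motive := fun _ => ℕ) (Bool.rec (motive := fun _ => ℕ) (j10_88) (j10_89) (Nat.ble 89 b)) (Bool.rec (motive := fun _ => ℕ) (j10_90) (j10_91) (Nat.ble 91 b)) (Nat.ble 90 b)) (Bool.rec (motive := fun _ => ℕ) (Bool.rec (motive := fun _ => ℕ) (j10_92) (j10_93) (Nat.ble 93 b)) (Bool.rec (motive := fun _ => ℕ) (j10_94) (j10_95) (Nat.ble 95 b)) (Nat.ble 94 b)) (Nat.ble 92 b)) (Nat.ble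 88 b)) (Nat.ble 80 b)) (Bool.rec (motive := fun _ => ℕ) (Bool.rec (motive := fun _ => ℕ) (Bool.rec (motive := fun _ => ℕ) (Bool.rec (motive := fun _ => ℕ) (Bool.rec (motive := fun _ => ℕ) (j10_96) (j10_97) (Nat.ble 97 b)) (Bool.rec (motive := fun _ => ℕ) (j10_98) (j10_99) (Nat.ble 99 b)) (Nat.ble 98 b)) (Bool.rec (motive := fun _ => ℕ) (Bool.rec (motive := fun _ => ℕ) (j10_100) (j10_101) (Nat.ble 101 b)) (Bool.rec (motive := fun _ => ℕ) (j10_102) (j10_103) (Nat.ble 103 b)) (Nat.ble 102 b)) (Nat.ble 100 b)) (Bool.rec (motive := fun _ => ℕ) (Bool.rec (motive := fun _ => ℕ) (Bool.rec (motive := fun _ => ℕ) (j10_104) (j10_105) (Nat.ble 105 b)) (Bool.rec (motive := fun _ => ℕ) (j10_106) (j10_107) (Nat.ble 107 b)) (Nat.ble 106 b)) (Bool.rec (motive := fun _ => ℕ) (Bool.rec (motive := fun _ => ℕ) (j10_108) (j10_109) (Nat.ble 109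 b)) (Bool.rec (motive := fun _ => ℕ) (j10_110) (j10_111) (Nat.ble 111 b)) (Nat.ble 110 b)) (Nat.ble 108 b)) (Nat.ble 104 b)) (Bool.rec (motive := fun _ => ℕ) (Bool.rec (motive := fun _ => ℕ) (Bool.rec (motive := fun _ => ℕ) (Bool.rec (motive := fun _ => ℕ) (j10_112) (j10_113) (Nat.ble 113 b)) (Bool.rec (motive := fun _ => ℕ) (j10_114) (j10_115) (Nat.ble 115 b)) (Nat.ble 114 b)) (Bool.rec (motive := fun _ => ℕ) (Bool.rec (motive := fun _ => ℕ) (j10_116) (j10_117) (Nat.ble 117 b)) (Bool.rec (motive := fun _ => ℕ) (j10_118) (0) (Nat.ble 119 b)) (Nat.ble 118 b)) (Nat.ble 116 b)) (0) (Nat.ble 120 b)) (Nat.ble 112 b)) (Nat.ble 96 b)) (Nat.ble 64 b))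
noncomputable def ecol11 (b : ℕ) : ℕ := (Bool.rec (motive := fun _ => ℕ) (Bool.rec (motive := fun _ => ℕ) (Bool.rec (motive := fun _ => ℕ) (Bool.rec (motive := fun _ => ℕ) (Bool.rec (motive := fun _ => ℕ) (Bool.rec (motive := fun _ => ℕ) (Bool.rec (motive := fun _ => ℕ) (e11_0) (e11_1) (Nat.ble 1 b)) (Bool.rec (motive := fun _ => ℕ) (e11_2) (e11_3) (Nat.ble 3 b)) (Nat.ble 2 b)) (Bool.rec (motive := fun _ => ℕ) (Bool.rec (motive := fun _ => ℕ) (e11_4) (e11_5) (Nat.ble 5 b)) (Bool.rec (motive := fun _ => ℕ) (e11_6) (e11_7) (Nat.ble 7 b)) (Nat.ble 6 b)) (Nat.ble 4 b)) (Bool.rec (motive := fun _ => ℕ) (Bool.rec (motive := fun _ => ℕ) (Bool.rec (motive := fun _ => ℕ) (e11_8) (e11_9) (Nat.ble 9 b)) (Bool.rec (motive := fun _ => ℕ) (e11_10) (e11_11) (Nat.ble 11 b)) (Nat.ble 10 b)) (Bool.rec (motive := fun _ => ℕ) (Bool.rec (motive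 := fun _ => ℕ) (e11_12) (e11_13) (Nat.ble 13 b)) (Bool.rec (motive := fun _ => ℕ) (e11_14) (e11_15) (Nat.ble 15 b)) (Nat.ble 14 b)) (Nat.ble 12 b)) (Nat.ble 8 b)) (Bool.rec (motive := fun _ => ℕ) (Bool.rec (motive := fun _ => ℕ) (Bool.rec (motive := fun _ => ℕ) (Bool.rec (motive := fun _ => ℕ) (e11_16) (e11_17) (Nat.ble 17 b)) (Bool.rec (motive := fun _ => ℕ) (e11_18) (e11_19) (Nat.ble 19 b)) (Nat.ble 18 b)) (Bool.rec (motive := fun _ => ℕ) (Bool.rec (motive := fun _ => ℕ) (e11_20) (e11_21) (Nat.ble 21 b)) (Bool.rec (motive := fun _ => ℕ) (e11_22) (e11_23) (Nat.ble 23 b)) (Nat.ble 22 b)) (Nat.ble 20 b)) (Bool.rec (motive := fun _ => ℕ) (Bool.rec (motive := fun _ => ℕ) (Bool.rec (motive := fun _ => ℕ) (e11_24) (e11_25) (Nat.ble 25 b)) (Bool.rec (motive := fun _ => ℕ) (e11_26) (e11_27) (Nat.ble 27 b)) (Nat.ble 26 b)) (Bool.rec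 (motive := fun _ => ℕ) (Bool.rec (motive := fun _ => ℕ) (e11_28) (e11_29) (Nat.ble 29 b)) (Bool.rec (motive := fun _ => ℕ) (e11_30) (e11_31) (Nat.ble 31 b)) (Nat.ble 30 b)) (Nat.ble 28 b)) (Nat.ble 24 b)) (Nat.ble 16 b)) (Bool.rec (motive := fun _ => ℕ) (Bool.rec (motive := fun _ => ℕ) (Bool.rec (motive := fun _ => ℕ) (Bool.rec (motive := fun _ => ℕ) (Bool.rec (motive := fun _ => ℕ) (e11_32) (e11_33) (Nat.ble 33 b)) (Bool.rec (motive := fun _ => ℕ) (e11_34) (e11_35) (Nat.ble 35 b)) (Nat.ble 34 b)) (Bool.rec (motive := fun _ => ℕ) (Bool.rec (motive := fun _ => ℕ) (e11_36) (e11_37) (Nat.ble 37 b)) (Bool.rec (motive := fun _ => ℕ) (e11_38) (e11_39) (Nat.ble 39 b)) (Nat.ble 38 b)) (Nat.ble 36 b)) (Bool.rec (motive := fun _ => ℕ) (Bool.rec (motive := fun _ => ℕ) (Bool.rec (motive := fun _ => ℕ) (e11_40) (e11_41) (Nat.ble 41 b))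 (Bool.rec (motive := fun _ => ℕ) (e11_42) (e11_43) (Nat.ble 43 b)) (Nat.ble 42 b)) (Bool.rec (motive := fun _ => ℕ) (Bool.rec (motive := fun _ => ℕ) (e11_44) (e11_45) (Nat.ble 45 b)) (Bool.rec (motive := fun _ => ℕ) (e11_46) (e11_47) (Nat.ble 47 b)) (Nat.ble 46 b)) (Nat.ble 44 b)) (Nat.ble 40 b)) (Bool.rec (motive := fun _ => ℕ) (Bool.rec (motive := fun _ => ℕ) (Bool.rec (motive := fun _ => ℕ) (Bool.rec (motive := fun _ => ℕ) (e11_48) (e11_49) (Nat.ble 49 b)) (Bool.rec (motive := fun _ => ℕ) (e11_50) (e11_51) (Nat.ble 51 b)) (Nat.ble 50 b)) (Bool.rec (motive := fun _ => ℕ) (Bool.rec (motive := fun _ => ℕ) (e11_52) (e11_53) (Nat.ble 53 b)) (Bool.rec (motive := fun _ => ℕ) (e11_54) (e11_55) (Nat.ble 55 b)) (Nat.ble 54 b)) (Nat.ble 52 b)) (Bool.rec (motive := fun _ => ℕ) (Bool.rec (motive := fun _ => ℕ) (Bool.rec (motive := fun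 _ => ℕ) (e11_56) (e11_57) (Nat.ble 57 b)) (Bool.rec (motive := fun _ => ℕ) (e11_58) (e11_59) (Nat.ble 59 b)) (Nat.ble 58 b)) (Bool.rec (motive := fun _ => ℕ) (Bool.rec (motive := fun _ => ℕ) (e11_60) (e11_61) (Nat.ble 61 b)) (Bool.rec (motive := fun _ => ℕ) (e11_62) (e11_63) (Nat.ble 63 b)) (Nat.ble 62 b)) (Nat.ble 60 b)) (Nat.ble 56 b)) (Nat.ble 48 b)) (Nat.ble 32 b)) (Bool.rec (motive := fun _ => ℕ) (Bool.rec (motive := fun _ => ℕ) (Bool.rec (motive := fun _ => ℕ) (Bool.rec (motive := fun _ => ℕ) (Bool.rec (motive := fun _ => ℕ) (Bool.rec (motive := fun _ => ℕ) (e11_64) (e11_65) (Nat.ble 65 b)) (Bool.rec (motive := fun _ => ℕ) (e11_66) (e11_67) (Nat.ble 67 b)) (Nat.ble 66 b)) (Bool.rec (motive := fun _ => ℕ) (Bool.rec (motive := fun _ => ℕ) (e11_68) (e11_69) (Nat.ble 69 b)) (Bool.rec (motive := fun _ => ℕ) (e11_70) (e11_71)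 (Nat.ble 71 b)) (Nat.ble 70 b)) (Nat.ble 68 b)) (Bool.rec (motive := fun _ => ℕ) (Bool.rec (motive := fun _ => ℕ) (Bool.rec (motive := fun _ => ℕ) (e11_72) (e11_73) (Nat.ble 73 b)) (Bool.rec (motive := fun _ => ℕ) (e11_74) (e11_75) (Nat.ble 75 b)) (Nat.ble 74 b)) (Bool.rec (motive := fun _ => ℕ) (Bool.rec (motive := fun _ => ℕ) (e11_76) (e11_77) (Nat.ble 77 b)) (Bool.rec (motive := fun _ => ℕ) (e11_78) (e11_79) (Nat.ble 79 b)) (Nat.ble 78 b)) (Nat.ble 76 b)) (Nat.ble 72 b)) (Bool.rec (motive := fun _ => ℕ) (Bool.rec (motive := fun _ => ℕ) (Bool.rec (motive := fun _ => ℕ) (Bool.rec (motive := fun _ => ℕ) (e11_80) (e11_81) (Nat.ble 81 b)) (Bool.rec (motive := fun _ => ℕ) (e11_82) (e11_83) (Nat.ble 83 b)) (Nat.ble 82 b)) (Bool.rec (motive := fun _ => ℕ) (Bool.rec (motive := fun _ => ℕ) (e11_84) (e11_85) (Nat.ble 85 b)) (Bool.rec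 (motive := fun _ => ℕ) (e11_86) (e11_87) (Nat.ble 87 b)) (Nat.ble 86 b)) (Nat.ble 84 b)) (Bool.rec (motive := fun _ => ℕ) (Bool.rec (motive := fun _ => ℕ) (Bool.rec (motive := fun _ => ℕ) (e11_88) (e11_89) (Nat.ble 89 b)) (Bool.rec (motive := fun _ => ℕ) (e11_90) (e11_91) (Nat.ble 91 b)) (Nat.ble 90 b)) (Bool.rec (motive := fun _ => ℕ) (Bool.rec (motive := fun _ => ℕ) (e11_92) (e11_93) (Nat.ble 93 b)) (Bool.rec (motive := fun _ => ℕ) (e11_94) (e11_95) (Nat.ble 95 b)) (Nat.ble 94 b)) (Nat.ble 92 b)) (Nat.ble 88 b)) (Nat.ble 80 b)) (Bool.rec (motive := fun _ => ℕ) (Bool.rec (motive := fun _ => ℕ) (Bool.rec (motive := fun _ => ℕ) (Bool.rec (motive := fun _ => ℕ) (Bool.rec (motive := fun _ => ℕ) (e11_96) (e11_97) (Nat.ble 97 b)) (Bool.rec (motive := fun _ => ℕ) (e11_98) (e11_99) (Nat.ble 99 b)) (Nat.ble 98 b)) (Bool.rec (motive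 := fun _ => ℕ) (Bool.rec (motive := fun _ => ℕ) (e11_100) (e11_101) (Nat.ble 101 b)) (Bool.rec (motive := fun _ => ℕ) (e11_102) (e11_103) (Nat.ble 103 b)) (Nat.ble 102 b)) (Nat.ble 100 b)) (Bool.rec (motive := fun _ => ℕ) (Bool.rec (motive := fun _ => ℕ) (Bool.rec (motive := fun _ => ℕ) (e11_104) (e11_105) (Nat.ble 105 b)) (Bool.rec (motive := fun _ => ℕ) (e11_106) (e11_107) (Nat.ble 107 b)) (Nat.ble 106 b)) (Bool.rec (motive := fun _ => ℕ) (Bool.rec (motive := fun _ => ℕ) (e11_108) (e11_109) (Nat.ble 109 b)) (Bool.rec (motive := fun _ => ℕ) (e11_110) (e11_111) (Nat.ble 111 b)) (Nat.ble 110 b)) (Nat.ble 108 b)) (Nat.ble 104 b)) (Bool.rec (motive := fun _ => ℕ) (Bool.rec (motive := fun _ => ℕ) (Bool.rec (motive := fun _ => ℕ) (Bool.rec (motive := fun _ => ℕ) (e11_112) (e11_113) (Nat.ble 113 b)) (Bool.rec (motive := fun _ =>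 ℕ) (e11_114) (e11_115) (Nat.ble 115 b)) (Nat.ble 114 b)) (Bool.rec (motive := fun _ => ℕ) (Bool.rec (motive := fun _ => ℕ) (e11_116) (e11_117) (Nat.ble 117 b)) (Bool.rec (motive := fun _ => ℕ) (e11_118) (0) (Nat.ble 119 b)) (Nat.ble 118 b)) (Nat.ble 116 b)) (0) (Nat.ble 120 b)) (Nat.ble 112 b)) (Nat.ble 96 b)) (Nat.ble 64 b))
noncomputable def jcol11 (b : ℕ) : ℕ := (Bool.rec (motive := fun _ => ℕ) (Bool.rec (motive := fun _ => ℕ) (Bool.rec (motive := fun _ => ℕ) (Bool.rec (motive := fun _ => ℕ) (Bool.rec (motive := fun _ => ℕ) (Bool.rec (motive := fun _ => ℕ) (Bool.rec (motive := fun _ => ℕ) (j11_0) (j11_1) (Nat.ble 1 b)) (Bool.rec (motive := fun _ => ℕ) (j11_2) (j11_3) (Nat.ble 3 b)) (Nat.ble 2 b)) (Bool.rec (motive := fun _ => ℕ) (Bool.rec (motive := fun _ => ℕ) (j11_4) (j11_5) (Nat.ble 5 b)) (Bool.rec (motive := fun _ =>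 ℕ) (j11_6) (j11_7) (Nat.ble 7 b)) (Nat.ble 6 b)) (Nat.ble 4 b)) (Bool.rec (motive := fun _ => ℕ) (Bool.rec (motive := fun _ => ℕ) (Bool.rec (motive := fun _ => ℕ) (j11_8) (j11_9) (Nat.ble 9 b)) (Bool.rec (motive := fun _ => ℕ) (j11_10) (j11_11) (Nat.ble 11 b)) (Nat.ble 10 b)) (Bool.rec (motive := fun _ => ℕ) (Bool.rec (motive := fun _ => ℕ) (j11_12) (j11_13) (Nat.ble 13 b)) (Bool.rec (motive := fun _ => ℕ) (j11_14) (j11_15) (Nat.ble 15 b)) (Nat.ble 14 b)) (Nat.ble 12 b)) (Nat.ble 8 b)) (Bool.rec (motive := fun _ => ℕ) (Bool.rec (motive := fun _ => ℕ) (Bool.rec (motive := fun _ => ℕ) (Bool.rec (motive := fun _ => ℕ) (j11_16) (j11_17) (Nat.ble 17 b)) (Bool.rec (motive := fun _ => ℕ) (j11_18) (j11_19) (Nat.ble 19 b)) (Nat.ble 18 b)) (Bool.rec (motive := fun _ => ℕ) (Bool.rec (motive := fun _ => ℕ) (j11_20) (j11_21) (Nat.ble 21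 b)) (Bool.rec (motive := fun _ => ℕ) (j11_22) (j11_23) (Nat.ble 23 b)) (Nat.ble 22 b)) (Nat.ble 20 b)) (Bool.rec (motive := fun _ => ℕ) (Bool.rec (motive := fun _ => ℕ) (Bool.rec (motive := fun _ => ℕ) (j11_24) (j11_25) (Nat.ble 25 b)) (Bool.rec (motive := fun _ => ℕ) (j11_26) (j11_27) (Nat.ble 27 b)) (Nat.ble 26 b)) (Bool.rec (motive := fun _ => ℕ) (Bool.rec (motive := fun _ => ℕ) (j11_28) (j11_29) (Nat.ble 29 b)) (Bool.rec (motive := fun _ => ℕ) (j11_30) (j11_31) (Nat.ble 31 b)) (Nat.ble 30 b)) (Nat.ble 28 b)) (Nat.ble 24 b)) (Nat.ble 16 b)) (Bool.rec (motive := fun _ => ℕ) (Bool.rec (motive := fun _ => ℕ) (Bool.rec (motive := fun _ => ℕ) (Bool.rec (motive := fun _ => ℕ) (Bool.rec (motive := fun _ => ℕ) (j11_32) (j11_33) (Nat.ble 33 b)) (Bool.rec (motive := fun _ => ℕ) (j11_34) (j11_35) (Nat.ble 35 b)) (Nat.ble 34 b)) (Bool.rec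 (motive := fun _ => ℕ) (Bool.rec (motive := fun _ => ℕ) (j11_36) (j11_37) (Nat.ble 37 b)) (Bool.rec (motive := fun _ => ℕ) (j11_38) (j11_39) (Nat.ble 39 b)) (Nat.ble 38 b)) (Nat.ble 36 b)) (Bool.rec (motive := fun _ => ℕ) (Bool.rec (motive := fun _ => ℕ) (Bool.rec (motive := fun _ => ℕ) (j11_40) (j11_41) (Nat.ble 41 b)) (Bool.rec (motive := fun _ => ℕ) (j11_42) (j11_43) (Nat.ble 43 b)) (Nat.ble 42 b)) (Bool.rec (motive := fun _ => ℕ) (Bool.rec (motive := fun _ => ℕ) (j11_44) (j11_45) (Nat.ble 45 b)) (Bool.rec (motive := fun _ => ℕ) (j11_46) (j11_47) (Nat.ble 47 b)) (Nat.ble 46 b)) (Nat.ble 44 b)) (Nat.ble 40 b)) (Bool.rec (motive := fun _ => ℕ) (Bool.rec (motive := fun _ => ℕ) (Bool.rec (motive := fun _ => ℕ) (Bool.rec (motive := fun _ => ℕ) (j11_48) (j11_49) (Nat.ble 49 b)) (Bool.rec (motive := fun _ => ℕ) (j11_50) (j11_51)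 (Nat.ble 51 b)) (Nat.ble 50 b)) (Bool.rec (motive := fun _ => ℕ) (Bool.rec (motive := fun _ => ℕ) (j11_52) (j11_53) (Nat.ble 53 b)) (Bool.rec (motive := fun _ => ℕ) (j11_54) (j11_55) (Nat.ble 55 b)) (Nat.ble 54 b)) (Nat.ble 52 b)) (Bool.rec (motive := fun _ => ℕ) (Bool.rec (motive := fun _ => ℕ) (Bool.rec (motive := fun _ => ℕ) (j11_56) (j11_57) (Nat.ble 57 b)) (Bool.rec (motive := fun _ => ℕ) (j11_58) (j11_59) (Nat.ble 59 b)) (Nat.ble 58 b)) (Bool.rec (motive := fun _ => ℕ) (Bool.rec (motive := fun _ => ℕ) (j11_60) (j11_61) (Nat.ble 61 b)) (Bool.rec (motive := fun _ => ℕ) (j11_62) (j11_63) (Nat.ble 63 b)) (Nat.ble 62 b)) (Nat.ble 60 b)) (Nat.ble 56 b)) (Nat.ble 48 b)) (Nat.ble 32 b)) (Bool.rec (motive := fun _ => ℕ) (Bool.rec (motive := fun _ => ℕ) (Bool.rec (motive := fun _ => ℕ) (Bool.rec (motive := fun _ => ℕ) (Bool.rec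 (motive := fun _ => ℕ) (Bool.rec (motive := fun _ => ℕ) (j11_64) (j11_65) (Nat.ble 65 b)) (Bool.rec (motive := fun _ => ℕ) (j11_66) (j11_67) (Nat.ble 67 b)) (Nat.ble 66 b)) (Bool.rec (motive := fun _ => ℕ) (Bool.rec (motive := fun _ => ℕ) (j11_68) (j11_69) (Nat.ble 69 b)) (Bool.rec (motive := fun _ => ℕ) (j11_70) (j11_71) (Nat.ble 71 b)) (Nat.ble 70 b)) (Nat.ble 68 b)) (Bool.rec (motive := fun _ => ℕ) (Bool.rec (motive := fun _ => ℕ) (Bool.rec (motive := fun _ => ℕ) (j11_72) (j11_73) (Nat.ble 73 b)) (Bool.rec (motive := fun _ => ℕ) (j11_74) (j11_75) (Nat.ble 75 b)) (Nat.ble 74 b)) (Bool.rec (motive := fun _ => ℕ) (Bool.rec (motive := fun _ => ℕ) (j11_76) (j11_77) (Nat.ble 77 b)) (Bool.rec (motive := fun _ => ℕ) (j11_78) (j11_79) (Nat.ble 79 b)) (Nat.ble 78 b)) (Nat.ble 76 b)) (Nat.ble 72 b)) (Bool.rec (motive := fun _ => ℕ)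 (Bool.rec (motive := fun _ => ℕ) (Bool.rec (motive := fun _ => ℕ) (Bool.rec (motive := fun _ => ℕ) (j11_80) (j11_81) (Nat.ble 81 b)) (Bool.rec (motive := fun _ => ℕ) (j11_82) (j11_83) (Nat.ble 83 b)) (Nat.ble 82 b)) (Bool.rec (motive := fun _ => ℕ) (Bool.rec (motive := fun _ => ℕ) (j11_84) (j11_85) (Nat.ble 85 b)) (Bool.rec (motive := fun _ => ℕ) (j11_86) (j11_87) (Nat.ble 87 b)) (Nat.ble 86 b)) (Nat.ble 84 b)) (Bool.rec (motive := fun _ => ℕ) (Bool.rec (motive := fun _ => ℕ) (Bool.rec (motive := fun _ => ℕ) (j11_88) (j11_89) (Nat.ble 89 b)) (Bool.rec (motive := fun _ => ℕ) (j11_90) (j11_91) (Nat.ble 91 b)) (Nat.ble 90 b)) (Bool.rec (motive := fun _ => ℕ) (Bool.rec (motive := fun _ => ℕ) (j11_92) (j11_93) (Nat.ble 93 b)) (Bool.rec (motive := fun _ => ℕ) (j11_94) (j11_95) (Nat.ble 95 b)) (Nat.ble 94 b)) (Nat.ble 92 b)) (Nat.ble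 88 b)) (Nat.ble 80 b)) (Bool.rec (motive := fun _ => ℕ) (Bool.rec (motive := fun _ => ℕ) (Bool.rec (motive := fun _ => ℕ) (Bool.rec (motive := fun _ => ℕ) (Bool.rec (motive := fun _ => ℕ) (j11_96) (j11_97) (Nat.ble 97 b)) (Bool.rec (motive := fun _ => ℕ) (j11_98) (j11_99) (Nat.ble 99 b)) (Nat.ble 98 b)) (Bool.rec (motive := fun _ => ℕ) (Bool.rec (motive := fun _ => ℕ) (j11_100) (j11_101) (Nat.ble 101 b)) (Bool.rec (motive := fun _ => ℕ) (j11_102) (j11_103) (Nat.ble 103 b)) (Nat.ble 102 b)) (Nat.ble 100 b)) (Bool.rec (motive := fun _ => ℕ) (Bool.rec (motive := fun _ => ℕ) (Bool.rec (motive := fun _ => ℕ) (j11_104) (j11_105) (Nat.ble 105 b)) (Bool.rec (motive := fun _ => ℕ) (j11_106) (j11_107) (Nat.ble 107 b)) (Nat.ble 106 b)) (Bool.rec (motive := fun _ => ℕ) (Bool.rec (motive := fun _ => ℕ) (j11_108) (j11_109) (Nat.ble 109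 b)) (Bool.rec (motive := fun _ => ℕ) (j11_110) (j11_111) (Nat.ble 111 b)) (Nat.ble 110 b)) (Nat.ble 108 b)) (Nat.ble 104 b)) (Bool.rec (motive := fun _ => ℕ) (Bool.rec (motive := fun _ => ℕ) (Bool.rec (motive := fun _ => ℕ) (Bool.rec (motive := fun _ => ℕ) (j11_112) (j11_113) (Nat.ble 113 b)) (Bool.rec (motive := fun _ => ℕ) (j11_114) (j11_115) (Nat.ble 115 b)) (Nat.ble 114 b)) (Bool.rec (motive := fun _ => ℕ) (Bool.rec (motive := fun _ => ℕ) (j11_116) (j11_117) (Nat.ble 117 b)) (Bool.rec (motive := fun _ => ℕ) (j11_118) (0) (Nat.ble 119 b)) (Nat.ble 118 b)) (Nat.ble 116 b)) (0) (Nat.ble 120 b)) (Nat.ble 112 b)) (Nat.ble 96 b)) (Nat.ble 64 b))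
noncomputable def ecol12 (b : ℕ) : ℕ := (Bool.rec (motive := fun _ => ℕ) (Bool.rec (motive := fun _ => ℕ) (Bool.rec (motive := fun _ => ℕ) (Bool.rec (motive := fun _ => ℕ) (Bool.rec (motive := fun _ => ℕ) (Bool.rec (motive := fun _ => ℕ) (Bool.rec (motive := fun _ => ℕ) (e12_0) (e12_1) (Nat.ble 1 b)) (Bool.rec (motive := fun _ => ℕ) (e12_2) (e12_3) (Nat.ble 3 b)) (Nat.ble 2 b)) (Bool.rec (motive := fun _ => ℕ) (Bool.rec (motive := fun _ => ℕ) (e12_4) (e12_5) (Nat.ble 5 b)) (Bool.rec (motive := fun _ => ℕ) (e12_6) (e12_7) (Nat.ble 7 b)) (Nat.ble 6 b)) (Nat.ble 4 b)) (Bool.rec (motive := fun _ => ℕ) (Bool.rec (motive := fun _ => ℕ) (Bool.rec (motive := fun _ => ℕ) (e12_8) (e12_9) (Nat.ble 9 b)) (Bool.rec (motive := fun _ => ℕ) (e12_10) (e12_11) (Nat.ble 11 b)) (Nat.ble 10 b)) (Bool.rec (motive := fun _ => ℕ) (Bool.rec (motive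 := fun _ => ℕ) (e12_12) (e12_13) (Nat.ble 13 b)) (Bool.rec (motive := fun _ => ℕ) (e12_14) (e12_15) (Nat.ble 15 b)) (Nat.ble 14 b)) (Nat.ble 12 b)) (Nat.ble 8 b)) (Bool.rec (motive := fun _ => ℕ) (Bool.rec (motive := fun _ => ℕ) (Bool.rec (motive := fun _ => ℕ) (Bool.rec (motive := fun _ => ℕ) (e12_16) (e12_17) (Nat.ble 17 b)) (Bool.rec (motive := fun _ => ℕ) (e12_18) (e12_19) (Nat.ble 19 b)) (Nat.ble 18 b)) (Bool.rec (motive := fun _ => ℕ) (Bool.rec (motive := fun _ => ℕ) (e12_20) (e12_21) (Nat.ble 21 b)) (Bool.rec (motive := fun _ => ℕ) (e12_22) (e12_23) (Nat.ble 23 b)) (Nat.ble 22 b)) (Nat.ble 20 b)) (Bool.rec (motive := fun _ => ℕ) (Bool.rec (motive := fun _ => ℕ) (Bool.rec (motive := fun _ => ℕ) (e12_24) (e12_25) (Nat.ble 25 b)) (Bool.rec (motive := fun _ => ℕ) (e12_26) (e12_27) (Nat.ble 27 b)) (Nat.ble 26 b)) (Bool.rec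 (motive := fun _ => ℕ) (Bool.rec (motive := fun _ => ℕ) (e12_28) (e12_29) (Nat.ble 29 b)) (Bool.rec (motive := fun _ => ℕ) (e12_30) (e12_31) (Nat.ble 31 b)) (Nat.ble 30 b)) (Nat.ble 28 b)) (Nat.ble 24 b)) (Nat.ble 16 b)) (Bool.rec (motive := fun _ => ℕ) (Bool.rec (motive := fun _ => ℕ) (Bool.rec (motive := fun _ => ℕ) (Bool.rec (motive := fun _ => ℕ) (Bool.rec (motive := fun _ => ℕ) (e12_32) (e12_33) (Nat.ble 33 b)) (Bool.rec (motive := fun _ => ℕ) (e12_34) (e12_35) (Nat.ble 35 b)) (Nat.ble 34 b)) (Bool.rec (motive := fun _ => ℕ) (Bool.rec (motive := fun _ => ℕ) (e12_36) (e12_37) (Nat.ble 37 b)) (Bool.rec (motive := fun _ => ℕ) (e12_38) (e12_39) (Nat.ble 39 b)) (Nat.ble 38 b)) (Nat.ble 36 b)) (Bool.rec (motive := fun _ => ℕ) (Bool.rec (motive := fun _ => ℕ) (Bool.rec (motive := fun _ => ℕ) (e12_40) (e12_41) (Nat.ble 41 b))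 (Bool.rec (motive := fun _ => ℕ) (e12_42) (e12_43) (Nat.ble 43 b)) (Nat.ble 42 b)) (Bool.rec (motive := fun _ => ℕ) (Bool.rec (motive := fun _ => ℕ) (e12_44) (e12_45) (Nat.ble 45 b)) (Bool.rec (motive := fun _ => ℕ) (e12_46) (e12_47) (Nat.ble 47 b)) (Nat.ble 46 b)) (Nat.ble 44 b)) (Nat.ble 40 b)) (Bool.rec (motive := fun _ => ℕ) (Bool.rec (motive := fun _ => ℕ) (Bool.rec (motive := fun _ => ℕ) (Bool.rec (motive := fun _ => ℕ) (e12_48) (e12_49) (Nat.ble 49 b)) (Bool.rec (motive := fun _ => ℕ) (e12_50) (e12_51) (Nat.ble 51 b)) (Nat.ble 50 b)) (Bool.rec (motive := fun _ => ℕ) (Bool.rec (motive := fun _ => ℕ) (e12_52) (e12_53) (Nat.ble 53 b)) (Bool.rec (motive := fun _ => ℕ) (e12_54) (e12_55) (Nat.ble 55 b)) (Nat.ble 54 b)) (Nat.ble 52 b)) (Bool.rec (motive := fun _ => ℕ) (Bool.rec (motive := fun _ => ℕ) (Bool.rec (motive := fun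 _ => ℕ) (e12_56) (e12_57) (Nat.ble 57 b)) (Bool.rec (motive := fun _ => ℕ) (e12_58) (e12_59) (Nat.ble 59 b)) (Nat.ble 58 b)) (Bool.rec (motive := fun _ => ℕ) (Bool.rec (motive := fun _ => ℕ) (e12_60) (e12_61) (Nat.ble 61 b)) (Bool.rec (motive := fun _ => ℕ) (e12_62) (e12_63) (Nat.ble 63 b)) (Nat.ble 62 b)) (Nat.ble 60 b)) (Nat.ble 56 b)) (Nat.ble 48 b)) (Nat.ble 32 b)) (Bool.rec (motive := fun _ => ℕ) (Bool.rec (motive := fun _ => ℕ) (Bool.rec (motive := fun _ => ℕ) (Bool.rec (motive := fun _ => ℕ) (Bool.rec (motive := fun _ => ℕ) (Bool.rec (motive := fun _ => ℕ) (e12_64) (e12_65) (Nat.ble 65 b)) (Bool.rec (motive := fun _ => ℕ) (e12_66) (e12_67) (Nat.ble 67 b)) (Nat.ble 66 b)) (Bool.rec (motive := fun _ => ℕ) (Bool.rec (motive := fun _ => ℕ) (e12_68) (e12_69) (Nat.ble 69 b)) (Bool.rec (motive := fun _ => ℕ) (e12_70) (e12_71)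 (Nat.ble 71 b)) (Nat.ble 70 b)) (Nat.ble 68 b)) (Bool.rec (motive := fun _ => ℕ) (Bool.rec (motive := fun _ => ℕ) (Bool.rec (motive := fun _ => ℕ) (e12_72) (e12_73) (Nat.ble 73 b)) (Bool.rec (motive := fun _ => ℕ) (e12_74) (e12_75) (Nat.ble 75 b)) (Nat.ble 74 b)) (Bool.rec (motive := fun _ => ℕ) (Bool.rec (motive := fun _ => ℕ) (e12_76) (e12_77) (Nat.ble 77 b)) (Bool.rec (motive := fun _ => ℕ) (e12_78) (e12_79) (Nat.ble 79 b)) (Nat.ble 78 b)) (Nat.ble 76 b)) (Nat.ble 72 b)) (Bool.rec (motive := fun _ => ℕ) (Bool.rec (motive := fun _ => ℕ) (Bool.rec (motive := fun _ => ℕ) (Bool.rec (motive := fun _ => ℕ) (e12_80) (e12_81) (Nat.ble 81 b)) (Bool.rec (motive := fun _ => ℕ) (e12_82) (e12_83) (Nat.ble 83 b)) (Nat.ble 82 b)) (Bool.rec (motive := fun _ => ℕ) (Bool.rec (motive := fun _ => ℕ) (e12_84) (e12_85) (Nat.ble 85 b)) (Bool.rec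 (motive := fun _ => ℕ) (e12_86) (e12_87) (Nat.ble 87 b)) (Nat.ble 86 b)) (Nat.ble 84 b)) (Bool.rec (motive := fun _ => ℕ) (Bool.rec (motive := fun _ => ℕ) (Bool.rec (motive := fun _ => ℕ) (e12_88) (e12_89) (Nat.ble 89 b)) (Bool.rec (motive := fun _ => ℕ) (e12_90) (e12_91) (Nat.ble 91 b)) (Nat.ble 90 b)) (Bool.rec (motive := fun _ => ℕ) (Bool.rec (motive := fun _ => ℕ) (e12_92) (e12_93) (Nat.ble 93 b)) (Bool.rec (motive := fun _ => ℕ) (e12_94) (e12_95) (Nat.ble 95 b)) (Nat.ble 94 b)) (Nat.ble 92 b)) (Nat.ble 88 b)) (Nat.ble 80 b)) (Bool.rec (motive := fun _ => ℕ) (Bool.rec (motive := fun _ => ℕ) (Bool.rec (motive := fun _ => ℕ) (Bool.rec (motive := fun _ => ℕ) (Bool.rec (motive := fun _ => ℕ) (e12_96) (e12_97) (Nat.ble 97 b)) (Bool.rec (motive := fun _ => ℕ) (e12_98) (e12_99) (Nat.ble 99 b)) (Nat.ble 98 b)) (Bool.rec (motive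 := fun _ => ℕ) (Bool.rec (motive := fun _ => ℕ) (e12_100) (e12_101) (Nat.ble 101 b)) (Bool.rec (motive := fun _ => ℕ) (e12_102) (e12_103) (Nat.ble 103 b)) (Nat.ble 102 b)) (Nat.ble 100 b)) (Bool.rec (motive := fun _ => ℕ) (Bool.rec (motive := fun _ => ℕ) (Bool.rec (motive := fun _ => ℕ) (e12_104) (e12_105) (Nat.ble 105 b)) (Bool.rec (motive := fun _ => ℕ) (e12_106) (e12_107) (Nat.ble 107 b)) (Nat.ble 106 b)) (Bool.rec (motive := fun _ => ℕ) (Bool.rec (motive := fun _ => ℕ) (e12_108) (e12_109) (Nat.ble 109 b)) (Bool.rec (motive := fun _ => ℕ) (e12_110) (e12_111) (Nat.ble 111 b)) (Nat.ble 110 b)) (Nat.ble 108 b)) (Nat.ble 104 b)) (Bool.rec (motive := fun _ => ℕ) (Bool.rec (motive := fun _ => ℕ) (Bool.rec (motive := fun _ => ℕ) (Bool.rec (motive := fun _ => ℕ) (e12_112) (e12_113) (Nat.ble 113 b)) (Bool.rec (motive := fun _ =>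 ℕ) (e12_114) (e12_115) (Nat.ble 115 b)) (Nat.ble 114 b)) (Bool.rec (motive := fun _ => ℕ) (Bool.rec (motive := fun _ => ℕ) (e12_116) (e12_117) (Nat.ble 117 b)) (Bool.rec (motive := fun _ => ℕ) (e12_118) (0) (Nat.ble 119 b)) (Nat.ble 118 b)) (Nat.ble 116 b)) (0) (Nat.ble 120 b)) (Nat.ble 112 b)) (Nat.ble 96 b)) (Nat.ble 64 b))
noncomputable def jcol12 (b : ℕ) : ℕ := (Bool.rec (motive := fun _ => ℕ) (Bool.rec (motive := fun _ => ℕ) (Bool.rec (motive := fun _ => ℕ) (Bool.rec (motive := fun _ => ℕ) (Bool.rec (motive := fun _ => ℕ) (Bool.rec (motive := fun _ => ℕ) (Bool.rec (motive := fun _ => ℕ) (j12_0) (j12_1) (Nat.ble 1 b)) (Bool.rec (motive := fun _ => ℕ) (j12_2) (j12_3) (Nat.ble 3 b)) (Nat.ble 2 b)) (Bool.rec (motive := fun _ => ℕ) (Bool.rec (motive := fun _ => ℕ) (j12_4) (j12_5) (Nat.ble 5 b)) (Bool.rec (motive := fun _ =>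 ℕ) (j12_6) (j12_7) (Nat.ble 7 b)) (Nat.ble 6 b)) (Nat.ble 4 b)) (Bool.rec (motive := fun _ => ℕ) (Bool.rec (motive := fun _ => ℕ) (Bool.rec (motive := fun _ => ℕ) (j12_8) (j12_9) (Nat.ble 9 b)) (Bool.rec (motive := fun _ => ℕ) (j12_10) (j12_11) (Nat.ble 11 b)) (Nat.ble 10 b)) (Bool.rec (motive := fun _ => ℕ) (Bool.rec (motive := fun _ => ℕ) (j12_12) (j12_13) (Nat.ble 13 b)) (Bool.rec (motive := fun _ => ℕ) (j12_14) (j12_15) (Nat.ble 15 b)) (Nat.ble 14 b)) (Nat.ble 12 b)) (Nat.ble 8 b)) (Bool.rec (motive := fun _ => ℕ) (Bool.rec (motive := fun _ => ℕ) (Bool.rec (motive := fun _ => ℕ) (Bool.rec (motive := fun _ => ℕ) (j12_16) (j12_17) (Nat.ble 17 b)) (Bool.rec (motive := fun _ => ℕ) (j12_18) (j12_19) (Nat.ble 19 b)) (Nat.ble 18 b)) (Bool.rec (motive := fun _ => ℕ) (Bool.rec (motive := fun _ => ℕ) (j12_20) (j12_21) (Nat.ble 21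 b)) (Bool.rec (motive := fun _ => ℕ) (j12_22) (j12_23) (Nat.ble 23 b)) (Nat.ble 22 b)) (Nat.ble 20 b)) (Bool.rec (motive := fun _ => ℕ) (Bool.rec (motive := fun _ => ℕ) (Bool.rec (motive := fun _ => ℕ) (j12_24) (j12_25) (Nat.ble 25 b)) (Bool.rec (motive := fun _ => ℕ) (j12_26) (j12_27) (Nat.ble 27 b)) (Nat.ble 26 b)) (Bool.rec (motive := fun _ => ℕ) (Bool.rec (motive := fun _ => ℕ) (j12_28) (j12_29) (Nat.ble 29 b)) (Bool.rec (motive := fun _ => ℕ) (j12_30) (j12_31) (Nat.ble 31 b)) (Nat.ble 30 b)) (Nat.ble 28 b)) (Nat.ble 24 b)) (Nat.ble 16 b)) (Bool.rec (motive := fun _ => ℕ) (Bool.rec (motive := fun _ => ℕ) (Bool.rec (motive := fun _ => ℕ) (Bool.rec (motive := fun _ => ℕ) (Bool.rec (motive := fun _ => ℕ) (j12_32) (j12_33) (Nat.ble 33 b)) (Bool.rec (motive := fun _ => ℕ) (j12_34) (j12_35) (Nat.ble 35 b)) (Nat.ble 34 b)) (Bool.rec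 (motive := fun _ => ℕ) (Bool.rec (motive := fun _ => ℕ) (j12_36) (j12_37) (Nat.ble 37 b)) (Bool.rec (motive := fun _ => ℕ) (j12_38) (j12_39) (Nat.ble 39 b)) (Nat.ble 38 b)) (Nat.ble 36 b)) (Bool.rec (motive := fun _ => ℕ) (Bool.rec (motive := fun _ => ℕ) (Bool.rec (motive := fun _ => ℕ) (j12_40) (j12_41) (Nat.ble 41 b)) (Bool.rec (motive := fun _ => ℕ) (j12_42) (j12_43) (Nat.ble 43 b)) (Nat.ble 42 b)) (Bool.rec (motive := fun _ => ℕ) (Bool.rec (motive := fun _ => ℕ) (j12_44) (j12_45) (Nat.ble 45 b)) (Bool.rec (motive := fun _ => ℕ) (j12_46) (j12_47) (Nat.ble 47 b)) (Nat.ble 46 b)) (Nat.ble 44 b)) (Nat.ble 40 b)) (Bool.rec (motive := fun _ => ℕ) (Bool.rec (motive := fun _ => ℕ) (Bool.rec (motive := fun _ => ℕ) (Bool.rec (motive := fun _ => ℕ) (j12_48) (j12_49) (Nat.ble 49 b)) (Bool.rec (motive := fun _ => ℕ) (j12_50) (j12_51)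 (Nat.ble 51 b)) (Nat.ble 50 b)) (Bool.rec (motive := fun _ => ℕ) (Bool.rec (motive := fun _ => ℕ) (j12_52) (j12_53) (Nat.ble 53 b)) (Bool.rec (motive := fun _ => ℕ) (j12_54) (j12_55) (Nat.ble 55 b)) (Nat.ble 54 b)) (Nat.ble 52 b)) (Bool.rec (motive := fun _ => ℕ) (Bool.rec (motive := fun _ => ℕ) (Bool.rec (motive := fun _ => ℕ) (j12_56) (j12_57) (Nat.ble 57 b)) (Bool.rec (motive := fun _ => ℕ) (j12_58) (j12_59) (Nat.ble 59 b)) (Nat.ble 58 b)) (Bool.rec (motive := fun _ => ℕ) (Bool.rec (motive := fun _ => ℕ) (j12_60) (j12_61) (Nat.ble 61 b)) (Bool.rec (motive := fun _ => ℕ) (j12_62) (j12_63) (Nat.ble 63 b)) (Nat.ble 62 b)) (Nat.ble 60 b)) (Nat.ble 56 b)) (Nat.ble 48 b)) (Nat.ble 32 b)) (Bool.rec (motive := fun _ => ℕ) (Bool.rec (motive := fun _ => ℕ) (Bool.rec (motive := fun _ => ℕ) (Bool.rec (motive := fun _ => ℕ) (Bool.rec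 (motive := fun _ => ℕ) (Bool.rec (motive := fun _ => ℕ) (j12_64) (j12_65) (Nat.ble 65 b)) (Bool.rec (motive := fun _ => ℕ) (j12_66) (j12_67) (Nat.ble 67 b)) (Nat.ble 66 b)) (Bool.rec (motive := fun _ => ℕ) (Bool.rec (motive := fun _ => ℕ) (j12_68) (j12_69) (Nat.ble 69 b)) (Bool.rec (motive := fun _ => ℕ) (j12_70) (j12_71) (Nat.ble 71 b)) (Nat.ble 70 b)) (Nat.ble 68 b)) (Bool.rec (motive := fun _ => ℕ) (Bool.rec (motive := fun _ => ℕ) (Bool.rec (motive := fun _ => ℕ) (j12_72) (j12_73) (Nat.ble 73 b)) (Bool.rec (motive := fun _ => ℕ) (j12_74) (j12_75) (Nat.ble 75 b)) (Nat.ble 74 b)) (Bool.rec (motive := fun _ => ℕ) (Bool.rec (motive := fun _ => ℕ) (j12_76) (j12_77) (Nat.ble 77 b)) (Bool.rec (motive := fun _ => ℕ) (j12_78) (j12_79) (Nat.ble 79 b)) (Nat.ble 78 b)) (Nat.ble 76 b)) (Nat.ble 72 b)) (Bool.rec (motive := fun _ => ℕ)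 (Bool.rec (motive := fun _ => ℕ) (Bool.rec (motive := fun _ => ℕ) (Bool.rec (motive := fun _ => ℕ) (j12_80) (j12_81) (Nat.ble 81 b)) (Bool.rec (motive := fun _ => ℕ) (j12_82) (j12_83) (Nat.ble 83 b)) (Nat.ble 82 b)) (Bool.rec (motive := fun _ => ℕ) (Bool.rec (motive := fun _ => ℕ) (j12_84) (j12_85) (Nat.ble 85 b)) (Bool.rec (motive := fun _ => ℕ) (j12_86) (j12_87) (Nat.ble 87 b)) (Nat.ble 86 b)) (Nat.ble 84 b)) (Bool.rec (motive := fun _ => ℕ) (Bool.rec (motive := fun _ => ℕ) (Bool.rec (motive := fun _ => ℕ) (j12_88) (j12_89) (Nat.ble 89 b)) (Bool.rec (motive := fun _ => ℕ) (j12_90) (j12_91) (Nat.ble 91 b)) (Nat.ble 90 b)) (Bool.rec (motive := fun _ => ℕ) (Bool.rec (motive := fun _ => ℕ) (j12_92) (j12_93) (Nat.ble 93 b)) (Bool.rec (motive := fun _ => ℕ) (j12_94) (j12_95) (Nat.ble 95 b)) (Nat.ble 94 b)) (Nat.ble 92 b)) (Nat.ble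 88 b)) (Nat.ble 80 b)) (Bool.rec (motive := fun _ => ℕ) (Bool.rec (motive := fun _ => ℕ) (Bool.rec (motive := fun _ => ℕ) (Bool.rec (motive := fun _ => ℕ) (Bool.rec (motive := fun _ => ℕ) (j12_96) (j12_97) (Nat.ble 97 b)) (Bool.rec (motive := fun _ => ℕ) (j12_98) (j12_99) (Nat.ble 99 b)) (Nat.ble 98 b)) (Bool.rec (motive := fun _ => ℕ) (Bool.rec (motive := fun _ => ℕ) (j12_100) (j12_101) (Nat.ble 101 b)) (Bool.rec (motive := fun _ => ℕ) (j12_102) (j12_103) (Nat.ble 103 b)) (Nat.ble 102 b)) (Nat.ble 100 b)) (Bool.rec (motive := fun _ => ℕ) (Bool.rec (motive := fun _ => ℕ) (Bool.rec (motive := fun _ => ℕ) (j12_104) (j12_105) (Nat.ble 105 b)) (Bool.rec (motive := fun _ => ℕ) (j12_106) (j12_107) (Nat.ble 107 b)) (Nat.ble 106 b)) (Bool.rec (motive := fun _ => ℕ) (Bool.rec (motive := fun _ => ℕ) (j12_108) (j12_109) (Nat.ble 109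 b)) (Bool.rec (motive := fun _ => ℕ) (j12_110) (j12_111) (Nat.ble 111 b)) (Nat.ble 110 b)) (Nat.ble 108 b)) (Nat.ble 104 b)) (Bool.rec (motive := fun _ => ℕ) (Bool.rec (motive := fun _ => ℕ) (Bool.rec (motive := fun _ => ℕ) (Bool.rec (motive := fun _ => ℕ) (j12_112) (j12_113) (Nat.ble 113 b)) (Bool.rec (motive := fun _ => ℕ) (j12_114) (j12_115) (Nat.ble 115 b)) (Nat.ble 114 b)) (Bool.rec (motive := fun _ => ℕ) (Bool.rec (motive := fun _ => ℕ) (j12_116) (j12_117) (Nat.ble 117 b)) (Bool.rec (motive := fun _ => ℕ) (j12_118) (0) (Nat.ble 119 b)) (Nat.ble 118 b)) (Nat.ble 116 b)) (0) (Nat.ble 120 b)) (Nat.ble 112 b)) (Nat.ble 96 b)) (Nat.ble 64 b))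
noncomputable def ecol13 (b : ℕ) : ℕ := (Bool.rec (motive := fun _ => ℕ) (Bool.rec (motive := fun _ => ℕ) (Bool.rec (motive := fun _ => ℕ) (Bool.rec (motive := fun _ => ℕ) (Bool.rec (motive := fun _ => ℕ) (Bool.rec (motive := fun _ => ℕ) (Bool.rec (motive := fun _ => ℕ) (e13_0) (e13_1) (Nat.ble 1 b)) (Bool.rec (motive := fun _ => ℕ) (e13_2) (e13_3) (Nat.ble 3 b)) (Nat.ble 2 b)) (Bool.rec (motive := fun _ => ℕ) (Bool.rec (motive := fun _ => ℕ) (e13_4) (e13_5) (Nat.ble 5 b)) (Bool.rec (motive := fun _ => ℕ) (e13_6) (e13_7) (Nat.ble 7 b)) (Nat.ble 6 b)) (Nat.ble 4 b)) (Bool.rec (motive := fun _ => ℕ) (Bool.rec (motive := fun _ => ℕ) (Bool.rec (motive := fun _ => ℕ) (e13_8) (e13_9) (Nat.ble 9 b)) (Bool.rec (motive := fun _ => ℕ) (e13_10) (e13_11) (Nat.ble 11 b)) (Nat.ble 10 b)) (Bool.rec (motive := fun _ => ℕ) (Bool.rec (motive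 := fun _ => ℕ) (e13_12) (e13_13) (Nat.ble 13 b)) (Bool.rec (motive := fun _ => ℕ) (e13_14) (e13_15) (Nat.ble 15 b)) (Nat.ble 14 b)) (Nat.ble 12 b)) (Nat.ble 8 b)) (Bool.rec (motive := fun _ => ℕ) (Bool.rec (motive := fun _ => ℕ) (Bool.rec (motive := fun _ => ℕ) (Bool.rec (motive := fun _ => ℕ) (e13_16) (e13_17) (Nat.ble 17 b)) (Bool.rec (motive := fun _ => ℕ) (e13_18) (e13_19) (Nat.ble 19 b)) (Nat.ble 18 b)) (Bool.rec (motive := fun _ => ℕ) (Bool.rec (motive := fun _ => ℕ) (e13_20) (e13_21) (Nat.ble 21 b)) (Bool.rec (motive := fun _ => ℕ) (e13_22) (e13_23) (Nat.ble 23 b)) (Nat.ble 22 b)) (Nat.ble 20 b)) (Bool.rec (motive := fun _ => ℕ) (Bool.rec (motive := fun _ => ℕ) (Bool.rec (motive := fun _ => ℕ) (e13_24) (e13_25) (Nat.ble 25 b)) (Bool.rec (motive := fun _ => ℕ) (e13_26) (e13_27) (Nat.ble 27 b)) (Nat.ble 26 b)) (Bool.rec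 (motive := fun _ => ℕ) (Bool.rec (motive := fun _ => ℕ) (e13_28) (e13_29) (Nat.ble 29 b)) (Bool.rec (motive := fun _ => ℕ) (e13_30) (e13_31) (Nat.ble 31 b)) (Nat.ble 30 b)) (Nat.ble 28 b)) (Nat.ble 24 b)) (Nat.ble 16 b)) (Bool.rec (motive := fun _ => ℕ) (Bool.rec (motive := fun _ => ℕ) (Bool.rec (motive := fun _ => ℕ) (Bool.rec (motive := fun _ => ℕ) (Bool.rec (motive := fun _ => ℕ) (e13_32) (e13_33) (Nat.ble 33 b)) (Bool.rec (motive := fun _ => ℕ) (e13_34) (e13_35) (Nat.ble 35 b)) (Nat.ble 34 b)) (Bool.rec (motive := fun _ => ℕ) (Bool.rec (motive := fun _ => ℕ) (e13_36) (e13_37) (Nat.ble 37 b)) (Bool.rec (motive := fun _ => ℕ) (e13_38) (e13_39) (Nat.ble 39 b)) (Nat.ble 38 b)) (Nat.ble 36 b)) (Bool.rec (motive := fun _ => ℕ) (Bool.rec (motive := fun _ => ℕ) (Bool.rec (motive := fun _ => ℕ) (e13_40) (e13_41) (Nat.ble 41 b))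 (Bool.rec (motive := fun _ => ℕ) (e13_42) (e13_43) (Nat.ble 43 b)) (Nat.ble 42 b)) (Bool.rec (motive := fun _ => ℕ) (Bool.rec (motive := fun _ => ℕ) (e13_44) (e13_45) (Nat.ble 45 b)) (Bool.rec (motive := fun _ => ℕ) (e13_46) (e13_47) (Nat.ble 47 b)) (Nat.ble 46 b)) (Nat.ble 44 b)) (Nat.ble 40 b)) (Bool.rec (motive := fun _ => ℕ) (Bool.rec (motive := fun _ => ℕ) (Bool.rec (motive := fun _ => ℕ) (Bool.rec (motive := fun _ => ℕ) (e13_48) (e13_49) (Nat.ble 49 b)) (Bool.rec (motive := fun _ => ℕ) (e13_50) (e13_51) (Nat.ble 51 b)) (Nat.ble 50 b)) (Bool.rec (motive := fun _ => ℕ) (Bool.rec (motive := fun _ => ℕ) (e13_52) (e13_53) (Nat.ble 53 b)) (Bool.rec (motive := fun _ => ℕ) (e13_54) (e13_55) (Nat.ble 55 b)) (Nat.ble 54 b)) (Nat.ble 52 b)) (Bool.rec (motive := fun _ => ℕ) (Bool.rec (motive := fun _ => ℕ) (Bool.rec (motive := fun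 _ => ℕ) (e13_56) (e13_57) (Nat.ble 57 b)) (Bool.rec (motive := fun _ => ℕ) (e13_58) (e13_59) (Nat.ble 59 b)) (Nat.ble 58 b)) (Bool.rec (motive := fun _ => ℕ) (Bool.rec (motive := fun _ => ℕ) (e13_60) (e13_61) (Nat.ble 61 b)) (Bool.rec (motive := fun _ => ℕ) (e13_62) (e13_63) (Nat.ble 63 b)) (Nat.ble 62 b)) (Nat.ble 60 b)) (Nat.ble 56 b)) (Nat.ble 48 b)) (Nat.ble 32 b)) (Bool.rec (motive := fun _ => ℕ) (Bool.rec (motive := fun _ => ℕ) (Bool.rec (motive := fun _ => ℕ) (Bool.rec (motive := fun _ => ℕ) (Bool.rec (motive := fun _ => ℕ) (Bool.rec (motive := fun _ => ℕ) (e13_64) (e13_65) (Nat.ble 65 b)) (Bool.rec (motive := fun _ => ℕ) (e13_66) (e13_67) (Nat.ble 67 b)) (Nat.ble 66 b)) (Bool.rec (motive := fun _ => ℕ) (Bool.rec (motive := fun _ => ℕ) (e13_68) (e13_69) (Nat.ble 69 b)) (Bool.rec (motive := fun _ => ℕ) (e13_70) (e13_71)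 (Nat.ble 71 b)) (Nat.ble 70 b)) (Nat.ble 68 b)) (Bool.rec (motive := fun _ => ℕ) (Bool.rec (motive := fun _ => ℕ) (Bool.rec (motive := fun _ => ℕ) (e13_72) (e13_73) (Nat.ble 73 b)) (Bool.rec (motive := fun _ => ℕ) (e13_74) (e13_75) (Nat.ble 75 b)) (Nat.ble 74 b)) (Bool.rec (motive := fun _ => ℕ) (Bool.rec (motive := fun _ => ℕ) (e13_76) (e13_77) (Nat.ble 77 b)) (Bool.rec (motive := fun _ => ℕ) (e13_78) (e13_79) (Nat.ble 79 b)) (Nat.ble 78 b)) (Nat.ble 76 b)) (Nat.ble 72 b)) (Bool.rec (motive := fun _ => ℕ) (Bool.rec (motive := fun _ => ℕ) (Bool.rec (motive := fun _ => ℕ) (Bool.rec (motive := fun _ => ℕ) (e13_80) (e13_81) (Nat.ble 81 b)) (Bool.rec (motive := fun _ => ℕ) (e13_82) (e13_83) (Nat.ble 83 b)) (Nat.ble 82 b)) (Bool.rec (motive := fun _ => ℕ) (Bool.rec (motive := fun _ => ℕ) (e13_84) (e13_85) (Nat.ble 85 b)) (Bool.rec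 (motive := fun _ => ℕ) (e13_86) (e13_87) (Nat.ble 87 b)) (Nat.ble 86 b)) (Nat.ble 84 b)) (Bool.rec (motive := fun _ => ℕ) (Bool.rec (motive := fun _ => ℕ) (Bool.rec (motive := fun _ => ℕ) (e13_88) (e13_89) (Nat.ble 89 b)) (Bool.rec (motive := fun _ => ℕ) (e13_90) (e13_91) (Nat.ble 91 b)) (Nat.ble 90 b)) (Bool.rec (motive := fun _ => ℕ) (Bool.rec (motive := fun _ => ℕ) (e13_92) (e13_93) (Nat.ble 93 b)) (Bool.rec (motive := fun _ => ℕ) (e13_94) (e13_95) (Nat.ble 95 b)) (Nat.ble 94 b)) (Nat.ble 92 b)) (Nat.ble 88 b)) (Nat.ble 80 b)) (Bool.rec (motive := fun _ => ℕ) (Bool.rec (motive := fun _ => ℕ) (Bool.rec (motive := fun _ => ℕ) (Bool.rec (motive := fun _ => ℕ) (Bool.rec (motive := fun _ => ℕ) (e13_96) (e13_97) (Nat.ble 97 b)) (Bool.rec (motive := fun _ => ℕ) (e13_98) (e13_99) (Nat.ble 99 b)) (Nat.ble 98 b)) (Bool.rec (motive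 := fun _ => ℕ) (Bool.rec (motive := fun _ => ℕ) (e13_100) (e13_101) (Nat.ble 101 b)) (Bool.rec (motive := fun _ => ℕ) (e13_102) (e13_103) (Nat.ble 103 b)) (Nat.ble 102 b)) (Nat.ble 100 b)) (Bool.rec (motive := fun _ => ℕ) (Bool.rec (motive := fun _ => ℕ) (Bool.rec (motive := fun _ => ℕ) (e13_104) (e13_105) (Nat.ble 105 b)) (Bool.rec (motive := fun _ => ℕ) (e13_106) (e13_107) (Nat.ble 107 b)) (Nat.ble 106 b)) (Bool.rec (motive := fun _ => ℕ) (Bool.rec (motive := fun _ => ℕ) (e13_108) (e13_109) (Nat.ble 109 b)) (Bool.rec (motive := fun _ => ℕ) (e13_110) (e13_111) (Nat.ble 111 b)) (Nat.ble 110 b)) (Nat.ble 108 b)) (Nat.ble 104 b)) (Bool.rec (motive := fun _ => ℕ) (Bool.rec (motive := fun _ => ℕ) (Bool.rec (motive := fun _ => ℕ) (Bool.rec (motive := fun _ => ℕ) (e13_112) (e13_113) (Nat.ble 113 b)) (Bool.rec (motive := fun _ =>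 ℕ) (e13_114) (e13_115) (Nat.ble 115 b)) (Nat.ble 114 b)) (Bool.rec (motive := fun _ => ℕ) (Bool.rec (motive := fun _ => ℕ) (e13_116) (e13_117) (Nat.ble 117 b)) (Bool.rec (motive := fun _ => ℕ) (e13_118) (0) (Nat.ble 119 b)) (Nat.ble 118 b)) (Nat.ble 116 b)) (0) (Nat.ble 120 b)) (Nat.ble 112 b)) (Nat.ble 96 b)) (Nat.ble 64 b))
noncomputable def jcol13 (b : ℕ) : ℕ := (Bool.rec (motive := fun _ => ℕ) (Bool.rec (motive := fun _ => ℕ) (Bool.rec (motive := fun _ => ℕ) (Bool.rec (motive := fun _ => ℕ) (Bool.rec (motive := fun _ => ℕ) (Bool.rec (motive := fun _ => ℕ) (Bool.rec (motive := fun _ => ℕ) (j13_0) (j13_1) (Nat.ble 1 b)) (Bool.rec (motive := fun _ => ℕ) (j13_2) (j13_3) (Nat.ble 3 b)) (Nat.ble 2 b)) (Bool.rec (motive := fun _ => ℕ) (Bool.rec (motive := fun _ => ℕ) (j13_4) (j13_5) (Nat.ble 5 b)) (Bool.rec (motive := fun _ =>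 ℕ) (j13_6) (j13_7) (Nat.ble 7 b)) (Nat.ble 6 b)) (Nat.ble 4 b)) (Bool.rec (motive := fun _ => ℕ) (Bool.rec (motive := fun _ => ℕ) (Bool.rec (motive := fun _ => ℕ) (j13_8) (j13_9) (Nat.ble 9 b)) (Bool.rec (motive := fun _ => ℕ) (j13_10) (j13_11) (Nat.ble 11 b)) (Nat.ble 10 b)) (Bool.rec (motive := fun _ => ℕ) (Bool.rec (motive := fun _ => ℕ) (j13_12) (j13_13) (Nat.ble 13 b)) (Bool.rec (motive := fun _ => ℕ) (j13_14) (j13_15) (Nat.ble 15 b)) (Nat.ble 14 b)) (Nat.ble 12 b)) (Nat.ble 8 b)) (Bool.rec (motive := fun _ => ℕ) (Bool.rec (motive := fun _ => ℕ) (Bool.rec (motive := fun _ => ℕ) (Bool.rec (motive := fun _ => ℕ) (j13_16) (j13_17) (Nat.ble 17 b)) (Bool.rec (motive := fun _ => ℕ) (j13_18) (j13_19) (Nat.ble 19 b)) (Nat.ble 18 b)) (Bool.rec (motive := fun _ => ℕ) (Bool.rec (motive := fun _ => ℕ) (j13_20) (j13_21) (Nat.ble 21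 b)) (Bool.rec (motive := fun _ => ℕ) (j13_22) (j13_23) (Nat.ble 23 b)) (Nat.ble 22 b)) (Nat.ble 20 b)) (Bool.rec (motive := fun _ => ℕ) (Bool.rec (motive := fun _ => ℕ) (Bool.rec (motive := fun _ => ℕ) (j13_24) (j13_25) (Nat.ble 25 b)) (Bool.rec (motive := fun _ => ℕ) (j13_26) (j13_27) (Nat.ble 27 b)) (Nat.ble 26 b)) (Bool.rec (motive := fun _ => ℕ) (Bool.rec (motive := fun _ => ℕ) (j13_28) (j13_29) (Nat.ble 29 b)) (Bool.rec (motive := fun _ => ℕ) (j13_30) (j13_31) (Nat.ble 31 b)) (Nat.ble 30 b)) (Nat.ble 28 b)) (Nat.ble 24 b)) (Nat.ble 16 b)) (Bool.rec (motive := fun _ => ℕ) (Bool.rec (motive := fun _ => ℕ) (Bool.rec (motive := fun _ => ℕ) (Bool.rec (motive := fun _ => ℕ) (Bool.rec (motive := fun _ => ℕ) (j13_32) (j13_33) (Nat.ble 33 b)) (Bool.rec (motive := fun _ => ℕ) (j13_34) (j13_35) (Nat.ble 35 b)) (Nat.ble 34 b)) (Bool.rec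 (motive := fun _ => ℕ) (Bool.rec (motive := fun _ => ℕ) (j13_36) (j13_37) (Nat.ble 37 b)) (Bool.rec (motive := fun _ => ℕ) (j13_38) (j13_39) (Nat.ble 39 b)) (Nat.ble 38 b)) (Nat.ble 36 b)) (Bool.rec (motive := fun _ => ℕ) (Bool.rec (motive := fun _ => ℕ) (Bool.rec (motive := fun _ => ℕ) (j13_40) (j13_41) (Nat.ble 41 b)) (Bool.rec (motive := fun _ => ℕ) (j13_42) (j13_43) (Nat.ble 43 b)) (Nat.ble 42 b)) (Bool.rec (motive := fun _ => ℕ) (Bool.rec (motive := fun _ => ℕ) (j13_44) (j13_45) (Nat.ble 45 b)) (Bool.rec (motive := fun _ => ℕ) (j13_46) (j13_47) (Nat.ble 47 b)) (Nat.ble 46 b)) (Nat.ble 44 b)) (Nat.ble 40 b)) (Bool.rec (motive := fun _ => ℕ) (Bool.rec (motive := fun _ => ℕ) (Bool.rec (motive := fun _ => ℕ) (Bool.rec (motive := fun _ => ℕ) (j13_48) (j13_49) (Nat.ble 49 b)) (Bool.rec (motive := fun _ => ℕ) (j13_50) (j13_51)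 (Nat.ble 51 b)) (Nat.ble 50 b)) (Bool.rec (motive := fun _ => ℕ) (Bool.rec (motive := fun _ => ℕ) (j13_52) (j13_53) (Nat.ble 53 b)) (Bool.rec (motive := fun _ => ℕ) (j13_54) (j13_55) (Nat.ble 55 b)) (Nat.ble 54 b)) (Nat.ble 52 b)) (Bool.rec (motive := fun _ => ℕ) (Bool.rec (motive := fun _ => ℕ) (Bool.rec (motive := fun _ => ℕ) (j13_56) (j13_57) (Nat.ble 57 b)) (Bool.rec (motive := fun _ => ℕ) (j13_58) (j13_59) (Nat.ble 59 b)) (Nat.ble 58 b)) (Bool.rec (motive := fun _ => ℕ) (Bool.rec (motive := fun _ => ℕ) (j13_60) (j13_61) (Nat.ble 61 b)) (Bool.rec (motive := fun _ => ℕ) (j13_62) (j13_63) (Nat.ble 63 b)) (Nat.ble 62 b)) (Nat.ble 60 b)) (Nat.ble 56 b)) (Nat.ble 48 b)) (Nat.ble 32 b)) (Bool.rec (motive := fun _ => ℕ) (Bool.rec (motive := fun _ => ℕ) (Bool.rec (motive := fun _ => ℕ) (Bool.rec (motive := fun _ => ℕ) (Bool.rec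 (motive := fun _ => ℕ) (Bool.rec (motive := fun _ => ℕ) (j13_64) (j13_65) (Nat.ble 65 b)) (Bool.rec (motive := fun _ => ℕ) (j13_66) (j13_67) (Nat.ble 67 b)) (Nat.ble 66 b)) (Bool.rec (motive := fun _ => ℕ) (Bool.rec (motive := fun _ => ℕ) (j13_68) (j13_69) (Nat.ble 69 b)) (Bool.rec (motive := fun _ => ℕ) (j13_70) (j13_71) (Nat.ble 71 b)) (Nat.ble 70 b)) (Nat.ble 68 b)) (Bool.rec (motive := fun _ => ℕ) (Bool.rec (motive := fun _ => ℕ) (Bool.rec (motive := fun _ => ℕ) (j13_72) (j13_73) (Nat.ble 73 b)) (Bool.rec (motive := fun _ => ℕ) (j13_74) (j13_75) (Nat.ble 75 b)) (Nat.ble 74 b)) (Bool.rec (motive := fun _ => ℕ) (Bool.rec (motive := fun _ => ℕ) (j13_76) (j13_77) (Nat.ble 77 b)) (Bool.rec (motive := fun _ => ℕ) (j13_78) (j13_79) (Nat.ble 79 b)) (Nat.ble 78 b)) (Nat.ble 76 b)) (Nat.ble 72 b)) (Bool.rec (motive := fun _ => ℕ)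 (Bool.rec (motive := fun _ => ℕ) (Bool.rec (motive := fun _ => ℕ) (Bool.rec (motive := fun _ => ℕ) (j13_80) (j13_81) (Nat.ble 81 b)) (Bool.rec (motive := fun _ => ℕ) (j13_82) (j13_83) (Nat.ble 83 b)) (Nat.ble 82 b)) (Bool.rec (motive := fun _ => ℕ) (Bool.rec (motive := fun _ => ℕ) (j13_84) (j13_85) (Nat.ble 85 b)) (Bool.rec (motive := fun _ => ℕ) (j13_86) (j13_87) (Nat.ble 87 b)) (Nat.ble 86 b)) (Nat.ble 84 b)) (Bool.rec (motive := fun _ => ℕ) (Bool.rec (motive := fun _ => ℕ) (Bool.rec (motive := fun _ => ℕ) (j13_88) (j13_89) (Nat.ble 89 b)) (Bool.rec (motive := fun _ => ℕ) (j13_90) (j13_91) (Nat.ble 91 b)) (Nat.ble 90 b)) (Bool.rec (motive := fun _ => ℕ) (Bool.rec (motive := fun _ => ℕ) (j13_92) (j13_93) (Nat.ble 93 b)) (Bool.rec (motive := fun _ => ℕ) (j13_94) (j13_95) (Nat.ble 95 b)) (Nat.ble 94 b)) (Nat.ble 92 b)) (Nat.ble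 88 b)) (Nat.ble 80 b)) (Bool.rec (motive := fun _ => ℕ) (Bool.rec (motive := fun _ => ℕ) (Bool.rec (motive := fun _ => ℕ) (Bool.rec (motive := fun _ => ℕ) (Bool.rec (motive := fun _ => ℕ) (j13_96) (j13_97) (Nat.ble 97 b)) (Bool.rec (motive := fun _ => ℕ) (j13_98) (j13_99) (Nat.ble 99 b)) (Nat.ble 98 b)) (Bool.rec (motive := fun _ => ℕ) (Bool.rec (motive := fun _ => ℕ) (j13_100) (j13_101) (Nat.ble 101 b)) (Bool.rec (motive := fun _ => ℕ) (j13_102) (j13_103) (Nat.ble 103 b)) (Nat.ble 102 b)) (Nat.ble 100 b)) (Bool.rec (motive := fun _ => ℕ) (Bool.rec (motive := fun _ => ℕ) (Bool.rec (motive := fun _ => ℕ) (j13_104) (j13_105) (Nat.ble 105 b)) (Bool.rec (motive := fun _ => ℕ) (j13_106) (j13_107) (Nat.ble 107 b)) (Nat.ble 106 b)) (Bool.rec (motive := fun _ => ℕ) (Bool.rec (motive := fun _ => ℕ) (j13_108) (j13_109) (Nat.ble 109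 b)) (Bool.rec (motive := fun _ => ℕ) (j13_110) (j13_111) (Nat.ble 111 b)) (Nat.ble 110 b)) (Nat.ble 108 b)) (Nat.ble 104 b)) (Bool.rec (motive := fun _ => ℕ) (Bool.rec (motive := fun _ => ℕ) (Bool.rec (motive := fun _ => ℕ) (Bool.rec (motive := fun _ => ℕ) (j13_112) (j13_113) (Nat.ble 113 b)) (Bool.rec (motive := fun _ => ℕ) (j13_114) (j13_115) (Nat.ble 115 b)) (Nat.ble 114 b)) (Bool.rec (motive := fun _ => ℕ) (Bool.rec (motive := fun _ => ℕ) (j13_116) (j13_117) (Nat.ble 117 b)) (Bool.rec (motive := fun _ => ℕ) (j13_118) (0) (Nat.ble 119 b)) (Nat.ble 118 b)) (Nat.ble 116 b)) (0) (Nat.ble 120 b)) (Nat.ble 112 b)) (Nat.ble 96 b)) (Nat.ble 64 b))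
noncomputable def eT (c b : ℕ) : ℕ := (Bool.rec (motive := fun _ => ℕ) (Bool.rec (motive := fun _ => ℕ) (Bool.rec (motive := fun _ => ℕ) (Bool.rec (motive := fun _ => ℕ) (ecol0 b) (ecol1 b) (Nat.ble 1 c)) (Bool.rec (motive := fun _ => ℕ) (ecol2 b) (ecol3 b) (Nat.ble 3 c)) (Nat.ble 2 c)) (Bool.rec (motive := fun _ => ℕ) (Bool.rec (motive := fun _ => ℕ) (ecol4 b) (ecol5 b) (Nat.ble 5 c)) (Bool.rec (motive := fun _ => ℕ) (ecol6 b) (ecol7 b) (Nat.ble 7 c)) (Nat.ble 6 c)) (Nat.ble 4 c)) (Bool.rec (motive := fun _ => ℕ) (Bool.rec (motive := fun _ => ℕ) (Bool.rec (motive := fun _ => ℕ) (ecol8 b) (ecol9 b) (Nat.ble 9 c)) (Bool.rec (motive := fun _ => ℕ) (ecol10 b) (ecol11 b) (Nat.ble 11 c)) (Nat.ble 10 c)) (Bool.rec (motive := fun _ => ℕ) (Bool.rec (motive := fun _ => ℕ) (ecol12 b) (ecol13 b) (Nat.ble 13 c)) (0) (Nat.ble 14 c)) (Nat.ble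 12 c)) (Nat.ble 8 c))
noncomputable def jT (c b : ℕ) : ℕ := (Bool.rec (motive := fun _ => ℕ) (Bool.rec (motive := fun _ => ℕ) (Bool.rec (motive := fun _ => ℕ) (Bool.rec (motive := fun _ => ℕ) (jcol0 b) (jcol1 b) (Nat.ble 1 c)) (Bool.rec (motive := fun _ => ℕ) (jcol2 b) (jcol3 b) (Nat.ble 3 c)) (Nat.ble 2 c)) (Bool.rec (motive := fun _ => ℕ) (Bool.rec (motive := fun _ => ℕ) (jcol4 b) (jcol5 b) (Nat.ble 5 c)) (Bool.rec (motive := fun _ => ℕ) (jcol6 b) (jcol7 b) (Nat.ble 7 c)) (Nat.ble 6 c)) (Nat.ble 4 c)) (Bool.rec (motive := fun _ => ℕ) (Bool.rec (motive := fun _ => ℕ) (Bool.rec (motive := fun _ => ℕ) (jcol8 b) (jcol9 b) (Nat.ble 9 c)) (Bool.rec (motive := fun _ => ℕ) (jcol10 b) (jcol11 b) (Nat.ble 11 c)) (Nat.ble 10 c)) (Bool.rec (motive := fun _ => ℕ) (Bool.rec (motive := fun _ => ℕ) (jcol12 b) (jcol13 b) (Nat.ble 13 c))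 (0) (Nat.ble 14 c)) (Nat.ble 12 c)) (Nat.ble 8 c))
noncomputable def mgT (b : ℕ) : ℕ := (Bool.rec (motive := fun _ => ℕ) (Bool.rec (motive := fun _ => ℕ) (Bool.rec (motive := fun _ => ℕ) (Bool.rec (motive := fun _ => ℕ) (Bool.rec (motive := fun _ => ℕ) (Bool.rec (motive := fun _ => ℕ) (Bool.rec (motive := fun _ => ℕ) (m_0) (m_1) (Nat.ble 1 b)) (Bool.rec (motive := fun _ => ℕ) (m_2) (m_3) (Nat.ble 3 b)) (Nat.ble 2 b)) (Bool.rec (motive := fun _ => ℕ) (Bool.rec (motive := fun _ => ℕ) (m_4) (m_5) (Nat.ble 5 b)) (Bool.rec (motive := fun _ => ℕ) (m_6) (m_7) (Nat.ble 7 b)) (Nat.ble 6 b)) (Nat.ble 4 b)) (Bool.rec (motive := fun _ => ℕ) (Bool.rec (motive := fun _ => ℕ) (Bool.rec (motive := fun _ => ℕ) (m_8) (m_9) (Nat.ble 9 b)) (Bool.rec (motive := fun _ => ℕ) (m_10) (m_11) (Nat.ble 11 b)) (Nat.ble 10 b)) (Bool.rec (motive := fun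 _ => ℕ) (Bool.rec (motive := fun _ => ℕ) (m_12) (m_13) (Nat.ble 13 b)) (Bool.rec (motive := fun _ => ℕ) (m_14) (m_15) (Nat.ble 15 b)) (Nat.ble 14 b)) (Nat.ble 12 b)) (Nat.ble 8 b)) (Bool.rec (motive := fun _ => ℕ) (Bool.rec (motive := fun _ => ℕ) (Bool.rec (motive := fun _ => ℕ) (Bool.rec (motive := fun _ => ℕ) (m_16) (m_17) (Nat.ble 17 b)) (Bool.rec (motive := fun _ => ℕ) (m_18) (m_19) (Nat.ble 19 b)) (Nat.ble 18 b)) (Bool.rec (motive := fun _ => ℕ) (Bool.rec (motive := fun _ => ℕ) (m_20) (m_21) (Nat.ble 21 b)) (Bool.rec (motive := fun _ => ℕ) (m_22) (m_23) (Nat.ble 23 b)) (Nat.ble 22 b)) (Nat.ble 20 b)) (Bool.rec (motive := fun _ => ℕ) (Bool.rec (motive := fun _ => ℕ) (Bool.rec (motive := fun _ => ℕ) (m_24) (m_25) (Nat.ble 25 b)) (Bool.rec (motive := fun _ => ℕ) (m_26) (m_27) (Nat.ble 27 b)) (Nat.ble 26 b)) (Bool.rec (motive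 := fun _ => ℕ) (Bool.rec (motive := fun _ => ℕ) (m_28) (m_29) (Nat.ble 29 b)) (Bool.rec (motive := fun _ => ℕ) (m_30) (m_31) (Nat.ble 31 b)) (Nat.ble 30 b)) (Nat.ble 28 b)) (Nat.ble 24 b)) (Nat.ble 16 b)) (Bool.rec (motive := fun _ => ℕ) (Bool.rec (motive := fun _ => ℕ) (Bool.rec (motive := fun _ => ℕ) (Bool.rec (motive := fun _ => ℕ) (Bool.rec (motive := fun _ => ℕ) (m_32) (m_33) (Nat.ble 33 b)) (Bool.rec (motive := fun _ => ℕ) (m_34) (m_35) (Nat.ble 35 b)) (Nat.ble 34 b)) (Bool.rec (motive := fun _ => ℕ) (Bool.rec (motive := fun _ => ℕ) (m_36) (m_37) (Nat.ble 37 b)) (Bool.rec (motive := fun _ => ℕ) (m_38) (m_39) (Nat.ble 39 b)) (Nat.ble 38 b)) (Nat.ble 36 b)) (Bool.rec (motive := fun _ => ℕ) (Bool.rec (motive := fun _ => ℕ) (Bool.rec (motive := fun _ => ℕ) (m_40) (m_41) (Nat.ble 41 b)) (Bool.rec (motive := fun _ => ℕ) (m_42)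 (m_43) (Nat.ble 43 b)) (Nat.ble 42 b)) (Bool.rec (motive := fun _ => ℕ) (Bool.rec (motive := fun _ => ℕ) (m_44) (m_45) (Nat.ble 45 b)) (Bool.rec (motive := fun _ => ℕ) (m_46) (m_47) (Nat.ble 47 b)) (Nat.ble 46 b)) (Nat.ble 44 b)) (Nat.ble 40 b)) (Bool.rec (motive := fun _ => ℕ) (Bool.rec (motive := fun _ => ℕ) (Bool.rec (motive := fun _ => ℕ) (Bool.rec (motive := fun _ => ℕ) (m_48) (m_49) (Nat.ble 49 b)) (Bool.rec (motive := fun _ => ℕ) (m_50) (m_51) (Nat.ble 51 b)) (Nat.ble 50 b)) (Bool.rec (motive := fun _ => ℕ) (Bool.rec (motive := fun _ => ℕ) (m_52) (m_53) (Nat.ble 53 b)) (Bool.rec (motive := fun _ => ℕ) (m_54) (m_55) (Nat.ble 55 b)) (Nat.ble 54 b)) (Nat.ble 52 b)) (Bool.rec (motive := fun _ => ℕ) (Bool.rec (motive := fun _ => ℕ) (Bool.rec (motive := fun _ => ℕ) (m_56) (m_57) (Nat.ble 57 b)) (Bool.rec (motive := fun _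 => ℕ) (m_58) (m_59) (Nat.ble 59 b)) (Nat.ble 58 b)) (Bool.rec (motive := fun _ => ℕ) (Bool.rec (motive := fun _ => ℕ) (m_60) (m_61) (Nat.ble 61 b)) (Bool.rec (motive := fun _ => ℕ) (m_62) (m_63) (Nat.ble 63 b)) (Nat.ble 62 b)) (Nat.ble 60 b)) (Nat.ble 56 b)) (Nat.ble 48 b)) (Nat.ble 32 b)) (Bool.rec (motive := fun _ => ℕ) (Bool.rec (motive := fun _ => ℕ) (Bool.rec (motive := fun _ => ℕ) (Bool.rec (motive := fun _ => ℕ) (Bool.rec (motive := fun _ => ℕ) (Bool.rec (motive := fun _ => ℕ) (m_64) (m_65) (Nat.ble 65 b)) (Bool.rec (motive := fun _ => ℕ) (m_66) (m_67) (Nat.ble 67 b)) (Nat.ble 66 b)) (Bool.rec (motive := fun _ => ℕ) (Bool.rec (motive := fun _ => ℕ) (m_68) (m_69) (Nat.ble 69 b)) (Bool.rec (motive := fun _ => ℕ) (m_70) (m_71) (Nat.ble 71 b)) (Nat.ble 70 b)) (Nat.ble 68 b)) (Bool.rec (motive := fun _ => ℕ) (Bool.rec (motive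 := fun _ => ℕ) (Bool.rec (motive := fun _ => ℕ) (m_72) (m_73) (Nat.ble 73 b)) (Bool.rec (motive := fun _ => ℕ) (m_74) (m_75) (Nat.ble 75 b)) (Nat.ble 74 b)) (Bool.rec (motive := fun _ => ℕ) (Bool.rec (motive := fun _ => ℕ) (m_76) (m_77) (Nat.ble 77 b)) (Bool.rec (motive := fun _ => ℕ) (m_78) (m_79) (Nat.ble 79 b)) (Nat.ble 78 b)) (Nat.ble 76 b)) (Nat.ble 72 b)) (Bool.rec (motive := fun _ => ℕ) (Bool.rec (motive := fun _ => ℕ) (Bool.rec (motive := fun _ => ℕ) (Bool.rec (motive := fun _ => ℕ) (m_80) (m_81) (Nat.ble 81 b)) (Bool.rec (motive := fun _ => ℕ) (m_82) (m_83) (Nat.ble 83 b)) (Nat.ble 82 b)) (Bool.rec (motive := fun _ => ℕ) (Bool.rec (motive := fun _ => ℕ) (m_84) (m_85) (Nat.ble 85 b)) (Bool.rec (motive := fun _ => ℕ) (m_86) (m_87) (Nat.ble 87 b)) (Nat.ble 86 b)) (Nat.ble 84 b)) (Bool.rec (motive := fun _ => ℕ) (Bool.rec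 (motive := fun _ => ℕ) (Bool.rec (motive := fun _ => ℕ) (m_88) (m_89) (Nat.ble 89 b)) (Bool.rec (motive := fun _ => ℕ) (m_90) (m_91) (Nat.ble 91 b)) (Nat.ble 90 b)) (Bool.rec (motive := fun _ => ℕ) (Bool.rec (motive := fun _ => ℕ) (m_92) (m_93) (Nat.ble 93 b)) (Bool.rec (motive := fun _ => ℕ) (m_94) (m_95) (Nat.ble 95 b)) (Nat.ble 94 b)) (Nat.ble 92 b)) (Nat.ble 88 b)) (Nat.ble 80 b)) (Bool.rec (motive := fun _ => ℕ) (Bool.rec (motive := fun _ => ℕ) (Bool.rec (motive := fun _ => ℕ) (Bool.rec (motive := fun _ => ℕ) (Bool.rec (motive := fun _ => ℕ) (m_96) (m_97) (Nat.ble 97 b)) (Bool.rec (motive := fun _ => ℕ) (m_98) (m_99) (Nat.ble 99 b)) (Nat.ble 98 b)) (Bool.rec (motive := fun _ => ℕ) (Bool.rec (motive := fun _ => ℕ) (m_100) (m_101) (Nat.ble 101 b)) (Bool.rec (motive := fun _ => ℕ) (m_102) (m_103) (Nat.ble 103 b)) (Nat.ble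 102 b)) (Nat.ble 100 b)) (Bool.rec (motive := fun _ => ℕ) (Bool.rec (motive := fun _ => ℕ) (Bool.rec (motive := fun _ => ℕ) (m_104) (m_105) (Nat.ble 105 b)) (Bool.rec (motive := fun _ => ℕ) (m_106) (m_107) (Nat.ble 107 b)) (Nat.ble 106 b)) (Bool.rec (motive := fun _ => ℕ) (Bool.rec (motive := fun _ => ℕ) (m_108) (m_109) (Nat.ble 109 b)) (Bool.rec (motive := fun _ => ℕ) (m_110) (m_111) (Nat.ble 111 b)) (Nat.ble 110 b)) (Nat.ble 108 b)) (Nat.ble 104 b)) (Bool.rec (motive := fun _ => ℕ) (Bool.rec (motive := fun _ => ℕ) (Bool.rec (motive := fun _ => ℕ) (Bool.rec (motive := fun _ => ℕ) (m_112) (m_113) (Nat.ble 113 b)) (Bool.rec (motive := fun _ => ℕ) (m_114) (m_115) (Nat.ble 115 b)) (Nat.ble 114 b)) (Bool.rec (motive := fun _ => ℕ) (Bool.rec (motive := fun _ => ℕ) (m_116) (m_117) (Nat.ble 117 b)) (Bool.rec (motive := fun _ => ℕ)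 (m_118) (0) (Nat.ble 119 b)) (Nat.ble 118 b)) (Nat.ble 116 b)) (0) (Nat.ble 120 b)) (Nat.ble 112 b)) (Nat.ble 96 b)) (Nat.ble 64 b))
noncomputable def jmT (b : ℕ) : ℕ := (Bool.rec (motive := fun _ => ℕ) (Bool.rec (motive := fun _ => ℕ) (Bool.rec (motive := fun _ => ℕ) (Bool.rec (motive := fun _ => ℕ) (Bool.rec (motive := fun _ => ℕ) (Bool.rec (motive := fun _ => ℕ) (Bool.rec (motive := fun _ => ℕ) (jm_0) (jm_1) (Nat.ble 1 b)) (Bool.rec (motive := fun _ => ℕ) (jm_2) (jm_3) (Nat.ble 3 b)) (Nat.ble 2 b)) (Bool.rec (motive := fun _ => ℕ) (Bool.rec (motive := fun _ => ℕ) (jm_4) (jm_5) (Nat.ble 5 b)) (Bool.rec (motive := fun _ => ℕ) (jm_6) (jm_7) (Nat.ble 7 b)) (Nat.ble 6 b)) (Nat.ble 4 b)) (Bool.rec (motive := fun _ => ℕ) (Bool.rec (motive := fun _ => ℕ) (Bool.rec (motive := fun _ => ℕ) (jm_8) (jm_9) (Nat.ble 9 b)) (Bool.rec (motive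 := fun _ => ℕ) (jm_10) (jm_11) (Nat.ble 11 b)) (Nat.ble 10 b)) (Bool.rec (motive := fun _ => ℕ) (Bool.rec (motive := fun _ => ℕ) (jm_12) (jm_13) (Nat.ble 13 b)) (Bool.rec (motive := fun _ => ℕ) (jm_14) (jm_15) (Nat.ble 15 b)) (Nat.ble 14 b)) (Nat.ble 12 b)) (Nat.ble 8 b)) (Bool.rec (motive := fun _ => ℕ) (Bool.rec (motive := fun _ => ℕ) (Bool.rec (motive := fun _ => ℕ) (Bool.rec (motive := fun _ => ℕ) (jm_16) (jm_17) (Nat.ble 17 b)) (Bool.rec (motive := fun _ => ℕ) (jm_18) (jm_19) (Nat.ble 19 b)) (Nat.ble 18 b)) (Bool.rec (motive := fun _ => ℕ) (Bool.rec (motive := fun _ => ℕ) (jm_20) (jm_21) (Nat.ble 21 b)) (Bool.rec (motive := fun _ => ℕ) (jm_22) (jm_23) (Nat.ble 23 b)) (Nat.ble 22 b)) (Nat.ble 20 b)) (Bool.rec (motive := fun _ => ℕ) (Bool.rec (motive := fun _ => ℕ) (Bool.rec (motive := fun _ => ℕ) (jm_24) (jm_25) (Nat.ble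 25 b)) (Bool.rec (motive := fun _ => ℕ) (jm_26) (jm_27) (Nat.ble 27 b)) (Nat.ble 26 b)) (Bool.rec (motive := fun _ => ℕ) (Bool.rec (motive := fun _ => ℕ) (jm_28) (jm_29) (Nat.ble 29 b)) (Bool.rec (motive := fun _ => ℕ) (jm_30) (jm_31) (Nat.ble 31 b)) (Nat.ble 30 b)) (Nat.ble 28 b)) (Nat.ble 24 b)) (Nat.ble 16 b)) (Bool.rec (motive := fun _ => ℕ) (Bool.rec (motive := fun _ => ℕ) (Bool.rec (motive := fun _ => ℕ) (Bool.rec (motive := fun _ => ℕ) (Bool.rec (motive := fun _ => ℕ) (jm_32) (jm_33) (Nat.ble 33 b)) (Bool.rec (motive := fun _ => ℕ) (jm_34) (jm_35) (Nat.ble 35 b)) (Nat.ble 34 b)) (Bool.rec (motive := fun _ => ℕ) (Bool.rec (motive := fun _ => ℕ) (jm_36) (jm_37) (Nat.ble 37 b)) (Bool.rec (motive := fun _ => ℕ) (jm_38) (jm_39) (Nat.ble 39 b)) (Nat.ble 38 b)) (Nat.ble 36 b)) (Bool.rec (motive := fun _ => ℕ) (Bool.rec (motive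 := fun _ => ℕ) (Bool.rec (motive := fun _ => ℕ) (jm_40) (jm_41) (Nat.ble 41 b)) (Bool.rec (motive := fun _ => ℕ) (jm_42) (jm_43) (Nat.ble 43 b)) (Nat.ble 42 b)) (Bool.rec (motive := fun _ => ℕ) (Bool.rec (motive := fun _ => ℕ) (jm_44) (jm_45) (Nat.ble 45 b)) (Bool.rec (motive := fun _ => ℕ) (jm_46) (jm_47) (Nat.ble 47 b)) (Nat.ble 46 b)) (Nat.ble 44 b)) (Nat.ble 40 b)) (Bool.rec (motive := fun _ => ℕ) (Bool.rec (motive := fun _ => ℕ) (Bool.rec (motive := fun _ => ℕ) (Bool.rec (motive := fun _ => ℕ) (jm_48) (jm_49) (Nat.ble 49 b)) (Bool.rec (motive := fun _ => ℕ) (jm_50) (jm_51) (Nat.ble 51 b)) (Nat.ble 50 b)) (Bool.rec (motive := fun _ => ℕ) (Bool.rec (motive := fun _ => ℕ) (jm_52) (jm_53) (Nat.ble 53 b)) (Bool.rec (motive := fun _ => ℕ) (jm_54) (jm_55) (Nat.ble 55 b)) (Nat.ble 54 b)) (Nat.ble 52 b)) (Bool.rec (motive := fun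 _ => ℕ) (Bool.rec (motive := fun _ => ℕ) (Bool.rec (motive := fun _ => ℕ) (jm_56) (jm_57) (Nat.ble 57 b)) (Bool.rec (motive := fun _ => ℕ) (jm_58) (jm_59) (Nat.ble 59 b)) (Nat.ble 58 b)) (Bool.rec (motive := fun _ => ℕ) (Bool.rec (motive := fun _ => ℕ) (jm_60) (jm_61) (Nat.ble 61 b)) (Bool.rec (motive := fun _ => ℕ) (jm_62) (jm_63) (Nat.ble 63 b)) (Nat.ble 62 b)) (Nat.ble 60 b)) (Nat.ble 56 b)) (Nat.ble 48 b)) (Nat.ble 32 b)) (Bool.rec (motive := fun _ => ℕ) (Bool.rec (motive := fun _ => ℕ) (Bool.rec (motive := fun _ => ℕ) (Bool.rec (motive := fun _ => ℕ) (Bool.rec (motive := fun _ => ℕ) (Bool.rec (motive := fun _ => ℕ) (jm_64) (jm_65) (Nat.ble 65 b)) (Bool.rec (motive := fun _ => ℕ) (jm_66) (jm_67) (Nat.ble 67 b)) (Nat.ble 66 b)) (Bool.rec (motive := fun _ => ℕ) (Bool.rec (motive := fun _ => ℕ) (jm_68) (jm_69) (Nat.ble 69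 b)) (Bool.rec (motive := fun _ => ℕ) (jm_70) (jm_71) (Nat.ble 71 b)) (Nat.ble 70 b)) (Nat.ble 68 b)) (Bool.rec (motive := fun _ => ℕ) (Bool.rec (motive := fun _ => ℕ) (Bool.rec (motive := fun _ => ℕ) (jm_72) (jm_73) (Nat.ble 73 b)) (Bool.rec (motive := fun _ => ℕ) (jm_74) (jm_75) (Nat.ble 75 b)) (Nat.ble 74 b)) (Bool.rec (motive := fun _ => ℕ) (Bool.rec (motive := fun _ => ℕ) (jm_76) (jm_77) (Nat.ble 77 b)) (Bool.rec (motive := fun _ => ℕ) (jm_78) (jm_79) (Nat.ble 79 b)) (Nat.ble 78 b)) (Nat.ble 76 b)) (Nat.ble 72 b)) (Bool.rec (motive := fun _ => ℕ) (Bool.rec (motive := fun _ => ℕ) (Bool.rec (motive := fun _ => ℕ) (Bool.rec (motive := fun _ => ℕ) (jm_80) (jm_81) (Nat.ble 81 b)) (Bool.rec (motive := fun _ => ℕ) (jm_82) (jm_83) (Nat.ble 83 b)) (Nat.ble 82 b)) (Bool.rec (motive := fun _ => ℕ) (Bool.rec (motive := fun _ => ℕ)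 (jm_84) (jm_85) (Nat.ble 85 b)) (Bool.rec (motive := fun _ => ℕ) (jm_86) (jm_87) (Nat.ble 87 b)) (Nat.ble 86 b)) (Nat.ble 84 b)) (Bool.rec (motive := fun _ => ℕ) (Bool.rec (motive := fun _ => ℕ) (Bool.rec (motive := fun _ => ℕ) (jm_88) (jm_89) (Nat.ble 89 b)) (Bool.rec (motive := fun _ => ℕ) (jm_90) (jm_91) (Nat.ble 91 b)) (Nat.ble 90 b)) (Bool.rec (motive := fun _ => ℕ) (Bool.rec (motive := fun _ => ℕ) (jm_92) (jm_93) (Nat.ble 93 b)) (Bool.rec (motive := fun _ => ℕ) (jm_94) (jm_95) (Nat.ble 95 b)) (Nat.ble 94 b)) (Nat.ble 92 b)) (Nat.ble 88 b)) (Nat.ble 80 b)) (Bool.rec (motive := fun _ => ℕ) (Bool.rec (motive := fun _ => ℕ) (Bool.rec (motive := fun _ => ℕ) (Bool.rec (motive := fun _ => ℕ) (Bool.rec (motive := fun _ => ℕ) (jm_96) (jm_97) (Nat.ble 97 b)) (Bool.rec (motive := fun _ => ℕ) (jm_98) (jm_99) (Nat.ble 99 b)) (Nat.ble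 98 b)) (Bool.rec (motive := fun _ => ℕ) (Bool.rec (motive := fun _ => ℕ) (jm_100) (jm_101) (Nat.ble 101 b)) (Bool.rec (motive := fun _ => ℕ) (jm_102) (jm_103) (Nat.ble 103 b)) (Nat.ble 102 b)) (Nat.ble 100 b)) (Bool.rec (motive := fun _ => ℕ) (Bool.rec (motive := fun _ => ℕ) (Bool.rec (motive := fun _ => ℕ) (jm_104) (jm_105) (Nat.ble 105 b)) (Bool.rec (motive := fun _ => ℕ) (jm_106) (jm_107) (Nat.ble 107 b)) (Nat.ble 106 b)) (Bool.rec (motive := fun _ => ℕ) (Bool.rec (motive := fun _ => ℕ) (jm_108) (jm_109) (Nat.ble 109 b)) (Bool.rec (motive := fun _ => ℕ) (jm_110) (jm_111) (Nat.ble 111 b)) (Nat.ble 110 b)) (Nat.ble 108 b)) (Nat.ble 104 b)) (Bool.rec (motive := fun _ => ℕ) (Bool.rec (motive := fun _ => ℕ) (Bool.rec (motive := fun _ => ℕ) (Bool.rec (motive := fun _ => ℕ) (jm_112) (jm_113) (Nat.ble 113 b)) (Bool.rec (motive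 := fun _ => ℕ) (jm_114) (jm_115) (Nat.ble 115 b)) (Nat.ble 114 b)) (Bool.rec (motive := fun _ => ℕ) (Bool.rec (motive := fun _ => ℕ) (jm_116) (jm_117) (Nat.ble 117 b)) (Bool.rec (motive := fun _ => ℕ) (jm_118) (0) (Nat.ble 119 b)) (Nat.ble 118 b)) (Nat.ble 116 b)) (0) (Nat.ble 120 b)) (Nat.ble 112 b)) (Nat.ble 96 b)) (Nat.ble 64 b))
def rw0 : List ℕ := [0, 0, 3, 13, 0, 0, 3, 13]
def rw1 : List ℕ := [0, 6, 1, 1, 12, 2, 7, 3, 13, 0]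
def rw2 : List ℕ := [0, 8, 1, 1, 12, 2, 9, 3, 13, 0]
def rw3 : List ℕ := [0, 0, 12, 1, 1, 12, 2, 13, 3, 13]
def rw4 : List ℕ := [0, 3, 13, 0, 0, 3, 13, 0]
def rw5 : List ℕ := [0, 2, 1, 1, 12, 2, 3, 3, 13, 0]
def rw6 : List ℕ := [0, 12, 1, 1, 12, 2, 13, 3, 13, 0]
def rw7 : List ℕ := [0, 0, 2, 1, 1, 12, 2, 3, 3, 13]
def rw8 : List ℕ := [0, 7, 4, 0, 5, 6, 0, 7, 4, 0, 6]
def rw9 : List ℕ := [0, 3, 13, 0, 0, 3, 13, 0]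
def rw10 : List ℕ := [0, 5, 6, 0, 7, 4, 0, 6, 0, 7, 4]
def rw11 : List ℕ := [0, 6, 9, 7, 1, 7, 1, 4, 0, 6, 0, 6, 8, 7, 1, 7, 1, 8, 5, 9, 0, 6]
def rw12 : List ℕ := [0, 4, 1, 1, 12, 2, 5, 3, 13, 0]
def rw13 : List ℕ := [0, 6, 9, 7, 1, 7, 1, 0, 0, 6, 0, 6, 8, 7, 1, 7, 1, 8, 1, 9, 0, 6]
def rw14 : List ℕ := [0, 10, 1, 1, 12, 2, 11, 3, 13, 0]
def rw15 : List ℕ := [0, 3, 13, 0, 0, 1, 1, 1, 12, 2]
def rw16 : List ℕ := [0, 6, 9, 7, 1, 7, 1, 6, 0, 6, 0, 6, 8, 7, 1, 7, 1, 8, 7, 9, 0, 6]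
def rw17 : List ℕ := [0, 8, 0, 8, 6, 9, 1, 9, 1, 6, 3, 7, 0, 8, 0, 8, 7, 9, 1, 9, 1, 2]
def rw18 : List ℕ := [0, 8, 0, 8, 7, 9, 1, 9, 1, 4, 0, 8, 0, 8, 6, 9, 1, 9, 1, 6, 5, 7]
def rw19 : List ℕ := [0, 0, 3, 1, 1, 12, 2, 2, 3, 13]
def rw20 : List ℕ := [0, 6, 0, 7, 4, 0, 5, 6, 0, 7, 4]
def rw21 : List ℕ := [0, 0, 13, 1, 1, 12, 2, 12, 3, 13]
def rw22 : List ℕ := [0, 7, 4, 0, 6, 0, 7, 4, 0, 5, 6]
def rw23 : List ℕ := [0, 0, 0, 1, 1, 12, 2, 1, 3, 13]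
def rw24 : List ℕ := [0, 6, 0, 6, 8, 7, 1, 7, 1, 8, 9, 9, 0, 6, 0, 6, 9, 7, 1, 7, 1, 8]
def rw25 : List ℕ := [0, 8, 0, 8, 7, 9, 1, 9, 1, 0, 0, 8, 0, 8, 6, 9, 1, 9, 1, 6, 1, 7]
def rw26 : List ℕ := [0, 6, 8, 7, 1, 7, 1, 8, 0, 9, 0, 6, 0, 6, 9, 7, 1, 7, 1, 1, 0, 6]
def rw27 : List ℕ := [0, 0, 6, 1, 1, 12, 2, 7, 3, 13]
def rw28 : List ℕ := [0, 6, 9, 7, 1, 7, 1, 1, 0, 6, 0, 6, 8, 7, 1, 7, 1, 8, 0, 9, 0, 6]
def rw29 : List ℕ := [0, 9, 0, 6, 0, 6, 9, 7, 1, 7, 1, 1, 0, 6, 0, 6, 8, 7, 1, 7, 1, 8]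
def rw30 : List ℕ := [0, 13, 1, 1, 12, 2, 12, 3, 13, 0]
def rw31 : List ℕ := [0, 6, 8, 7, 1, 7, 1, 8, 1, 9, 0, 6, 0, 6, 9, 7, 1, 7, 1, 0, 0, 6]
def rw32 : List ℕ := [0, 8, 7, 9, 1, 9, 1, 0, 0, 8, 0, 8, 6, 9, 1, 9, 1, 6, 1, 7, 0, 8]
def rw33 : List ℕ := [0, 6, 0, 6, 8, 7, 1, 7, 1, 8, 7, 9, 0, 6, 0, 6, 9, 7, 1, 7, 1, 6]
def rw34 : List ℕ := [0, 6, 0, 6, 9, 7, 1, 7, 1, 0, 0, 6, 0, 6, 8, 7, 1, 7, 1, 8, 1, 9]
def rw35 : List ℕ := [0, 0, 8, 1, 1, 12, 2, 9, 3, 13]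
def rw36 : List ℕ := [0, 8, 6, 4, 0, 8, 6, 4, 0, 8, 6, 4, 0, 8, 6, 4, 0, 8, 6, 4]
def rw37 : List ℕ := [0, 5, 1, 1, 12, 2, 4, 3, 13, 0]
def rw38 : List ℕ := [0, 6, 9, 7, 1, 7, 1, 2, 0, 6, 0, 6, 8, 7, 1, 7, 1, 8, 3, 9, 0, 6]
def rw39 : List ℕ := [0, 8, 7, 9, 1, 9, 1, 4, 0, 8, 0, 8, 6, 9, 1, 9, 1, 6, 5, 7, 0, 8]
def rw40 : List ℕ := [0, 8, 0, 8, 6, 9, 1, 9, 1, 6, 4, 7, 0, 8, 0, 8, 7, 9, 1, 9, 1, 5]
def rw41 : List ℕ := [0, 6, 9, 7, 1, 7, 1, 10, 0, 6, 0, 6, 8, 7, 1, 7, 1, 8, 11, 9, 0, 6]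
def rw42 : List ℕ := [0, 0, 4, 1, 1, 12, 2, 5, 3, 13]
def rw43 : List ℕ := [0, 9, 10, 0, 8, 0, 9, 10, 0, 11, 8, 0, 9, 10, 0, 8, 0, 9, 10, 0, 11, 8]
def rw44 : List ℕ := [0, 7, 1, 11, 8, 1, 9, 10, 1, 11, 8, 1, 9, 6, 8, 0, 9, 10, 0, 11, 8, 0, 9, 10]
def rw45 : List ℕ := [0, 6, 0, 6, 9, 7, 1, 7, 1, 1, 0, 6, 0, 6, 8, 7, 1, 7, 1, 8, 0, 9]
def rw46 : List ℕ := [0, 9, 1, 1, 12, 2, 8, 3, 13, 0]
def rw47 : List ℕ := [0, 9, 10, 0, 11, 8, 0, 9, 10, 0, 13, 1, 11, 8, 1, 9, 10, 1, 11, 8, 1, 9, 12, 8]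
def rw48 : List ℕ := [0, 8, 0, 9, 10, 0, 11, 8, 0, 9, 10, 0, 1, 1, 11, 8, 1, 9, 10, 1, 11, 8, 1, 9]
def rw49 : List ℕ := [0, 6, 8, 7, 1, 7, 1, 8, 9, 9, 0, 6, 0, 6, 9, 7, 1, 7, 1, 8, 0, 6]
def rw50 : List ℕ := [0, 6, 0, 6, 9, 7, 1, 7, 1, 6, 0, 6, 0, 6, 8, 7, 1, 7, 1, 8, 7, 9]
def rw51 : List ℕ := [0, 6, 8, 7, 1, 7, 1, 8, 5, 9, 0, 6, 0, 6, 9, 7, 1, 7, 1, 4, 0, 6]
def rw52 : List ℕ := [0, 6, 0, 6, 9, 7, 1, 7, 1, 2, 0, 6, 0, 6, 8, 7, 1, 7, 1, 8, 3, 9]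
def rw53 : List ℕ := [0, 8, 6, 4, 0, 8, 6, 4, 0, 8, 6, 4, 0, 8, 6, 4, 0, 8, 6, 4]
def rw54 : List ℕ := [0, 8, 6, 9, 1, 9, 1, 6, 1, 7, 0, 8, 0, 8, 7, 9, 1, 9, 1, 0, 0, 8]
def rw55 : List ℕ := [0, 8, 6, 9, 1, 9, 1, 6, 0, 7, 0, 8, 0, 8, 7, 9, 1, 9, 1, 1, 0, 8]
def rw56 : List ℕ := [0, 6, 8, 7, 1, 7, 1, 8, 3, 9, 0, 6, 0, 6, 9, 7, 1, 7, 1, 2, 0, 6]
def rw57 : List ℕ := [0, 6, 0, 6, 9, 7, 1, 7, 1, 8, 0, 6, 0, 6, 8, 7, 1, 7, 1, 8, 9, 9]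
def rw58 : List ℕ := [0, 11, 1, 11, 8, 1, 9, 10, 1, 11, 8, 1, 9, 10, 8, 0, 9, 10, 0, 11, 8, 0, 9, 10]
def rw59 : List ℕ := [0, 8, 7, 9, 1, 9, 1, 8, 0, 8, 0, 8, 6, 9, 1, 9, 1, 6, 9, 7, 0, 8]
def rw60 : List ℕ := [0, 11, 8, 0, 9, 10, 0, 2, 1, 11, 8, 1, 9, 10, 1, 11, 8, 1, 9, 3, 8, 0, 9, 10]
def rw61 : List ℕ := [0, 6, 0, 6, 9, 7, 1, 7, 1, 4, 0, 6, 0, 6, 8, 7, 1, 7, 1, 8, 5, 9]
def rw62 : List ℕ := [0, 9, 10, 0, 11, 8, 0, 9, 10, 0, 1, 1, 11, 8, 1, 9, 10, 1, 11, 8, 1, 9, 0, 8]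
def rw63 : List ℕ := [0, 6, 8, 7, 1, 7, 1, 8, 7, 9, 0, 6, 0, 6, 9, 7, 1, 7, 1, 6, 0, 6]
def rw64 : List ℕ := [0, 6, 0, 6, 8, 7, 1, 7, 1, 8, 1, 9, 0, 6, 0, 6, 9, 7, 1, 7, 1, 0]
def rw65 : List ℕ := [0, 6, 0, 6, 8, 7, 1, 7, 1, 8, 13, 9, 0, 6, 0, 6, 9, 7, 1, 7, 1, 12]
def rw66 : List ℕ := [0, 9, 1, 11, 8, 1, 9, 10, 1, 11, 8, 1, 9, 8, 8, 0, 9, 10, 0, 11, 8, 0, 9, 10]
def rw67 : List ℕ := [0, 11, 8, 0, 9, 10, 0, 0, 1, 11, 8, 1, 9, 10, 1, 11, 8, 1, 9, 1, 8, 0, 9, 10]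
def rw68 : List ℕ := [0, 8, 7, 9, 1, 9, 1, 2, 0, 8, 0, 8, 6, 9, 1, 9, 1, 6, 3, 7, 0, 8]
def rw69 : List ℕ := [0, 8, 7, 9, 1, 9, 1, 12, 0, 8, 0, 8, 6, 9, 1, 9, 1, 6, 13, 7, 0, 8]
def rw70 : List ℕ := [0, 8, 0, 8, 7, 9, 1, 9, 1, 12, 0, 8, 0, 8, 6, 9, 1, 9, 1, 6, 13, 7]
def rw71 : List ℕ := [0, 9, 10, 0, 11, 8, 0, 9, 10, 0, 5, 1, 11, 8, 1, 9, 10, 1, 11, 8, 1, 9, 4, 8]
def rw72 : List ℕ := [0, 8, 6, 9, 1, 9, 1, 6, 3, 7, 0, 8, 0, 8, 7, 9, 1, 9, 1, 2, 0, 8]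
def rw73 : List ℕ := [0, 9, 10, 0, 11, 8, 0, 9, 10, 0, 0, 1, 11, 8, 1, 9, 10, 1, 11, 8, 1, 9, 1, 8]
def rw74 : List ℕ := [0, 11, 8, 0, 9, 10, 0, 9, 1, 11, 8, 1, 9, 10, 1, 11, 8, 1, 9, 8, 8, 0, 9, 10]
def rw75 : List ℕ := [0, 8, 6, 4, 0, 8, 6, 4, 0, 8, 6, 4, 0, 8, 6, 4, 0, 8, 6, 4]
def rw76 : List ℕ := [0, 9, 10, 0, 1, 1, 11, 8, 1, 9, 10, 1, 11, 8, 1, 9, 0, 8, 0, 9, 10, 0, 11, 8]
def rw77 : List ℕ := [0, 13, 1, 11, 8, 1, 9, 10, 1, 11, 8, 1, 9, 12, 8, 0, 9, 10, 0, 11, 8, 0, 9, 10]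
def rw78 : List ℕ := [0, 0, 10, 1, 1, 12, 2, 11, 3, 13]
def rw79 : List ℕ := [0, 8, 6, 9, 1, 9, 1, 6, 9, 7, 0, 8, 0, 8, 7, 9, 1, 9, 1, 8, 0, 8]
def rw80 : List ℕ := [0, 0, 1, 11, 8, 1, 9, 10, 1, 11, 8, 1, 9, 1, 8, 0, 9, 10, 0, 11, 8, 0, 9, 10]
def rw81 : List ℕ := [0, 8, 0, 8, 6, 9, 1, 9, 1, 6, 11, 7, 0, 8, 0, 8, 7, 9, 1, 9, 1, 10]
def rw82 : List ℕ := [0, 6, 8, 7, 1, 7, 1, 8, 13, 9, 0, 6, 0, 6, 9, 7, 1, 7, 1, 12, 0, 6]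
def rw83 : List ℕ := [0, 9, 10, 0, 0, 1, 11, 8, 1, 9, 10, 1, 11, 8, 1, 9, 1, 8, 0, 9, 10, 0, 11, 8]
def rw84 : List ℕ := [0, 9, 10, 0, 7, 1, 11, 8, 1, 9, 10, 1, 11, 8, 1, 9, 6, 8, 0, 9, 10, 0, 11, 8]
def rw85 : List ℕ := [0, 8, 7, 9, 1, 9, 1, 1, 0, 8, 0, 8, 6, 9, 1, 9, 1, 6, 0, 7, 0, 8]
def rw86 : List ℕ := [0, 8, 7, 9, 1, 9, 1, 10, 0, 8, 0, 8, 6, 9, 1, 9, 1, 6, 11, 7, 0, 8]
def rw87 : List ℕ := [0, 11, 8, 0, 9, 10, 0, 11, 1, 11, 8, 1, 9, 10, 1, 11, 8, 1, 9, 10, 8, 0, 9, 10]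
def rw88 : List ℕ := [0, 6, 9, 7, 1, 7, 1, 12, 0, 6, 0, 6, 8, 7, 1, 7, 1, 8, 13, 9, 0, 6]
def rw89 : List ℕ := [0, 9, 10, 0, 8, 0, 9, 10, 0, 11, 8, 0, 9, 10, 0, 8, 0, 9, 10, 0, 11, 8]
def rw90 : List ℕ := [0, 11, 1, 1, 12, 2, 10, 3, 13, 0]
def rw91 : List ℕ := [0, 8, 6, 9, 1, 9, 1, 6, 13, 7, 0, 8, 0, 8, 7, 9, 1, 9, 1, 12, 0, 8]
def rw92 : List ℕ := [0, 8, 0, 8, 6, 9, 1, 9, 1, 6, 9, 7, 0, 8, 0, 8, 7, 9, 1, 9, 1, 8]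
def rw93 : List ℕ := [0, 6, 8, 7, 1, 7, 1, 8, 2, 9, 0, 6, 0, 6, 9, 7, 1, 7, 1, 3, 0, 6]
def rw94 : List ℕ := [0, 11, 8, 0, 9, 10, 0, 1, 1, 11, 8, 1, 9, 10, 1, 11, 8, 1, 9, 0, 8, 0, 9, 10]
def rw95 : List ℕ := [0, 9, 10, 0, 5, 1, 11, 8, 1, 9, 10, 1, 11, 8, 1, 9, 4, 8, 0, 9, 10, 0, 11, 8]
def rw96 : List ℕ := [0, 6, 0, 6, 8, 7, 1, 7, 1, 8, 5, 9, 0, 6, 0, 6, 9, 7, 1, 7, 1, 4]
def rw97 : List ℕ := [0, 8, 0, 8, 7, 9, 1, 9, 1, 8, 0, 8, 0, 8, 6, 9, 1, 9, 1, 6, 9, 7]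
def rw98 : List ℕ := [0, 9, 10, 0, 3, 1, 11, 8, 1, 9, 10, 1, 11, 8, 1, 9, 2, 8, 0, 9, 10, 0, 11, 8]
def rw99 : List ℕ := [0, 8, 0, 8, 6, 9, 1, 9, 1, 6, 2, 7, 0, 8, 0, 8, 7, 9, 1, 9, 1, 3]
def rw100 : List ℕ := [0, 3, 1, 11, 8, 1, 9, 10, 1, 11, 8, 1, 9, 2, 8, 0, 9, 10, 0, 11, 8, 0, 9, 10]
def rw101 : List ℕ := [0, 5, 1, 11, 8, 1, 9, 10, 1, 11, 8, 1, 9, 4, 8, 0, 9, 10, 0, 11, 8, 0, 9, 10]
def rw102 : List ℕ := [0, 8, 6, 9, 1, 9, 1, 6, 5, 7, 0, 8, 0, 8, 7, 9, 1, 9, 1, 4, 0, 8]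
def rw103 : List ℕ := [0, 11, 8, 0, 9, 10, 0, 5, 1, 11, 8, 1, 9, 10, 1, 11, 8, 1, 9, 4, 8, 0, 9, 10]
def rw104 : List ℕ := [0, 9, 10, 0, 11, 8, 0, 9, 10, 0, 7, 1, 11, 8, 1, 9, 10, 1, 11, 8, 1, 9, 6, 8]
def rw105 : List ℕ := [0, 9, 10, 0, 11, 8, 0, 9, 10, 0, 11, 1, 11, 8, 1, 9, 10, 1, 11, 8, 1, 9, 10, 8]
def rw106 : List ℕ := [0, 9, 10, 0, 13, 1, 11, 8, 1, 9, 10, 1, 11, 8, 1, 9, 12, 8, 0, 9, 10, 0, 11, 8]
def rw107 : List ℕ := [0, 11, 8, 0, 9, 10, 0, 3, 1, 11, 8, 1, 9, 10, 1, 11, 8, 1, 9, 2, 8, 0, 9, 10]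
def rw108 : List ℕ := [0, 6, 0, 6, 8, 7, 1, 7, 1, 8, 2, 9, 0, 6, 0, 6, 9, 7, 1, 7, 1, 3]
def rw109 : List ℕ := [0, 11, 8, 0, 9, 10, 0, 13, 1, 11, 8, 1, 9, 10, 1, 11, 8, 1, 9, 12, 8, 0, 9, 10]
def rw110 : List ℕ := [0, 8, 0, 8, 6, 9, 1, 9, 1, 6, 1, 7, 0, 8, 0, 8, 7, 9, 1, 9, 1, 0]
def rw111 : List ℕ := [0, 6, 0, 6, 8, 7, 1, 7, 1, 8, 6, 9, 0, 6, 0, 6, 9, 7, 1, 7, 1, 7]
def rw112 : List ℕ := [0, 8, 0, 8, 7, 9, 1, 9, 1, 1, 0, 8, 0, 8, 6, 9, 1, 9, 1, 6, 0, 7]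
def rw113 : List ℕ := [0, 9, 10, 0, 9, 1, 11, 8, 1, 9, 10, 1, 11, 8, 1, 9, 8, 8, 0, 9, 10, 0, 11, 8]
def rw114 : List ℕ := [0, 9, 10, 0, 11, 8, 0, 9, 10, 0, 3, 1, 11, 8, 1, 9, 10, 1, 11, 8, 1, 9, 2, 8]
def rw115 : List ℕ := [0, 6, 0, 6, 8, 7, 1, 7, 1, 8, 4, 9, 0, 6, 0, 6, 9, 7, 1, 7, 1, 5]
def rw116 : List ℕ := [0, 11, 8, 0, 9, 10, 0, 7, 1, 11, 8, 1, 9, 10, 1, 11, 8, 1, 9, 6, 8, 0, 9, 10]
def rw117 : List ℕ := [0, 8, 0, 8, 7, 9, 1, 9, 1, 2, 0, 8, 0, 8, 6, 9, 1, 9, 1, 6, 3, 7]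
def rw118 : List ℕ := [0, 8, 0, 8, 7, 9, 1, 9, 1, 10, 0, 8, 0, 8, 6, 9, 1, 9, 1, 6, 11, 7]
def rw119 : List ℕ := [0, 9, 10, 0, 11, 1, 11, 8, 1, 9, 10, 1, 11, 8, 1, 9, 10, 8, 0, 9, 10, 0, 11, 8]
def rw120 : List ℕ := [0, 8, 0, 8, 6, 9, 1, 9, 1, 6, 12, 7, 0, 8, 0, 8, 7, 9, 1, 9, 1, 13]
def rw121 : List ℕ := [0, 10, 1, 11, 8, 1, 9, 10, 1, 11, 8, 1, 9, 11, 8, 0, 9, 10, 0, 11, 8, 0, 9, 10]
def rw122 : List ℕ := [0, 8, 0, 8, 6, 9, 1, 9, 1, 6, 8, 7, 0, 8, 0, 8, 7, 9, 1, 9, 1, 9]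
def rw123 : List ℕ := [0, 9, 10, 0, 6, 1, 11, 8, 1, 9, 10, 1, 11, 8, 1, 9, 7, 8, 0, 9, 10, 0, 11, 8]
def rw124 : List ℕ := [0, 8, 0, 8, 6, 9, 1, 9, 1, 6, 5, 7, 0, 8, 0, 8, 7, 9, 1, 9, 1, 4]
def rw125 : List ℕ := [0, 6, 0, 6, 9, 7, 1, 7, 1, 12, 0, 6, 0, 6, 8, 7, 1, 7, 1, 8, 13, 9]
def rw126 : List ℕ := [0, 8, 0, 8, 6, 9, 1, 9, 1, 6, 10, 7, 0, 8, 0, 8, 7, 9, 1, 9, 1, 11]
def rw127 : List ℕ := [0, 9, 10, 0, 11, 8, 0, 9, 10, 0, 9, 1, 11, 8, 1, 9, 10, 1, 11, 8, 1, 9, 8, 8]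
def rw128 : List ℕ := [0, 6, 8, 7, 1, 7, 1, 8, 11, 9, 0, 6, 0, 6, 9, 7, 1, 7, 1, 10, 0, 6]
def rw129 : List ℕ := [0, 8, 6, 9, 1, 9, 1, 6, 11, 7, 0, 8, 0, 8, 7, 9, 1, 9, 1, 10, 0, 8]
def rw130 : List ℕ := [0, 8, 0, 8, 6, 9, 1, 9, 1, 6, 13, 7, 0, 8, 0, 8, 7, 9, 1, 9, 1, 12]
def rw131 : List ℕ := [0, 6, 0, 6, 9, 7, 1, 7, 1, 10, 0, 6, 0, 6, 8, 7, 1, 7, 1, 8, 11, 9]
def rw132 : List ℕ := [0, 6, 0, 6, 8, 7, 1, 7, 1, 8, 12, 9, 0, 6, 0, 6, 9, 7, 1, 7, 1, 13]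
def rw133 : List ℕ := [0, 6, 0, 6, 8, 7, 1, 7, 1, 8, 3, 9, 0, 6, 0, 6, 9, 7, 1, 7, 1, 2]
def rw134 : List ℕ := [0, 6, 8, 7, 1, 7, 1, 8, 10, 9, 0, 6, 0, 6, 9, 7, 1, 7, 1, 11, 0, 6]
def rw135 : List ℕ := [0, 9, 10, 0, 2, 1, 11, 8, 1, 9, 10, 1, 11, 8, 1, 9, 3, 8, 0, 9, 10, 0, 11, 8]
def rw136 : List ℕ := [0, 7, 1, 1, 12, 2, 6, 3, 13, 0]
def rw137 : List ℕ := [0, 0, 11, 1, 1, 12, 2, 10, 3, 13]
def rw138 : List ℕ := [0, 9, 10, 0, 11, 8, 0, 9, 10, 0, 2, 1, 11, 8, 1, 9, 10, 1, 11, 8, 1, 9, 3, 8]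
def rw139 : List ℕ := [0, 6, 0, 6, 8, 7, 1, 7, 1, 8, 10, 9, 0, 6, 0, 6, 9, 7, 1, 7, 1, 11]
def rw140 : List ℕ := [0, 8, 6, 9, 1, 9, 1, 6, 4, 7, 0, 8, 0, 8, 7, 9, 1, 9, 1, 5, 0, 8]
def rw141 : List ℕ := [0, 8, 6, 4, 0, 8, 6, 4, 0, 8, 6, 4, 0, 8, 6, 4, 0, 8, 6, 4]
def rw142 : List ℕ := [0, 8, 6, 4, 0, 8, 6, 4, 0, 8, 6, 4, 0, 8, 6, 4, 0, 8, 6, 4]
def rw143 : List ℕ := [0, 6, 8, 7, 1, 7, 1, 8, 6, 9, 0, 6, 0, 6, 9, 7, 1, 7, 1, 7, 0, 6]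
def rw144 : List ℕ := [0, 6, 0, 6, 8, 7, 1, 7, 1, 8, 11, 9, 0, 6, 0, 6, 9, 7, 1, 7, 1, 10]
def rw145 : List ℕ := [0, 9, 10, 0, 10, 1, 11, 8, 1, 9, 10, 1, 11, 8, 1, 9, 11, 8, 0, 9, 10, 0, 11, 8]
def rw146 : List ℕ := [0, 0, 7, 1, 1, 12, 2, 6, 3, 13]
def rw147 : List ℕ := [0, 9, 10, 0, 4, 1, 11, 8, 1, 9, 10, 1, 11, 8, 1, 9, 5, 8, 0, 9, 10, 0, 11, 8]
def rw148 : List ℕ := [0, 2, 1, 11, 8, 1, 9, 10, 1, 11, 8, 1, 9, 3, 8, 0, 9, 10, 0, 11, 8, 0, 9, 10]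
def rw149 : List ℕ := [0, 4, 1, 11, 8, 1, 9, 10, 1, 11, 8, 1, 9, 5, 8, 0, 9, 10, 0, 11, 8, 0, 9, 10]
def rw150 : List ℕ := [0, 8, 6, 9, 1, 9, 1, 6, 2, 7, 0, 8, 0, 8, 7, 9, 1, 9, 1, 3, 0, 8]
def rw151 : List ℕ := [0, 6, 8, 7, 1, 7, 1, 8, 4, 9, 0, 6, 0, 6, 9, 7, 1, 7, 1, 5, 0, 6]
def rw152 : List ℕ := [1, 12, 2, 3, 3, 13, 0, 0, 2, 1]
def rw153 : List ℕ := [1, 12, 2, 5, 3, 13, 0, 0, 4, 1]
def rw154 : List ℕ := [1, 12, 2, 7, 3, 13, 0, 0, 6, 1]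
def rw155 : List ℕ := [1, 12, 2, 9, 3, 13, 0, 0, 8, 1]
def rw156 : List ℕ := [1, 1, 12, 2, 3, 3, 13, 0, 0, 2]
def rw157 : List ℕ := [1, 12, 2, 11, 3, 13, 0, 0, 10, 1]
def rw158 : List ℕ := [1, 1, 12, 2, 7, 3, 13, 0, 0, 6]
def rw159 : List ℕ := [1, 1, 12, 2, 9, 3, 13, 0, 0, 8]
def rw160 : List ℕ := [1, 1, 12, 2, 5, 3, 13, 0, 0, 4]
def rw161 : List ℕ := [1, 7, 4, 1, 5, 6, 1, 7, 1, 5, 6]
def rw162 : List ℕ := [1, 12, 2, 1, 1, 12, 2, 1]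
def rw163 : List ℕ := [1, 12, 2, 0, 3, 13, 0, 0, 1, 1]
def rw164 : List ℕ := [1, 7, 1, 5, 6, 1, 7, 4, 1, 5, 6]
def rw165 : List ℕ := [1, 1, 12, 2, 13, 3, 13, 0, 0, 12]
def rw166 : List ℕ := [1, 8, 1, 9, 0, 6, 0, 6, 9, 7, 1, 7, 1, 0, 0, 6, 0, 6, 8, 7, 1, 7]
def rw167 : List ℕ := [1, 1, 12, 2, 1, 1, 12, 2]
def rw168 : List ℕ := [1, 12, 2, 13, 3, 13, 0, 0, 12, 1]
def rw169 : List ℕ := [1, 5, 6, 1, 7, 1, 5, 6, 1, 7, 4]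
def rw170 : List ℕ := [1, 1, 12, 2, 1, 1, 12, 2]
def rw171 : List ℕ := [1, 1, 12, 2, 11, 3, 13, 0, 0, 10]
def rw172 : List ℕ := [1, 1, 12, 2, 6, 3, 13, 0, 0, 7]
def rw173 : List ℕ := [1, 1, 12, 2, 8, 3, 13, 0, 0, 9]
def rw174 : List ℕ := [1, 1, 12, 2, 12, 3, 13, 0, 0, 13]
def rw175 : List ℕ := [1, 7, 1, 8, 1, 9, 0, 6, 0, 6, 9, 7, 1, 7, 1, 0, 0, 6, 0, 6, 8, 7]
def rw176 : List ℕ := [1, 3, 13, 0, 0, 0, 1, 1, 12, 2]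
def rw177 : List ℕ := [1, 4, 0, 6, 0, 6, 8, 7, 1, 7, 1, 8, 5, 9, 0, 6, 0, 6, 9, 7, 1, 7]
def rw178 : List ℕ := [1, 12, 2, 8, 3, 13, 0, 0, 9, 1]
def rw179 : List ℕ := [1, 5, 6, 1, 7, 4, 1, 5, 6, 1, 7]
def rw180 : List ℕ := [1, 1, 12, 2, 2, 3, 13, 0, 0, 3]
def rw181 : List ℕ := [1, 8, 7, 9, 0, 6, 0, 6, 9, 7, 1, 7, 1, 6, 0, 6, 0, 6, 8, 7, 1, 7]
def rw182 : List ℕ := [1, 1, 12, 2, 4, 3, 13, 0, 0, 5]
def rw183 : List ℕ := [1, 1, 12, 2, 10, 3, 13, 0, 0, 11]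
def rw184 : List ℕ := [1, 4, 0, 8, 0, 8, 6, 9, 1, 9, 1, 6, 5, 7, 0, 8, 0, 8, 7, 9, 1, 9]
def rw185 : List ℕ := [1, 7, 1, 8, 7, 9, 0, 6, 0, 6, 9, 7, 1, 7, 1, 6, 0, 6, 0, 6, 8, 7]
def rw186 : List ℕ := [1, 7, 1, 8, 13, 9, 0, 6, 0, 6, 9, 7, 1, 7, 1, 12, 0, 6, 0, 6, 8, 7]
def rw187 : List ℕ := [1, 8, 0, 9, 0, 6, 0, 6, 9, 7, 1, 7, 1, 1, 0, 6, 0, 6, 8, 7, 1, 7]
def rw188 : List ℕ := [1, 7, 1, 8, 5, 9, 0, 6, 0, 6, 9, 7, 1, 7, 1, 4, 0, 6, 0, 6, 8, 7]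
def rw189 : List ℕ := [1, 7, 1, 8, 0, 9, 0, 6, 0, 6, 9, 7, 1, 7, 1, 1, 0, 6, 0, 6, 8, 7]
def rw190 : List ℕ := [1, 7, 1, 8, 9, 9, 0, 6, 0, 6, 9, 7, 1, 7, 1, 8, 0, 6, 0, 6, 8, 7]
def rw191 : List ℕ := [1, 1, 0, 6, 0, 6, 8, 7, 1, 7, 1, 8, 0, 9, 0, 6, 0, 6, 9, 7, 1, 7]
def rw192 : List ℕ := [1, 2, 0, 6, 0, 6, 8, 7, 1, 7, 1, 8, 3, 9, 0, 6, 0, 6, 9, 7, 1, 7]
def rw193 : List ℕ := [1, 8, 5, 9, 0, 6, 0, 6, 9, 7, 1, 7, 1, 4, 0, 6, 0, 6, 8, 7, 1, 7]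
def rw194 : List ℕ := [1, 8, 3, 9, 0, 6, 0, 6, 9, 7, 1, 7, 1, 2, 0, 6, 0, 6, 8, 7, 1, 7]
def rw195 : List ℕ := [1, 12, 2, 2, 3, 13, 0, 0, 3, 1]
def rw196 : List ℕ := [1, 9, 0, 6, 0, 6, 9, 7, 1, 7, 1, 0, 0, 6, 0, 6, 8, 7, 1, 7, 1, 8]
def rw197 : List ℕ := [1, 9, 10, 1, 11, 8, 1, 9, 12, 8, 0, 9, 10, 0, 11, 8, 0, 9, 10, 0, 13, 1, 11, 8]
def rw198 : List ℕ := [1, 9, 10, 1, 11, 8, 1, 9, 0, 8, 0, 9, 10, 0, 11, 8, 0, 9, 10, 0, 1, 1, 11, 8]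
def rw199 : List ℕ := [1, 11, 8, 1, 9, 1, 8, 0, 9, 10, 0, 11, 8, 0, 9, 10, 0, 0, 1, 11, 8, 1, 9, 10]
def rw200 : List ℕ := [1, 7, 1, 10, 0, 6, 0, 6, 8, 7, 1, 7, 1, 8, 11, 9, 0, 6, 0, 6, 9, 7]
def rw201 : List ℕ := [1, 9, 1, 6, 0, 7, 0, 8, 0, 8, 7, 9, 1, 9, 1, 1, 0, 8, 0, 8, 6, 9]
def rw202 : List ℕ := [1, 11, 8, 1, 9, 10, 1, 11, 8, 1, 9, 10, 8, 0, 9, 10, 0, 11, 8, 0, 9, 10, 0, 11]
def rw203 : List ℕ := [1, 9, 1, 1, 0, 8, 0, 8, 6, 9, 1, 9, 1, 6, 0, 7, 0, 8, 0, 8, 7, 9]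
def rw204 : List ℕ := [1, 8, 9, 9, 0, 6, 0, 6, 9, 7, 1, 7, 1, 8, 0, 6, 0, 6, 8, 7, 1, 7]
def rw205 : List ℕ := [1, 12, 2, 6, 3, 13, 0, 0, 7, 1]
def rw206 : List ℕ := [1, 9, 1, 0, 0, 8, 0, 8, 6, 9, 1, 9, 1, 6, 1, 7, 0, 8, 0, 8, 7, 9]
def rw207 : List ℕ := [1, 7, 1, 0, 0, 6, 0, 6, 8, 7, 1, 7, 1, 8, 1, 9, 0, 6, 0, 6, 9, 7]
def rw208 : List ℕ := [1, 11, 8, 1, 9, 10, 1, 11, 8, 1, 9, 12, 8, 0, 9, 10, 0, 11, 8, 0, 9, 10, 0, 13]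
def rw209 : List ℕ := [1, 6, 0, 7, 0, 8, 0, 8, 7, 9, 1, 9, 1, 1, 0, 8, 0, 8, 6, 9, 1, 9]
def rw210 : List ℕ := [1, 9, 1, 6, 5, 7, 0, 8, 0, 8, 7, 9, 1, 9, 1, 4, 0, 8, 0, 8, 6, 9]
def rw211 : List ℕ := [1, 9, 1, 6, 1, 7, 0, 8, 0, 8, 7, 9, 1, 9, 1, 0, 0, 8, 0, 8, 6, 9]
def rw212 : List ℕ := [1, 9, 10, 1, 11, 8, 1, 9, 6, 8, 0, 9, 10, 0, 11, 8, 0, 9, 10, 0, 7, 1, 11, 8]
def rw213 : List ℕ := [1, 7, 1, 8, 3, 9, 0, 6, 0, 6, 9, 7, 1, 7, 1, 2, 0, 6, 0, 6, 8, 7]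
def rw214 : List ℕ := [1, 11, 8, 1, 9, 10, 1, 11, 8, 1, 9, 8, 8, 0, 9, 10, 0, 11, 8, 0, 9, 10, 0, 9]
def rw215 : List ℕ := [1, 7, 1, 6, 0, 6, 0, 6, 8, 7, 1, 7, 1, 8, 7, 9, 0, 6, 0, 6, 9, 7]
def rw216 : List ℕ := [1, 9, 1, 2, 0, 8, 0, 8, 6, 9, 1, 9, 1, 6, 3, 7, 0, 8, 0, 8, 7, 9]
def rw217 : List ℕ := [1, 9, 1, 10, 0, 8, 0, 8, 6, 9, 1, 9, 1, 6, 11, 7, 0, 8, 0, 8, 7, 9]
def rw218 : List ℕ := [1, 11, 8, 1, 9, 2, 8, 0, 9, 10, 0, 11, 8, 0, 9, 10, 0, 3, 1, 11, 8, 1, 9, 10]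
def rw219 : List ℕ := [1, 9, 1, 6, 3, 7, 0, 8, 0, 8, 7, 9, 1, 9, 1, 2, 0, 8, 0, 8, 6, 9]
def rw220 : List ℕ := [1, 11, 8, 1, 9, 10, 1, 11, 8, 1, 9, 4, 8, 0, 9, 10, 0, 11, 8, 0, 9, 10, 0, 5]
def rw221 : List ℕ := [1, 7, 1, 1, 0, 6, 0, 6, 8, 7, 1, 7, 1, 8, 0, 9, 0, 6, 0, 6, 9, 7]
def rw222 : List ℕ := [1, 9, 10, 1, 11, 8, 1, 9, 8, 8, 0, 9, 10, 0, 11, 8, 0, 9, 10, 0, 9, 1, 11, 8]
def rw223 : List ℕ := [1, 9, 10, 1, 11, 8, 1, 9, 1, 8, 0, 9, 10, 0, 11, 8, 0, 9, 10, 0, 0, 1, 11, 8]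
def rw224 : List ℕ := [1, 7, 1, 8, 11, 9, 0, 6, 0, 6, 9, 7, 1, 7, 1, 10, 0, 6, 0, 6, 8, 7]
def rw225 : List ℕ := [1, 9, 0, 8, 0, 9, 10, 0, 11, 8, 0, 9, 10, 0, 1, 1, 11, 8, 1, 9, 10, 1, 11, 8]
def rw226 : List ℕ := [1, 6, 11, 7, 0, 8, 0, 8, 7, 9, 1, 9, 1, 10, 0, 8, 0, 8, 6, 9, 1, 9]
def rw227 : List ℕ := [1, 9, 1, 6, 9, 7, 0, 8, 0, 8, 7, 9, 1, 9, 1, 8, 0, 8, 0, 8, 6, 9]
def rw228 : List ℕ := [1, 10, 0, 8, 0, 8, 6, 9, 1, 9, 1, 6, 11, 7, 0, 8, 0, 8, 7, 9, 1, 9]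
def rw229 : List ℕ := [1, 9, 8, 8, 0, 9, 10, 0, 11, 8, 0, 9, 10, 0, 9, 1, 11, 8, 1, 9, 10, 1, 11, 8]
def rw230 : List ℕ := [1, 11, 8, 1, 9, 0, 8, 0, 9, 10, 0, 11, 8, 0, 9, 10, 0, 1, 1, 11, 8, 1, 9, 10]
def rw231 : List ℕ := [1, 9, 1, 12, 0, 8, 0, 8, 6, 9, 1, 9, 1, 6, 13, 7, 0, 8, 0, 8, 7, 9]
def rw232 : List ℕ := [1, 7, 1, 4, 0, 6, 0, 6, 8, 7, 1, 7, 1, 8, 5, 9, 0, 6, 0, 6, 9, 7]
def rw233 : List ℕ := [1, 11, 8, 1, 9, 8, 8, 0, 9, 10, 0, 11, 8, 0, 9, 10, 0, 9, 1, 11, 8, 1, 9, 10]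
def rw234 : List ℕ := [1, 8, 13, 9, 0, 6, 0, 6, 9, 7, 1, 7, 1, 12, 0, 6, 0, 6, 8, 7, 1, 7]
def rw235 : List ℕ := [1, 8, 0, 9, 10, 0, 11, 8, 0, 9, 10, 0, 0, 1, 11, 8, 1, 9, 10, 1, 11, 8, 1, 9]
def rw236 : List ℕ := [1, 7, 1, 2, 0, 6, 0, 6, 8, 7, 1, 7, 1, 8, 3, 9, 0, 6, 0, 6, 9, 7]
def rw237 : List ℕ := [1, 9, 1, 8, 0, 9, 10, 0, 11, 8, 0, 9, 10, 0, 0, 1, 11, 8, 1, 9, 10, 1, 11, 8]
def rw238 : List ℕ := [1, 9, 2, 8, 0, 9, 10, 0, 11, 8, 0, 9, 10, 0, 3, 1, 11, 8, 1, 9, 10, 1, 11, 8]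
def rw239 : List ℕ := [1, 6, 1, 7, 0, 8, 0, 8, 7, 9, 1, 9, 1, 0, 0, 8, 0, 8, 6, 9, 1, 9]
def rw240 : List ℕ := [1, 11, 8, 1, 9, 4, 8, 0, 9, 10, 0, 11, 8, 0, 9, 10, 0, 5, 1, 11, 8, 1, 9, 10]
def rw241 : List ℕ := [1, 11, 8, 1, 9, 10, 1, 11, 8, 1, 9, 2, 8, 0, 9, 10, 0, 11, 8, 0, 9, 10, 0, 3]
def rw242 : List ℕ := [1, 9, 10, 1, 11, 8, 1, 9, 2, 8, 0, 9, 10, 0, 11, 8, 0, 9, 10, 0, 3, 1, 11, 8]
def rw243 : List ℕ := [1, 11, 8, 1, 9, 10, 1, 11, 8, 1, 9, 9, 8, 0, 9, 10, 0, 11, 8, 0, 9, 10, 0, 8]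
def rw244 : List ℕ := [1, 11, 8, 1, 9, 10, 1, 11, 8, 1, 9, 0, 8, 0, 9, 10, 0, 11, 8, 0, 9, 10, 0, 1]
def rw245 : List ℕ := [1, 9, 4, 8, 0, 9, 10, 0, 11, 8, 0, 9, 10, 0, 5, 1, 11, 8, 1, 9, 10, 1, 11, 8]
def rw246 : List ℕ := [1, 9, 6, 8, 0, 9, 10, 0, 11, 8, 0, 9, 10, 0, 7, 1, 11, 8, 1, 9, 10, 1, 11, 8]
def rw247 : List ℕ := [1, 11, 8, 1, 9, 10, 8, 0, 9, 10, 0, 11, 8, 0, 9, 10, 0, 11, 1, 11, 8, 1, 9, 10]
def rw248 : List ℕ := [1, 2, 0, 8, 0, 8, 6, 9, 1, 9, 1, 6, 3, 7, 0, 8, 0, 8, 7, 9, 1, 9]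
def rw249 : List ℕ := [1, 6, 9, 7, 0, 8, 0, 8, 7, 9, 1, 9, 1, 8, 0, 8, 0, 8, 6, 9, 1, 9]
def rw250 : List ℕ := [1, 11, 8, 1, 9, 12, 8, 0, 9, 10, 0, 11, 8, 0, 9, 10, 0, 13, 1, 11, 8, 1, 9, 10]
def rw251 : List ℕ := [1, 6, 13, 7, 0, 8, 0, 8, 7, 9, 1, 9, 1, 12, 0, 8, 0, 8, 6, 9, 1, 9]
def rw252 : List ℕ := [1, 6, 5, 7, 0, 8, 0, 8, 7, 9, 1, 9, 1, 4, 0, 8, 0, 8, 6, 9, 1, 9]
def rw253 : List ℕ := [1, 9, 10, 1, 11, 8, 1, 9, 4, 8, 0, 9, 10, 0, 11, 8, 0, 9, 10, 0, 5, 1, 11, 8]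
def rw254 : List ℕ := [1, 9, 10, 1, 11, 8, 1, 9, 5, 8, 0, 9, 10, 0, 11, 8, 0, 9, 10, 0, 4, 1, 11, 8]
def rw255 : List ℕ := [1, 9, 10, 8, 0, 9, 10, 0, 11, 8, 0, 9, 10, 0, 11, 1, 11, 8, 1, 9, 10, 1, 11, 8]
def rw256 : List ℕ := [1, 9, 1, 13, 0, 8, 0, 8, 6, 9, 1, 9, 1, 6, 12, 7, 0, 8, 0, 8, 7, 9]
def rw257 : List ℕ := [1, 10, 0, 6, 0, 6, 8, 7, 1, 7, 1, 8, 11, 9, 0, 6, 0, 6, 9, 7, 1, 7]
def rw258 : List ℕ := [1, 9, 1, 6, 13, 7, 0, 8, 0, 8, 7, 9, 1, 9, 1, 12, 0, 8, 0, 8, 6, 9]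
def rw259 : List ℕ := [1, 7, 1, 12, 0, 6, 0, 6, 8, 7, 1, 7, 1, 8, 13, 9, 0, 6, 0, 6, 9, 7]
def rw260 : List ℕ := [1, 8, 0, 8, 0, 8, 6, 9, 1, 9, 1, 6, 9, 7, 0, 8, 0, 8, 7, 9, 1, 9]
def rw261 : List ℕ := [1, 11, 8, 1, 9, 6, 8, 0, 9, 10, 0, 11, 8, 0, 9, 10, 0, 7, 1, 11, 8, 1, 9, 10]
def rw262 : List ℕ := [1, 9, 1, 6, 11, 7, 0, 8, 0, 8, 7, 9, 1, 9, 1, 10, 0, 8, 0, 8, 6, 9]
def rw263 : List ℕ := [1, 6, 3, 7, 0, 8, 0, 8, 7, 9, 1, 9, 1, 2, 0, 8, 0, 8, 6, 9, 1, 9]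
def rw264 : List ℕ := [1, 8, 11, 9, 0, 6, 0, 6, 9, 7, 1, 7, 1, 10, 0, 6, 0, 6, 8, 7, 1, 7]
def rw265 : List ℕ := [1, 9, 12, 8, 0, 9, 10, 0, 11, 8, 0, 9, 10, 0, 13, 1, 11, 8, 1, 9, 10, 1, 11, 8]
def rw266 : List ℕ := [1, 5, 7, 9, 1, 5, 7, 9, 1, 5, 7, 9, 1, 5, 7, 9, 1, 5, 7, 9]
def rw267 : List ℕ := [1, 9, 1, 4, 0, 8, 0, 8, 6, 9, 1, 9, 1, 6, 5, 7, 0, 8, 0, 8, 7, 9]
def rw268 : List ℕ := [1, 9, 10, 1, 11, 8, 1, 9, 10, 8, 0, 9, 10, 0, 11, 8, 0, 9, 10, 0, 11, 1, 11, 8]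
def rw269 : List ℕ := [1, 1, 0, 8, 0, 8, 6, 9, 1, 9, 1, 6, 0, 7, 0, 8, 0, 8, 7, 9, 1, 9]
def rw270 : List ℕ := [1, 11, 8, 1, 9, 10, 1, 11, 8, 1, 9, 6, 8, 0, 9, 10, 0, 11, 8, 0, 9, 10, 0, 7]
def rw271 : List ℕ := [1, 5, 7, 9, 1, 5, 7, 9, 1, 5, 7, 9, 1, 5, 7, 9, 1, 5, 7, 9]
def rw272 : List ℕ := [1, 12, 0, 8, 0, 8, 6, 9, 1, 9, 1, 6, 13, 7, 0, 8, 0, 8, 7, 9, 1, 9]
def rw273 : List ℕ := [1, 11, 8, 1, 9, 7, 8, 0, 9, 10, 0, 11, 8, 0, 9, 10, 0, 6, 1, 11, 8, 1, 9, 10]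
def rw274 : List ℕ := [1, 9, 1, 8, 0, 8, 0, 8, 6, 9, 1, 9, 1, 6, 9, 7, 0, 8, 0, 8, 7, 9]
def rw275 : List ℕ := [1, 9, 3, 8, 0, 9, 10, 0, 11, 8, 0, 9, 10, 0, 2, 1, 11, 8, 1, 9, 10, 1, 11, 8]
def rw276 : List ℕ := [1, 12, 0, 6, 0, 6, 8, 7, 1, 7, 1, 8, 13, 9, 0, 6, 0, 6, 9, 7, 1, 7]
def rw277 : List ℕ := [1, 11, 8, 1, 9, 9, 8, 0, 9, 10, 0, 11, 8, 0, 9, 10, 0, 8, 1, 11, 8, 1, 9, 10]
def rw278 : List ℕ := [1, 5, 7, 9, 1, 5, 7, 9, 1, 5, 7, 9, 1, 5, 7, 9, 1, 5, 7, 9]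
def rw279 : List ℕ := [1, 9, 11, 8, 0, 9, 10, 0, 11, 8, 0, 9, 10, 0, 10, 1, 11, 8, 1, 9, 10, 1, 11, 8]
def rw280 : List ℕ := [1, 9, 1, 6, 12, 7, 0, 8, 0, 8, 7, 9, 1, 9, 1, 13, 0, 8, 0, 8, 6, 9]
def rw281 : List ℕ := [1, 5, 7, 9, 1, 5, 7, 9, 1, 5, 7, 9, 1, 5, 7, 9, 1, 5, 7, 9]
def rw282 : List ℕ := [1, 5, 7, 9, 1, 5, 7, 9, 1, 5, 7, 9, 1, 5, 7, 9, 1, 5, 7, 9]
def rw283 : List ℕ := [1, 6, 12, 7, 0, 8, 0, 8, 7, 9, 1, 9, 1, 13, 0, 8, 0, 8, 6, 9, 1, 9]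
def rw284 : List ℕ := [1, 9, 1, 6, 8, 7, 0, 8, 0, 8, 7, 9, 1, 9, 1, 9, 0, 8, 0, 8, 6, 9]
def rw285 : List ℕ := [1, 12, 2, 4, 3, 13, 0, 0, 5, 1]
def rw286 : List ℕ := [1, 6, 0, 6, 0, 6, 8, 7, 1, 7, 1, 8, 7, 9, 0, 6, 0, 6, 9, 7, 1, 7]
def rw287 : List ℕ := [1, 12, 2, 12, 3, 13, 0, 0, 13, 1]
def rw288 : List ℕ := [1, 11, 8, 1, 9, 13, 8, 0, 9, 10, 0, 11, 8, 0, 9, 10, 0, 12, 1, 11, 8, 1, 9, 10]
def rw289 : List ℕ := [1, 9, 10, 1, 11, 8, 1, 9, 7, 8, 0, 9, 10, 0, 11, 8, 0, 9, 10, 0, 6, 1, 11, 8]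
def rw290 : List ℕ := [1, 7, 1, 11, 0, 6, 0, 6, 8, 7, 1, 7, 1, 8, 10, 9, 0, 6, 0, 6, 9, 7]
def rw291 : List ℕ := [1, 9, 0, 8, 0, 8, 6, 9, 1, 9, 1, 6, 8, 7, 0, 8, 0, 8, 7, 9, 1, 9]
def rw292 : List ℕ := [1, 11, 8, 1, 9, 10, 1, 11, 8, 1, 9, 5, 8, 0, 9, 10, 0, 11, 8, 0, 9, 10, 0, 4]
def rw293 : List ℕ := [1, 11, 8, 1, 9, 10, 1, 11, 8, 1, 9, 7, 8, 0, 9, 10, 0, 11, 8, 0, 9, 10, 0, 6]
def rw294 : List ℕ := [1, 11, 8, 1, 9, 3, 8, 0, 9, 10, 0, 11, 8, 0, 9, 10, 0, 2, 1, 11, 8, 1, 9, 10]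
def rw295 : List ℕ := [1, 11, 8, 1, 9, 11, 8, 0, 9, 10, 0, 11, 8, 0, 9, 10, 0, 10, 1, 11, 8, 1, 9, 10]
def rw296 : List ℕ := [1, 6, 8, 7, 0, 8, 0, 8, 7, 9, 1, 9, 1, 9, 0, 8, 0, 8, 6, 9, 1, 9]
def rw297 : List ℕ := [1, 8, 12, 9, 0, 6, 0, 6, 9, 7, 1, 7, 1, 13, 0, 6, 0, 6, 8, 7, 1, 7]
def rw298 : List ℕ := [1, 7, 1, 8, 2, 9, 0, 6, 0, 6, 9, 7, 1, 7, 1, 3, 0, 6, 0, 6, 8, 7]
def rw299 : List ℕ := [1, 9, 5, 8, 0, 9, 10, 0, 11, 8, 0, 9, 10, 0, 4, 1, 11, 8, 1, 9, 10, 1, 11, 8]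
def rw300 : List ℕ := [1, 11, 8, 1, 9, 5, 8, 0, 9, 10, 0, 11, 8, 0, 9, 10, 0, 4, 1, 11, 8, 1, 9, 10]
def rw301 : List ℕ := [1, 9, 10, 1, 11, 8, 1, 9, 3, 8, 0, 9, 10, 0, 11, 8, 0, 9, 10, 0, 2, 1, 11, 8]
def rw302 : List ℕ := [1, 7, 1, 13, 0, 6, 0, 6, 8, 7, 1, 7, 1, 8, 12, 9, 0, 6, 0, 6, 9, 7]
def rw303 : List ℕ := [1, 7, 1, 3, 0, 6, 0, 6, 8, 7, 1, 7, 1, 8, 2, 9, 0, 6, 0, 6, 9, 7]
def rw304 : List ℕ := [2, 1, 1, 12, 2, 3, 3, 13, 0, 0]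
def rw305 : List ℕ := [2, 2]
def rw306 : List ℕ := [2, 6, 2, 6]
def rw307 : List ℕ := [2, 8, 2, 8]
def rw308 : List ℕ := [2, 10, 2, 10]
def rw309 : List ℕ := [2, 4, 2, 4, 2, 4]
def rw310 : List ℕ := [2, 12, 2, 12]
def rw311 : List ℕ := [2, 1, 3, 13, 0, 0, 0, 1, 1, 12]
def rw312 : List ℕ := [2, 6, 2, 6]
def rw313 : List ℕ := [2, 2, 3, 13, 0, 0, 3, 1, 1, 12]
def rw314 : List ℕ := [2, 12, 2, 12]
def rw315 : List ℕ := [2, 4, 2, 4, 2, 4]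
def rw316 : List ℕ := [2, 7, 9, 7, 9, 7, 9, 7, 9, 12]
def rw317 : List ℕ := [2, 0, 6, 0, 6, 8, 7, 1, 7, 1, 8, 3, 9, 0, 6, 0, 6, 9, 7, 1, 7, 1]
def rw318 : List ℕ := [2, 0, 3, 13, 0, 0, 1, 1, 1, 12]
def rw319 : List ℕ := [2, 8, 2, 8]
def rw320 : List ℕ := [2, 4, 2, 4, 2, 4]
def rw321 : List ℕ := [2, 7, 3, 13, 0, 0, 6, 1, 1, 12]
def rw322 : List ℕ := [2, 1, 1, 12, 2, 1, 1, 12]
def rw323 : List ℕ := [2, 12, 3, 13, 0, 0, 13, 1, 1, 12]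
def rw324 : List ℕ := [2, 9, 0, 6, 0, 6, 9, 7, 1, 7, 1, 3, 0, 6, 0, 6, 8, 7, 1, 7, 1, 8]
def rw325 : List ℕ := [2, 5, 3, 13, 0, 0, 4, 1, 1, 12]
def rw326 : List ℕ := [2, 8, 0, 9, 10, 0, 11, 8, 0, 9, 10, 0, 3, 1, 11, 8, 1, 9, 10, 1, 11, 8, 1, 9]
def rw327 : List ℕ := [2, 1, 1, 12, 2, 1, 1, 12]
def rw328 : List ℕ := [2, 9, 3, 13, 0, 0, 8, 1, 1, 12]
def rw329 : List ℕ := [2, 13, 3, 13, 0, 0, 12, 1, 1, 12]
def rw330 : List ℕ := [2, 11, 3, 13, 0, 0, 10, 1, 1, 12]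
def rw331 : List ℕ := [2, 10, 2, 10]
def rw332 : List ℕ := [2, 6, 3, 13, 0, 0, 7, 1, 1, 12]
def rw333 : List ℕ := [2, 1, 11, 8, 1, 9, 10, 1, 11, 8, 1, 9, 3, 8, 0, 9, 10, 0, 11, 8, 0, 9, 10, 0]
def rw334 : List ℕ := [2, 0, 8, 0, 8, 6, 9, 1, 9, 1, 6, 3, 7, 0, 8, 0, 8, 7, 9, 1, 9, 1]
def rw335 : List ℕ := [2, 8, 3, 13, 0, 0, 9, 1, 1, 12]
def rw336 : List ℕ := [2, 7, 0, 8, 0, 8, 7, 9, 1, 9, 1, 3, 0, 8, 0, 8, 6, 9, 1, 9, 1, 6]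
def rw337 : List ℕ := [2, 4, 3, 13, 0, 0, 5, 1, 1, 12]
def rw338 : List ℕ := [2, 10, 3, 13, 0, 0, 11, 1, 1, 12]
def rw339 : List ℕ := [3, 5, 3, 5, 3, 5]
def rw340 : List ℕ := [3, 1, 1, 12, 2, 2, 3, 13, 0, 0]
def rw341 : List ℕ := [3, 7, 3, 7]
def rw342 : List ℕ := [3, 5, 3, 5, 3, 5]
def rw343 : List ℕ := [3, 11, 3, 11]
def rw344 : List ℕ := [3, 9, 3, 9]
def rw345 : List ℕ := [3, 13, 3, 13]
def rw346 : List ℕ := [3, 9, 0, 6, 0, 6, 9, 7, 1, 7, 1, 2, 0, 6, 0, 6, 8, 7, 1, 7, 1, 8]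
def rw347 : List ℕ := [3, 13, 8, 6, 8, 6, 8, 6, 8, 6]
def rw348 : List ℕ := [3, 3]
def rw349 : List ℕ := [3, 9, 3, 9]
def rw350 : List ℕ := [3, 13, 0, 0, 0, 1, 1, 12, 2, 1]
def rw351 : List ℕ := [3, 7, 3, 7]
def rw352 : List ℕ := [3, 13, 3, 13]
def rw353 : List ℕ := [3, 13, 0, 0, 7, 1, 1, 12, 2, 6]
def rw354 : List ℕ := [3, 13, 0, 0, 8, 1, 1, 12, 2, 9]
def rw355 : List ℕ := [3, 5, 3, 5, 3, 5]
def rw356 : List ℕ := [3, 13, 0, 0, 6, 1, 1, 12, 2, 7]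
def rw357 : List ℕ := [3, 13, 0, 0, 1, 1, 1, 12, 2, 0]
def rw358 : List ℕ := [3, 13, 0, 0, 4, 1, 1, 12, 2, 5]
def rw359 : List ℕ := [3, 1, 11, 8, 1, 9, 10, 1, 11, 8, 1, 9, 2, 8, 0, 9, 10, 0, 11, 8, 0, 9, 10, 0]
def rw360 : List ℕ := [3, 0, 6, 0, 6, 8, 7, 1, 7, 1, 8, 2, 9, 0, 6, 0, 6, 9, 7, 1, 7, 1]
def rw361 : List ℕ := [3, 13, 0, 0, 9, 1, 1, 12, 2, 8]
def rw362 : List ℕ := [3, 13, 0, 0, 12, 1, 1, 12, 2, 13]
def rw363 : List ℕ := [3, 13, 0, 0, 3, 13, 0, 0]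
def rw364 : List ℕ := [3, 13, 0, 0, 5, 1, 1, 12, 2, 4]
def rw365 : List ℕ := [3, 7, 0, 8, 0, 8, 7, 9, 1, 9, 1, 2, 0, 8, 0, 8, 6, 9, 1, 9, 1, 6]
def rw366 : List ℕ := [3, 11, 3, 11]
def rw367 : List ℕ := [3, 13, 0, 0, 2, 1, 1, 12, 2, 3]
def rw368 : List ℕ := [3, 13, 0, 0, 10, 1, 1, 12, 2, 11]
def rw369 : List ℕ := [3, 13, 0, 0, 13, 1, 1, 12, 2, 12]
def rw370 : List ℕ := [3, 8, 0, 9, 10, 0, 11, 8, 0, 9, 10, 0, 2, 1, 11, 8, 1, 9, 10, 1, 11, 8, 1, 9]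
def rw371 : List ℕ := [3, 13, 0, 0, 11, 1, 1, 12, 2, 10]
def rw372 : List ℕ := [4, 1, 1, 12, 2, 5, 3, 13, 0, 0]
def rw373 : List ℕ := [4, 4]
def rw374 : List ℕ := [4, 2, 4, 2, 4, 2]
def rw375 : List ℕ := [4, 8, 4, 8]
def rw376 : List ℕ := [4, 10, 4, 10]
def rw377 : List ℕ := [4, 2, 4, 2, 4, 2]
def rw378 : List ℕ := [4, 12, 4, 12]
def rw379 : List ℕ := [4, 9, 0, 6, 0, 6, 9, 7, 1, 7, 1, 5, 0, 6, 0, 6, 8, 7, 1, 7, 1, 8]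
def rw380 : List ℕ := [4, 1, 5, 6, 1, 7, 1, 5, 6, 1, 7]
def rw381 : List ℕ := [4, 3, 13, 0, 0, 5, 1, 1, 12, 2]
def rw382 : List ℕ := [4, 2, 4, 2, 4, 2]
def rw383 : List ℕ := [4, 0, 6, 0, 6, 8, 7, 1, 7, 1, 8, 5, 9, 0, 6, 0, 6, 9, 7, 1, 7, 1]
def rw384 : List ℕ := [4, 0, 5, 6, 0, 7, 4, 0, 6, 0, 7]
def rw385 : List ℕ := [4, 6, 4, 6, 4, 6]
def rw386 : List ℕ := [4, 6, 4, 6, 4, 6]
def rw387 : List ℕ := [4, 6, 4, 6, 4, 6]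
def rw388 : List ℕ := [4, 12, 4, 12]
def rw389 : List ℕ := [4, 0, 6, 0, 7, 4, 0, 5, 6, 0, 7]
def rw390 : List ℕ := [4, 8, 4, 8]
def rw391 : List ℕ := [4, 10, 4, 10]
def rw392 : List ℕ := [4, 0, 8, 6, 4, 0, 8, 6, 4, 0, 8, 6, 4, 0, 8, 6, 4, 0, 8, 6]
def rw393 : List ℕ := [4, 0, 8, 6, 4, 0, 8, 6, 4, 0, 8, 6, 4, 0, 8, 6, 4, 0, 8, 6]
def rw394 : List ℕ := [4, 0, 8, 6, 4, 0, 8, 6, 4, 0, 8, 6, 4, 0, 8, 6, 4, 0, 8, 6]
def rw395 : List ℕ := [4, 0, 8, 6, 4, 0, 8, 6, 4, 0, 8, 6, 4, 0, 8, 6, 4, 0, 8, 6]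
def rw396 : List ℕ := [4, 0, 8, 6, 4, 0, 8, 6, 4, 0, 8, 6, 4, 0, 8, 6, 4, 0, 8, 6]
def rw397 : List ℕ := [5, 1, 1, 12, 2, 4, 3, 13, 0, 0]
def rw398 : List ℕ := [5, 5]
def rw399 : List ℕ := [5, 6, 0, 7, 4, 0, 6, 0, 7, 4, 0]
def rw400 : List ℕ := [5, 6, 1, 7, 1, 5, 6, 1, 7, 4, 1]
def rw401 : List ℕ := [5, 7, 5, 7, 5, 7]
def rw402 : List ℕ := [5, 3, 13, 0, 0, 4, 1, 1, 12, 2]
def rw403 : List ℕ := [5, 9, 0, 6, 0, 6, 9, 7, 1, 7, 1, 4, 0, 6, 0, 6, 8, 7, 1, 7, 1, 8]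
def rw404 : List ℕ := [5, 11, 5, 11]
def rw405 : List ℕ := [5, 9, 5, 9]
def rw406 : List ℕ := [5, 7, 5, 7, 5, 7]
def rw407 : List ℕ := [5, 13, 5, 13]
def rw408 : List ℕ := [5, 3, 5, 3, 5, 3]
def rw409 : List ℕ := [5, 7, 5, 7, 5, 7]
def rw410 : List ℕ := [5, 6, 1, 7, 4, 1, 5, 6, 1, 7, 1]
def rw411 : List ℕ := [5, 3, 5, 3, 5, 3]
def rw412 : List ℕ := [5, 0, 6, 0, 6, 8, 7, 1, 7, 1, 8, 4, 9, 0, 6, 0, 6, 9, 7, 1, 7, 1]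
def rw413 : List ℕ := [5, 13, 5, 13]
def rw414 : List ℕ := [5, 3, 5, 3, 5, 3]
def rw415 : List ℕ := [5, 9, 5, 9]
def rw416 : List ℕ := [5, 7, 9, 1, 5, 7, 9, 1, 5, 7, 9, 1, 5, 7, 9, 1, 5, 7, 9, 1]
def rw417 : List ℕ := [5, 11, 5, 11]
def rw418 : List ℕ := [5, 1, 11, 8, 1, 9, 10, 1, 11, 8, 1, 9, 4, 8, 0, 9, 10, 0, 11, 8, 0, 9, 10, 0]
def rw419 : List ℕ := [5, 7, 9, 1, 5, 7, 9, 1, 5, 7, 9, 1, 5, 7, 9, 1, 5, 7, 9, 1]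
def rw420 : List ℕ := [5, 7, 9, 1, 5, 7, 9, 1, 5, 7, 9, 1, 5, 7, 9, 1, 5, 7, 9, 1]
def rw421 : List ℕ := [5, 7, 9, 1, 5, 7, 9, 1, 5, 7, 9, 1, 5, 7, 9, 1, 5, 7, 9, 1]
def rw422 : List ℕ := [5, 7, 9, 1, 5, 7, 9, 1, 5, 7, 9, 1, 5, 7, 9, 1, 5, 7, 9, 1]
def rw423 : List ℕ := [6, 1, 1, 12, 2, 7, 3, 13, 0, 0]
def rw424 : List ℕ := [6, 6]
def rw425 : List ℕ := [6, 2, 6, 2]
def rw426 : List ℕ := [6, 4, 6, 4, 6, 4]
def rw427 : List ℕ := [6, 10, 6, 10]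
def rw428 : List ℕ := [6, 4, 6, 4, 6, 4]
def rw429 : List ℕ := [6, 2, 6, 2]
def rw430 : List ℕ := [6, 12, 6, 12]
def rw431 : List ℕ := [6, 3, 13, 8, 6, 8, 6, 8, 6, 8]
def rw432 : List ℕ := [6, 0, 7, 4, 0, 5, 6, 0, 7, 4, 0]
def rw433 : List ℕ := [6, 3, 13, 0, 0, 7, 1, 1, 12, 2]
def rw434 : List ℕ := [6, 12, 6, 12]
def rw435 : List ℕ := [6, 4, 6, 4, 6, 4]
def rw436 : List ℕ := [6, 8, 6, 8, 6, 8, 6, 3, 13, 8]
def rw437 : List ℕ := [6, 0, 7, 4, 0, 6, 0, 7, 4, 0, 5]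
def rw438 : List ℕ := [6, 6, 7, 0, 8, 0, 8, 7, 9, 1, 9, 1, 7, 0, 8, 0, 8, 6, 9, 1, 9, 1]
def rw439 : List ℕ := [6, 9, 1, 9, 1, 6, 3, 7, 0, 8, 0, 8, 7, 9, 1, 9, 1, 2, 0, 8, 0, 8]
def rw440 : List ℕ := [6, 0, 6, 8, 7, 1, 7, 1, 8, 3, 9, 0, 6, 0, 6, 9, 7, 1, 7, 1, 2, 0]
def rw441 : List ℕ := [6, 9, 7, 1, 7, 1, 6, 0, 6, 0, 6, 8, 7, 1, 7, 1, 8, 7, 9, 0, 6, 0]
def rw442 : List ℕ := [6, 9, 1, 9, 1, 6, 1, 7, 0, 8, 0, 8, 7, 9, 1, 9, 1, 0, 0, 8, 0, 8]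
def rw443 : List ℕ := [6, 0, 6, 9, 7, 1, 7, 1, 0, 0, 6, 0, 6, 8, 7, 1, 7, 1, 8, 1, 9, 0]
def rw444 : List ℕ := [6, 5, 7, 0, 8, 0, 8, 7, 9, 1, 9, 1, 4, 0, 8, 0, 8, 6, 9, 1, 9, 1]
def rw445 : List ℕ := [6, 9, 0, 6, 0, 6, 9, 7, 1, 7, 1, 7, 0, 6, 0, 6, 8, 7, 1, 7, 1, 8]
def rw446 : List ℕ := [6, 0, 6, 0, 6, 8, 7, 1, 7, 1, 8, 7, 9, 0, 6, 0, 6, 9, 7, 1, 7, 1]
def rw447 : List ℕ := [6, 8, 6, 3, 13, 8, 6, 8, 6, 8]
def rw448 : List ℕ := [6, 9, 1, 9, 1, 6, 0, 7, 0, 8, 0, 8, 7, 9, 1, 9, 1, 1, 0, 8, 0, 8]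
def rw449 : List ℕ := [6, 0, 6, 9, 7, 1, 7, 1, 6, 0, 6, 0, 6, 8, 7, 1, 7, 1, 8, 7, 9, 0]
def rw450 : List ℕ := [6, 9, 1, 9, 1, 6, 11, 7, 0, 8, 0, 8, 7, 9, 1, 9, 1, 10, 0, 8, 0, 8]
def rw451 : List ℕ := [6, 8, 6, 8, 6, 3, 13, 8, 6, 8]
def rw452 : List ℕ := [6, 8, 6, 8, 6, 8, 6, 8, 6, 8, 6, 8, 6, 8, 6, 8]
def rw453 : List ℕ := [6, 3, 7, 0, 8, 0, 8, 7, 9, 1, 9, 1, 2, 0, 8, 0, 8, 6, 9, 1, 9, 1]
def rw454 : List ℕ := [6, 0, 6, 8, 7, 1, 7, 1, 8, 0, 9, 0, 6, 0, 6, 9, 7, 1, 7, 1, 1, 0]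
def rw455 : List ℕ := [6, 1, 7, 4, 1, 5, 6, 1, 7, 1, 5]
def rw456 : List ℕ := [6, 9, 1, 9, 1, 6, 13, 7, 0, 8, 0, 8, 7, 9, 1, 9, 1, 12, 0, 8, 0, 8]
def rw457 : List ℕ := [6, 9, 1, 9, 1, 6, 7, 7, 0, 8, 0, 8, 7, 9, 1, 9, 1, 6, 0, 8, 0, 8]
def rw458 : List ℕ := [6, 1, 7, 1, 5, 6, 1, 7, 4, 1, 5]
def rw459 : List ℕ := [6, 9, 7, 1, 7, 1, 1, 0, 6, 0, 6, 8, 7, 1, 7, 1, 8, 0, 9, 0, 6, 0]
def rw460 : List ℕ := [6, 0, 6, 8, 7, 1, 7, 1, 8, 9, 9, 0, 6, 0, 6, 9, 7, 1, 7, 1, 8, 0]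
def rw461 : List ℕ := [6, 8, 7, 1, 7, 1, 8, 9, 9, 0, 6, 0, 6, 9, 7, 1, 7, 1, 8, 0, 6, 0]
def rw462 : List ℕ := [6, 0, 6, 9, 7, 1, 7, 1, 9, 0, 6, 0, 6, 9, 7, 1, 7, 1, 9, 0]
def rw463 : List ℕ := [6, 8, 6, 8, 6, 8, 6, 8, 6, 8, 6, 8, 6, 8, 6, 8]
def rw464 : List ℕ := [6, 0, 6, 9, 7, 1, 7, 1, 1, 0, 6, 0, 6, 8, 7, 1, 7, 1, 8, 0, 9, 0]
def rw465 : List ℕ := [6, 8, 7, 1, 7, 1, 8, 13, 9, 0, 6, 0, 6, 9, 7, 1, 7, 1, 12, 0, 6, 0]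
def rw466 : List ℕ := [6, 10, 6, 10]
def rw467 : List ℕ := [6, 1, 7, 0, 8, 0, 8, 7, 9, 1, 9, 1, 0, 0, 8, 0, 8, 6, 9, 1, 9, 1]
def rw468 : List ℕ := [6, 9, 7, 1, 7, 1, 4, 0, 6, 0, 6, 8, 7, 1, 7, 1, 8, 5, 9, 0, 6, 0]
def rw469 : List ℕ := [6, 0, 6, 8, 7, 1, 7, 1, 8, 13, 9, 0, 6, 0, 6, 9, 7, 1, 7, 1, 12, 0]
def rw470 : List ℕ := [6, 4, 0, 8, 6, 4, 0, 8, 6, 4, 0, 8, 6, 4, 0, 8, 6, 4, 0, 8]
def rw471 : List ℕ := [6, 13, 7, 0, 8, 0, 8, 7, 9, 1, 9, 1, 12, 0, 8, 0, 8, 6, 9, 1, 9, 1]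
def rw472 : List ℕ := [6, 11, 7, 0, 8, 0, 8, 7, 9, 1, 9, 1, 10, 0, 8, 0, 8, 6, 9, 1, 9, 1]
def rw473 : List ℕ := [6, 9, 7, 1, 7, 1, 0, 0, 6, 0, 6, 8, 7, 1, 7, 1, 8, 1, 9, 0, 6, 0]
def rw474 : List ℕ := [6, 8, 7, 1, 7, 1, 8, 3, 9, 0, 6, 0, 6, 9, 7, 1, 7, 1, 2, 0, 6, 0]
def rw475 : List ℕ := [6, 8, 7, 1, 7, 1, 8, 1, 9, 0, 6, 0, 6, 9, 7, 1, 7, 1, 0, 0, 6, 0]
def rw476 : List ℕ := [6, 0, 6, 8, 7, 1, 7, 1, 8, 1, 9, 0, 6, 0, 6, 9, 7, 1, 7, 1, 0, 0]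
def rw477 : List ℕ := [6, 9, 1, 9, 1, 6, 5, 7, 0, 8, 0, 8, 7, 9, 1, 9, 1, 4, 0, 8, 0, 8]
def rw478 : List ℕ := [6, 8, 7, 1, 7, 1, 8, 5, 9, 0, 6, 0, 6, 9, 7, 1, 7, 1, 4, 0, 6, 0]
def rw479 : List ℕ := [6, 0, 6, 9, 7, 1, 7, 1, 4, 0, 6, 0, 6, 8, 7, 1, 7, 1, 8, 5, 9, 0]
def rw480 : List ℕ := [6, 8, 6, 8, 6, 8, 6, 8, 6, 8, 6, 8, 6, 8, 6, 8]
def rw481 : List ℕ := [6, 9, 7, 1, 7, 1, 8, 0, 6, 0, 6, 8, 7, 1, 7, 1, 8, 9, 9, 0, 6, 0]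
def rw482 : List ℕ := [6, 9, 1, 9, 1, 6, 9, 7, 0, 8, 0, 8, 7, 9, 1, 9, 1, 8, 0, 8, 0, 8]
def rw483 : List ℕ := [6, 8, 0, 9, 10, 0, 11, 8, 0, 9, 10, 0, 7, 1, 11, 8, 1, 9, 10, 1, 11, 8, 1, 9]
def rw484 : List ℕ := [6, 0, 6, 9, 7, 1, 7, 1, 8, 0, 6, 0, 6, 8, 7, 1, 7, 1, 8, 9, 9, 0]
def rw485 : List ℕ := [6, 0, 6, 8, 7, 1, 7, 1, 8, 11, 9, 0, 6, 0, 6, 9, 7, 1, 7, 1, 10, 0]
def rw486 : List ℕ := [6, 0, 6, 8, 7, 1, 7, 1, 8, 5, 9, 0, 6, 0, 6, 9, 7, 1, 7, 1, 4, 0]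
def rw487 : List ℕ := [6, 9, 7, 0, 8, 0, 8, 7, 9, 1, 9, 1, 8, 0, 8, 0, 8, 6, 9, 1, 9, 1]
def rw488 : List ℕ := [6, 8, 6, 8, 6, 8, 6, 8, 6, 8, 6, 8, 6, 8, 6, 8]
def rw489 : List ℕ := [6, 0, 6, 9, 7, 1, 7, 1, 10, 0, 6, 0, 6, 8, 7, 1, 7, 1, 8, 11, 9, 0]
def rw490 : List ℕ := [6, 8, 7, 1, 7, 1, 8, 0, 9, 0, 6, 0, 6, 9, 7, 1, 7, 1, 1, 0, 6, 0]
def rw491 : List ℕ := [6, 0, 7, 0, 8, 0, 8, 7, 9, 1, 9, 1, 1, 0, 8, 0, 8, 6, 9, 1, 9, 1]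
def rw492 : List ℕ := [6, 9, 7, 1, 7, 1, 10, 0, 6, 0, 6, 8, 7, 1, 7, 1, 8, 11, 9, 0, 6, 0]
def rw493 : List ℕ := [6, 9, 7, 1, 7, 1, 2, 0, 6, 0, 6, 8, 7, 1, 7, 1, 8, 3, 9, 0, 6, 0]
def rw494 : List ℕ := [6, 0, 6, 9, 7, 1, 7, 1, 2, 0, 6, 0, 6, 8, 7, 1, 7, 1, 8, 3, 9, 0]
def rw495 : List ℕ := [6, 4, 0, 8, 6, 4, 0, 8, 6, 4, 0, 8, 6, 4, 0, 8, 6, 4, 0, 8]
def rw496 : List ℕ := [6, 9, 1, 9, 1, 6, 12, 7, 0, 8, 0, 8, 7, 9, 1, 9, 1, 13, 0, 8, 0, 8]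
def rw497 : List ℕ := [6, 0, 6, 9, 7, 1, 7, 1, 12, 0, 6, 0, 6, 8, 7, 1, 7, 1, 8, 13, 9, 0]
def rw498 : List ℕ := [6, 9, 7, 1, 7, 1, 12, 0, 6, 0, 6, 8, 7, 1, 7, 1, 8, 13, 9, 0, 6, 0]
def rw499 : List ℕ := [6, 0, 6, 8, 7, 1, 7, 1, 8, 7, 9, 0, 6, 0, 6, 9, 7, 1, 7, 1, 6, 0]
def rw500 : List ℕ := [6, 8, 7, 1, 7, 1, 8, 11, 9, 0, 6, 0, 6, 9, 7, 1, 7, 1, 10, 0, 6, 0]
def rw501 : List ℕ := [6, 8, 6, 8, 6, 8, 6, 8, 6, 8, 6, 8, 6, 8, 6, 8]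
def rw502 : List ℕ := [6, 4, 0, 8, 6, 4, 0, 8, 6, 4, 0, 8, 6, 4, 0, 8, 6, 4, 0, 8]
def rw503 : List ℕ := [6, 4, 0, 8, 6, 4, 0, 8, 6, 4, 0, 8, 6, 4, 0, 8, 6, 4, 0, 8]
def rw504 : List ℕ := [6, 8, 6, 8, 6, 8, 6, 8, 6, 8, 6, 8, 6, 8, 6, 8]
def rw505 : List ℕ := [6, 9, 1, 9, 1, 6, 2, 7, 0, 8, 0, 8, 7, 9, 1, 9, 1, 3, 0, 8, 0, 8]
def rw506 : List ℕ := [6, 10, 7, 0, 8, 0, 8, 7, 9, 1, 9, 1, 11, 0, 8, 0, 8, 6, 9, 1, 9, 1]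
def rw507 : List ℕ := [6, 8, 7, 1, 7, 1, 8, 7, 9, 0, 6, 0, 6, 9, 7, 1, 7, 1, 6, 0, 6, 0]
def rw508 : List ℕ := [6, 8, 6, 8, 6, 8, 6, 8, 6, 8, 6, 8, 6, 8, 6, 8]
def rw509 : List ℕ := [6, 8, 6, 8, 6, 8, 6, 8, 6, 8, 6, 8, 6, 8, 6, 8]
def rw510 : List ℕ := [6, 4, 0, 8, 6, 4, 0, 8, 6, 4, 0, 8, 6, 4, 0, 8, 6, 4, 0, 8]
def rw511 : List ℕ := [6, 0, 6, 8, 7, 1, 7, 1, 8, 4, 9, 0, 6, 0, 6, 9, 7, 1, 7, 1, 5, 0]
def rw512 : List ℕ := [6, 4, 7, 0, 8, 0, 8, 7, 9, 1, 9, 1, 5, 0, 8, 0, 8, 6, 9, 1, 9, 1]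
def rw513 : List ℕ := [6, 0, 6, 8, 7, 1, 7, 1, 8, 2, 9, 0, 6, 0, 6, 9, 7, 1, 7, 1, 3, 0]
def rw514 : List ℕ := [6, 9, 7, 1, 7, 1, 7, 0, 6, 0, 6, 8, 7, 1, 7, 1, 8, 6, 9, 0, 6, 0]
def rw515 : List ℕ := [6, 8, 7, 1, 7, 1, 8, 10, 9, 0, 6, 0, 6, 9, 7, 1, 7, 1, 11, 0, 6, 0]
def rw516 : List ℕ := [6, 2, 7, 0, 8, 0, 8, 7, 9, 1, 9, 1, 3, 0, 8, 0, 8, 6, 9, 1, 9, 1]
def rw517 : List ℕ := [7, 4, 0, 6, 0, 7, 4, 0, 5, 6, 0]
def rw518 : List ℕ := [7, 7]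
def rw519 : List ℕ := [7, 1, 5, 6, 1, 7, 4, 1, 5, 6, 1]
def rw520 : List ℕ := [7, 4, 1, 5, 6, 1, 7, 1, 5, 6, 1]
def rw521 : List ℕ := [7, 1, 1, 12, 2, 6, 3, 13, 0, 0]
def rw522 : List ℕ := [7, 4, 0, 5, 6, 0, 7, 4, 0, 6, 0]
def rw523 : List ℕ := [7, 11, 7, 11]
def rw524 : List ℕ := [7, 13, 7, 13]
def rw525 : List ℕ := [7, 1, 1, 0, 6, 0, 6, 8, 7, 1, 7, 1, 8, 0, 9, 0, 6, 0, 6, 9, 7, 1]
def rw526 : List ℕ := [7, 1, 0, 0, 6, 0, 6, 8, 7, 1, 7, 1, 8, 1, 9, 0, 6, 0, 6, 9, 7, 1]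
def rw527 : List ℕ := [7, 3, 7, 3]
def rw528 : List ℕ := [7, 3, 13, 0, 0, 6, 1, 1, 12, 2]
def rw529 : List ℕ := [7, 9, 1, 9, 1, 0, 0, 8, 0, 8, 6, 9, 1, 9, 1, 6, 1, 7, 0, 8, 0, 8]
def rw530 : List ℕ := [7, 9, 1, 9, 1, 1, 0, 8, 0, 8, 6, 9, 1, 9, 1, 6, 0, 7, 0, 8, 0, 8]
def rw531 : List ℕ := [7, 1, 8, 7, 9, 0, 6, 0, 6, 9, 7, 1, 7, 1, 6, 0, 6, 0, 6, 8, 7, 1]
def rw532 : List ℕ := [7, 1, 8, 1, 9, 0, 6, 0, 6, 9, 7, 1, 7, 1, 0, 0, 6, 0, 6, 8, 7, 1]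
def rw533 : List ℕ := [7, 0, 8, 0, 8, 7, 9, 1, 9, 1, 6, 0, 8, 0, 8, 6, 9, 1, 9, 1, 6, 7]
def rw534 : List ℕ := [7, 3, 7, 3]
def rw535 : List ℕ := [7, 9, 1, 9, 1, 2, 0, 8, 0, 8, 6, 9, 1, 9, 1, 6, 3, 7, 0, 8, 0, 8]
def rw536 : List ℕ := [7, 5, 7, 5, 7, 5]
def rw537 : List ℕ := [7, 1, 7, 1, 8, 7, 9, 0, 6, 0, 6, 9, 7, 1, 7, 1, 6, 0, 6, 0, 6, 8]
def rw538 : List ℕ := [7, 5, 7, 5, 7, 5]
def rw539 : List ℕ := [7, 9, 1, 9, 1, 6, 0, 8, 0, 8, 6, 9, 1, 9, 1, 6, 7, 7, 0, 8, 0, 8]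
def rw540 : List ℕ := [7, 13, 7, 13]
def rw541 : List ℕ := [7, 9, 0, 6, 0, 6, 9, 7, 1, 7, 1, 6, 0, 6, 0, 6, 8, 7, 1, 7, 1, 8]
def rw542 : List ℕ := [7, 1, 7, 1, 8, 1, 9, 0, 6, 0, 6, 9, 7, 1, 7, 1, 0, 0, 6, 0, 6, 8]
def rw543 : List ℕ := [7, 9, 7, 9, 12, 2, 7, 9, 7, 9]
def rw544 : List ℕ := [7, 1, 7, 1, 8, 3, 9, 0, 6, 0, 6, 9, 7, 1, 7, 1, 2, 0, 6, 0, 6, 8]
def rw545 : List ℕ := [7, 9, 1, 9, 1, 10, 0, 8, 0, 8, 6, 9, 1, 9, 1, 6, 11, 7, 0, 8, 0, 8]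
def rw546 : List ℕ := [7, 0, 6, 0, 6, 8, 7, 1, 7, 1, 8, 6, 9, 0, 6, 0, 6, 9, 7, 1, 7, 1]
def rw547 : List ℕ := [7, 9, 1, 9, 1, 12, 0, 8, 0, 8, 6, 9, 1, 9, 1, 6, 13, 7, 0, 8, 0, 8]
def rw548 : List ℕ := [7, 9, 1, 9, 1, 4, 0, 8, 0, 8, 6, 9, 1, 9, 1, 6, 5, 7, 0, 8, 0, 8]
def rw549 : List ℕ := [7, 5, 7, 5, 7, 5]
def rw550 : List ℕ := [7, 9, 12, 2, 7, 9, 7, 9, 7, 9]
def rw551 : List ℕ := [7, 9, 7, 9, 7, 9, 7, 9, 7, 9, 7, 9, 7, 9, 7, 9]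
def rw552 : List ℕ := [7, 1, 7, 1, 8, 13, 9, 0, 6, 0, 6, 9, 7, 1, 7, 1, 12, 0, 6, 0, 6, 8]
def rw553 : List ℕ := [7, 9, 7, 9, 7, 9, 12, 2, 7, 9]
def rw554 : List ℕ := [7, 1, 8, 0, 6, 0, 6, 8, 7, 1, 7, 1, 8, 0, 6, 0, 6, 8, 7, 1]
def rw555 : List ℕ := [7, 1, 8, 9, 9, 0, 6, 0, 6, 9, 7, 1, 7, 1, 8, 0, 6, 0, 6, 8, 7, 1]
def rw556 : List ℕ := [7, 1, 8, 13, 9, 0, 6, 0, 6, 9, 7, 1, 7, 1, 12, 0, 6, 0, 6, 8, 7, 1]
def rw557 : List ℕ := [7, 1, 8, 0, 9, 0, 6, 0, 6, 9, 7, 1, 7, 1, 1, 0, 6, 0, 6, 8, 7, 1]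
def rw558 : List ℕ := [7, 0, 8, 0, 8, 7, 9, 1, 9, 1, 3, 0, 8, 0, 8, 6, 9, 1, 9, 1, 6, 2]
def rw559 : List ℕ := [7, 11, 7, 11]
def rw560 : List ℕ := [7, 0, 8, 0, 8, 7, 9, 1, 9, 1, 5, 0, 8, 0, 8, 6, 9, 1, 9, 1, 6, 4]
def rw561 : List ℕ := [7, 1, 4, 0, 6, 0, 6, 8, 7, 1, 7, 1, 8, 5, 9, 0, 6, 0, 6, 9, 7, 1]
def rw562 : List ℕ := [7, 1, 7, 1, 8, 9, 9, 0, 6, 0, 6, 9, 7, 1, 7, 1, 8, 0, 6, 0, 6, 8]
def rw563 : List ℕ := [7, 1, 8, 3, 9, 0, 6, 0, 6, 9, 7, 1, 7, 1, 2, 0, 6, 0, 6, 8, 7, 1]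
def rw564 : List ℕ := [7, 9, 7, 9, 7, 9, 7, 9, 7, 9, 7, 9, 7, 9, 7, 9]
def rw565 : List ℕ := [7, 1, 7, 1, 1, 0, 6, 0, 6, 8, 7, 1, 7, 1, 8, 0, 9, 0, 6, 0, 6, 9]
def rw566 : List ℕ := [7, 0, 8, 0, 8, 7, 9, 1, 9, 1, 8, 0, 8, 0, 8, 6, 9, 1, 9, 1, 6, 9]
def rw567 : List ℕ := [7, 1, 7, 1, 8, 11, 9, 0, 6, 0, 6, 9, 7, 1, 7, 1, 10, 0, 6, 0, 6, 8]
def rw568 : List ℕ := [7, 1, 7, 1, 0, 0, 6, 0, 6, 8, 7, 1, 7, 1, 8, 1, 9, 0, 6, 0, 6, 9]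
def rw569 : List ℕ := [7, 1, 12, 0, 6, 0, 6, 8, 7, 1, 7, 1, 8, 13, 9, 0, 6, 0, 6, 9, 7, 1]
def rw570 : List ℕ := [7, 9, 1, 5, 7, 9, 1, 5, 7, 9, 1, 5, 7, 9, 1, 5, 7, 9, 1, 5]
def rw571 : List ℕ := [7, 1, 10, 0, 6, 0, 6, 8, 7, 1, 7, 1, 8, 11, 9, 0, 6, 0, 6, 9, 7, 1]
def rw572 : List ℕ := [7, 9, 7, 9, 7, 9, 7, 9, 7, 9, 7, 9, 7, 9, 7, 9]
def rw573 : List ℕ := [7, 1, 7, 1, 8, 0, 9, 0, 6, 0, 6, 9, 7, 1, 7, 1, 1, 0, 6, 0, 6, 8]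
def rw574 : List ℕ := [7, 1, 8, 0, 6, 0, 6, 8, 7, 1, 7, 1, 8, 9, 9, 0, 6, 0, 6, 9, 7, 1]
def rw575 : List ℕ := [7, 0, 8, 0, 8, 7, 9, 1, 9, 1, 4, 0, 8, 0, 8, 6, 9, 1, 9, 1, 6, 5]
def rw576 : List ℕ := [7, 1, 7, 1, 8, 5, 9, 0, 6, 0, 6, 9, 7, 1, 7, 1, 4, 0, 6, 0, 6, 8]
def rw577 : List ℕ := [7, 9, 7, 9, 7, 9, 7, 9, 7, 9, 7, 9, 7, 9, 7, 9]
def rw578 : List ℕ := [7, 9, 7, 9, 7, 9, 7, 9, 12, 2]
def rw579 : List ℕ := [7, 0, 8, 0, 8, 7, 9, 1, 9, 1, 9, 0, 8, 0, 8, 6, 9, 1, 9, 1, 6, 8]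
def rw580 : List ℕ := [7, 1, 2, 0, 6, 0, 6, 8, 7, 1, 7, 1, 8, 3, 9, 0, 6, 0, 6, 9, 7, 1]
def rw581 : List ℕ := [7, 0, 8, 0, 8, 7, 9, 1, 9, 1, 0, 0, 8, 0, 8, 6, 9, 1, 9, 1, 6, 1]
def rw582 : List ℕ := [7, 1, 7, 1, 12, 0, 6, 0, 6, 8, 7, 1, 7, 1, 8, 13, 9, 0, 6, 0, 6, 9]
def rw583 : List ℕ := [7, 1, 7, 1, 2, 0, 6, 0, 6, 8, 7, 1, 7, 1, 8, 3, 9, 0, 6, 0, 6, 9]
def rw584 : List ℕ := [7, 0, 8, 0, 8, 7, 9, 1, 9, 1, 2, 0, 8, 0, 8, 6, 9, 1, 9, 1, 6, 3]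
def rw585 : List ℕ := [7, 0, 8, 0, 8, 7, 9, 1, 9, 1, 10, 0, 8, 0, 8, 6, 9, 1, 9, 1, 6, 11]
def rw586 : List ℕ := [7, 0, 8, 0, 8, 7, 9, 1, 9, 1, 12, 0, 8, 0, 8, 6, 9, 1, 9, 1, 6, 13]
def rw587 : List ℕ := [7, 0, 8, 0, 8, 7, 9, 1, 9, 1, 1, 0, 8, 0, 8, 6, 9, 1, 9, 1, 6, 0]
def rw588 : List ℕ := [7, 1, 8, 11, 9, 0, 6, 0, 6, 9, 7, 1, 7, 1, 10, 0, 6, 0, 6, 8, 7, 1]
def rw589 : List ℕ := [7, 9, 1, 9, 1, 8, 0, 8, 0, 8, 6, 9, 1, 9, 1, 6, 9, 7, 0, 8, 0, 8]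
def rw590 : List ℕ := [7, 1, 7, 1, 4, 0, 6, 0, 6, 8, 7, 1, 7, 1, 8, 5, 9, 0, 6, 0, 6, 9]
def rw591 : List ℕ := [7, 9, 7, 9, 7, 9, 7, 9, 7, 9, 7, 9, 7, 9, 7, 9]
def rw592 : List ℕ := [7, 9, 1, 5, 7, 9, 1, 5, 7, 9, 1, 5, 7, 9, 1, 5, 7, 9, 1, 5]
def rw593 : List ℕ := [7, 1, 7, 1, 10, 0, 6, 0, 6, 8, 7, 1, 7, 1, 8, 11, 9, 0, 6, 0, 6, 9]
def rw594 : List ℕ := [7, 1, 6, 0, 6, 0, 6, 8, 7, 1, 7, 1, 8, 7, 9, 0, 6, 0, 6, 9, 7, 1]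
def rw595 : List ℕ := [7, 9, 1, 9, 1, 11, 0, 8, 0, 8, 6, 9, 1, 9, 1, 6, 10, 7, 0, 8, 0, 8]
def rw596 : List ℕ := [7, 1, 8, 5, 9, 0, 6, 0, 6, 9, 7, 1, 7, 1, 4, 0, 6, 0, 6, 8, 7, 1]
def rw597 : List ℕ := [7, 9, 7, 9, 7, 9, 7, 9, 7, 9, 7, 9, 7, 9, 7, 9]
def rw598 : List ℕ := [7, 1, 7, 1, 6, 0, 6, 0, 6, 8, 7, 1, 7, 1, 8, 7, 9, 0, 6, 0, 6, 9]
def rw599 : List ℕ := [7, 9, 1, 5, 7, 9, 1, 5, 7, 9, 1, 5, 7, 9, 1, 5, 7, 9, 1, 5]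
def rw600 : List ℕ := [7, 9, 7, 9, 7, 9, 7, 9, 7, 9, 7, 9, 7, 9, 7, 9]
def rw601 : List ℕ := [7, 9, 1, 5, 7, 9, 1, 5, 7, 9, 1, 5, 7, 9, 1, 5, 7, 9, 1, 5]
def rw602 : List ℕ := [7, 9, 1, 5, 7, 9, 1, 5, 7, 9, 1, 5, 7, 9, 1, 5, 7, 9, 1, 5]
def rw603 : List ℕ := [7, 9, 7, 9, 7, 9, 7, 9, 7, 9, 7, 9, 7, 9, 7, 9]
def rw604 : List ℕ := [7, 0, 8, 0, 8, 7, 9, 1, 9, 1, 11, 0, 8, 0, 8, 6, 9, 1, 9, 1, 6, 10]
def rw605 : List ℕ := [7, 9, 1, 9, 1, 3, 0, 8, 0, 8, 6, 9, 1, 9, 1, 6, 2, 7, 0, 8, 0, 8]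
def rw606 : List ℕ := [7, 1, 3, 0, 6, 0, 6, 8, 7, 1, 7, 1, 8, 2, 9, 0, 6, 0, 6, 9, 7, 1]
def rw607 : List ℕ := [7, 9, 1, 9, 1, 5, 0, 8, 0, 8, 6, 9, 1, 9, 1, 6, 4, 7, 0, 8, 0, 8]
def rw608 : List ℕ := [8, 1, 1, 12, 2, 9, 3, 13, 0, 0]
def rw609 : List ℕ := [8, 8]
def rw610 : List ℕ := [8, 4, 8, 4]
def rw611 : List ℕ := [8, 2, 8, 2]
def rw612 : List ℕ := [8, 2, 8, 2]
def rw613 : List ℕ := [8, 12, 8, 12]
def rw614 : List ℕ := [8, 3, 13, 0, 0, 9, 1, 1, 12, 2]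
def rw615 : List ℕ := [8, 6, 8, 6, 8, 6, 8, 6, 8, 6, 8, 6, 8, 6, 8, 6]
def rw616 : List ℕ := [8, 4, 8, 4]
def rw617 : List ℕ := [8, 6, 8, 6, 8, 6, 8, 6, 8, 6, 8, 6, 8, 6, 8, 6]
def rw618 : List ℕ := [8, 6, 8, 6, 8, 6, 8, 6, 3, 13]
def rw619 : List ℕ := [8, 6, 8, 6, 8, 6, 3, 13, 8, 6]
def rw620 : List ℕ := [8, 7, 9, 1, 9, 1, 0, 0, 8, 0, 8, 6, 9, 1, 9, 1, 6, 1, 7, 0, 8, 0]
def rw621 : List ℕ := [8, 7, 9, 0, 6, 0, 6, 9, 7, 1, 7, 1, 6, 0, 6, 0, 6, 8, 7, 1, 7, 1]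
def rw622 : List ℕ := [8, 0, 8, 7, 9, 1, 9, 1, 4, 0, 8, 0, 8, 6, 9, 1, 9, 1, 6, 5, 7, 0]
def rw623 : List ℕ := [8, 0, 8, 6, 9, 1, 9, 1, 6, 3, 7, 0, 8, 0, 8, 7, 9, 1, 9, 1, 2, 0]
def rw624 : List ℕ := [8, 1, 9, 0, 6, 0, 6, 9, 7, 1, 7, 1, 0, 0, 6, 0, 6, 8, 7, 1, 7, 1]
def rw625 : List ℕ := [8, 0, 6, 0, 6, 8, 7, 1, 7, 1, 8, 9, 9, 0, 6, 0, 6, 9, 7, 1, 7, 1]
def rw626 : List ℕ := [8, 7, 1, 7, 1, 8, 9, 9, 0, 6, 0, 6, 9, 7, 1, 7, 1, 8, 0, 6, 0, 6]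
def rw627 : List ℕ := [8, 10, 8, 10, 8, 10]
def rw628 : List ℕ := [8, 7, 9, 1, 9, 1, 1, 0, 8, 0, 8, 6, 9, 1, 9, 1, 6, 0, 7, 0, 8, 0]
def rw629 : List ℕ := [8, 0, 8, 7, 9, 1, 9, 1, 2, 0, 8, 0, 8, 6, 9, 1, 9, 1, 6, 3, 7, 0]
def rw630 : List ℕ := [8, 3, 9, 0, 6, 0, 6, 9, 7, 1, 7, 1, 2, 0, 6, 0, 6, 8, 7, 1, 7, 1]
def rw631 : List ℕ := [8, 12, 8, 12]
def rw632 : List ℕ := [8, 7, 1, 7, 1, 8, 1, 9, 0, 6, 0, 6, 9, 7, 1, 7, 1, 0, 0, 6, 0, 6]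
def rw633 : List ℕ := [8, 6, 4, 0, 8, 6, 4, 0, 8, 6, 4, 0, 8, 6, 4, 0, 8, 6, 4, 0]
def rw634 : List ℕ := [8, 6, 9, 1, 9, 1, 6, 13, 7, 0, 8, 0, 8, 7, 9, 1, 9, 1, 12, 0, 8, 0]
def rw635 : List ℕ := [8, 6, 8, 6, 8, 6, 8, 6, 8, 6, 8, 6, 8, 6, 8, 6]
def rw636 : List ℕ := [8, 1, 9, 12, 8, 0, 9, 10, 0, 11, 8, 0, 9, 10, 0, 13, 1, 11, 8, 1, 9, 10, 1, 11]
def rw637 : List ℕ := [8, 6, 9, 1, 9, 1, 6, 1, 7, 0, 8, 0, 8, 7, 9, 1, 9, 1, 0, 0, 8, 0]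
def rw638 : List ℕ := [8, 0, 9, 10, 0, 0, 1, 11, 8, 1, 9, 10, 1, 11, 8, 1, 9, 1, 8, 0, 9, 10, 0, 11]
def rw639 : List ℕ := [8, 0, 9, 10, 0, 11, 8, 0, 9, 10, 0, 8, 0, 9, 10, 0, 11, 8, 0, 9, 10, 0]
def rw640 : List ℕ := [8, 0, 8, 7, 9, 1, 9, 1, 0, 0, 8, 0, 8, 6, 9, 1, 9, 1, 6, 1, 7, 0]
def rw641 : List ℕ := [8, 0, 8, 7, 9, 1, 9, 1, 1, 0, 8, 0, 8, 6, 9, 1, 9, 1, 6, 0, 7, 0]
def rw642 : List ℕ := [8, 0, 9, 10, 0, 7, 1, 11, 8, 1, 9, 10, 1, 11, 8, 1, 9, 6, 8, 0, 9, 10, 0, 11]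
def rw643 : List ℕ := [8, 1, 9, 6, 8, 0, 9, 10, 0, 11, 8, 0, 9, 10, 0, 7, 1, 11, 8, 1, 9, 10, 1, 11]
def rw644 : List ℕ := [8, 7, 9, 1, 9, 1, 10, 0, 8, 0, 8, 6, 9, 1, 9, 1, 6, 11, 7, 0, 8, 0]
def rw645 : List ℕ := [8, 1, 9, 1, 8, 0, 9, 10, 0, 11, 8, 0, 9, 10, 0, 0, 1, 11, 8, 1, 9, 10, 1, 11]
def rw646 : List ℕ := [8, 7, 1, 7, 1, 8, 5, 9, 0, 6, 0, 6, 9, 7, 1, 7, 1, 4, 0, 6, 0, 6]
def rw647 : List ℕ := [8, 1, 9, 10, 1, 11, 8, 1, 9, 2, 8, 0, 9, 10, 0, 11, 8, 0, 9, 10, 0, 3, 1, 11]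
def rw648 : List ℕ := [8, 10, 8, 10, 8, 10]
def rw649 : List ℕ := [8, 0, 9, 10, 0, 11, 8, 0, 9, 10, 0, 11, 1, 11, 8, 1, 9, 10, 1, 11, 8, 1, 9, 10]
def rw650 : List ℕ := [8, 6, 9, 1, 9, 1, 6, 3, 7, 0, 8, 0, 8, 7, 9, 1, 9, 1, 2, 0, 8, 0]
def rw651 : List ℕ := [8, 6, 9, 1, 9, 1, 6, 0, 7, 0, 8, 0, 8, 7, 9, 1, 9, 1, 1, 0, 8, 0]
def rw652 : List ℕ := [8, 7, 9, 1, 9, 1, 8, 0, 8, 0, 8, 6, 9, 1, 9, 1, 6, 9, 7, 0, 8, 0]
def rw653 : List ℕ := [8, 13, 9, 0, 6, 0, 6, 9, 7, 1, 7, 1, 12, 0, 6, 0, 6, 8, 7, 1, 7, 1]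
def rw654 : List ℕ := [8, 10, 8, 10, 8, 10]
def rw655 : List ℕ := [8, 5, 9, 0, 6, 0, 6, 9, 7, 1, 7, 1, 4, 0, 6, 0, 6, 8, 7, 1, 7, 1]
def rw656 : List ℕ := [8, 1, 9, 10, 1, 11, 8, 1, 9, 8, 8, 0, 9, 10, 0, 11, 8, 0, 9, 10, 0, 9, 1, 11]
def rw657 : List ℕ := [8, 7, 1, 7, 1, 8, 0, 9, 0, 6, 0, 6, 9, 7, 1, 7, 1, 1, 0, 6, 0, 6]
def rw658 : List ℕ := [8, 6, 9, 1, 9, 1, 6, 11, 7, 0, 8, 0, 8, 7, 9, 1, 9, 1, 10, 0, 8, 0]
def rw659 : List ℕ := [8, 6, 4, 0, 8, 6, 4, 0, 8, 6, 4, 0, 8, 6, 4, 0, 8, 6, 4, 0]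
def rw660 : List ℕ := [8, 0, 9, 10, 0, 1, 1, 11, 8, 1, 9, 10, 1, 11, 8, 1, 9, 0, 8, 0, 9, 10, 0, 11]
def rw661 : List ℕ := [8, 0, 8, 7, 9, 1, 9, 1, 8, 0, 8, 0, 8, 6, 9, 1, 9, 1, 6, 9, 7, 0]
def rw662 : List ℕ := [8, 6, 3, 13, 8, 6, 8, 6, 8, 6]
def rw663 : List ℕ := [8, 1, 9, 10, 1, 11, 8, 1, 9, 1, 8, 0, 9, 10, 0, 11, 8, 0, 9, 10, 0, 0, 1, 11]
def rw664 : List ℕ := [8, 0, 9, 10, 0, 9, 1, 11, 8, 1, 9, 10, 1, 11, 8, 1, 9, 8, 8, 0, 9, 10, 0, 11]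
def rw665 : List ℕ := [8, 8, 9, 0, 6, 0, 6, 9, 7, 1, 7, 1, 9, 0, 6, 0, 6, 8, 7, 1, 7, 1]
def rw666 : List ℕ := [8, 1, 9, 10, 1, 11, 8, 1, 9, 6, 8, 0, 9, 10, 0, 11, 8, 0, 9, 10, 0, 7, 1, 11]
def rw667 : List ℕ := [8, 1, 9, 10, 1, 11, 8, 1, 9, 0, 8, 0, 9, 10, 0, 11, 8, 0, 9, 10, 0, 1, 1, 11]
def rw668 : List ℕ := [8, 6, 9, 1, 9, 1, 6, 9, 7, 0, 8, 0, 8, 7, 9, 1, 9, 1, 8, 0, 8, 0]
def rw669 : List ℕ := [8, 0, 9, 10, 0, 13, 1, 11, 8, 1, 9, 10, 1, 11, 8, 1, 9, 12, 8, 0, 9, 10, 0, 11]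
def rw670 : List ℕ := [8, 0, 9, 10, 0, 3, 1, 11, 8, 1, 9, 10, 1, 11, 8, 1, 9, 2, 8, 0, 9, 10, 0, 11]
def rw671 : List ℕ := [8, 1, 9, 8, 8, 0, 9, 10, 0, 11, 8, 0, 9, 10, 0, 9, 1, 11, 8, 1, 9, 10, 1, 11]
def rw672 : List ℕ := [8, 0, 9, 10, 0, 11, 8, 0, 9, 10, 0, 1, 1, 11, 8, 1, 9, 10, 1, 11, 8, 1, 9, 0]
def rw673 : List ℕ := [8, 7, 1, 7, 1, 8, 3, 9, 0, 6, 0, 6, 9, 7, 1, 7, 1, 2, 0, 6, 0, 6]
def rw674 : List ℕ := [8, 6, 8, 6, 8, 6, 8, 6, 8, 6, 8, 6, 8, 6, 8, 6]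
def rw675 : List ℕ := [8, 1, 9, 10, 1, 11, 8, 1, 9, 4, 8, 0, 9, 10, 0, 11, 8, 0, 9, 10, 0, 5, 1, 11]
def rw676 : List ℕ := [8, 0, 8, 6, 9, 1, 9, 1, 6, 1, 7, 0, 8, 0, 8, 7, 9, 1, 9, 1, 0, 0]
def rw677 : List ℕ := [8, 0, 8, 6, 9, 1, 9, 1, 6, 13, 7, 0, 8, 0, 8, 7, 9, 1, 9, 1, 12, 0]
def rw678 : List ℕ := [8, 6, 8, 6, 3, 13, 8, 6, 8, 6]
def rw679 : List ℕ := [8, 0, 9, 10, 0, 11, 8, 0, 9, 10, 0, 3, 1, 11, 8, 1, 9, 10, 1, 11, 8, 1, 9, 2]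
def rw680 : List ℕ := [8, 7, 9, 1, 9, 1, 2, 0, 8, 0, 8, 6, 9, 1, 9, 1, 6, 3, 7, 0, 8, 0]
def rw681 : List ℕ := [8, 1, 9, 4, 8, 0, 9, 10, 0, 11, 8, 0, 9, 10, 0, 5, 1, 11, 8, 1, 9, 10, 1, 11]
def rw682 : List ℕ := [8, 0, 9, 10, 0, 11, 8, 0, 9, 10, 0, 9, 1, 11, 8, 1, 9, 10, 1, 11, 8, 1, 9, 8]
def rw683 : List ℕ := [8, 1, 9, 0, 8, 0, 9, 10, 0, 11, 8, 0, 9, 10, 0, 1, 1, 11, 8, 1, 9, 10, 1, 11]
def rw684 : List ℕ := [8, 1, 9, 10, 1, 11, 8, 1, 9, 12, 8, 0, 9, 10, 0, 11, 8, 0, 9, 10, 0, 13, 1, 11]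
def rw685 : List ℕ := [8, 0, 9, 10, 0, 11, 1, 11, 8, 1, 9, 10, 1, 11, 8, 1, 9, 10, 8, 0, 9, 10, 0, 11]
def rw686 : List ℕ := [8, 6, 9, 1, 9, 1, 6, 5, 7, 0, 8, 0, 8, 7, 9, 1, 9, 1, 4, 0, 8, 0]
def rw687 : List ℕ := [8, 0, 8, 6, 9, 1, 9, 1, 6, 0, 7, 0, 8, 0, 8, 7, 9, 1, 9, 1, 1, 0]
def rw688 : List ℕ := [8, 0, 9, 10, 0, 11, 8, 0, 9, 10, 0, 0, 1, 11, 8, 1, 9, 10, 1, 11, 8, 1, 9, 1]
def rw689 : List ℕ := [8, 0, 9, 10, 0, 11, 8, 0, 9, 10, 0, 7, 1, 11, 8, 1, 9, 10, 1, 11, 8, 1, 9, 6]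
def rw690 : List ℕ := [8, 0, 9, 10, 0, 5, 1, 11, 8, 1, 9, 10, 1, 11, 8, 1, 9, 4, 8, 0, 9, 10, 0, 11]
def rw691 : List ℕ := [8, 7, 9, 1, 9, 1, 4, 0, 8, 0, 8, 6, 9, 1, 9, 1, 6, 5, 7, 0, 8, 0]
def rw692 : List ℕ := [8, 0, 9, 10, 0, 11, 8, 0, 9, 10, 0, 12, 1, 11, 8, 1, 9, 10, 1, 11, 8, 1, 9, 13]
def rw693 : List ℕ := [8, 0, 8, 6, 9, 1, 9, 1, 6, 11, 7, 0, 8, 0, 8, 7, 9, 1, 9, 1, 10, 0]
def rw694 : List ℕ := [8, 7, 9, 1, 9, 1, 12, 0, 8, 0, 8, 6, 9, 1, 9, 1, 6, 13, 7, 0, 8, 0]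
def rw695 : List ℕ := [8, 6, 8, 6, 8, 6, 8, 6, 8, 6, 8, 6, 8, 6, 8, 6]
def rw696 : List ℕ := [8, 0, 8, 7, 9, 1, 9, 1, 12, 0, 8, 0, 8, 6, 9, 1, 9, 1, 6, 13, 7, 0]
def rw697 : List ℕ := [8, 6, 4, 0, 8, 6, 4, 0, 8, 6, 4, 0, 8, 6, 4, 0, 8, 6, 4, 0]
def rw698 : List ℕ := [8, 0, 9, 0, 6, 0, 6, 9, 7, 1, 7, 1, 1, 0, 6, 0, 6, 8, 7, 1, 7, 1]
def rw699 : List ℕ := [8, 1, 9, 2, 8, 0, 9, 10, 0, 11, 8, 0, 9, 10, 0, 3, 1, 11, 8, 1, 9, 10, 1, 11]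
def rw700 : List ℕ := [8, 0, 8, 7, 9, 1, 9, 1, 10, 0, 8, 0, 8, 6, 9, 1, 9, 1, 6, 11, 7, 0]
def rw701 : List ℕ := [8, 7, 1, 7, 1, 8, 7, 9, 0, 6, 0, 6, 9, 7, 1, 7, 1, 6, 0, 6, 0, 6]
def rw702 : List ℕ := [8, 0, 9, 10, 0, 11, 8, 0, 9, 10, 0, 13, 1, 11, 8, 1, 9, 10, 1, 11, 8, 1, 9, 12]
def rw703 : List ℕ := [8, 11, 9, 0, 6, 0, 6, 9, 7, 1, 7, 1, 10, 0, 6, 0, 6, 8, 7, 1, 7, 1]
def rw704 : List ℕ := [8, 1, 9, 10, 8, 0, 9, 10, 0, 11, 8, 0, 9, 10, 0, 11, 1, 11, 8, 1, 9, 10, 1, 11]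
def rw705 : List ℕ := [8, 0, 8, 6, 9, 1, 9, 1, 6, 5, 7, 0, 8, 0, 8, 7, 9, 1, 9, 1, 4, 0]
def rw706 : List ℕ := [8, 7, 1, 7, 1, 8, 13, 9, 0, 6, 0, 6, 9, 7, 1, 7, 1, 12, 0, 6, 0, 6]
def rw707 : List ℕ := [8, 0, 9, 10, 0, 11, 8, 0, 9, 10, 0, 5, 1, 11, 8, 1, 9, 10, 1, 11, 8, 1, 9, 4]
def rw708 : List ℕ := [8, 0, 9, 10, 0, 4, 1, 11, 8, 1, 9, 10, 1, 11, 8, 1, 9, 5, 8, 0, 9, 10, 0, 11]
def rw709 : List ℕ := [8, 1, 9, 10, 1, 11, 8, 1, 9, 10, 8, 0, 9, 10, 0, 11, 8, 0, 9, 10, 0, 11, 1, 11]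
def rw710 : List ℕ := [8, 7, 1, 7, 1, 8, 11, 9, 0, 6, 0, 6, 9, 7, 1, 7, 1, 10, 0, 6, 0, 6]
def rw711 : List ℕ := [8, 7, 1, 7, 1, 8, 12, 9, 0, 6, 0, 6, 9, 7, 1, 7, 1, 13, 0, 6, 0, 6]
def rw712 : List ℕ := [8, 0, 8, 6, 9, 1, 9, 1, 6, 9, 7, 0, 8, 0, 8, 7, 9, 1, 9, 1, 8, 0]
def rw713 : List ℕ := [8, 6, 4, 0, 8, 6, 4, 0, 8, 6, 4, 0, 8, 6, 4, 0, 8, 6, 4, 0]
def rw714 : List ℕ := [8, 6, 8, 6, 8, 6, 8, 6, 8, 6, 8, 6, 8, 6, 8, 6]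
def rw715 : List ℕ := [8, 6, 4, 0, 8, 6, 4, 0, 8, 6, 4, 0, 8, 6, 4, 0, 8, 6, 4, 0]
def rw716 : List ℕ := [8, 6, 8, 6, 8, 6, 8, 6, 8, 6, 8, 6, 8, 6, 8, 6]
def rw717 : List ℕ := [8, 0, 9, 10, 0, 11, 8, 0, 9, 10, 0, 2, 1, 11, 8, 1, 9, 10, 1, 11, 8, 1, 9, 3]
def rw718 : List ℕ := [8, 4, 9, 0, 6, 0, 6, 9, 7, 1, 7, 1, 5, 0, 6, 0, 6, 8, 7, 1, 7, 1]
def rw719 : List ℕ := [8, 12, 9, 0, 6, 0, 6, 9, 7, 1, 7, 1, 13, 0, 6, 0, 6, 8, 7, 1, 7, 1]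
def rw720 : List ℕ := [8, 1, 9, 9, 8, 0, 9, 10, 0, 11, 8, 0, 9, 10, 0, 8, 1, 11, 8, 1, 9, 10, 1, 11]
def rw721 : List ℕ := [8, 6, 8, 6, 8, 6, 8, 6, 8, 6, 8, 6, 8, 6, 8, 6]
def rw722 : List ℕ := [8, 7, 1, 7, 1, 8, 2, 9, 0, 6, 0, 6, 9, 7, 1, 7, 1, 3, 0, 6, 0, 6]
def rw723 : List ℕ := [8, 0, 9, 10, 0, 11, 8, 0, 9, 10, 0, 6, 1, 11, 8, 1, 9, 10, 1, 11, 8, 1, 9, 7]
def rw724 : List ℕ := [8, 0, 9, 10, 0, 11, 8, 0, 9, 10, 0, 4, 1, 11, 8, 1, 9, 10, 1, 11, 8, 1, 9, 5]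
def rw725 : List ℕ := [8, 7, 1, 7, 1, 8, 10, 9, 0, 6, 0, 6, 9, 7, 1, 7, 1, 11, 0, 6, 0, 6]
def rw726 : List ℕ := [8, 10, 9, 0, 6, 0, 6, 9, 7, 1, 7, 1, 11, 0, 6, 0, 6, 8, 7, 1, 7, 1]
def rw727 : List ℕ := [8, 0, 9, 10, 0, 10, 1, 11, 8, 1, 9, 10, 1, 11, 8, 1, 9, 11, 8, 0, 9, 10, 0, 11]
def rw728 : List ℕ := [8, 7, 1, 7, 1, 8, 4, 9, 0, 6, 0, 6, 9, 7, 1, 7, 1, 5, 0, 6, 0, 6]
def rw729 : List ℕ := [8, 6, 9, 1, 9, 1, 6, 2, 7, 0, 8, 0, 8, 7, 9, 1, 9, 1, 3, 0, 8, 0]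
def rw730 : List ℕ := [8, 0, 8, 6, 9, 1, 9, 1, 6, 4, 7, 0, 8, 0, 8, 7, 9, 1, 9, 1, 5, 0]
def rw731 : List ℕ := [8, 0, 8, 6, 9, 1, 9, 1, 6, 10, 7, 0, 8, 0, 8, 7, 9, 1, 9, 1, 11, 0]
def rw732 : List ℕ := [8, 6, 9, 0, 6, 0, 6, 9, 7, 1, 7, 1, 7, 0, 6, 0, 6, 8, 7, 1, 7, 1]
def rw733 : List ℕ := [9, 11, 9, 11, 9, 11]
def rw734 : List ℕ := [9, 9]
def rw735 : List ℕ := [9, 7, 9, 7, 9, 7, 9, 7, 9, 7, 9, 7, 9, 7, 9, 7]
def rw736 : List ℕ := [9, 5, 9, 5]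
def rw737 : List ℕ := [9, 3, 9, 3]
def rw738 : List ℕ := [9, 1, 9, 1, 0, 0, 8, 0, 8, 6, 9, 1, 9, 1, 6, 1, 7, 0, 8, 0, 8, 7]
def rw739 : List ℕ := [9, 1, 9, 1, 1, 0, 8, 0, 8, 6, 9, 1, 9, 1, 6, 0, 7, 0, 8, 0, 8, 7]
def rw740 : List ℕ := [9, 1, 9, 1, 6, 1, 7, 0, 8, 0, 8, 7, 9, 1, 9, 1, 0, 0, 8, 0, 8, 6]
def rw741 : List ℕ := [9, 7, 9, 7, 9, 7, 9, 12, 2, 7]
def rw742 : List ℕ := [9, 5, 9, 5]
def rw743 : List ℕ := [9, 7, 9, 7, 9, 12, 2, 7, 9, 7]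
def rw744 : List ℕ := [9, 1, 6, 0, 7, 0, 8, 0, 8, 7, 9, 1, 9, 1, 1, 0, 8, 0, 8, 6, 9, 1]
def rw745 : List ℕ := [9, 1, 6, 1, 7, 0, 8, 0, 8, 7, 9, 1, 9, 1, 0, 0, 8, 0, 8, 6, 9, 1]
def rw746 : List ℕ := [9, 3, 13, 0, 0, 8, 1, 1, 12, 2]
def rw747 : List ℕ := [9, 1, 9, 1, 6, 9, 7, 0, 8, 0, 8, 7, 9, 1, 9, 1, 8, 0, 8, 0, 8, 6]
def rw748 : List ℕ := [9, 7, 1, 7, 1, 0, 0, 6, 0, 6, 8, 7, 1, 7, 1, 8, 1, 9, 0, 6, 0, 6]
def rw749 : List ℕ := [9, 0, 6, 0, 6, 9, 7, 1, 7, 1, 0, 0, 6, 0, 6, 8, 7, 1, 7, 1, 8, 1]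
def rw750 : List ℕ := [9, 7, 1, 7, 1, 8, 0, 6, 0, 6, 8, 7, 1, 7, 1, 8, 9, 9, 0, 6, 0, 6]
def rw751 : List ℕ := [9, 0, 6, 0, 6, 9, 7, 1, 7, 1, 8, 0, 6, 0, 6, 8, 7, 1, 7, 1, 8, 9]
def rw752 : List ℕ := [9, 1, 2, 0, 8, 0, 8, 6, 9, 1, 9, 1, 6, 3, 7, 0, 8, 0, 8, 7, 9, 1]
def rw753 : List ℕ := [9, 0, 6, 0, 6, 9, 7, 1, 7, 1, 1, 0, 6, 0, 6, 8, 7, 1, 7, 1, 8, 0]
def rw754 : List ℕ := [9, 7, 9, 7, 9, 7, 9, 7, 9, 7, 9, 7, 9, 7, 9, 7]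
def rw755 : List ℕ := [9, 1, 1, 12, 2, 8, 3, 13, 0, 0]
def rw756 : List ℕ := [9, 7, 1, 7, 1, 2, 0, 6, 0, 6, 8, 7, 1, 7, 1, 8, 3, 9, 0, 6, 0, 6]
def rw757 : List ℕ := [9, 1, 9, 1, 2, 0, 8, 0, 8, 6, 9, 1, 9, 1, 6, 3, 7, 0, 8, 0, 8, 7]
def rw758 : List ℕ := [9, 1, 9, 1, 6, 3, 7, 0, 8, 0, 8, 7, 9, 1, 9, 1, 2, 0, 8, 0, 8, 6]
def rw759 : List ℕ := [9, 7, 9, 7, 9, 7, 9, 7, 9, 7, 9, 7, 9, 7, 9, 7]
def rw760 : List ℕ := [9, 3, 9, 3]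
def rw761 : List ℕ := [9, 10, 0, 11, 1, 11, 8, 1, 9, 10, 1, 11, 8, 1, 9, 10, 8, 0, 9, 10, 0, 11, 8, 0]
def rw762 : List ℕ := [9, 10, 1, 11, 8, 1, 9, 0, 8, 0, 9, 10, 0, 11, 8, 0, 9, 10, 0, 1, 1, 11, 8, 1]
def rw763 : List ℕ := [9, 1, 6, 9, 7, 0, 8, 0, 8, 7, 9, 1, 9, 1, 8, 0, 8, 0, 8, 6, 9, 1]
def rw764 : List ℕ := [9, 0, 6, 0, 6, 9, 7, 1, 7, 1, 12, 0, 6, 0, 6, 8, 7, 1, 7, 1, 8, 13]
def rw765 : List ℕ := [9, 1, 6, 13, 7, 0, 8, 0, 8, 7, 9, 1, 9, 1, 12, 0, 8, 0, 8, 6, 9, 1]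
def rw766 : List ℕ := [9, 1, 6, 5, 7, 0, 8, 0, 8, 7, 9, 1, 9, 1, 4, 0, 8, 0, 8, 6, 9, 1]
def rw767 : List ℕ := [9, 0, 8, 0, 9, 10, 0, 11, 8, 0, 9, 10, 0, 1, 1, 11, 8, 1, 9, 10, 1, 11, 8, 1]
def rw768 : List ℕ := [9, 10, 1, 11, 8, 1, 9, 1, 8, 0, 9, 10, 0, 11, 8, 0, 9, 10, 0, 0, 1, 11, 8, 1]
def rw769 : List ℕ := [9, 1, 8, 0, 8, 0, 8, 6, 9, 1, 9, 1, 6, 9, 7, 0, 8, 0, 8, 7, 9, 1]
def rw770 : List ℕ := [9, 7, 1, 7, 1, 4, 0, 6, 0, 6, 8, 7, 1, 7, 1, 8, 5, 9, 0, 6, 0, 6]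
def rw771 : List ℕ := [9, 7, 1, 7, 1, 1, 0, 6, 0, 6, 8, 7, 1, 7, 1, 8, 0, 9, 0, 6, 0, 6]
def rw772 : List ℕ := [9, 10, 0, 11, 8, 0, 9, 10, 0, 1, 1, 11, 8, 1, 9, 10, 1, 11, 8, 1, 9, 0, 8, 0]
def rw773 : List ℕ := [9, 0, 6, 0, 6, 9, 7, 1, 7, 1, 3, 0, 6, 0, 6, 8, 7, 1, 7, 1, 8, 2]
def rw774 : List ℕ := [9, 10, 1, 11, 8, 1, 9, 4, 8, 0, 9, 10, 0, 11, 8, 0, 9, 10, 0, 5, 1, 11, 8, 1]
def rw775 : List ℕ := [9, 10, 0, 11, 8, 0, 9, 10, 0, 3, 1, 11, 8, 1, 9, 10, 1, 11, 8, 1, 9, 2, 8, 0]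
def rw776 : List ℕ := [9, 1, 8, 0, 9, 10, 0, 11, 8, 0, 9, 10, 0, 0, 1, 11, 8, 1, 9, 10, 1, 11, 8, 1]
def rw777 : List ℕ := [9, 1, 9, 1, 6, 5, 7, 0, 8, 0, 8, 7, 9, 1, 9, 1, 4, 0, 8, 0, 8, 6]
def rw778 : List ℕ := [9, 10, 0, 7, 1, 11, 8, 1, 9, 10, 1, 11, 8, 1, 9, 6, 8, 0, 9, 10, 0, 11, 8, 0]
def rw779 : List ℕ := [9, 3, 8, 0, 9, 10, 0, 11, 8, 0, 9, 10, 0, 2, 1, 11, 8, 1, 9, 10, 1, 11, 8, 1]
def rw780 : List ℕ := [9, 10, 0, 0, 1, 11, 8, 1, 9, 10, 1, 11, 8, 1, 9, 1, 8, 0, 9, 10, 0, 11, 8, 0]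
def rw781 : List ℕ := [9, 7, 9, 12, 2, 7, 9, 7, 9, 7]
def rw782 : List ℕ := [9, 10, 0, 3, 1, 11, 8, 1, 9, 10, 1, 11, 8, 1, 9, 2, 8, 0, 9, 10, 0, 11, 8, 0]
def rw783 : List ℕ := [9, 1, 11, 8, 1, 9, 10, 1, 11, 8, 1, 9, 1, 11, 8, 1, 9, 10, 1, 11, 8, 1]
def rw784 : List ℕ := [9, 10, 1, 11, 8, 1, 9, 2, 8, 0, 9, 10, 0, 11, 8, 0, 9, 10, 0, 3, 1, 11, 8, 1]
def rw785 : List ℕ := [9, 2, 8, 0, 9, 10, 0, 11, 8, 0, 9, 10, 0, 3, 1, 11, 8, 1, 9, 10, 1, 11, 8, 1]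
def rw786 : List ℕ := [9, 0, 6, 0, 6, 9, 7, 1, 7, 1, 2, 0, 6, 0, 6, 8, 7, 1, 7, 1, 8, 3]
def rw787 : List ℕ := [9, 10, 0, 11, 8, 0, 9, 10, 0, 7, 1, 11, 8, 1, 9, 10, 1, 11, 8, 1, 9, 6, 8, 0]
def rw788 : List ℕ := [9, 1, 9, 1, 6, 13, 7, 0, 8, 0, 8, 7, 9, 1, 9, 1, 12, 0, 8, 0, 8, 6]
def rw789 : List ℕ := [9, 10, 0, 9, 1, 11, 8, 1, 9, 10, 1, 11, 8, 1, 9, 8, 8, 0, 9, 10, 0, 11, 8, 0]
def rw790 : List ℕ := [9, 1, 9, 1, 8, 0, 8, 0, 8, 6, 9, 1, 9, 1, 6, 9, 7, 0, 8, 0, 8, 7]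
def rw791 : List ℕ := [9, 10, 0, 11, 8, 0, 9, 10, 0, 0, 1, 11, 8, 1, 9, 10, 1, 11, 8, 1, 9, 1, 8, 0]
def rw792 : List ℕ := [9, 1, 6, 3, 7, 0, 8, 0, 8, 7, 9, 1, 9, 1, 2, 0, 8, 0, 8, 6, 9, 1]
def rw793 : List ℕ := [9, 10, 1, 11, 8, 1, 9, 6, 8, 0, 9, 10, 0, 11, 8, 0, 9, 10, 0, 7, 1, 11, 8, 1]
def rw794 : List ℕ := [9, 10, 1, 11, 8, 1, 9, 12, 8, 0, 9, 10, 0, 11, 8, 0, 9, 10, 0, 13, 1, 11, 8, 1]
def rw795 : List ℕ := [9, 0, 6, 0, 6, 9, 7, 1, 7, 1, 13, 0, 6, 0, 6, 8, 7, 1, 7, 1, 8, 12]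
def rw796 : List ℕ := [9, 7, 1, 7, 1, 6, 0, 6, 0, 6, 8, 7, 1, 7, 1, 8, 7, 9, 0, 6, 0, 6]
def rw797 : List ℕ := [9, 13, 9, 13]
def rw798 : List ℕ := [9, 10, 8, 0, 9, 10, 0, 11, 8, 0, 9, 10, 0, 11, 1, 11, 8, 1, 9, 10, 1, 11, 8, 1]
def rw799 : List ℕ := [9, 10, 0, 11, 8, 0, 9, 10, 0, 11, 1, 11, 8, 1, 9, 10, 1, 11, 8, 1, 9, 10, 8, 0]
def rw800 : List ℕ := [9, 1, 1, 0, 8, 0, 8, 6, 9, 1, 9, 1, 6, 0, 7, 0, 8, 0, 8, 7, 9, 1]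
def rw801 : List ℕ := [9, 13, 9, 13]
def rw802 : List ℕ := [9, 1, 0, 0, 8, 0, 8, 6, 9, 1, 9, 1, 6, 1, 7, 0, 8, 0, 8, 7, 9, 1]
def rw803 : List ℕ := [9, 10, 1, 11, 8, 1, 9, 8, 8, 0, 9, 10, 0, 11, 8, 0, 9, 10, 0, 9, 1, 11, 8, 1]
def rw804 : List ℕ := [9, 1, 11, 8, 1, 9, 10, 1, 11, 8, 1, 9, 8, 8, 0, 9, 10, 0, 11, 8, 0, 9, 10, 0]
def rw805 : List ℕ := [9, 12, 2, 7, 9, 7, 9, 7, 9, 7]
def rw806 : List ℕ := [9, 10, 0, 11, 8, 0, 9, 10, 0, 5, 1, 11, 8, 1, 9, 10, 1, 11, 8, 1, 9, 4, 8, 0]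
def rw807 : List ℕ := [9, 1, 9, 1, 6, 0, 7, 0, 8, 0, 8, 7, 9, 1, 9, 1, 1, 0, 8, 0, 8, 6]
def rw808 : List ℕ := [9, 4, 8, 0, 9, 10, 0, 11, 8, 0, 9, 10, 0, 5, 1, 11, 8, 1, 9, 10, 1, 11, 8, 1]
def rw809 : List ℕ := [9, 10, 0, 13, 1, 11, 8, 1, 9, 10, 1, 11, 8, 1, 9, 12, 8, 0, 9, 10, 0, 11, 8, 0]
def rw810 : List ℕ := [9, 1, 9, 1, 10, 0, 8, 0, 8, 6, 9, 1, 9, 1, 6, 11, 7, 0, 8, 0, 8, 7]
def rw811 : List ℕ := [9, 10, 0, 1, 1, 11, 8, 1, 9, 10, 1, 11, 8, 1, 9, 0, 8, 0, 9, 10, 0, 11, 8, 0]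
def rw812 : List ℕ := [9, 1, 9, 1, 12, 0, 8, 0, 8, 6, 9, 1, 9, 1, 6, 13, 7, 0, 8, 0, 8, 7]
def rw813 : List ℕ := [9, 6, 8, 0, 9, 10, 0, 11, 8, 0, 9, 10, 0, 7, 1, 11, 8, 1, 9, 10, 1, 11, 8, 1]
def rw814 : List ℕ := [9, 1, 10, 0, 8, 0, 8, 6, 9, 1, 9, 1, 6, 11, 7, 0, 8, 0, 8, 7, 9, 1]
def rw815 : List ℕ := [9, 1, 4, 0, 8, 0, 8, 6, 9, 1, 9, 1, 6, 5, 7, 0, 8, 0, 8, 7, 9, 1]
def rw816 : List ℕ := [9, 1, 9, 1, 6, 11, 7, 0, 8, 0, 8, 7, 9, 1, 9, 1, 10, 0, 8, 0, 8, 6]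
def rw817 : List ℕ := [9, 11, 9, 11, 9, 11]
def rw818 : List ℕ := [9, 12, 8, 0, 9, 10, 0, 11, 8, 0, 9, 10, 0, 13, 1, 11, 8, 1, 9, 10, 1, 11, 8, 1]
def rw819 : List ℕ := [9, 1, 9, 1, 4, 0, 8, 0, 8, 6, 9, 1, 9, 1, 6, 5, 7, 0, 8, 0, 8, 7]
def rw820 : List ℕ := [9, 7, 9, 7, 9, 7, 9, 7, 9, 7, 9, 7, 9, 7, 9, 7]
def rw821 : List ℕ := [9, 1, 5, 7, 9, 1, 5, 7, 9, 1, 5, 7, 9, 1, 5, 7, 9, 1, 5, 7]
def rw822 : List ℕ := [9, 10, 0, 5, 1, 11, 8, 1, 9, 10, 1, 11, 8, 1, 9, 4, 8, 0, 9, 10, 0, 11, 8, 0]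
def rw823 : List ℕ := [9, 7, 9, 7, 9, 7, 9, 7, 9, 7, 9, 7, 9, 7, 9, 7]
def rw824 : List ℕ := [9, 11, 8, 0, 9, 10, 0, 11, 8, 0, 9, 10, 0, 10, 1, 11, 8, 1, 9, 10, 1, 11, 8, 1]
def rw825 : List ℕ := [9, 7, 1, 7, 1, 12, 0, 6, 0, 6, 8, 7, 1, 7, 1, 8, 13, 9, 0, 6, 0, 6]
def rw826 : List ℕ := [9, 11, 9, 11, 9, 11]
def rw827 : List ℕ := [9, 0, 6, 0, 6, 9, 7, 1, 7, 1, 5, 0, 6, 0, 6, 8, 7, 1, 7, 1, 8, 4]
def rw828 : List ℕ := [9, 0, 6, 0, 6, 9, 7, 1, 7, 1, 4, 0, 6, 0, 6, 8, 7, 1, 7, 1, 8, 5]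
def rw829 : List ℕ := [9, 9, 8, 0, 9, 10, 0, 11, 8, 0, 9, 10, 0, 8, 1, 11, 8, 1, 9, 10, 1, 11, 8, 1]
def rw830 : List ℕ := [9, 0, 6, 0, 6, 9, 7, 1, 7, 1, 6, 0, 6, 0, 6, 8, 7, 1, 7, 1, 8, 7]
def rw831 : List ℕ := [9, 0, 6, 0, 6, 9, 7, 1, 7, 1, 7, 0, 6, 0, 6, 8, 7, 1, 7, 1, 8, 6]
def rw832 : List ℕ := [9, 7, 1, 7, 1, 5, 0, 6, 0, 6, 8, 7, 1, 7, 1, 8, 4, 9, 0, 6, 0, 6]
def rw833 : List ℕ := [9, 10, 0, 11, 8, 0, 9, 10, 0, 9, 1, 11, 8, 1, 9, 10, 1, 11, 8, 1, 9, 8, 8, 0]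
def rw834 : List ℕ := [9, 10, 0, 11, 8, 0, 9, 10, 0, 13, 1, 11, 8, 1, 9, 10, 1, 11, 8, 1, 9, 12, 8, 0]
def rw835 : List ℕ := [9, 1, 5, 7, 9, 1, 5, 7, 9, 1, 5, 7, 9, 1, 5, 7, 9, 1, 5, 7]
def rw836 : List ℕ := [9, 1, 5, 7, 9, 1, 5, 7, 9, 1, 5, 7, 9, 1, 5, 7, 9, 1, 5, 7]
def rw837 : List ℕ := [9, 1, 6, 11, 7, 0, 8, 0, 8, 7, 9, 1, 9, 1, 10, 0, 8, 0, 8, 6, 9, 1]
def rw838 : List ℕ := [9, 7, 9, 7, 9, 7, 9, 7, 9, 7, 9, 7, 9, 7, 9, 7]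
def rw839 : List ℕ := [9, 1, 12, 0, 8, 0, 8, 6, 9, 1, 9, 1, 6, 13, 7, 0, 8, 0, 8, 7, 9, 1]
def rw840 : List ℕ := [9, 10, 0, 11, 8, 0, 9, 10, 0, 2, 1, 11, 8, 1, 9, 10, 1, 11, 8, 1, 9, 3, 8, 0]
def rw841 : List ℕ := [9, 7, 1, 7, 1, 3, 0, 6, 0, 6, 8, 7, 1, 7, 1, 8, 2, 9, 0, 6, 0, 6]
def rw842 : List ℕ := [9, 10, 1, 11, 8, 1, 9, 10, 8, 0, 9, 10, 0, 11, 8, 0, 9, 10, 0, 11, 1, 11, 8, 1]
def rw843 : List ℕ := [9, 1, 6, 8, 7, 0, 8, 0, 8, 7, 9, 1, 9, 1, 9, 0, 8, 0, 8, 6, 9, 1]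
def rw844 : List ℕ := [9, 1, 9, 0, 8, 0, 8, 6, 9, 1, 9, 1, 6, 8, 7, 0, 8, 0, 8, 7, 9, 1]
def rw845 : List ℕ := [9, 7, 9, 7, 9, 7, 9, 7, 9, 7, 9, 7, 9, 7, 9, 7]
def rw846 : List ℕ := [9, 1, 5, 7, 9, 1, 5, 7, 9, 1, 5, 7, 9, 1, 5, 7, 9, 1, 5, 7]
def rw847 : List ℕ := [9, 7, 1, 7, 1, 10, 0, 6, 0, 6, 8, 7, 1, 7, 1, 8, 11, 9, 0, 6, 0, 6]
def rw848 : List ℕ := [9, 1, 5, 7, 9, 1, 5, 7, 9, 1, 5, 7, 9, 1, 5, 7, 9, 1, 5, 7]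
def rw849 : List ℕ := [9, 0, 6, 0, 6, 9, 7, 1, 7, 1, 10, 0, 6, 0, 6, 8, 7, 1, 7, 1, 8, 11]
def rw850 : List ℕ := [9, 0, 6, 0, 6, 9, 7, 1, 7, 1, 11, 0, 6, 0, 6, 8, 7, 1, 7, 1, 8, 10]
def rw851 : List ℕ := [9, 1, 9, 1, 3, 0, 8, 0, 8, 6, 9, 1, 9, 1, 6, 2, 7, 0, 8, 0, 8, 7]
def rw852 : List ℕ := [9, 1, 9, 1, 6, 12, 7, 0, 8, 0, 8, 7, 9, 1, 9, 1, 13, 0, 8, 0, 8, 6]
def rw853 : List ℕ := [9, 10, 0, 4, 1, 11, 8, 1, 9, 10, 1, 11, 8, 1, 9, 5, 8, 0, 9, 10, 0, 11, 8, 0]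
def rw854 : List ℕ := [9, 1, 9, 1, 9, 0, 8, 0, 8, 6, 9, 1, 9, 1, 6, 8, 7, 0, 8, 0, 8, 7]
def rw855 : List ℕ := [9, 7, 9, 7, 9, 7, 9, 7, 9, 7, 9, 7, 9, 7, 9, 7]
def rw856 : List ℕ := [9, 7, 1, 7, 1, 11, 0, 6, 0, 6, 8, 7, 1, 7, 1, 8, 10, 9, 0, 6, 0, 6]
def rw857 : List ℕ := [9, 1, 9, 1, 5, 0, 8, 0, 8, 6, 9, 1, 9, 1, 6, 4, 7, 0, 8, 0, 8, 7]
def rw858 : List ℕ := [10, 1, 1, 12, 2, 11, 3, 13, 0, 0]
def rw859 : List ℕ := [10, 10]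
def rw860 : List ℕ := [10, 8, 10, 8, 10, 8]
def rw861 : List ℕ := [10, 12, 10, 12, 10, 12]
def rw862 : List ℕ := [10, 4, 10, 4]
def rw863 : List ℕ := [10, 6, 10, 6]
def rw864 : List ℕ := [10, 8, 10, 8, 10, 8]
def rw865 : List ℕ := [10, 6, 10, 6]
def rw866 : List ℕ := [10, 2, 10, 2]
def rw867 : List ℕ := [10, 2, 10, 2]
def rw868 : List ℕ := [10, 4, 10, 4]
def rw869 : List ℕ := [10, 12, 10, 12, 10, 12]
def rw870 : List ℕ := [10, 3, 13, 0, 0, 11, 1, 1, 12, 2]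
def rw871 : List ℕ := [10, 1, 11, 8, 1, 9, 10, 1, 11, 8, 1, 9, 11, 8, 0, 9, 10, 0, 11, 8, 0, 9, 10, 0]
def rw872 : List ℕ := [10, 1, 11, 8, 1, 9, 2, 8, 0, 9, 10, 0, 11, 8, 0, 9, 10, 0, 3, 1, 11, 8, 1, 9]
def rw873 : List ℕ := [10, 1, 11, 8, 1, 9, 0, 8, 0, 9, 10, 0, 11, 8, 0, 9, 10, 0, 1, 1, 11, 8, 1, 9]
def rw874 : List ℕ := [10, 1, 11, 8, 1, 9, 1, 8, 0, 9, 10, 0, 11, 8, 0, 9, 10, 0, 0, 1, 11, 8, 1, 9]
def rw875 : List ℕ := [10, 0, 0, 1, 11, 8, 1, 9, 10, 1, 11, 8, 1, 9, 1, 8, 0, 9, 10, 0, 11, 8, 0, 9]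
def rw876 : List ℕ := [10, 0, 11, 8, 0, 9, 10, 0, 1, 1, 11, 8, 1, 9, 10, 1, 11, 8, 1, 9, 0, 8, 0, 9]
def rw877 : List ℕ := [10, 0, 3, 1, 11, 8, 1, 9, 10, 1, 11, 8, 1, 9, 2, 8, 0, 9, 10, 0, 11, 8, 0, 9]
def rw878 : List ℕ := [10, 0, 11, 8, 0, 9, 10, 0, 0, 1, 11, 8, 1, 9, 10, 1, 11, 8, 1, 9, 1, 8, 0, 9]
def rw879 : List ℕ := [10, 0, 11, 8, 0, 9, 10, 0, 9, 1, 11, 8, 1, 9, 10, 1, 11, 8, 1, 9, 8, 8, 0, 9]
def rw880 : List ℕ := [10, 0, 9, 1, 11, 8, 1, 9, 10, 1, 11, 8, 1, 9, 8, 8, 0, 9, 10, 0, 11, 8, 0, 9]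
def rw881 : List ℕ := [10, 1, 11, 8, 1, 9, 8, 8, 0, 9, 10, 0, 11, 8, 0, 9, 10, 0, 9, 1, 11, 8, 1, 9]
def rw882 : List ℕ := [10, 12, 10, 12, 10, 12]
def rw883 : List ℕ := [10, 1, 11, 8, 1, 9, 4, 8, 0, 9, 10, 0, 11, 8, 0, 9, 10, 0, 5, 1, 11, 8, 1, 9]
def rw884 : List ℕ := [10, 0, 1, 1, 11, 8, 1, 9, 10, 1, 11, 8, 1, 9, 0, 8, 0, 9, 10, 0, 11, 8, 0, 9]
def rw885 : List ℕ := [10, 1, 11, 8, 1, 9, 6, 8, 0, 9, 10, 0, 11, 8, 0, 9, 10, 0, 7, 1, 11, 8, 1, 9]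
def rw886 : List ℕ := [10, 8, 10, 8, 10, 8]
def rw887 : List ℕ := [10, 1, 11, 8, 1, 9, 10, 8, 0, 9, 10, 0, 11, 8, 0, 9, 10, 0, 11, 1, 11, 8, 1, 9]
def rw888 : List ℕ := [10, 0, 5, 1, 11, 8, 1, 9, 10, 1, 11, 8, 1, 9, 4, 8, 0, 9, 10, 0, 11, 8, 0, 9]
def rw889 : List ℕ := [10, 0, 13, 1, 11, 8, 1, 9, 10, 1, 11, 8, 1, 9, 12, 8, 0, 9, 10, 0, 11, 8, 0, 9]
def rw890 : List ℕ := [10, 0, 11, 8, 0, 9, 10, 0, 5, 1, 11, 8, 1, 9, 10, 1, 11, 8, 1, 9, 4, 8, 0, 9]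
def rw891 : List ℕ := [10, 1, 11, 8, 1, 9, 11, 8, 0, 9, 10, 0, 11, 8, 0, 9, 10, 0, 10, 1, 11, 8, 1, 9]
def rw892 : List ℕ := [10, 0, 7, 1, 11, 8, 1, 9, 10, 1, 11, 8, 1, 9, 6, 8, 0, 9, 10, 0, 11, 8, 0, 9]
def rw893 : List ℕ := [10, 1, 11, 8, 1, 9, 12, 8, 0, 9, 10, 0, 11, 8, 0, 9, 10, 0, 13, 1, 11, 8, 1, 9]
def rw894 : List ℕ := [10, 0, 11, 8, 0, 9, 10, 0, 11, 1, 11, 8, 1, 9, 10, 1, 11, 8, 1, 9, 10, 8, 0, 9]
def rw895 : List ℕ := [10, 0, 11, 8, 0, 9, 10, 0, 3, 1, 11, 8, 1, 9, 10, 1, 11, 8, 1, 9, 2, 8, 0, 9]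
def rw896 : List ℕ := [10, 0, 11, 8, 0, 9, 10, 0, 7, 1, 11, 8, 1, 9, 10, 1, 11, 8, 1, 9, 6, 8, 0, 9]
def rw897 : List ℕ := [10, 1, 11, 8, 1, 9, 3, 8, 0, 9, 10, 0, 11, 8, 0, 9, 10, 0, 2, 1, 11, 8, 1, 9]
def rw898 : List ℕ := [10, 0, 11, 8, 0, 9, 10, 0, 13, 1, 11, 8, 1, 9, 10, 1, 11, 8, 1, 9, 12, 8, 0, 9]
def rw899 : List ℕ := [10, 0, 11, 8, 0, 9, 10, 0, 4, 1, 11, 8, 1, 9, 10, 1, 11, 8, 1, 9, 5, 8, 0, 9]
def rw900 : List ℕ := [10, 1, 11, 8, 1, 9, 13, 8, 0, 9, 10, 0, 11, 8, 0, 9, 10, 0, 12, 1, 11, 8, 1, 9]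
def rw901 : List ℕ := [10, 0, 2, 1, 11, 8, 1, 9, 10, 1, 11, 8, 1, 9, 3, 8, 0, 9, 10, 0, 11, 8, 0, 9]
def rw902 : List ℕ := [10, 0, 11, 1, 11, 8, 1, 9, 10, 1, 11, 8, 1, 9, 10, 8, 0, 9, 10, 0, 11, 8, 0, 9]
def rw903 : List ℕ := [10, 0, 10, 1, 11, 8, 1, 9, 10, 1, 11, 8, 1, 9, 11, 8, 0, 9, 10, 0, 11, 8, 0, 9]
def rw904 : List ℕ := [10, 0, 11, 8, 0, 9, 10, 0, 12, 1, 11, 8, 1, 9, 10, 1, 11, 8, 1, 9, 13, 8, 0, 9]
def rw905 : List ℕ := [10, 1, 11, 8, 1, 9, 7, 8, 0, 9, 10, 0, 11, 8, 0, 9, 10, 0, 6, 1, 11, 8, 1, 9]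
def rw906 : List ℕ := [11, 3, 13, 0, 0, 10, 1, 1, 12, 2]
def rw907 : List ℕ := [11, 13, 11, 13, 11, 13]
def rw908 : List ℕ := [11, 13, 11, 13, 11, 13]
def rw909 : List ℕ := [11, 1, 1, 12, 2, 10, 3, 13, 0, 0]
def rw910 : List ℕ := [11, 7, 11, 7]
def rw911 : List ℕ := [11, 3, 11, 3]
def rw912 : List ℕ := [11, 1, 11, 8, 1, 9, 10, 1, 11, 8, 1, 9, 10, 8, 0, 9, 10, 0, 11, 8, 0, 9, 10, 0]
def rw913 : List ℕ := [11, 11]
def rw914 : List ℕ := [11, 8, 1, 9, 10, 8, 0, 9, 10, 0, 11, 8, 0, 9, 10, 0, 11, 1, 11, 8, 1, 9, 10, 1]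
def rw915 : List ℕ := [11, 3, 11, 3]
def rw916 : List ℕ := [11, 8, 1, 9, 0, 8, 0, 9, 10, 0, 11, 8, 0, 9, 10, 0, 1, 1, 11, 8, 1, 9, 10, 1]
def rw917 : List ℕ := [11, 9, 11, 9, 11, 9]
def rw918 : List ℕ := [11, 8, 0, 9, 10, 0, 1, 1, 11, 8, 1, 9, 10, 1, 11, 8, 1, 9, 0, 8, 0, 9, 10, 0]
def rw919 : List ℕ := [11, 8, 1, 9, 10, 1, 11, 8, 1, 9, 0, 8, 0, 9, 10, 0, 11, 8, 0, 9, 10, 0, 1, 1]
def rw920 : List ℕ := [11, 8, 0, 9, 10, 0, 5, 1, 11, 8, 1, 9, 10, 1, 11, 8, 1, 9, 4, 8, 0, 9, 10, 0]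
def rw921 : List ℕ := [11, 8, 1, 9, 10, 1, 11, 8, 1, 9, 10, 8, 0, 9, 10, 0, 11, 8, 0, 9, 10, 0, 11, 1]
def rw922 : List ℕ := [11, 8, 0, 9, 10, 0, 9, 1, 11, 8, 1, 9, 10, 1, 11, 8, 1, 9, 8, 8, 0, 9, 10, 0]
def rw923 : List ℕ := [11, 8, 0, 9, 10, 0, 0, 1, 11, 8, 1, 9, 10, 1, 11, 8, 1, 9, 1, 8, 0, 9, 10, 0]
def rw924 : List ℕ := [11, 9, 11, 9, 11, 9]
def rw925 : List ℕ := [11, 8, 0, 9, 10, 0, 11, 1, 11, 8, 1, 9, 10, 1, 11, 8, 1, 9, 10, 8, 0, 9, 10, 0]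
def rw926 : List ℕ := [11, 5, 11, 5]
def rw927 : List ℕ := [11, 8, 1, 9, 10, 1, 11, 8, 1, 9, 6, 8, 0, 9, 10, 0, 11, 8, 0, 9, 10, 0, 7, 1]
def rw928 : List ℕ := [11, 7, 11, 7]
def rw929 : List ℕ := [11, 8, 1, 9, 10, 1, 11, 8, 1, 9, 4, 8, 0, 9, 10, 0, 11, 8, 0, 9, 10, 0, 5, 1]
def rw930 : List ℕ := [11, 8, 1, 9, 6, 8, 0, 9, 10, 0, 11, 8, 0, 9, 10, 0, 7, 1, 11, 8, 1, 9, 10, 1]
def rw931 : List ℕ := [11, 8, 1, 9, 2, 8, 0, 9, 10, 0, 11, 8, 0, 9, 10, 0, 3, 1, 11, 8, 1, 9, 10, 1]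
def rw932 : List ℕ := [11, 8, 0, 9, 10, 0, 3, 1, 11, 8, 1, 9, 10, 1, 11, 8, 1, 9, 2, 8, 0, 9, 10, 0]
def rw933 : List ℕ := [11, 8, 1, 9, 8, 8, 0, 9, 10, 0, 11, 8, 0, 9, 10, 0, 9, 1, 11, 8, 1, 9, 10, 1]
def rw934 : List ℕ := [11, 8, 1, 9, 10, 1, 11, 8, 1, 9, 2, 8, 0, 9, 10, 0, 11, 8, 0, 9, 10, 0, 3, 1]
def rw935 : List ℕ := [11, 8, 0, 9, 10, 0, 10, 1, 11, 8, 1, 9, 10, 1, 11, 8, 1, 9, 11, 8, 0, 9, 10, 0]
def rw936 : List ℕ := [11, 8, 1, 9, 10, 1, 11, 8, 1, 9, 1, 8, 0, 9, 10, 0, 11, 8, 0, 9, 10, 0, 0, 1]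
def rw937 : List ℕ := [11, 5, 11, 5]
def rw938 : List ℕ := [11, 8, 1, 9, 1, 8, 0, 9, 10, 0, 11, 8, 0, 9, 10, 0, 0, 1, 11, 8, 1, 9, 10, 1]
def rw939 : List ℕ := [11, 8, 1, 9, 4, 8, 0, 9, 10, 0, 11, 8, 0, 9, 10, 0, 5, 1, 11, 8, 1, 9, 10, 1]
def rw940 : List ℕ := [11, 13, 11, 13, 11, 13]
def rw941 : List ℕ := [11, 8, 1, 9, 10, 1, 11, 8, 1, 9, 8, 8, 0, 9, 10, 0, 11, 8, 0, 9, 10, 0, 9, 1]
def rw942 : List ℕ := [11, 8, 0, 9, 10, 0, 13, 1, 11, 8, 1, 9, 10, 1, 11, 8, 1, 9, 12, 8, 0, 9, 10, 0]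
def rw943 : List ℕ := [11, 8, 0, 9, 10, 0, 7, 1, 11, 8, 1, 9, 10, 1, 11, 8, 1, 9, 6, 8, 0, 9, 10, 0]
def rw944 : List ℕ := [11, 8, 1, 9, 12, 8, 0, 9, 10, 0, 11, 8, 0, 9, 10, 0, 13, 1, 11, 8, 1, 9, 10, 1]
def rw945 : List ℕ := [11, 9, 11, 9, 11, 9]
def rw946 : List ℕ := [11, 8, 1, 9, 10, 1, 11, 8, 1, 9, 12, 8, 0, 9, 10, 0, 11, 8, 0, 9, 10, 0, 13, 1]
def rw947 : List ℕ := [11, 8, 0, 9, 10, 0, 2, 1, 11, 8, 1, 9, 10, 1, 11, 8, 1, 9, 3, 8, 0, 9, 10, 0]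
def rw948 : List ℕ := [11, 8, 1, 9, 3, 8, 0, 9, 10, 0, 11, 8, 0, 9, 10, 0, 2, 1, 11, 8, 1, 9, 10, 1]
def rw949 : List ℕ := [11, 8, 0, 9, 10, 0, 6, 1, 11, 8, 1, 9, 10, 1, 11, 8, 1, 9, 7, 8, 0, 9, 10, 0]
def rw950 : List ℕ := [11, 8, 1, 9, 10, 1, 11, 8, 1, 9, 7, 8, 0, 9, 10, 0, 11, 8, 0, 9, 10, 0, 6, 1]
def rw951 : List ℕ := [12, 2, 1, 3, 13, 0, 0, 0, 1, 1]
def rw952 : List ℕ := [12, 1, 1, 12, 2, 13, 3, 13, 0, 0]
def rw953 : List ℕ := [12, 12]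
def rw954 : List ℕ := [12, 4, 12, 4]
def rw955 : List ℕ := [12, 6, 12, 6]
def rw956 : List ℕ := [12, 8, 12, 8]
def rw957 : List ℕ := [12, 4, 12, 4]
def rw958 : List ℕ := [12, 6, 12, 6]
def rw959 : List ℕ := [12, 8, 12, 8]
def rw960 : List ℕ := [12, 2, 12, 2]
def rw961 : List ℕ := [12, 2, 12, 2]
def rw962 : List ℕ := [12, 2, 7, 3, 13, 0, 0, 6, 1, 1]
def rw963 : List ℕ := [12, 2, 4, 3, 13, 0, 0, 5, 1, 1]
def rw964 : List ℕ := [12, 2, 1, 1, 12, 2, 1, 1]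
def rw965 : List ℕ := [12, 2, 5, 3, 13, 0, 0, 4, 1, 1]
def rw966 : List ℕ := [12, 10, 12, 10, 12, 10]
def rw967 : List ℕ := [12, 2, 1, 1, 12, 2, 1, 1]
def rw968 : List ℕ := [12, 0, 6, 0, 6, 8, 7, 1, 7, 1, 8, 13, 9, 0, 6, 0, 6, 9, 7, 1, 7, 1]
def rw969 : List ℕ := [12, 2, 7, 9, 7, 9, 7, 9, 7, 9]
def rw970 : List ℕ := [12, 10, 12, 10, 12, 10]
def rw971 : List ℕ := [12, 9, 0, 6, 0, 6, 9, 7, 1, 7, 1, 13, 0, 6, 0, 6, 8, 7, 1, 7, 1, 8]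
def rw972 : List ℕ := [12, 2, 0, 3, 13, 0, 0, 1, 1, 1]
def rw973 : List ℕ := [12, 2, 6, 3, 13, 0, 0, 7, 1, 1]
def rw974 : List ℕ := [12, 3, 13, 0, 0, 13, 1, 1, 12, 2]
def rw975 : List ℕ := [12, 2, 9, 3, 13, 0, 0, 8, 1, 1]
def rw976 : List ℕ := [12, 8, 0, 9, 10, 0, 11, 8, 0, 9, 10, 0, 13, 1, 11, 8, 1, 9, 10, 1, 11, 8, 1, 9]
def rw977 : List ℕ := [12, 2, 2, 3, 13, 0, 0, 3, 1, 1]
def rw978 : List ℕ := [12, 10, 12, 10, 12, 10]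
def rw979 : List ℕ := [12, 1, 11, 8, 1, 9, 10, 1, 11, 8, 1, 9, 13, 8, 0, 9, 10, 0, 11, 8, 0, 9, 10, 0]
def rw980 : List ℕ := [12, 2, 8, 3, 13, 0, 0, 9, 1, 1]
def rw981 : List ℕ := [12, 2, 3, 3, 13, 0, 0, 2, 1, 1]
def rw982 : List ℕ := [12, 2, 11, 3, 13, 0, 0, 10, 1, 1]
def rw983 : List ℕ := [12, 2, 13, 3, 13, 0, 0, 12, 1, 1]
def rw984 : List ℕ := [12, 2, 12, 3, 13, 0, 0, 13, 1, 1]
def rw985 : List ℕ := [12, 2, 10, 3, 13, 0, 0, 11, 1, 1]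
def rw986 : List ℕ := [13, 3, 13, 3]
def rw987 : List ℕ := [13, 1, 1, 12, 2, 12, 3, 13, 0, 0]
def rw988 : List ℕ := [13, 3, 13, 0, 0, 12, 1, 1, 12, 2]
def rw989 : List ℕ := [13, 13]
def rw990 : List ℕ := [13, 5, 13, 5]
def rw991 : List ℕ := [13, 0, 0, 0, 1, 1, 12, 2, 1, 3]
def rw992 : List ℕ := [13, 9, 0, 6, 0, 6, 9, 7, 1, 7, 1, 12, 0, 6, 0, 6, 8, 7, 1, 7, 1, 8]
def rw993 : List ℕ := [13, 9, 13, 9]
def rw994 : List ℕ := [13, 0, 0, 3, 13, 0, 0, 3]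
def rw995 : List ℕ := [13, 7, 13, 7]
def rw996 : List ℕ := [13, 7, 13, 7]
def rw997 : List ℕ := [13, 0, 0, 6, 1, 1, 12, 2, 7, 3]
def rw998 : List ℕ := [13, 0, 0, 1, 1, 1, 12, 2, 0, 3]
def rw999 : List ℕ := [13, 8, 6, 8, 6, 8, 6, 8, 6, 3]
def rw1000 : List ℕ := [13, 1, 11, 8, 1, 9, 10, 1, 11, 8, 1, 9, 12, 8, 0, 9, 10, 0, 11, 8, 0, 9, 10, 0]
def rw1001 : List ℕ := [13, 5, 13, 5]
def rw1002 : List ℕ := [13, 0, 0, 3, 1, 1, 12, 2, 2, 3]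
def rw1003 : List ℕ := [13, 0, 0, 8, 1, 1, 12, 2, 9, 3]
def rw1004 : List ℕ := [13, 0, 0, 5, 1, 1, 12, 2, 4, 3]
def rw1005 : List ℕ := [13, 0, 6, 0, 6, 8, 7, 1, 7, 1, 8, 12, 9, 0, 6, 0, 6, 9, 7, 1, 7, 1]
def rw1006 : List ℕ := [13, 0, 0, 4, 1, 1, 12, 2, 5, 3]
def rw1007 : List ℕ := [13, 9, 13, 9]
def rw1008 : List ℕ := [13, 8, 0, 9, 10, 0, 11, 8, 0, 9, 10, 0, 12, 1, 11, 8, 1, 9, 10, 1, 11, 8, 1, 9]
def rw1009 : List ℕ := [13, 11, 13, 11, 13, 11]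
def rw1010 : List ℕ := [13, 0, 0, 2, 1, 1, 12, 2, 3, 3]
def rw1011 : List ℕ := [13, 3, 13, 3]
def rw1012 : List ℕ := [13, 7, 0, 8, 0, 8, 7, 9, 1, 9, 1, 12, 0, 8, 0, 8, 6, 9, 1, 9, 1, 6]
def rw1013 : List ℕ := [13, 0, 0, 12, 1, 1, 12, 2, 13, 3]
def rw1014 : List ℕ := [13, 0, 0, 10, 1, 1, 12, 2, 11, 3]
def rw1015 : List ℕ := [13, 11, 13, 11, 13, 11]
def rw1016 : List ℕ := [13, 11, 13, 11, 13, 11]
def rw1017 : List ℕ := [13, 0, 0, 11, 1, 1, 12, 2, 10, 3]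
def rw1018 : List ℕ := [7, 1, 7, 1, 8, 4, 9, 0, 6, 0, 6, 9, 7, 1, 7, 1, 5, 0, 6, 0, 6, 8]
def rw1019 : List ℕ := [5, 7, 0, 8, 0, 8, 7, 9, 1, 9, 1, 4, 0, 8, 0, 8, 6, 9, 1, 9, 1, 6]
def rw1020 : List ℕ := [0, 0, 1, 1, 12, 2, 1, 3, 13, 0]
def rw1021 : List ℕ := [1, 8, 0, 6, 0, 6, 8, 7, 1, 7, 1, 8, 9, 9, 0, 6, 0, 6, 9, 7, 1, 7]
def rw1022 : List ℕ := [13, 0, 0, 3, 13, 0, 0, 3]
def rw1023 : List ℕ := [3, 13, 0, 0, 3, 13, 0, 0]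
def rw1024 : List ℕ := [0, 6, 0, 6, 8, 7, 1, 7, 1, 8, 0, 6, 0, 6, 8, 7, 1, 7, 1, 8]
def rw1025 : List ℕ := [1, 7, 1, 8, 0, 6, 0, 6, 8, 7, 1, 7, 1, 8, 9, 9, 0, 6, 0, 6, 9, 7]
def rw1026 : List ℕ := [7, 1, 11, 8, 1, 9, 10, 1, 11, 8, 1, 9, 6, 8, 0, 9, 10, 0, 11, 8, 0, 9, 10, 0]
def rw1027 : List ℕ := [7, 1, 7, 1, 3, 0, 6, 0, 6, 8, 7, 1, 7, 1, 8, 2, 9, 0, 6, 0, 6, 9]
def rw1028 : List ℕ := [11, 8, 0, 9, 10, 0, 11, 8, 0, 9, 10, 0, 10, 1, 11, 8, 1, 9, 10, 1, 11, 8, 1, 9]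
def rw1029 : List ℕ := [11, 11]
def rw1030 : List ℕ := [1, 0, 6, 0, 6, 8, 7, 1, 7, 1, 8, 0, 9, 0, 6, 0, 6, 9, 7, 1, 7, 1]
def rw1031 : List ℕ := [0, 8, 0, 9, 10, 0, 11, 8, 0, 9, 10, 0, 8, 0, 9, 10, 0, 11, 8, 0, 9, 10]
def rw1032 : List ℕ := [0, 0, 1, 1, 1, 12, 2, 0, 3, 13]
def rw1033 : List ℕ := [10, 1, 11, 8, 1, 9, 1, 11, 8, 1, 9, 10, 1, 11, 8, 1, 9, 1, 11, 8, 1, 9]
def rw1034 : List ℕ := [1, 9, 1, 11, 0, 8, 0, 8, 6, 9, 1, 9, 1, 6, 10, 7, 0, 8, 0, 8, 7, 9]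
def rw1035 : List ℕ := [10, 0, 8, 0, 9, 10, 0, 11, 8, 0, 9, 10, 0, 8, 0, 9, 10, 0, 11, 8, 0, 9]
def rw1036 : List ℕ := [6, 0, 6, 8, 7, 1, 7, 1, 8, 12, 9, 0, 6, 0, 6, 9, 7, 1, 7, 1, 13, 0]
def rw1037 : List ℕ := [1, 7, 0, 8, 0, 8, 7, 9, 1, 9, 1, 0, 0, 8, 0, 8, 6, 9, 1, 9, 1, 6]
def rw1038 : List ℕ := [4, 0, 8, 0, 8, 6, 9, 1, 9, 1, 6, 5, 7, 0, 8, 0, 8, 7, 9, 1, 9, 1]
def rw1039 : List ℕ := [6, 6]
def rw1040 : List ℕ := [10, 0, 8, 0, 8, 6, 9, 1, 9, 1, 6, 11, 7, 0, 8, 0, 8, 7, 9, 1, 9, 1]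
def rw1041 : List ℕ := [11, 7, 0, 8, 0, 8, 7, 9, 1, 9, 1, 10, 0, 8, 0, 8, 6, 9, 1, 9, 1, 6]
def rw1042 : List ℕ := [9, 7, 0, 8, 0, 8, 7, 9, 1, 9, 1, 8, 0, 8, 0, 8, 6, 9, 1, 9, 1, 6]
def rw1043 : List ℕ := [9, 8, 8, 0, 9, 10, 0, 11, 8, 0, 9, 10, 0, 9, 1, 11, 8, 1, 9, 10, 1, 11, 8, 1]
def rw1044 : List ℕ := [4, 8, 0, 9, 10, 0, 11, 8, 0, 9, 10, 0, 5, 1, 11, 8, 1, 9, 10, 1, 11, 8, 1, 9]
def rw1045 : List ℕ := [0, 7, 0, 8, 0, 8, 7, 9, 1, 9, 1, 1, 0, 8, 0, 8, 6, 9, 1, 9, 1, 6]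
def rw1046 : List ℕ := [1, 0, 0, 6, 0, 6, 8, 7, 1, 7, 1, 8, 1, 9, 0, 6, 0, 6, 9, 7, 1, 7]
def rw1047 : List ℕ := [1, 11, 8, 1, 9, 10, 1, 11, 8, 1, 9, 3, 8, 0, 9, 10, 0, 11, 8, 0, 9, 10, 0, 2]
def rw1048 : List ℕ := [10, 0, 6, 0, 6, 8, 7, 1, 7, 1, 8, 11, 9, 0, 6, 0, 6, 9, 7, 1, 7, 1]
def rw1049 : List ℕ := [5, 5]
def rw1050 : List ℕ := [0, 1, 11, 8, 1, 9, 10, 1, 11, 8, 1, 9, 1, 8, 0, 9, 10, 0, 11, 8, 0, 9, 10, 0]
def rw1051 : List ℕ := [13, 13]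
def rw1052 : List ℕ := [1, 0, 0, 8, 0, 8, 6, 9, 1, 9, 1, 6, 1, 7, 0, 8, 0, 8, 7, 9, 1, 9]
def rw1053 : List ℕ := [0, 0, 5, 1, 1, 12, 2, 4, 3, 13]
def rw1054 : List ℕ := [4, 4]
def rw1055 : List ℕ := [0, 9, 10, 0, 11, 8, 0, 9, 10, 0, 6, 1, 11, 8, 1, 9, 10, 1, 11, 8, 1, 9, 7, 8]
def rw1056 : List ℕ := [7, 7]
def rw1057 : List ℕ := [8, 8]
def rw1058 : List ℕ := [12, 0, 8, 0, 8, 6, 9, 1, 9, 1, 6, 13, 7, 0, 8, 0, 8, 7, 9, 1, 9, 1]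
def rw1059 : List ℕ := [9, 10, 1, 11, 8, 1, 9, 3, 8, 0, 9, 10, 0, 11, 8, 0, 9, 10, 0, 2, 1, 11, 8, 1]
def rw1060 : List ℕ := [10, 8, 0, 9, 10, 0, 11, 8, 0, 9, 10, 0, 11, 1, 11, 8, 1, 9, 10, 1, 11, 8, 1, 9]
def rw1061 : List ℕ := [11, 9, 0, 6, 0, 6, 9, 7, 1, 7, 1, 10, 0, 6, 0, 6, 8, 7, 1, 7, 1, 8]
def rw1062 : List ℕ := [2, 3, 3, 13, 0, 0, 2, 1, 1, 12]
def rw1063 : List ℕ := [0, 1, 1, 11, 8, 1, 9, 10, 1, 11, 8, 1, 9, 0, 8, 0, 9, 10, 0, 11, 8, 0, 9, 10]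
def rw1064 : List ℕ := [8, 0, 8, 6, 9, 1, 9, 1, 6, 2, 7, 0, 8, 0, 8, 7, 9, 1, 9, 1, 3, 0]
def rw1065 : List ℕ := [9, 10, 1, 11, 8, 1, 9, 7, 8, 0, 9, 10, 0, 11, 8, 0, 9, 10, 0, 6, 1, 11, 8, 1]
def rw1066 : List ℕ := [9, 9]
def rw1067 : List ℕ := [6, 8, 7, 1, 7, 1, 8, 12, 9, 0, 6, 0, 6, 9, 7, 1, 7, 1, 13, 0, 6, 0]
def rw1068 : List ℕ := [0, 6, 9, 7, 1, 7, 1, 5, 0, 6, 0, 6, 8, 7, 1, 7, 1, 8, 4, 9, 0, 6]
def rw1069 : List ℕ := [9, 5, 8, 0, 9, 10, 0, 11, 8, 0, 9, 10, 0, 4, 1, 11, 8, 1, 9, 10, 1, 11, 8, 1]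
def rw1070 : List ℕ := [8, 1, 9, 11, 8, 0, 9, 10, 0, 11, 8, 0, 9, 10, 0, 10, 1, 11, 8, 1, 9, 10, 1, 11]
def rw1071 : List ℕ := [9, 1, 9, 1, 6, 7, 7, 0, 8, 0, 8, 7, 9, 1, 9, 1, 6, 0, 8, 0, 8, 6]
def rw1072 : List ℕ := [5, 8, 0, 9, 10, 0, 11, 8, 0, 9, 10, 0, 4, 1, 11, 8, 1, 9, 10, 1, 11, 8, 1, 9]
def rw1073 : List ℕ := [3, 3]
def rw1074 : List ℕ := [0, 11, 8, 0, 9, 10, 0, 6, 1, 11, 8, 1, 9, 10, 1, 11, 8, 1, 9, 7, 8, 0, 9, 10]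
def rw1075 : List ℕ := [8, 0, 8, 0, 8, 6, 9, 1, 9, 1, 6, 9, 7, 0, 8, 0, 8, 7, 9, 1, 9, 1]
def rw1076 : List ℕ := [8, 6, 9, 1, 9, 1, 6, 4, 7, 0, 8, 0, 8, 7, 9, 1, 9, 1, 5, 0, 8, 0]
def rw1077 : List ℕ := [8, 0, 8, 6, 9, 1, 9, 1, 6, 8, 7, 0, 8, 0, 8, 7, 9, 1, 9, 1, 9, 0]
def rw1078 : List ℕ := [8, 1, 9, 10, 1, 11, 8, 1, 9, 3, 8, 0, 9, 10, 0, 11, 8, 0, 9, 10, 0, 2, 1, 11]
def rw1079 : List ℕ := [0, 0, 9, 1, 1, 12, 2, 8, 3, 13]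
def rw1080 : List ℕ := [1, 9, 1, 5, 0, 8, 0, 8, 6, 9, 1, 9, 1, 6, 4, 7, 0, 8, 0, 8, 7, 9]
noncomputable def relW (i : ℕ) : List ℕ := (Bool.rec (motive := fun _ => List ℕ) (Bool.rec (motive := fun _ => List ℕ) (Bool.rec (motive := fun _ => List ℕ) (Bool.rec (motive := fun _ => List ℕ) (Bool.rec (motive := fun _ => List ℕ) (Bool.rec (motive := fun _ => List ℕ) (Bool.rec (motive := fun _ => List ℕ) (Bool.rec (motive := fun _ => List ℕ) (Bool.rec (motive := fun _ => List ℕ) (Bool.rec (motive := fun _ => List ℕ) (Bool.rec (motive := fun _ => List ℕ) (rw0) (rw1) (Nat.ble 1 i)) (Bool.rec (motive := fun _ => List ℕ) (rw2) (rw3) (Nat.ble 3 i)) (Nat.ble 2 i)) (Bool.rec (motive := fun _ => List ℕ) (Bool.rec (motive := fun _ => List ℕ) (rw4) (rw5) (Nat.ble 5 i)) (Bool.rec (motive := fun _ => List ℕ) (rw6) (rw7) (Nat.ble 7 i)) (Nat.ble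 6 i)) (Nat.ble 4 i)) (Bool.rec (motive := fun _ => List ℕ) (Bool.rec (motive := fun _ => List ℕ) (Bool.rec (motive := fun _ => List ℕ) (rw8) (rw9) (Nat.ble 9 i)) (Bool.rec (motive := fun _ => List ℕ) (rw10) (rw11) (Nat.ble 11 i)) (Nat.ble 10 i)) (Bool.rec (motive := fun _ => List ℕ) (Bool.rec (motive := fun _ => List ℕ) (rw12) (rw13) (Nat.ble 13 i)) (Bool.rec (motive := fun _ => List ℕ) (rw14) (rw15) (Nat.ble 15 i)) (Nat.ble 14 i)) (Nat.ble 12 i)) (Nat.ble 8 i)) (Bool.rec (motive := fun _ => List ℕ) (Bool.rec (motive := fun _ => List ℕ) (Bool.rec (motive := fun _ => List ℕ) (Bool.rec (motive := fun _ => List ℕ) (rw16) (rw17) (Nat.ble 17 i)) (Bool.rec (motive := fun _ => List ℕ) (rw18) (rw19) (Nat.ble 19 i)) (Nat.ble 18 i)) (Bool.rec (motive := fun _ => List ℕ) (Bool.rec (motive := fun _ => List ℕ) (rw20) (rw21) (Nat.ble 21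 i)) (Bool.rec (motive := fun _ => List ℕ) (rw22) (rw23) (Nat.ble 23 i)) (Nat.ble 22 i)) (Nat.ble 20 i)) (Bool.rec (motive := fun _ => List ℕ) (Bool.rec (motive := fun _ => List ℕ) (Bool.rec (motive := fun _ => List ℕ) (rw24) (rw25) (Nat.ble 25 i)) (Bool.rec (motive := fun _ => List ℕ) (rw26) (rw27) (Nat.ble 27 i)) (Nat.ble 26 i)) (Bool.rec (motive := fun _ => List ℕ) (Bool.rec (motive := fun _ => List ℕ) (rw28) (rw29) (Nat.ble 29 i)) (Bool.rec (motive := fun _ => List ℕ) (rw30) (rw31) (Nat.ble 31 i)) (Nat.ble 30 i)) (Nat.ble 28 i)) (Nat.ble 24 i)) (Nat.ble 16 i)) (Bool.rec (motive := fun _ => List ℕ) (Bool.rec (motive := fun _ => List ℕ) (Bool.rec (motive := fun _ => List ℕ) (Bool.rec (motive := fun _ => List ℕ) (Bool.rec (motive := fun _ => List ℕ) (rw32) (rw33) (Nat.ble 33 i)) (Bool.rec (motive := fun _ => List ℕ) (rw34)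 (rw35) (Nat.ble 35 i)) (Nat.ble 34 i)) (Bool.rec (motive := fun _ => List ℕ) (Bool.rec (motive := fun _ => List ℕ) (rw36) (rw37) (Nat.ble 37 i)) (Bool.rec (motive := fun _ => List ℕ) (rw38) (rw39) (Nat.ble 39 i)) (Nat.ble 38 i)) (Nat.ble 36 i)) (Bool.rec (motive := fun _ => List ℕ) (Bool.rec (motive := fun _ => List ℕ) (Bool.rec (motive := fun _ => List ℕ) (rw40) (rw41) (Nat.ble 41 i)) (Bool.rec (motive := fun _ => List ℕ) (rw42) (rw43) (Nat.ble 43 i)) (Nat.ble 42 i)) (Bool.rec (motive := fun _ => List ℕ) (Bool.rec (motive := fun _ => List ℕ) (rw44) (rw45) (Nat.ble 45 i)) (Bool.rec (motive := fun _ => List ℕ) (rw46) (rw47) (Nat.ble 47 i)) (Nat.ble 46 i)) (Nat.ble 44 i)) (Nat.ble 40 i)) (Bool.rec (motive := fun _ => List ℕ) (Bool.rec (motive := fun _ => List ℕ) (Bool.rec (motive := fun _ => List ℕ) (Bool.rec (motive := fun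 _ => List ℕ) (rw48) (rw49) (Nat.ble 49 i)) (Bool.rec (motive := fun _ => List ℕ) (rw50) (rw51) (Nat.ble 51 i)) (Nat.ble 50 i)) (Bool.rec (motive := fun _ => List ℕ) (Bool.rec (motive := fun _ => List ℕ) (rw52) (rw53) (Nat.ble 53 i)) (Bool.rec (motive := fun _ => List ℕ) (rw54) (rw55) (Nat.ble 55 i)) (Nat.ble 54 i)) (Nat.ble 52 i)) (Bool.rec (motive := fun _ => List ℕ) (Bool.rec (motive := fun _ => List ℕ) (Bool.rec (motive := fun _ => List ℕ) (rw56) (rw57) (Nat.ble 57 i)) (Bool.rec (motive := fun _ => List ℕ) (rw58) (rw59) (Nat.ble 59 i)) (Nat.ble 58 i)) (Bool.rec (motive := fun _ => List ℕ) (Bool.rec (motive := fun _ => List ℕ) (rw60) (rw61) (Nat.ble 61 i)) (Bool.rec (motive := fun _ => List ℕ) (rw62) (rw63) (Nat.ble 63 i)) (Nat.ble 62 i)) (Nat.ble 60 i)) (Nat.ble 56 i)) (Nat.ble 48 i)) (Nat.ble 32 i)) (Bool.rec (motive :=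 fun _ => List ℕ) (Bool.rec (motive := fun _ => List ℕ) (Bool.rec (motive := fun _ => List ℕ) (Bool.rec (motive := fun _ => List ℕ) (Bool.rec (motive := fun _ => List ℕ) (Bool.rec (motive := fun _ => List ℕ) (rw64) (rw65) (Nat.ble 65 i)) (Bool.rec (motive := fun _ => List ℕ) (rw66) (rw67) (Nat.ble 67 i)) (Nat.ble 66 i)) (Bool.rec (motive := fun _ => List ℕ) (Bool.rec (motive := fun _ => List ℕ) (rw68) (rw69) (Nat.ble 69 i)) (Bool.rec (motive := fun _ => List ℕ) (rw70) (rw71) (Nat.ble 71 i)) (Nat.ble 70 i)) (Nat.ble 68 i)) (Bool.rec (motive := fun _ => List ℕ) (Bool.rec (motive := fun _ => List ℕ) (Bool.rec (motive := fun _ => List ℕ) (rw72) (rw73) (Nat.ble 73 i)) (Bool.rec (motive := fun _ => List ℕ) (rw74) (rw75) (Nat.ble 75 i)) (Nat.ble 74 i)) (Bool.rec (motive := fun _ => List ℕ) (Bool.rec (motive := fun _ => List ℕ) (rw76)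 (rw77) (Nat.ble 77 i)) (Bool.rec (motive := fun _ => List ℕ) (rw78) (rw79) (Nat.ble 79 i)) (Nat.ble 78 i)) (Nat.ble 76 i)) (Nat.ble 72 i)) (Bool.rec (motive := fun _ => List ℕ) (Bool.rec (motive := fun _ => List ℕ) (Bool.rec (motive := fun _ => List ℕ) (Bool.rec (motive := fun _ => List ℕ) (rw80) (rw81) (Nat.ble 81 i)) (Bool.rec (motive := fun _ => List ℕ) (rw82) (rw83) (Nat.ble 83 i)) (Nat.ble 82 i)) (Bool.rec (motive := fun _ => List ℕ) (Bool.rec (motive := fun _ => List ℕ) (rw84) (rw85) (Nat.ble 85 i)) (Bool.rec (motive := fun _ => List ℕ) (rw86) (rw87) (Nat.ble 87 i)) (Nat.ble 86 i)) (Nat.ble 84 i)) (Bool.rec (motive := fun _ => List ℕ) (Bool.rec (motive := fun _ => List ℕ) (Bool.rec (motive := fun _ => List ℕ) (rw88) (rw89) (Nat.ble 89 i)) (Bool.rec (motive := fun _ => List ℕ) (rw90) (rw91) (Nat.ble 91 i)) (Nat.ble 90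 i)) (Bool.rec (motive := fun _ => List ℕ) (Bool.rec (motive := fun _ => List ℕ) (rw92) (rw93) (Nat.ble 93 i)) (Bool.rec (motive := fun _ => List ℕ) (rw94) (rw95) (Nat.ble 95 i)) (Nat.ble 94 i)) (Nat.ble 92 i)) (Nat.ble 88 i)) (Nat.ble 80 i)) (Bool.rec (motive := fun _ => List ℕ) (Bool.rec (motive := fun _ => List ℕ) (Bool.rec (motive := fun _ => List ℕ) (Bool.rec (motive := fun _ => List ℕ) (Bool.rec (motive := fun _ => List ℕ) (rw96) (rw97) (Nat.ble 97 i)) (Bool.rec (motive := fun _ => List ℕ) (rw98) (rw99) (Nat.ble 99 i)) (Nat.ble 98 i)) (Bool.rec (motive := fun _ => List ℕ) (Bool.rec (motive := fun _ => List ℕ) (rw100) (rw101) (Nat.ble 101 i)) (Bool.rec (motive := fun _ => List ℕ) (rw102) (rw103) (Nat.ble 103 i)) (Nat.ble 102 i)) (Nat.ble 100 i)) (Bool.rec (motive := fun _ => List ℕ) (Bool.rec (motive := fun _ => List ℕ)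 (Bool.rec (motive := fun _ => List ℕ) (rw104) (rw105) (Nat.ble 105 i)) (Bool.rec (motive := fun _ => List ℕ) (rw106) (rw107) (Nat.ble 107 i)) (Nat.ble 106 i)) (Bool.rec (motive := fun _ => List ℕ) (Bool.rec (motive := fun _ => List ℕ) (rw108) (rw109) (Nat.ble 109 i)) (Bool.rec (motive := fun _ => List ℕ) (rw110) (rw111) (Nat.ble 111 i)) (Nat.ble 110 i)) (Nat.ble 108 i)) (Nat.ble 104 i)) (Bool.rec (motive := fun _ => List ℕ) (Bool.rec (motive := fun _ => List ℕ) (Bool.rec (motive := fun _ => List ℕ) (Bool.rec (motive := fun _ => List ℕ) (rw112) (rw113) (Nat.ble 113 i)) (Bool.rec (motive := fun _ => List ℕ) (rw114) (rw115) (Nat.ble 115 i)) (Nat.ble 114 i)) (Bool.rec (motive := fun _ => List ℕ) (Bool.rec (motive := fun _ => List ℕ) (rw116) (rw117) (Nat.ble 117 i)) (Bool.rec (motive := fun _ => List ℕ) (rw118) (rw119) (Nat.ble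 119 i)) (Nat.ble 118 i)) (Nat.ble 116 i)) (Bool.rec (motive := fun _ => List ℕ) (Bool.rec (motive := fun _ => List ℕ) (Bool.rec (motive := fun _ => List ℕ) (rw120) (rw121) (Nat.ble 121 i)) (Bool.rec (motive := fun _ => List ℕ) (rw122) (rw123) (Nat.ble 123 i)) (Nat.ble 122 i)) (Bool.rec (motive := fun _ => List ℕ) (Bool.rec (motive := fun _ => List ℕ) (rw124) (rw125) (Nat.ble 125 i)) (Bool.rec (motive := fun _ => List ℕ) (rw126) (rw127) (Nat.ble 127 i)) (Nat.ble 126 i)) (Nat.ble 124 i)) (Nat.ble 120 i)) (Nat.ble 112 i)) (Nat.ble 96 i)) (Nat.ble 64 i)) (Bool.rec (motive := fun _ => List ℕ) (Bool.rec (motive := fun _ => List ℕ) (Bool.rec (motive := fun _ => List ℕ) (Bool.rec (motive := fun _ => List ℕ) (Bool.rec (motive := fun _ => List ℕ) (Bool.rec (motive := fun _ => List ℕ) (Bool.rec (motive := fun _ => List ℕ) (rw128) (rw129)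 (Nat.ble 129 i)) (Bool.rec (motive := fun _ => List ℕ) (rw130) (rw131) (Nat.ble 131 i)) (Nat.ble 130 i)) (Bool.rec (motive := fun _ => List ℕ) (Bool.rec (motive := fun _ => List ℕ) (rw132) (rw133) (Nat.ble 133 i)) (Bool.rec (motive := fun _ => List ℕ) (rw134) (rw135) (Nat.ble 135 i)) (Nat.ble 134 i)) (Nat.ble 132 i)) (Bool.rec (motive := fun _ => List ℕ) (Bool.rec (motive := fun _ => List ℕ) (Bool.rec (motive := fun _ => List ℕ) (rw136) (rw137) (Nat.ble 137 i)) (Bool.rec (motive := fun _ => List ℕ) (rw138) (rw139) (Nat.ble 139 i)) (Nat.ble 138 i)) (Bool.rec (motive := fun _ => List ℕ) (Bool.rec (motive := fun _ => List ℕ) (rw140) (rw141) (Nat.ble 141 i)) (Bool.rec (motive := fun _ => List ℕ) (rw142) (rw143) (Nat.ble 143 i)) (Nat.ble 142 i)) (Nat.ble 140 i)) (Nat.ble 136 i)) (Bool.rec (motive := fun _ => List ℕ) (Bool.rec (motive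 := fun _ => List ℕ) (Bool.rec (motive := fun _ => List ℕ) (Bool.rec (motive := fun _ => List ℕ) (rw144) (rw145) (Nat.ble 145 i)) (Bool.rec (motive := fun _ => List ℕ) (rw146) (rw147) (Nat.ble 147 i)) (Nat.ble 146 i)) (Bool.rec (motive := fun _ => List ℕ) (Bool.rec (motive := fun _ => List ℕ) (rw148) (rw149) (Nat.ble 149 i)) (Bool.rec (motive := fun _ => List ℕ) (rw150) (rw151) (Nat.ble 151 i)) (Nat.ble 150 i)) (Nat.ble 148 i)) (Bool.rec (motive := fun _ => List ℕ) (Bool.rec (motive := fun _ => List ℕ) (Bool.rec (motive := fun _ => List ℕ) (rw152) (rw153) (Nat.ble 153 i)) (Bool.rec (motive := fun _ => List ℕ) (rw154) (rw155) (Nat.ble 155 i)) (Nat.ble 154 i)) (Bool.rec (motive := fun _ => List ℕ) (Bool.rec (motive := fun _ => List ℕ) (rw156) (rw157) (Nat.ble 157 i)) (Bool.rec (motive := fun _ => List ℕ) (rw158) (rw159) (Nat.ble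 159 i)) (Nat.ble 158 i)) (Nat.ble 156 i)) (Nat.ble 152 i)) (Nat.ble 144 i)) (Bool.rec (motive := fun _ => List ℕ) (Bool.rec (motive := fun _ => List ℕ) (Bool.rec (motive := fun _ => List ℕ) (Bool.rec (motive := fun _ => List ℕ) (Bool.rec (motive := fun _ => List ℕ) (rw160) (rw161) (Nat.ble 161 i)) (Bool.rec (motive := fun _ => List ℕ) (rw162) (rw163) (Nat.ble 163 i)) (Nat.ble 162 i)) (Bool.rec (motive := fun _ => List ℕ) (Bool.rec (motive := fun _ => List ℕ) (rw164) (rw165) (Nat.ble 165 i)) (Bool.rec (motive := fun _ => List ℕ) (rw166) (rw167) (Nat.ble 167 i)) (Nat.ble 166 i)) (Nat.ble 164 i)) (Bool.rec (motive := fun _ => List ℕ) (Bool.rec (motive := fun _ => List ℕ) (Bool.rec (motive := fun _ => List ℕ) (rw168) (rw169) (Nat.ble 169 i)) (Bool.rec (motive := fun _ => List ℕ) (rw170) (rw171) (Nat.ble 171 i)) (Nat.ble 170 i))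 (Bool.rec (motive := fun _ => List ℕ) (Bool.rec (motive := fun _ => List ℕ) (rw172) (rw173) (Nat.ble 173 i)) (Bool.rec (motive := fun _ => List ℕ) (rw174) (rw175) (Nat.ble 175 i)) (Nat.ble 174 i)) (Nat.ble 172 i)) (Nat.ble 168 i)) (Bool.rec (motive := fun _ => List ℕ) (Bool.rec (motive := fun _ => List ℕ) (Bool.rec (motive := fun _ => List ℕ) (Bool.rec (motive := fun _ => List ℕ) (rw176) (rw177) (Nat.ble 177 i)) (Bool.rec (motive := fun _ => List ℕ) (rw178) (rw179) (Nat.ble 179 i)) (Nat.ble 178 i)) (Bool.rec (motive := fun _ => List ℕ) (Bool.rec (motive := fun _ => List ℕ) (rw180) (rw181) (Nat.ble 181 i)) (Bool.rec (motive := fun _ => List ℕ) (rw182) (rw183) (Nat.ble 183 i)) (Nat.ble 182 i)) (Nat.ble 180 i)) (Bool.rec (motive := fun _ => List ℕ) (Bool.rec (motive := fun _ => List ℕ) (Bool.rec (motive := fun _ => List ℕ) (rw184)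 (rw185) (Nat.ble 185 i)) (Bool.rec (motive := fun _ => List ℕ) (rw186) (rw187) (Nat.ble 187 i)) (Nat.ble 186 i)) (Bool.rec (motive := fun _ => List ℕ) (Bool.rec (motive := fun _ => List ℕ) (rw188) (rw189) (Nat.ble 189 i)) (Bool.rec (motive := fun _ => List ℕ) (rw190) (rw191) (Nat.ble 191 i)) (Nat.ble 190 i)) (Nat.ble 188 i)) (Nat.ble 184 i)) (Nat.ble 176 i)) (Nat.ble 160 i)) (Bool.rec (motive := fun _ => List ℕ) (Bool.rec (motive := fun _ => List ℕ) (Bool.rec (motive := fun _ => List ℕ) (Bool.rec (motive := fun _ => List ℕ) (Bool.rec (motive := fun _ => List ℕ) (Bool.rec (motive := fun _ => List ℕ) (rw192) (rw193) (Nat.ble 193 i)) (Bool.rec (motive := fun _ => List ℕ) (rw194) (rw195) (Nat.ble 195 i)) (Nat.ble 194 i)) (Bool.rec (motive := fun _ => List ℕ) (Bool.rec (motive := fun _ => List ℕ) (rw196) (rw197) (Nat.ble 197 i))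 (Bool.rec (motive := fun _ => List ℕ) (rw198) (rw199) (Nat.ble 199 i)) (Nat.ble 198 i)) (Nat.ble 196 i)) (Bool.rec (motive := fun _ => List ℕ) (Bool.rec (motive := fun _ => List ℕ) (Bool.rec (motive := fun _ => List ℕ) (rw200) (rw201) (Nat.ble 201 i)) (Bool.rec (motive := fun _ => List ℕ) (rw202) (rw203) (Nat.ble 203 i)) (Nat.ble 202 i)) (Bool.rec (motive := fun _ => List ℕ) (Bool.rec (motive := fun _ => List ℕ) (rw204) (rw205) (Nat.ble 205 i)) (Bool.rec (motive := fun _ => List ℕ) (rw206) (rw207) (Nat.ble 207 i)) (Nat.ble 206 i)) (Nat.ble 204 i)) (Nat.ble 200 i)) (Bool.rec (motive := fun _ => List ℕ) (Bool.rec (motive := fun _ => List ℕ) (Bool.rec (motive := fun _ => List ℕ) (Bool.rec (motive := fun _ => List ℕ) (rw208) (rw209) (Nat.ble 209 i)) (Bool.rec (motive := fun _ => List ℕ) (rw210) (rw211) (Nat.ble 211 i)) (Nat.ble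 210 i)) (Bool.rec (motive := fun _ => List ℕ) (Bool.rec (motive := fun _ => List ℕ) (rw212) (rw213) (Nat.ble 213 i)) (Bool.rec (motive := fun _ => List ℕ) (rw214) (rw215) (Nat.ble 215 i)) (Nat.ble 214 i)) (Nat.ble 212 i)) (Bool.rec (motive := fun _ => List ℕ) (Bool.rec (motive := fun _ => List ℕ) (Bool.rec (motive := fun _ => List ℕ) (rw216) (rw217) (Nat.ble 217 i)) (Bool.rec (motive := fun _ => List ℕ) (rw218) (rw219) (Nat.ble 219 i)) (Nat.ble 218 i)) (Bool.rec (motive := fun _ => List ℕ) (Bool.rec (motive := fun _ => List ℕ) (rw220) (rw221) (Nat.ble 221 i)) (Bool.rec (motive := fun _ => List ℕ) (rw222) (rw223) (Nat.ble 223 i)) (Nat.ble 222 i)) (Nat.ble 220 i)) (Nat.ble 216 i)) (Nat.ble 208 i)) (Bool.rec (motive := fun _ => List ℕ) (Bool.rec (motive := fun _ => List ℕ) (Bool.rec (motive := fun _ => List ℕ) (Bool.rec (motive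 := fun _ => List ℕ) (Bool.rec (motive := fun _ => List ℕ) (rw224) (rw225) (Nat.ble 225 i)) (Bool.rec (motive := fun _ => List ℕ) (rw226) (rw227) (Nat.ble 227 i)) (Nat.ble 226 i)) (Bool.rec (motive := fun _ => List ℕ) (Bool.rec (motive := fun _ => List ℕ) (rw228) (rw229) (Nat.ble 229 i)) (Bool.rec (motive := fun _ => List ℕ) (rw230) (rw231) (Nat.ble 231 i)) (Nat.ble 230 i)) (Nat.ble 228 i)) (Bool.rec (motive := fun _ => List ℕ) (Bool.rec (motive := fun _ => List ℕ) (Bool.rec (motive := fun _ => List ℕ) (rw232) (rw233) (Nat.ble 233 i)) (Bool.rec (motive := fun _ => List ℕ) (rw234) (rw235) (Nat.ble 235 i)) (Nat.ble 234 i)) (Bool.rec (motive := fun _ => List ℕ) (Bool.rec (motive := fun _ => List ℕ) (rw236) (rw237) (Nat.ble 237 i)) (Bool.rec (motive := fun _ => List ℕ) (rw238) (rw239) (Nat.ble 239 i)) (Nat.ble 238 i)) (Nat.ble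 236 i)) (Nat.ble 232 i)) (Bool.rec (motive := fun _ => List ℕ) (Bool.rec (motive := fun _ => List ℕ) (Bool.rec (motive := fun _ => List ℕ) (Bool.rec (motive := fun _ => List ℕ) (rw240) (rw241) (Nat.ble 241 i)) (Bool.rec (motive := fun _ => List ℕ) (rw242) (rw243) (Nat.ble 243 i)) (Nat.ble 242 i)) (Bool.rec (motive := fun _ => List ℕ) (Bool.rec (motive := fun _ => List ℕ) (rw244) (rw245) (Nat.ble 245 i)) (Bool.rec (motive := fun _ => List ℕ) (rw246) (rw247) (Nat.ble 247 i)) (Nat.ble 246 i)) (Nat.ble 244 i)) (Bool.rec (motive := fun _ => List ℕ) (Bool.rec (motive := fun _ => List ℕ) (Bool.rec (motive := fun _ => List ℕ) (rw248) (rw249) (Nat.ble 249 i)) (Bool.rec (motive := fun _ => List ℕ) (rw250) (rw251) (Nat.ble 251 i)) (Nat.ble 250 i)) (Bool.rec (motive := fun _ => List ℕ) (Bool.rec (motive := fun _ => List ℕ) (rw252) (rw253)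 (Nat.ble 253 i)) (Bool.rec (motive := fun _ => List ℕ) (rw254) (rw255) (Nat.ble 255 i)) (Nat.ble 254 i)) (Nat.ble 252 i)) (Nat.ble 248 i)) (Nat.ble 240 i)) (Nat.ble 224 i)) (Nat.ble 192 i)) (Nat.ble 128 i)) (Bool.rec (motive := fun _ => List ℕ) (Bool.rec (motive := fun _ => List ℕ) (Bool.rec (motive := fun _ => List ℕ) (Bool.rec (motive := fun _ => List ℕ) (Bool.rec (motive := fun _ => List ℕ) (Bool.rec (motive := fun _ => List ℕ) (Bool.rec (motive := fun _ => List ℕ) (Bool.rec (motive := fun _ => List ℕ) (rw256) (rw257) (Nat.ble 257 i)) (Bool.rec (motive := fun _ => List ℕ) (rw258) (rw259) (Nat.ble 259 i)) (Nat.ble 258 i)) (Bool.rec (motive := fun _ => List ℕ) (Bool.rec (motive := fun _ => List ℕ) (rw260) (rw261) (Nat.ble 261 i)) (Bool.rec (motive := fun _ => List ℕ) (rw262) (rw263) (Nat.ble 263 i)) (Nat.ble 262 i)) (Nat.ble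 260 i)) (Bool.rec (motive := fun _ => List ℕ) (Bool.rec (motive := fun _ => List ℕ) (Bool.rec (motive := fun _ => List ℕ) (rw264) (rw265) (Nat.ble 265 i)) (Bool.rec (motive := fun _ => List ℕ) (rw266) (rw267) (Nat.ble 267 i)) (Nat.ble 266 i)) (Bool.rec (motive := fun _ => List ℕ) (Bool.rec (motive := fun _ => List ℕ) (rw268) (rw269) (Nat.ble 269 i)) (Bool.rec (motive := fun _ => List ℕ) (rw270) (rw271) (Nat.ble 271 i)) (Nat.ble 270 i)) (Nat.ble 268 i)) (Nat.ble 264 i)) (Bool.rec (motive := fun _ => List ℕ) (Bool.rec (motive := fun _ => List ℕ) (Bool.rec (motive := fun _ => List ℕ) (Bool.rec (motive := fun _ => List ℕ) (rw272) (rw273) (Nat.ble 273 i)) (Bool.rec (motive := fun _ => List ℕ) (rw274) (rw275) (Nat.ble 275 i)) (Nat.ble 274 i)) (Bool.rec (motive := fun _ => List ℕ) (Bool.rec (motive := fun _ => List ℕ) (rw276) (rw277)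 (Nat.ble 277 i)) (Bool.rec (motive := fun _ => List ℕ) (rw278) (rw279) (Nat.ble 279 i)) (Nat.ble 278 i)) (Nat.ble 276 i)) (Bool.rec (motive := fun _ => List ℕ) (Bool.rec (motive := fun _ => List ℕ) (Bool.rec (motive := fun _ => List ℕ) (rw280) (rw281) (Nat.ble 281 i)) (Bool.rec (motive := fun _ => List ℕ) (rw282) (rw283) (Nat.ble 283 i)) (Nat.ble 282 i)) (Bool.rec (motive := fun _ => List ℕ) (Bool.rec (motive := fun _ => List ℕ) (rw284) (rw285) (Nat.ble 285 i)) (Bool.rec (motive := fun _ => List ℕ) (rw286) (rw287) (Nat.ble 287 i)) (Nat.ble 286 i)) (Nat.ble 284 i)) (Nat.ble 280 i)) (Nat.ble 272 i)) (Bool.rec (motive := fun _ => List ℕ) (Bool.rec (motive := fun _ => List ℕ) (Bool.rec (motive := fun _ => List ℕ) (Bool.rec (motive := fun _ => List ℕ) (Bool.rec (motive := fun _ => List ℕ) (rw288) (rw289) (Nat.ble 289 i)) (Bool.rec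 (motive := fun _ => List ℕ) (rw290) (rw291) (Nat.ble 291 i)) (Nat.ble 290 i)) (Bool.rec (motive := fun _ => List ℕ) (Bool.rec (motive := fun _ => List ℕ) (rw292) (rw293) (Nat.ble 293 i)) (Bool.rec (motive := fun _ => List ℕ) (rw294) (rw295) (Nat.ble 295 i)) (Nat.ble 294 i)) (Nat.ble 292 i)) (Bool.rec (motive := fun _ => List ℕ) (Bool.rec (motive := fun _ => List ℕ) (Bool.rec (motive := fun _ => List ℕ) (rw296) (rw297) (Nat.ble 297 i)) (Bool.rec (motive := fun _ => List ℕ) (rw298) (rw299) (Nat.ble 299 i)) (Nat.ble 298 i)) (Bool.rec (motive := fun _ => List ℕ) (Bool.rec (motive := fun _ => List ℕ) (rw300) (rw301) (Nat.ble 301 i)) (Bool.rec (motive := fun _ => List ℕ) (rw302) (rw303) (Nat.ble 303 i)) (Nat.ble 302 i)) (Nat.ble 300 i)) (Nat.ble 296 i)) (Bool.rec (motive := fun _ => List ℕ) (Bool.rec (motive := fun _ => List ℕ)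 (Bool.rec (motive := fun _ => List ℕ) (Bool.rec (motive := fun _ => List ℕ) (rw304) (rw305) (Nat.ble 305 i)) (Bool.rec (motive := fun _ => List ℕ) (rw306) (rw307) (Nat.ble 307 i)) (Nat.ble 306 i)) (Bool.rec (motive := fun _ => List ℕ) (Bool.rec (motive := fun _ => List ℕ) (rw308) (rw309) (Nat.ble 309 i)) (Bool.rec (motive := fun _ => List ℕ) (rw310) (rw311) (Nat.ble 311 i)) (Nat.ble 310 i)) (Nat.ble 308 i)) (Bool.rec (motive := fun _ => List ℕ) (Bool.rec (motive := fun _ => List ℕ) (Bool.rec (motive := fun _ => List ℕ) (rw312) (rw313) (Nat.ble 313 i)) (Bool.rec (motive := fun _ => List ℕ) (rw314) (rw315) (Nat.ble 315 i)) (Nat.ble 314 i)) (Bool.rec (motive := fun _ => List ℕ) (Bool.rec (motive := fun _ => List ℕ) (rw316) (rw317) (Nat.ble 317 i)) (Bool.rec (motive := fun _ => List ℕ) (rw318) (rw319) (Nat.ble 319 i)) (Nat.ble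 318 i)) (Nat.ble 316 i)) (Nat.ble 312 i)) (Nat.ble 304 i)) (Nat.ble 288 i)) (Bool.rec (motive := fun _ => List ℕ) (Bool.rec (motive := fun _ => List ℕ) (Bool.rec (motive := fun _ => List ℕ) (Bool.rec (motive := fun _ => List ℕ) (Bool.rec (motive := fun _ => List ℕ) (Bool.rec (motive := fun _ => List ℕ) (rw320) (rw321) (Nat.ble 321 i)) (Bool.rec (motive := fun _ => List ℕ) (rw322) (rw323) (Nat.ble 323 i)) (Nat.ble 322 i)) (Bool.rec (motive := fun _ => List ℕ) (Bool.rec (motive := fun _ => List ℕ) (rw324) (rw325) (Nat.ble 325 i)) (Bool.rec (motive := fun _ => List ℕ) (rw326) (rw327) (Nat.ble 327 i)) (Nat.ble 326 i)) (Nat.ble 324 i)) (Bool.rec (motive := fun _ => List ℕ) (Bool.rec (motive := fun _ => List ℕ) (Bool.rec (motive := fun _ => List ℕ) (rw328) (rw329) (Nat.ble 329 i)) (Bool.rec (motive := fun _ => List ℕ) (rw330) (rw331)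 (Nat.ble 331 i)) (Nat.ble 330 i)) (Bool.rec (motive := fun _ => List ℕ) (Bool.rec (motive := fun _ => List ℕ) (rw332) (rw333) (Nat.ble 333 i)) (Bool.rec (motive := fun _ => List ℕ) (rw334) (rw335) (Nat.ble 335 i)) (Nat.ble 334 i)) (Nat.ble 332 i)) (Nat.ble 328 i)) (Bool.rec (motive := fun _ => List ℕ) (Bool.rec (motive := fun _ => List ℕ) (Bool.rec (motive := fun _ => List ℕ) (Bool.rec (motive := fun _ => List ℕ) (rw336) (rw337) (Nat.ble 337 i)) (Bool.rec (motive := fun _ => List ℕ) (rw338) (rw339) (Nat.ble 339 i)) (Nat.ble 338 i)) (Bool.rec (motive := fun _ => List ℕ) (Bool.rec (motive := fun _ => List ℕ) (rw340) (rw341) (Nat.ble 341 i)) (Bool.rec (motive := fun _ => List ℕ) (rw342) (rw343) (Nat.ble 343 i)) (Nat.ble 342 i)) (Nat.ble 340 i)) (Bool.rec (motive := fun _ => List ℕ) (Bool.rec (motive := fun _ => List ℕ) (Bool.rec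 (motive := fun _ => List ℕ) (rw344) (rw345) (Nat.ble 345 i)) (Bool.rec (motive := fun _ => List ℕ) (rw346) (rw347) (Nat.ble 347 i)) (Nat.ble 346 i)) (Bool.rec (motive := fun _ => List ℕ) (Bool.rec (motive := fun _ => List ℕ) (rw348) (rw349) (Nat.ble 349 i)) (Bool.rec (motive := fun _ => List ℕ) (rw350) (rw351) (Nat.ble 351 i)) (Nat.ble 350 i)) (Nat.ble 348 i)) (Nat.ble 344 i)) (Nat.ble 336 i)) (Bool.rec (motive := fun _ => List ℕ) (Bool.rec (motive := fun _ => List ℕ) (Bool.rec (motive := fun _ => List ℕ) (Bool.rec (motive := fun _ => List ℕ) (Bool.rec (motive := fun _ => List ℕ) (rw352) (rw353) (Nat.ble 353 i)) (Bool.rec (motive := fun _ => List ℕ) (rw354) (rw355) (Nat.ble 355 i)) (Nat.ble 354 i)) (Bool.rec (motive := fun _ => List ℕ) (Bool.rec (motive := fun _ => List ℕ) (rw356) (rw357) (Nat.ble 357 i)) (Bool.rec (motive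 := fun _ => List ℕ) (rw358) (rw359) (Nat.ble 359 i)) (Nat.ble 358 i)) (Nat.ble 356 i)) (Bool.rec (motive := fun _ => List ℕ) (Bool.rec (motive := fun _ => List ℕ) (Bool.rec (motive := fun _ => List ℕ) (rw360) (rw361) (Nat.ble 361 i)) (Bool.rec (motive := fun _ => List ℕ) (rw362) (rw363) (Nat.ble 363 i)) (Nat.ble 362 i)) (Bool.rec (motive := fun _ => List ℕ) (Bool.rec (motive := fun _ => List ℕ) (rw364) (rw365) (Nat.ble 365 i)) (Bool.rec (motive := fun _ => List ℕ) (rw366) (rw367) (Nat.ble 367 i)) (Nat.ble 366 i)) (Nat.ble 364 i)) (Nat.ble 360 i)) (Bool.rec (motive := fun _ => List ℕ) (Bool.rec (motive := fun _ => List ℕ) (Bool.rec (motive := fun _ => List ℕ) (Bool.rec (motive := fun _ => List ℕ) (rw368) (rw369) (Nat.ble 369 i)) (Bool.rec (motive := fun _ => List ℕ) (rw370) (rw371) (Nat.ble 371 i)) (Nat.ble 370 i)) (Bool.rec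 (motive := fun _ => List ℕ) (Bool.rec (motive := fun _ => List ℕ) (rw372) (rw373) (Nat.ble 373 i)) (Bool.rec (motive := fun _ => List ℕ) (rw374) (rw375) (Nat.ble 375 i)) (Nat.ble 374 i)) (Nat.ble 372 i)) (Bool.rec (motive := fun _ => List ℕ) (Bool.rec (motive := fun _ => List ℕ) (Bool.rec (motive := fun _ => List ℕ) (rw376) (rw377) (Nat.ble 377 i)) (Bool.rec (motive := fun _ => List ℕ) (rw378) (rw379) (Nat.ble 379 i)) (Nat.ble 378 i)) (Bool.rec (motive := fun _ => List ℕ) (Bool.rec (motive := fun _ => List ℕ) (rw380) (rw381) (Nat.ble 381 i)) (Bool.rec (motive := fun _ => List ℕ) (rw382) (rw383) (Nat.ble 383 i)) (Nat.ble 382 i)) (Nat.ble 380 i)) (Nat.ble 376 i)) (Nat.ble 368 i)) (Nat.ble 352 i)) (Nat.ble 320 i)) (Bool.rec (motive := fun _ => List ℕ) (Bool.rec (motive := fun _ => List ℕ) (Bool.rec (motive := fun _ => List ℕ)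 (Bool.rec (motive := fun _ => List ℕ) (Bool.rec (motive := fun _ => List ℕ) (Bool.rec (motive := fun _ => List ℕ) (Bool.rec (motive := fun _ => List ℕ) (rw384) (rw385) (Nat.ble 385 i)) (Bool.rec (motive := fun _ => List ℕ) (rw386) (rw387) (Nat.ble 387 i)) (Nat.ble 386 i)) (Bool.rec (motive := fun _ => List ℕ) (Bool.rec (motive := fun _ => List ℕ) (rw388) (rw389) (Nat.ble 389 i)) (Bool.rec (motive := fun _ => List ℕ) (rw390) (rw391) (Nat.ble 391 i)) (Nat.ble 390 i)) (Nat.ble 388 i)) (Bool.rec (motive := fun _ => List ℕ) (Bool.rec (motive := fun _ => List ℕ) (Bool.rec (motive := fun _ => List ℕ) (rw392) (rw393) (Nat.ble 393 i)) (Bool.rec (motive := fun _ => List ℕ) (rw394) (rw395) (Nat.ble 395 i)) (Nat.ble 394 i)) (Bool.rec (motive := fun _ => List ℕ) (Bool.rec (motive := fun _ => List ℕ) (rw396) (rw397) (Nat.ble 397 i)) (Bool.rec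 (motive := fun _ => List ℕ) (rw398) (rw399) (Nat.ble 399 i)) (Nat.ble 398 i)) (Nat.ble 396 i)) (Nat.ble 392 i)) (Bool.rec (motive := fun _ => List ℕ) (Bool.rec (motive := fun _ => List ℕ) (Bool.rec (motive := fun _ => List ℕ) (Bool.rec (motive := fun _ => List ℕ) (rw400) (rw401) (Nat.ble 401 i)) (Bool.rec (motive := fun _ => List ℕ) (rw402) (rw403) (Nat.ble 403 i)) (Nat.ble 402 i)) (Bool.rec (motive := fun _ => List ℕ) (Bool.rec (motive := fun _ => List ℕ) (rw404) (rw405) (Nat.ble 405 i)) (Bool.rec (motive := fun _ => List ℕ) (rw406) (rw407) (Nat.ble 407 i)) (Nat.ble 406 i)) (Nat.ble 404 i)) (Bool.rec (motive := fun _ => List ℕ) (Bool.rec (motive := fun _ => List ℕ) (Bool.rec (motive := fun _ => List ℕ) (rw408) (rw409) (Nat.ble 409 i)) (Bool.rec (motive := fun _ => List ℕ) (rw410) (rw411) (Nat.ble 411 i)) (Nat.ble 410 i))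 (Bool.rec (motive := fun _ => List ℕ) (Bool.rec (motive := fun _ => List ℕ) (rw412) (rw413) (Nat.ble 413 i)) (Bool.rec (motive := fun _ => List ℕ) (rw414) (rw415) (Nat.ble 415 i)) (Nat.ble 414 i)) (Nat.ble 412 i)) (Nat.ble 408 i)) (Nat.ble 400 i)) (Bool.rec (motive := fun _ => List ℕ) (Bool.rec (motive := fun _ => List ℕ) (Bool.rec (motive := fun _ => List ℕ) (Bool.rec (motive := fun _ => List ℕ) (Bool.rec (motive := fun _ => List ℕ) (rw416) (rw417) (Nat.ble 417 i)) (Bool.rec (motive := fun _ => List ℕ) (rw418) (rw419) (Nat.ble 419 i)) (Nat.ble 418 i)) (Bool.rec (motive := fun _ => List ℕ) (Bool.rec (motive := fun _ => List ℕ) (rw420) (rw421) (Nat.ble 421 i)) (Bool.rec (motive := fun _ => List ℕ) (rw422) (rw423) (Nat.ble 423 i)) (Nat.ble 422 i)) (Nat.ble 420 i)) (Bool.rec (motive := fun _ => List ℕ) (Bool.rec (motive := fun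 _ => List ℕ) (Bool.rec (motive := fun _ => List ℕ) (rw424) (rw425) (Nat.ble 425 i)) (Bool.rec (motive := fun _ => List ℕ) (rw426) (rw427) (Nat.ble 427 i)) (Nat.ble 426 i)) (Bool.rec (motive := fun _ => List ℕ) (Bool.rec (motive := fun _ => List ℕ) (rw428) (rw429) (Nat.ble 429 i)) (Bool.rec (motive := fun _ => List ℕ) (rw430) (rw431) (Nat.ble 431 i)) (Nat.ble 430 i)) (Nat.ble 428 i)) (Nat.ble 424 i)) (Bool.rec (motive := fun _ => List ℕ) (Bool.rec (motive := fun _ => List ℕ) (Bool.rec (motive := fun _ => List ℕ) (Bool.rec (motive := fun _ => List ℕ) (rw432) (rw433) (Nat.ble 433 i)) (Bool.rec (motive := fun _ => List ℕ) (rw434) (rw435) (Nat.ble 435 i)) (Nat.ble 434 i)) (Bool.rec (motive := fun _ => List ℕ) (Bool.rec (motive := fun _ => List ℕ) (rw436) (rw437) (Nat.ble 437 i)) (Bool.rec (motive := fun _ => List ℕ) (rw438) (rw439)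 (Nat.ble 439 i)) (Nat.ble 438 i)) (Nat.ble 436 i)) (Bool.rec (motive := fun _ => List ℕ) (Bool.rec (motive := fun _ => List ℕ) (Bool.rec (motive := fun _ => List ℕ) (rw440) (rw441) (Nat.ble 441 i)) (Bool.rec (motive := fun _ => List ℕ) (rw442) (rw443) (Nat.ble 443 i)) (Nat.ble 442 i)) (Bool.rec (motive := fun _ => List ℕ) (Bool.rec (motive := fun _ => List ℕ) (rw444) (rw445) (Nat.ble 445 i)) (Bool.rec (motive := fun _ => List ℕ) (rw446) (rw447) (Nat.ble 447 i)) (Nat.ble 446 i)) (Nat.ble 444 i)) (Nat.ble 440 i)) (Nat.ble 432 i)) (Nat.ble 416 i)) (Bool.rec (motive := fun _ => List ℕ) (Bool.rec (motive := fun _ => List ℕ) (Bool.rec (motive := fun _ => List ℕ) (Bool.rec (motive := fun _ => List ℕ) (Bool.rec (motive := fun _ => List ℕ) (Bool.rec (motive := fun _ => List ℕ) (rw448) (rw449) (Nat.ble 449 i)) (Bool.rec (motive := fun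 _ => List ℕ) (rw450) (rw451) (Nat.ble 451 i)) (Nat.ble 450 i)) (Bool.rec (motive := fun _ => List ℕ) (Bool.rec (motive := fun _ => List ℕ) (rw452) (rw453) (Nat.ble 453 i)) (Bool.rec (motive := fun _ => List ℕ) (rw454) (rw455) (Nat.ble 455 i)) (Nat.ble 454 i)) (Nat.ble 452 i)) (Bool.rec (motive := fun _ => List ℕ) (Bool.rec (motive := fun _ => List ℕ) (Bool.rec (motive := fun _ => List ℕ) (rw456) (rw457) (Nat.ble 457 i)) (Bool.rec (motive := fun _ => List ℕ) (rw458) (rw459) (Nat.ble 459 i)) (Nat.ble 458 i)) (Bool.rec (motive := fun _ => List ℕ) (Bool.rec (motive := fun _ => List ℕ) (rw460) (rw461) (Nat.ble 461 i)) (Bool.rec (motive := fun _ => List ℕ) (rw462) (rw463) (Nat.ble 463 i)) (Nat.ble 462 i)) (Nat.ble 460 i)) (Nat.ble 456 i)) (Bool.rec (motive := fun _ => List ℕ) (Bool.rec (motive := fun _ => List ℕ) (Bool.rec (motive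 := fun _ => List ℕ) (Bool.rec (motive := fun _ => List ℕ) (rw464) (rw465) (Nat.ble 465 i)) (Bool.rec (motive := fun _ => List ℕ) (rw466) (rw467) (Nat.ble 467 i)) (Nat.ble 466 i)) (Bool.rec (motive := fun _ => List ℕ) (Bool.rec (motive := fun _ => List ℕ) (rw468) (rw469) (Nat.ble 469 i)) (Bool.rec (motive := fun _ => List ℕ) (rw470) (rw471) (Nat.ble 471 i)) (Nat.ble 470 i)) (Nat.ble 468 i)) (Bool.rec (motive := fun _ => List ℕ) (Bool.rec (motive := fun _ => List ℕ) (Bool.rec (motive := fun _ => List ℕ) (rw472) (rw473) (Nat.ble 473 i)) (Bool.rec (motive := fun _ => List ℕ) (rw474) (rw475) (Nat.ble 475 i)) (Nat.ble 474 i)) (Bool.rec (motive := fun _ => List ℕ) (Bool.rec (motive := fun _ => List ℕ) (rw476) (rw477) (Nat.ble 477 i)) (Bool.rec (motive := fun _ => List ℕ) (rw478) (rw479) (Nat.ble 479 i)) (Nat.ble 478 i)) (Nat.ble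 476 i)) (Nat.ble 472 i)) (Nat.ble 464 i)) (Bool.rec (motive := fun _ => List ℕ) (Bool.rec (motive := fun _ => List ℕ) (Bool.rec (motive := fun _ => List ℕ) (Bool.rec (motive := fun _ => List ℕ) (Bool.rec (motive := fun _ => List ℕ) (rw480) (rw481) (Nat.ble 481 i)) (Bool.rec (motive := fun _ => List ℕ) (rw482) (rw483) (Nat.ble 483 i)) (Nat.ble 482 i)) (Bool.rec (motive := fun _ => List ℕ) (Bool.rec (motive := fun _ => List ℕ) (rw484) (rw485) (Nat.ble 485 i)) (Bool.rec (motive := fun _ => List ℕ) (rw486) (rw487) (Nat.ble 487 i)) (Nat.ble 486 i)) (Nat.ble 484 i)) (Bool.rec (motive := fun _ => List ℕ) (Bool.rec (motive := fun _ => List ℕ) (Bool.rec (motive := fun _ => List ℕ) (rw488) (rw489) (Nat.ble 489 i)) (Bool.rec (motive := fun _ => List ℕ) (rw490) (rw491) (Nat.ble 491 i)) (Nat.ble 490 i)) (Bool.rec (motive := fun _ => List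 ℕ) (Bool.rec (motive := fun _ => List ℕ) (rw492) (rw493) (Nat.ble 493 i)) (Bool.rec (motive := fun _ => List ℕ) (rw494) (rw495) (Nat.ble 495 i)) (Nat.ble 494 i)) (Nat.ble 492 i)) (Nat.ble 488 i)) (Bool.rec (motive := fun _ => List ℕ) (Bool.rec (motive := fun _ => List ℕ) (Bool.rec (motive := fun _ => List ℕ) (Bool.rec (motive := fun _ => List ℕ) (rw496) (rw497) (Nat.ble 497 i)) (Bool.rec (motive := fun _ => List ℕ) (rw498) (rw499) (Nat.ble 499 i)) (Nat.ble 498 i)) (Bool.rec (motive := fun _ => List ℕ) (Bool.rec (motive := fun _ => List ℕ) (rw500) (rw501) (Nat.ble 501 i)) (Bool.rec (motive := fun _ => List ℕ) (rw502) (rw503) (Nat.ble 503 i)) (Nat.ble 502 i)) (Nat.ble 500 i)) (Bool.rec (motive := fun _ => List ℕ) (Bool.rec (motive := fun _ => List ℕ) (Bool.rec (motive := fun _ => List ℕ) (rw504) (rw505) (Nat.ble 505 i)) (Bool.rec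 (motive := fun _ => List ℕ) (rw506) (rw507) (Nat.ble 507 i)) (Nat.ble 506 i)) (Bool.rec (motive := fun _ => List ℕ) (Bool.rec (motive := fun _ => List ℕ) (rw508) (rw509) (Nat.ble 509 i)) (Bool.rec (motive := fun _ => List ℕ) (rw510) (rw511) (Nat.ble 511 i)) (Nat.ble 510 i)) (Nat.ble 508 i)) (Nat.ble 504 i)) (Nat.ble 496 i)) (Nat.ble 480 i)) (Nat.ble 448 i)) (Nat.ble 384 i)) (Nat.ble 256 i)) (Bool.rec (motive := fun _ => List ℕ) (Bool.rec (motive := fun _ => List ℕ) (Bool.rec (motive := fun _ => List ℕ) (Bool.rec (motive := fun _ => List ℕ) (Bool.rec (motive := fun _ => List ℕ) (Bool.rec (motive := fun _ => List ℕ) (Bool.rec (motive := fun _ => List ℕ) (Bool.rec (motive := fun _ => List ℕ) (Bool.rec (motive := fun _ => List ℕ) (rw512) (rw513) (Nat.ble 513 i)) (Bool.rec (motive := fun _ => List ℕ) (rw514) (rw515) (Nat.ble 515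 i)) (Nat.ble 514 i)) (Bool.rec (motive := fun _ => List ℕ) (Bool.rec (motive := fun _ => List ℕ) (rw516) (rw517) (Nat.ble 517 i)) (Bool.rec (motive := fun _ => List ℕ) (rw518) (rw519) (Nat.ble 519 i)) (Nat.ble 518 i)) (Nat.ble 516 i)) (Bool.rec (motive := fun _ => List ℕ) (Bool.rec (motive := fun _ => List ℕ) (Bool.rec (motive := fun _ => List ℕ) (rw520) (rw521) (Nat.ble 521 i)) (Bool.rec (motive := fun _ => List ℕ) (rw522) (rw523) (Nat.ble 523 i)) (Nat.ble 522 i)) (Bool.rec (motive := fun _ => List ℕ) (Bool.rec (motive := fun _ => List ℕ) (rw524) (rw525) (Nat.ble 525 i)) (Bool.rec (motive := fun _ => List ℕ) (rw526) (rw527) (Nat.ble 527 i)) (Nat.ble 526 i)) (Nat.ble 524 i)) (Nat.ble 520 i)) (Bool.rec (motive := fun _ => List ℕ) (Bool.rec (motive := fun _ => List ℕ) (Bool.rec (motive := fun _ => List ℕ) (Bool.rec (motive :=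 fun _ => List ℕ) (rw528) (rw529) (Nat.ble 529 i)) (Bool.rec (motive := fun _ => List ℕ) (rw530) (rw531) (Nat.ble 531 i)) (Nat.ble 530 i)) (Bool.rec (motive := fun _ => List ℕ) (Bool.rec (motive := fun _ => List ℕ) (rw532) (rw533) (Nat.ble 533 i)) (Bool.rec (motive := fun _ => List ℕ) (rw534) (rw535) (Nat.ble 535 i)) (Nat.ble 534 i)) (Nat.ble 532 i)) (Bool.rec (motive := fun _ => List ℕ) (Bool.rec (motive := fun _ => List ℕ) (Bool.rec (motive := fun _ => List ℕ) (rw536) (rw537) (Nat.ble 537 i)) (Bool.rec (motive := fun _ => List ℕ) (rw538) (rw539) (Nat.ble 539 i)) (Nat.ble 538 i)) (Bool.rec (motive := fun _ => List ℕ) (Bool.rec (motive := fun _ => List ℕ) (rw540) (rw541) (Nat.ble 541 i)) (Bool.rec (motive := fun _ => List ℕ) (rw542) (rw543) (Nat.ble 543 i)) (Nat.ble 542 i)) (Nat.ble 540 i)) (Nat.ble 536 i)) (Nat.ble 528 i))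 (Bool.rec (motive := fun _ => List ℕ) (Bool.rec (motive := fun _ => List ℕ) (Bool.rec (motive := fun _ => List ℕ) (Bool.rec (motive := fun _ => List ℕ) (Bool.rec (motive := fun _ => List ℕ) (rw544) (rw545) (Nat.ble 545 i)) (Bool.rec (motive := fun _ => List ℕ) (rw546) (rw547) (Nat.ble 547 i)) (Nat.ble 546 i)) (Bool.rec (motive := fun _ => List ℕ) (Bool.rec (motive := fun _ => List ℕ) (rw548) (rw549) (Nat.ble 549 i)) (Bool.rec (motive := fun _ => List ℕ) (rw550) (rw551) (Nat.ble 551 i)) (Nat.ble 550 i)) (Nat.ble 548 i)) (Bool.rec (motive := fun _ => List ℕ) (Bool.rec (motive := fun _ => List ℕ) (Bool.rec (motive := fun _ => List ℕ) (rw552) (rw553) (Nat.ble 553 i)) (Bool.rec (motive := fun _ => List ℕ) (rw554) (rw555) (Nat.ble 555 i)) (Nat.ble 554 i)) (Bool.rec (motive := fun _ => List ℕ) (Bool.rec (motive := fun _ => List ℕ)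 (rw556) (rw557) (Nat.ble 557 i)) (Bool.rec (motive := fun _ => List ℕ) (rw558) (rw559) (Nat.ble 559 i)) (Nat.ble 558 i)) (Nat.ble 556 i)) (Nat.ble 552 i)) (Bool.rec (motive := fun _ => List ℕ) (Bool.rec (motive := fun _ => List ℕ) (Bool.rec (motive := fun _ => List ℕ) (Bool.rec (motive := fun _ => List ℕ) (rw560) (rw561) (Nat.ble 561 i)) (Bool.rec (motive := fun _ => List ℕ) (rw562) (rw563) (Nat.ble 563 i)) (Nat.ble 562 i)) (Bool.rec (motive := fun _ => List ℕ) (Bool.rec (motive := fun _ => List ℕ) (rw564) (rw565) (Nat.ble 565 i)) (Bool.rec (motive := fun _ => List ℕ) (rw566) (rw567) (Nat.ble 567 i)) (Nat.ble 566 i)) (Nat.ble 564 i)) (Bool.rec (motive := fun _ => List ℕ) (Bool.rec (motive := fun _ => List ℕ) (Bool.rec (motive := fun _ => List ℕ) (rw568) (rw569) (Nat.ble 569 i)) (Bool.rec (motive := fun _ => List ℕ) (rw570)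 (rw571) (Nat.ble 571 i)) (Nat.ble 570 i)) (Bool.rec (motive := fun _ => List ℕ) (Bool.rec (motive := fun _ => List ℕ) (rw572) (rw573) (Nat.ble 573 i)) (Bool.rec (motive := fun _ => List ℕ) (rw574) (rw575) (Nat.ble 575 i)) (Nat.ble 574 i)) (Nat.ble 572 i)) (Nat.ble 568 i)) (Nat.ble 560 i)) (Nat.ble 544 i)) (Bool.rec (motive := fun _ => List ℕ) (Bool.rec (motive := fun _ => List ℕ) (Bool.rec (motive := fun _ => List ℕ) (Bool.rec (motive := fun _ => List ℕ) (Bool.rec (motive := fun _ => List ℕ) (Bool.rec (motive := fun _ => List ℕ) (rw576) (rw577) (Nat.ble 577 i)) (Bool.rec (motive := fun _ => List ℕ) (rw578) (rw579) (Nat.ble 579 i)) (Nat.ble 578 i)) (Bool.rec (motive := fun _ => List ℕ) (Bool.rec (motive := fun _ => List ℕ) (rw580) (rw581) (Nat.ble 581 i)) (Bool.rec (motive := fun _ => List ℕ) (rw582) (rw583) (Nat.ble 583 i))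 (Nat.ble 582 i)) (Nat.ble 580 i)) (Bool.rec (motive := fun _ => List ℕ) (Bool.rec (motive := fun _ => List ℕ) (Bool.rec (motive := fun _ => List ℕ) (rw584) (rw585) (Nat.ble 585 i)) (Bool.rec (motive := fun _ => List ℕ) (rw586) (rw587) (Nat.ble 587 i)) (Nat.ble 586 i)) (Bool.rec (motive := fun _ => List ℕ) (Bool.rec (motive := fun _ => List ℕ) (rw588) (rw589) (Nat.ble 589 i)) (Bool.rec (motive := fun _ => List ℕ) (rw590) (rw591) (Nat.ble 591 i)) (Nat.ble 590 i)) (Nat.ble 588 i)) (Nat.ble 584 i)) (Bool.rec (motive := fun _ => List ℕ) (Bool.rec (motive := fun _ => List ℕ) (Bool.rec (motive := fun _ => List ℕ) (Bool.rec (motive := fun _ => List ℕ) (rw592) (rw593) (Nat.ble 593 i)) (Bool.rec (motive := fun _ => List ℕ) (rw594) (rw595) (Nat.ble 595 i)) (Nat.ble 594 i)) (Bool.rec (motive := fun _ => List ℕ) (Bool.rec (motive := fun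 _ => List ℕ) (rw596) (rw597) (Nat.ble 597 i)) (Bool.rec (motive := fun _ => List ℕ) (rw598) (rw599) (Nat.ble 599 i)) (Nat.ble 598 i)) (Nat.ble 596 i)) (Bool.rec (motive := fun _ => List ℕ) (Bool.rec (motive := fun _ => List ℕ) (Bool.rec (motive := fun _ => List ℕ) (rw600) (rw601) (Nat.ble 601 i)) (Bool.rec (motive := fun _ => List ℕ) (rw602) (rw603) (Nat.ble 603 i)) (Nat.ble 602 i)) (Bool.rec (motive := fun _ => List ℕ) (Bool.rec (motive := fun _ => List ℕ) (rw604) (rw605) (Nat.ble 605 i)) (Bool.rec (motive := fun _ => List ℕ) (rw606) (rw607) (Nat.ble 607 i)) (Nat.ble 606 i)) (Nat.ble 604 i)) (Nat.ble 600 i)) (Nat.ble 592 i)) (Bool.rec (motive := fun _ => List ℕ) (Bool.rec (motive := fun _ => List ℕ) (Bool.rec (motive := fun _ => List ℕ) (Bool.rec (motive := fun _ => List ℕ) (Bool.rec (motive := fun _ => List ℕ) (rw608) (rw609)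 (Nat.ble 609 i)) (Bool.rec (motive := fun _ => List ℕ) (rw610) (rw611) (Nat.ble 611 i)) (Nat.ble 610 i)) (Bool.rec (motive := fun _ => List ℕ) (Bool.rec (motive := fun _ => List ℕ) (rw612) (rw613) (Nat.ble 613 i)) (Bool.rec (motive := fun _ => List ℕ) (rw614) (rw615) (Nat.ble 615 i)) (Nat.ble 614 i)) (Nat.ble 612 i)) (Bool.rec (motive := fun _ => List ℕ) (Bool.rec (motive := fun _ => List ℕ) (Bool.rec (motive := fun _ => List ℕ) (rw616) (rw617) (Nat.ble 617 i)) (Bool.rec (motive := fun _ => List ℕ) (rw618) (rw619) (Nat.ble 619 i)) (Nat.ble 618 i)) (Bool.rec (motive := fun _ => List ℕ) (Bool.rec (motive := fun _ => List ℕ) (rw620) (rw621) (Nat.ble 621 i)) (Bool.rec (motive := fun _ => List ℕ) (rw622) (rw623) (Nat.ble 623 i)) (Nat.ble 622 i)) (Nat.ble 620 i)) (Nat.ble 616 i)) (Bool.rec (motive := fun _ => List ℕ) (Bool.rec (motive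 := fun _ => List ℕ) (Bool.rec (motive := fun _ => List ℕ) (Bool.rec (motive := fun _ => List ℕ) (rw624) (rw625) (Nat.ble 625 i)) (Bool.rec (motive := fun _ => List ℕ) (rw626) (rw627) (Nat.ble 627 i)) (Nat.ble 626 i)) (Bool.rec (motive := fun _ => List ℕ) (Bool.rec (motive := fun _ => List ℕ) (rw628) (rw629) (Nat.ble 629 i)) (Bool.rec (motive := fun _ => List ℕ) (rw630) (rw631) (Nat.ble 631 i)) (Nat.ble 630 i)) (Nat.ble 628 i)) (Bool.rec (motive := fun _ => List ℕ) (Bool.rec (motive := fun _ => List ℕ) (Bool.rec (motive := fun _ => List ℕ) (rw632) (rw633) (Nat.ble 633 i)) (Bool.rec (motive := fun _ => List ℕ) (rw634) (rw635) (Nat.ble 635 i)) (Nat.ble 634 i)) (Bool.rec (motive := fun _ => List ℕ) (Bool.rec (motive := fun _ => List ℕ) (rw636) (rw637) (Nat.ble 637 i)) (Bool.rec (motive := fun _ => List ℕ) (rw638) (rw639) (Nat.ble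 639 i)) (Nat.ble 638 i)) (Nat.ble 636 i)) (Nat.ble 632 i)) (Nat.ble 624 i)) (Nat.ble 608 i)) (Nat.ble 576 i)) (Bool.rec (motive := fun _ => List ℕ) (Bool.rec (motive := fun _ => List ℕ) (Bool.rec (motive := fun _ => List ℕ) (Bool.rec (motive := fun _ => List ℕ) (Bool.rec (motive := fun _ => List ℕ) (Bool.rec (motive := fun _ => List ℕ) (Bool.rec (motive := fun _ => List ℕ) (rw640) (rw641) (Nat.ble 641 i)) (Bool.rec (motive := fun _ => List ℕ) (rw642) (rw643) (Nat.ble 643 i)) (Nat.ble 642 i)) (Bool.rec (motive := fun _ => List ℕ) (Bool.rec (motive := fun _ => List ℕ) (rw644) (rw645) (Nat.ble 645 i)) (Bool.rec (motive := fun _ => List ℕ) (rw646) (rw647) (Nat.ble 647 i)) (Nat.ble 646 i)) (Nat.ble 644 i)) (Bool.rec (motive := fun _ => List ℕ) (Bool.rec (motive := fun _ => List ℕ) (Bool.rec (motive := fun _ => List ℕ) (rw648) (rw649)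 (Nat.ble 649 i)) (Bool.rec (motive := fun _ => List ℕ) (rw650) (rw651) (Nat.ble 651 i)) (Nat.ble 650 i)) (Bool.rec (motive := fun _ => List ℕ) (Bool.rec (motive := fun _ => List ℕ) (rw652) (rw653) (Nat.ble 653 i)) (Bool.rec (motive := fun _ => List ℕ) (rw654) (rw655) (Nat.ble 655 i)) (Nat.ble 654 i)) (Nat.ble 652 i)) (Nat.ble 648 i)) (Bool.rec (motive := fun _ => List ℕ) (Bool.rec (motive := fun _ => List ℕ) (Bool.rec (motive := fun _ => List ℕ) (Bool.rec (motive := fun _ => List ℕ) (rw656) (rw657) (Nat.ble 657 i)) (Bool.rec (motive := fun _ => List ℕ) (rw658) (rw659) (Nat.ble 659 i)) (Nat.ble 658 i)) (Bool.rec (motive := fun _ => List ℕ) (Bool.rec (motive := fun _ => List ℕ) (rw660) (rw661) (Nat.ble 661 i)) (Bool.rec (motive := fun _ => List ℕ) (rw662) (rw663) (Nat.ble 663 i)) (Nat.ble 662 i)) (Nat.ble 660 i)) (Bool.rec (motive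 := fun _ => List ℕ) (Bool.rec (motive := fun _ => List ℕ) (Bool.rec (motive := fun _ => List ℕ) (rw664) (rw665) (Nat.ble 665 i)) (Bool.rec (motive := fun _ => List ℕ) (rw666) (rw667) (Nat.ble 667 i)) (Nat.ble 666 i)) (Bool.rec (motive := fun _ => List ℕ) (Bool.rec (motive := fun _ => List ℕ) (rw668) (rw669) (Nat.ble 669 i)) (Bool.rec (motive := fun _ => List ℕ) (rw670) (rw671) (Nat.ble 671 i)) (Nat.ble 670 i)) (Nat.ble 668 i)) (Nat.ble 664 i)) (Nat.ble 656 i)) (Bool.rec (motive := fun _ => List ℕ) (Bool.rec (motive := fun _ => List ℕ) (Bool.rec (motive := fun _ => List ℕ) (Bool.rec (motive := fun _ => List ℕ) (Bool.rec (motive := fun _ => List ℕ) (rw672) (rw673) (Nat.ble 673 i)) (Bool.rec (motive := fun _ => List ℕ) (rw674) (rw675) (Nat.ble 675 i)) (Nat.ble 674 i)) (Bool.rec (motive := fun _ => List ℕ) (Bool.rec (motive :=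 fun _ => List ℕ) (rw676) (rw677) (Nat.ble 677 i)) (Bool.rec (motive := fun _ => List ℕ) (rw678) (rw679) (Nat.ble 679 i)) (Nat.ble 678 i)) (Nat.ble 676 i)) (Bool.rec (motive := fun _ => List ℕ) (Bool.rec (motive := fun _ => List ℕ) (Bool.rec (motive := fun _ => List ℕ) (rw680) (rw681) (Nat.ble 681 i)) (Bool.rec (motive := fun _ => List ℕ) (rw682) (rw683) (Nat.ble 683 i)) (Nat.ble 682 i)) (Bool.rec (motive := fun _ => List ℕ) (Bool.rec (motive := fun _ => List ℕ) (rw684) (rw685) (Nat.ble 685 i)) (Bool.rec (motive := fun _ => List ℕ) (rw686) (rw687) (Nat.ble 687 i)) (Nat.ble 686 i)) (Nat.ble 684 i)) (Nat.ble 680 i)) (Bool.rec (motive := fun _ => List ℕ) (Bool.rec (motive := fun _ => List ℕ) (Bool.rec (motive := fun _ => List ℕ) (Bool.rec (motive := fun _ => List ℕ) (rw688) (rw689) (Nat.ble 689 i)) (Bool.rec (motive := fun _ =>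 List ℕ) (rw690) (rw691) (Nat.ble 691 i)) (Nat.ble 690 i)) (Bool.rec (motive := fun _ => List ℕ) (Bool.rec (motive := fun _ => List ℕ) (rw692) (rw693) (Nat.ble 693 i)) (Bool.rec (motive := fun _ => List ℕ) (rw694) (rw695) (Nat.ble 695 i)) (Nat.ble 694 i)) (Nat.ble 692 i)) (Bool.rec (motive := fun _ => List ℕ) (Bool.rec (motive := fun _ => List ℕ) (Bool.rec (motive := fun _ => List ℕ) (rw696) (rw697) (Nat.ble 697 i)) (Bool.rec (motive := fun _ => List ℕ) (rw698) (rw699) (Nat.ble 699 i)) (Nat.ble 698 i)) (Bool.rec (motive := fun _ => List ℕ) (Bool.rec (motive := fun _ => List ℕ) (rw700) (rw701) (Nat.ble 701 i)) (Bool.rec (motive := fun _ => List ℕ) (rw702) (rw703) (Nat.ble 703 i)) (Nat.ble 702 i)) (Nat.ble 700 i)) (Nat.ble 696 i)) (Nat.ble 688 i)) (Nat.ble 672 i)) (Bool.rec (motive := fun _ => List ℕ) (Bool.rec (motive := fun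 _ => List ℕ) (Bool.rec (motive := fun _ => List ℕ) (Bool.rec (motive := fun _ => List ℕ) (Bool.rec (motive := fun _ => List ℕ) (Bool.rec (motive := fun _ => List ℕ) (rw704) (rw705) (Nat.ble 705 i)) (Bool.rec (motive := fun _ => List ℕ) (rw706) (rw707) (Nat.ble 707 i)) (Nat.ble 706 i)) (Bool.rec (motive := fun _ => List ℕ) (Bool.rec (motive := fun _ => List ℕ) (rw708) (rw709) (Nat.ble 709 i)) (Bool.rec (motive := fun _ => List ℕ) (rw710) (rw711) (Nat.ble 711 i)) (Nat.ble 710 i)) (Nat.ble 708 i)) (Bool.rec (motive := fun _ => List ℕ) (Bool.rec (motive := fun _ => List ℕ) (Bool.rec (motive := fun _ => List ℕ) (rw712) (rw713) (Nat.ble 713 i)) (Bool.rec (motive := fun _ => List ℕ) (rw714) (rw715) (Nat.ble 715 i)) (Nat.ble 714 i)) (Bool.rec (motive := fun _ => List ℕ) (Bool.rec (motive := fun _ => List ℕ) (rw716) (rw717) (Nat.ble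 717 i)) (Bool.rec (motive := fun _ => List ℕ) (rw718) (rw719) (Nat.ble 719 i)) (Nat.ble 718 i)) (Nat.ble 716 i)) (Nat.ble 712 i)) (Bool.rec (motive := fun _ => List ℕ) (Bool.rec (motive := fun _ => List ℕ) (Bool.rec (motive := fun _ => List ℕ) (Bool.rec (motive := fun _ => List ℕ) (rw720) (rw721) (Nat.ble 721 i)) (Bool.rec (motive := fun _ => List ℕ) (rw722) (rw723) (Nat.ble 723 i)) (Nat.ble 722 i)) (Bool.rec (motive := fun _ => List ℕ) (Bool.rec (motive := fun _ => List ℕ) (rw724) (rw725) (Nat.ble 725 i)) (Bool.rec (motive := fun _ => List ℕ) (rw726) (rw727) (Nat.ble 727 i)) (Nat.ble 726 i)) (Nat.ble 724 i)) (Bool.rec (motive := fun _ => List ℕ) (Bool.rec (motive := fun _ => List ℕ) (Bool.rec (motive := fun _ => List ℕ) (rw728) (rw729) (Nat.ble 729 i)) (Bool.rec (motive := fun _ => List ℕ) (rw730) (rw731) (Nat.ble 731 i))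 (Nat.ble 730 i)) (Bool.rec (motive := fun _ => List ℕ) (Bool.rec (motive := fun _ => List ℕ) (rw732) (rw733) (Nat.ble 733 i)) (Bool.rec (motive := fun _ => List ℕ) (rw734) (rw735) (Nat.ble 735 i)) (Nat.ble 734 i)) (Nat.ble 732 i)) (Nat.ble 728 i)) (Nat.ble 720 i)) (Bool.rec (motive := fun _ => List ℕ) (Bool.rec (motive := fun _ => List ℕ) (Bool.rec (motive := fun _ => List ℕ) (Bool.rec (motive := fun _ => List ℕ) (Bool.rec (motive := fun _ => List ℕ) (rw736) (rw737) (Nat.ble 737 i)) (Bool.rec (motive := fun _ => List ℕ) (rw738) (rw739) (Nat.ble 739 i)) (Nat.ble 738 i)) (Bool.rec (motive := fun _ => List ℕ) (Bool.rec (motive := fun _ => List ℕ) (rw740) (rw741) (Nat.ble 741 i)) (Bool.rec (motive := fun _ => List ℕ) (rw742) (rw743) (Nat.ble 743 i)) (Nat.ble 742 i)) (Nat.ble 740 i)) (Bool.rec (motive := fun _ => List ℕ) (Bool.rec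 (motive := fun _ => List ℕ) (Bool.rec (motive := fun _ => List ℕ) (rw744) (rw745) (Nat.ble 745 i)) (Bool.rec (motive := fun _ => List ℕ) (rw746) (rw747) (Nat.ble 747 i)) (Nat.ble 746 i)) (Bool.rec (motive := fun _ => List ℕ) (Bool.rec (motive := fun _ => List ℕ) (rw748) (rw749) (Nat.ble 749 i)) (Bool.rec (motive := fun _ => List ℕ) (rw750) (rw751) (Nat.ble 751 i)) (Nat.ble 750 i)) (Nat.ble 748 i)) (Nat.ble 744 i)) (Bool.rec (motive := fun _ => List ℕ) (Bool.rec (motive := fun _ => List ℕ) (Bool.rec (motive := fun _ => List ℕ) (Bool.rec (motive := fun _ => List ℕ) (rw752) (rw753) (Nat.ble 753 i)) (Bool.rec (motive := fun _ => List ℕ) (rw754) (rw755) (Nat.ble 755 i)) (Nat.ble 754 i)) (Bool.rec (motive := fun _ => List ℕ) (Bool.rec (motive := fun _ => List ℕ) (rw756) (rw757) (Nat.ble 757 i)) (Bool.rec (motive := fun _ => List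 ℕ) (rw758) (rw759) (Nat.ble 759 i)) (Nat.ble 758 i)) (Nat.ble 756 i)) (Bool.rec (motive := fun _ => List ℕ) (Bool.rec (motive := fun _ => List ℕ) (Bool.rec (motive := fun _ => List ℕ) (rw760) (rw761) (Nat.ble 761 i)) (Bool.rec (motive := fun _ => List ℕ) (rw762) (rw763) (Nat.ble 763 i)) (Nat.ble 762 i)) (Bool.rec (motive := fun _ => List ℕ) (Bool.rec (motive := fun _ => List ℕ) (rw764) (rw765) (Nat.ble 765 i)) (Bool.rec (motive := fun _ => List ℕ) (rw766) (rw767) (Nat.ble 767 i)) (Nat.ble 766 i)) (Nat.ble 764 i)) (Nat.ble 760 i)) (Nat.ble 752 i)) (Nat.ble 736 i)) (Nat.ble 704 i)) (Nat.ble 640 i)) (Bool.rec (motive := fun _ => List ℕ) (Bool.rec (motive := fun _ => List ℕ) (Bool.rec (motive := fun _ => List ℕ) (Bool.rec (motive := fun _ => List ℕ) (Bool.rec (motive := fun _ => List ℕ) (Bool.rec (motive := fun _ => List ℕ) (Bool.rec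 (motive := fun _ => List ℕ) (Bool.rec (motive := fun _ => List ℕ) (rw768) (rw769) (Nat.ble 769 i)) (Bool.rec (motive := fun _ => List ℕ) (rw770) (rw771) (Nat.ble 771 i)) (Nat.ble 770 i)) (Bool.rec (motive := fun _ => List ℕ) (Bool.rec (motive := fun _ => List ℕ) (rw772) (rw773) (Nat.ble 773 i)) (Bool.rec (motive := fun _ => List ℕ) (rw774) (rw775) (Nat.ble 775 i)) (Nat.ble 774 i)) (Nat.ble 772 i)) (Bool.rec (motive := fun _ => List ℕ) (Bool.rec (motive := fun _ => List ℕ) (Bool.rec (motive := fun _ => List ℕ) (rw776) (rw777) (Nat.ble 777 i)) (Bool.rec (motive := fun _ => List ℕ) (rw778) (rw779) (Nat.ble 779 i)) (Nat.ble 778 i)) (Bool.rec (motive := fun _ => List ℕ) (Bool.rec (motive := fun _ => List ℕ) (rw780) (rw781) (Nat.ble 781 i)) (Bool.rec (motive := fun _ => List ℕ) (rw782) (rw783) (Nat.ble 783 i)) (Nat.ble 782 i)) (Nat.ble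 780 i)) (Nat.ble 776 i)) (Bool.rec (motive := fun _ => List ℕ) (Bool.rec (motive := fun _ => List ℕ) (Bool.rec (motive := fun _ => List ℕ) (Bool.rec (motive := fun _ => List ℕ) (rw784) (rw785) (Nat.ble 785 i)) (Bool.rec (motive := fun _ => List ℕ) (rw786) (rw787) (Nat.ble 787 i)) (Nat.ble 786 i)) (Bool.rec (motive := fun _ => List ℕ) (Bool.rec (motive := fun _ => List ℕ) (rw788) (rw789) (Nat.ble 789 i)) (Bool.rec (motive := fun _ => List ℕ) (rw790) (rw791) (Nat.ble 791 i)) (Nat.ble 790 i)) (Nat.ble 788 i)) (Bool.rec (motive := fun _ => List ℕ) (Bool.rec (motive := fun _ => List ℕ) (Bool.rec (motive := fun _ => List ℕ) (rw792) (rw793) (Nat.ble 793 i)) (Bool.rec (motive := fun _ => List ℕ) (rw794) (rw795) (Nat.ble 795 i)) (Nat.ble 794 i)) (Bool.rec (motive := fun _ => List ℕ) (Bool.rec (motive := fun _ => List ℕ) (rw796) (rw797)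 (Nat.ble 797 i)) (Bool.rec (motive := fun _ => List ℕ) (rw798) (rw799) (Nat.ble 799 i)) (Nat.ble 798 i)) (Nat.ble 796 i)) (Nat.ble 792 i)) (Nat.ble 784 i)) (Bool.rec (motive := fun _ => List ℕ) (Bool.rec (motive := fun _ => List ℕ) (Bool.rec (motive := fun _ => List ℕ) (Bool.rec (motive := fun _ => List ℕ) (Bool.rec (motive := fun _ => List ℕ) (rw800) (rw801) (Nat.ble 801 i)) (Bool.rec (motive := fun _ => List ℕ) (rw802) (rw803) (Nat.ble 803 i)) (Nat.ble 802 i)) (Bool.rec (motive := fun _ => List ℕ) (Bool.rec (motive := fun _ => List ℕ) (rw804) (rw805) (Nat.ble 805 i)) (Bool.rec (motive := fun _ => List ℕ) (rw806) (rw807) (Nat.ble 807 i)) (Nat.ble 806 i)) (Nat.ble 804 i)) (Bool.rec (motive := fun _ => List ℕ) (Bool.rec (motive := fun _ => List ℕ) (Bool.rec (motive := fun _ => List ℕ) (rw808) (rw809) (Nat.ble 809 i)) (Bool.rec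 (motive := fun _ => List ℕ) (rw810) (rw811) (Nat.ble 811 i)) (Nat.ble 810 i)) (Bool.rec (motive := fun _ => List ℕ) (Bool.rec (motive := fun _ => List ℕ) (rw812) (rw813) (Nat.ble 813 i)) (Bool.rec (motive := fun _ => List ℕ) (rw814) (rw815) (Nat.ble 815 i)) (Nat.ble 814 i)) (Nat.ble 812 i)) (Nat.ble 808 i)) (Bool.rec (motive := fun _ => List ℕ) (Bool.rec (motive := fun _ => List ℕ) (Bool.rec (motive := fun _ => List ℕ) (Bool.rec (motive := fun _ => List ℕ) (rw816) (rw817) (Nat.ble 817 i)) (Bool.rec (motive := fun _ => List ℕ) (rw818) (rw819) (Nat.ble 819 i)) (Nat.ble 818 i)) (Bool.rec (motive := fun _ => List ℕ) (Bool.rec (motive := fun _ => List ℕ) (rw820) (rw821) (Nat.ble 821 i)) (Bool.rec (motive := fun _ => List ℕ) (rw822) (rw823) (Nat.ble 823 i)) (Nat.ble 822 i)) (Nat.ble 820 i)) (Bool.rec (motive := fun _ => List ℕ)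 (Bool.rec (motive := fun _ => List ℕ) (Bool.rec (motive := fun _ => List ℕ) (rw824) (rw825) (Nat.ble 825 i)) (Bool.rec (motive := fun _ => List ℕ) (rw826) (rw827) (Nat.ble 827 i)) (Nat.ble 826 i)) (Bool.rec (motive := fun _ => List ℕ) (Bool.rec (motive := fun _ => List ℕ) (rw828) (rw829) (Nat.ble 829 i)) (Bool.rec (motive := fun _ => List ℕ) (rw830) (rw831) (Nat.ble 831 i)) (Nat.ble 830 i)) (Nat.ble 828 i)) (Nat.ble 824 i)) (Nat.ble 816 i)) (Nat.ble 800 i)) (Bool.rec (motive := fun _ => List ℕ) (Bool.rec (motive := fun _ => List ℕ) (Bool.rec (motive := fun _ => List ℕ) (Bool.rec (motive := fun _ => List ℕ) (Bool.rec (motive := fun _ => List ℕ) (Bool.rec (motive := fun _ => List ℕ) (rw832) (rw833) (Nat.ble 833 i)) (Bool.rec (motive := fun _ => List ℕ) (rw834) (rw835) (Nat.ble 835 i)) (Nat.ble 834 i)) (Bool.rec (motive := fun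 _ => List ℕ) (Bool.rec (motive := fun _ => List ℕ) (rw836) (rw837) (Nat.ble 837 i)) (Bool.rec (motive := fun _ => List ℕ) (rw838) (rw839) (Nat.ble 839 i)) (Nat.ble 838 i)) (Nat.ble 836 i)) (Bool.rec (motive := fun _ => List ℕ) (Bool.rec (motive := fun _ => List ℕ) (Bool.rec (motive := fun _ => List ℕ) (rw840) (rw841) (Nat.ble 841 i)) (Bool.rec (motive := fun _ => List ℕ) (rw842) (rw843) (Nat.ble 843 i)) (Nat.ble 842 i)) (Bool.rec (motive := fun _ => List ℕ) (Bool.rec (motive := fun _ => List ℕ) (rw844) (rw845) (Nat.ble 845 i)) (Bool.rec (motive := fun _ => List ℕ) (rw846) (rw847) (Nat.ble 847 i)) (Nat.ble 846 i)) (Nat.ble 844 i)) (Nat.ble 840 i)) (Bool.rec (motive := fun _ => List ℕ) (Bool.rec (motive := fun _ => List ℕ) (Bool.rec (motive := fun _ => List ℕ) (Bool.rec (motive := fun _ => List ℕ) (rw848) (rw849) (Nat.ble 849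 i)) (Bool.rec (motive := fun _ => List ℕ) (rw850) (rw851) (Nat.ble 851 i)) (Nat.ble 850 i)) (Bool.rec (motive := fun _ => List ℕ) (Bool.rec (motive := fun _ => List ℕ) (rw852) (rw853) (Nat.ble 853 i)) (Bool.rec (motive := fun _ => List ℕ) (rw854) (rw855) (Nat.ble 855 i)) (Nat.ble 854 i)) (Nat.ble 852 i)) (Bool.rec (motive := fun _ => List ℕ) (Bool.rec (motive := fun _ => List ℕ) (Bool.rec (motive := fun _ => List ℕ) (rw856) (rw857) (Nat.ble 857 i)) (Bool.rec (motive := fun _ => List ℕ) (rw858) (rw859) (Nat.ble 859 i)) (Nat.ble 858 i)) (Bool.rec (motive := fun _ => List ℕ) (Bool.rec (motive := fun _ => List ℕ) (rw860) (rw861) (Nat.ble 861 i)) (Bool.rec (motive := fun _ => List ℕ) (rw862) (rw863) (Nat.ble 863 i)) (Nat.ble 862 i)) (Nat.ble 860 i)) (Nat.ble 856 i)) (Nat.ble 848 i)) (Bool.rec (motive := fun _ => List ℕ) (Bool.rec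 (motive := fun _ => List ℕ) (Bool.rec (motive := fun _ => List ℕ) (Bool.rec (motive := fun _ => List ℕ) (Bool.rec (motive := fun _ => List ℕ) (rw864) (rw865) (Nat.ble 865 i)) (Bool.rec (motive := fun _ => List ℕ) (rw866) (rw867) (Nat.ble 867 i)) (Nat.ble 866 i)) (Bool.rec (motive := fun _ => List ℕ) (Bool.rec (motive := fun _ => List ℕ) (rw868) (rw869) (Nat.ble 869 i)) (Bool.rec (motive := fun _ => List ℕ) (rw870) (rw871) (Nat.ble 871 i)) (Nat.ble 870 i)) (Nat.ble 868 i)) (Bool.rec (motive := fun _ => List ℕ) (Bool.rec (motive := fun _ => List ℕ) (Bool.rec (motive := fun _ => List ℕ) (rw872) (rw873) (Nat.ble 873 i)) (Bool.rec (motive := fun _ => List ℕ) (rw874) (rw875) (Nat.ble 875 i)) (Nat.ble 874 i)) (Bool.rec (motive := fun _ => List ℕ) (Bool.rec (motive := fun _ => List ℕ) (rw876) (rw877) (Nat.ble 877 i)) (Bool.rec (motive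 := fun _ => List ℕ) (rw878) (rw879) (Nat.ble 879 i)) (Nat.ble 878 i)) (Nat.ble 876 i)) (Nat.ble 872 i)) (Bool.rec (motive := fun _ => List ℕ) (Bool.rec (motive := fun _ => List ℕ) (Bool.rec (motive := fun _ => List ℕ) (Bool.rec (motive := fun _ => List ℕ) (rw880) (rw881) (Nat.ble 881 i)) (Bool.rec (motive := fun _ => List ℕ) (rw882) (rw883) (Nat.ble 883 i)) (Nat.ble 882 i)) (Bool.rec (motive := fun _ => List ℕ) (Bool.rec (motive := fun _ => List ℕ) (rw884) (rw885) (Nat.ble 885 i)) (Bool.rec (motive := fun _ => List ℕ) (rw886) (rw887) (Nat.ble 887 i)) (Nat.ble 886 i)) (Nat.ble 884 i)) (Bool.rec (motive := fun _ => List ℕ) (Bool.rec (motive := fun _ => List ℕ) (Bool.rec (motive := fun _ => List ℕ) (rw888) (rw889) (Nat.ble 889 i)) (Bool.rec (motive := fun _ => List ℕ) (rw890) (rw891) (Nat.ble 891 i)) (Nat.ble 890 i)) (Bool.rec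 (motive := fun _ => List ℕ) (Bool.rec (motive := fun _ => List ℕ) (rw892) (rw893) (Nat.ble 893 i)) (Bool.rec (motive := fun _ => List ℕ) (rw894) (rw895) (Nat.ble 895 i)) (Nat.ble 894 i)) (Nat.ble 892 i)) (Nat.ble 888 i)) (Nat.ble 880 i)) (Nat.ble 864 i)) (Nat.ble 832 i)) (Bool.rec (motive := fun _ => List ℕ) (Bool.rec (motive := fun _ => List ℕ) (Bool.rec (motive := fun _ => List ℕ) (Bool.rec (motive := fun _ => List ℕ) (Bool.rec (motive := fun _ => List ℕ) (Bool.rec (motive := fun _ => List ℕ) (Bool.rec (motive := fun _ => List ℕ) (rw896) (rw897) (Nat.ble 897 i)) (Bool.rec (motive := fun _ => List ℕ) (rw898) (rw899) (Nat.ble 899 i)) (Nat.ble 898 i)) (Bool.rec (motive := fun _ => List ℕ) (Bool.rec (motive := fun _ => List ℕ) (rw900) (rw901) (Nat.ble 901 i)) (Bool.rec (motive := fun _ => List ℕ) (rw902) (rw903) (Nat.ble 903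 i)) (Nat.ble 902 i)) (Nat.ble 900 i)) (Bool.rec (motive := fun _ => List ℕ) (Bool.rec (motive := fun _ => List ℕ) (Bool.rec (motive := fun _ => List ℕ) (rw904) (rw905) (Nat.ble 905 i)) (Bool.rec (motive := fun _ => List ℕ) (rw906) (rw907) (Nat.ble 907 i)) (Nat.ble 906 i)) (Bool.rec (motive := fun _ => List ℕ) (Bool.rec (motive := fun _ => List ℕ) (rw908) (rw909) (Nat.ble 909 i)) (Bool.rec (motive := fun _ => List ℕ) (rw910) (rw911) (Nat.ble 911 i)) (Nat.ble 910 i)) (Nat.ble 908 i)) (Nat.ble 904 i)) (Bool.rec (motive := fun _ => List ℕ) (Bool.rec (motive := fun _ => List ℕ) (Bool.rec (motive := fun _ => List ℕ) (Bool.rec (motive := fun _ => List ℕ) (rw912) (rw913) (Nat.ble 913 i)) (Bool.rec (motive := fun _ => List ℕ) (rw914) (rw915) (Nat.ble 915 i)) (Nat.ble 914 i)) (Bool.rec (motive := fun _ => List ℕ) (Bool.rec (motive :=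 fun _ => List ℕ) (rw916) (rw917) (Nat.ble 917 i)) (Bool.rec (motive := fun _ => List ℕ) (rw918) (rw919) (Nat.ble 919 i)) (Nat.ble 918 i)) (Nat.ble 916 i)) (Bool.rec (motive := fun _ => List ℕ) (Bool.rec (motive := fun _ => List ℕ) (Bool.rec (motive := fun _ => List ℕ) (rw920) (rw921) (Nat.ble 921 i)) (Bool.rec (motive := fun _ => List ℕ) (rw922) (rw923) (Nat.ble 923 i)) (Nat.ble 922 i)) (Bool.rec (motive := fun _ => List ℕ) (Bool.rec (motive := fun _ => List ℕ) (rw924) (rw925) (Nat.ble 925 i)) (Bool.rec (motive := fun _ => List ℕ) (rw926) (rw927) (Nat.ble 927 i)) (Nat.ble 926 i)) (Nat.ble 924 i)) (Nat.ble 920 i)) (Nat.ble 912 i)) (Bool.rec (motive := fun _ => List ℕ) (Bool.rec (motive := fun _ => List ℕ) (Bool.rec (motive := fun _ => List ℕ) (Bool.rec (motive := fun _ => List ℕ) (Bool.rec (motive := fun _ => List ℕ) (rw928)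 (rw929) (Nat.ble 929 i)) (Bool.rec (motive := fun _ => List ℕ) (rw930) (rw931) (Nat.ble 931 i)) (Nat.ble 930 i)) (Bool.rec (motive := fun _ => List ℕ) (Bool.rec (motive := fun _ => List ℕ) (rw932) (rw933) (Nat.ble 933 i)) (Bool.rec (motive := fun _ => List ℕ) (rw934) (rw935) (Nat.ble 935 i)) (Nat.ble 934 i)) (Nat.ble 932 i)) (Bool.rec (motive := fun _ => List ℕ) (Bool.rec (motive := fun _ => List ℕ) (Bool.rec (motive := fun _ => List ℕ) (rw936) (rw937) (Nat.ble 937 i)) (Bool.rec (motive := fun _ => List ℕ) (rw938) (rw939) (Nat.ble 939 i)) (Nat.ble 938 i)) (Bool.rec (motive := fun _ => List ℕ) (Bool.rec (motive := fun _ => List ℕ) (rw940) (rw941) (Nat.ble 941 i)) (Bool.rec (motive := fun _ => List ℕ) (rw942) (rw943) (Nat.ble 943 i)) (Nat.ble 942 i)) (Nat.ble 940 i)) (Nat.ble 936 i)) (Bool.rec (motive := fun _ => List ℕ) (Bool.rec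 (motive := fun _ => List ℕ) (Bool.rec (motive := fun _ => List ℕ) (Bool.rec (motive := fun _ => List ℕ) (rw944) (rw945) (Nat.ble 945 i)) (Bool.rec (motive := fun _ => List ℕ) (rw946) (rw947) (Nat.ble 947 i)) (Nat.ble 946 i)) (Bool.rec (motive := fun _ => List ℕ) (Bool.rec (motive := fun _ => List ℕ) (rw948) (rw949) (Nat.ble 949 i)) (Bool.rec (motive := fun _ => List ℕ) (rw950) (rw951) (Nat.ble 951 i)) (Nat.ble 950 i)) (Nat.ble 948 i)) (Bool.rec (motive := fun _ => List ℕ) (Bool.rec (motive := fun _ => List ℕ) (Bool.rec (motive := fun _ => List ℕ) (rw952) (rw953) (Nat.ble 953 i)) (Bool.rec (motive := fun _ => List ℕ) (rw954) (rw955) (Nat.ble 955 i)) (Nat.ble 954 i)) (Bool.rec (motive := fun _ => List ℕ) (Bool.rec (motive := fun _ => List ℕ) (rw956) (rw957) (Nat.ble 957 i)) (Bool.rec (motive := fun _ => List ℕ) (rw958) (rw959)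 (Nat.ble 959 i)) (Nat.ble 958 i)) (Nat.ble 956 i)) (Nat.ble 952 i)) (Nat.ble 944 i)) (Nat.ble 928 i)) (Bool.rec (motive := fun _ => List ℕ) (Bool.rec (motive := fun _ => List ℕ) (Bool.rec (motive := fun _ => List ℕ) (Bool.rec (motive := fun _ => List ℕ) (Bool.rec (motive := fun _ => List ℕ) (Bool.rec (motive := fun _ => List ℕ) (rw960) (rw961) (Nat.ble 961 i)) (Bool.rec (motive := fun _ => List ℕ) (rw962) (rw963) (Nat.ble 963 i)) (Nat.ble 962 i)) (Bool.rec (motive := fun _ => List ℕ) (Bool.rec (motive := fun _ => List ℕ) (rw964) (rw965) (Nat.ble 965 i)) (Bool.rec (motive := fun _ => List ℕ) (rw966) (rw967) (Nat.ble 967 i)) (Nat.ble 966 i)) (Nat.ble 964 i)) (Bool.rec (motive := fun _ => List ℕ) (Bool.rec (motive := fun _ => List ℕ) (Bool.rec (motive := fun _ => List ℕ) (rw968) (rw969) (Nat.ble 969 i)) (Bool.rec (motive := fun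 _ => List ℕ) (rw970) (rw971) (Nat.ble 971 i)) (Nat.ble 970 i)) (Bool.rec (motive := fun _ => List ℕ) (Bool.rec (motive := fun _ => List ℕ) (rw972) (rw973) (Nat.ble 973 i)) (Bool.rec (motive := fun _ => List ℕ) (rw974) (rw975) (Nat.ble 975 i)) (Nat.ble 974 i)) (Nat.ble 972 i)) (Nat.ble 968 i)) (Bool.rec (motive := fun _ => List ℕ) (Bool.rec (motive := fun _ => List ℕ) (Bool.rec (motive := fun _ => List ℕ) (Bool.rec (motive := fun _ => List ℕ) (rw976) (rw977) (Nat.ble 977 i)) (Bool.rec (motive := fun _ => List ℕ) (rw978) (rw979) (Nat.ble 979 i)) (Nat.ble 978 i)) (Bool.rec (motive := fun _ => List ℕ) (Bool.rec (motive := fun _ => List ℕ) (rw980) (rw981) (Nat.ble 981 i)) (Bool.rec (motive := fun _ => List ℕ) (rw982) (rw983) (Nat.ble 983 i)) (Nat.ble 982 i)) (Nat.ble 980 i)) (Bool.rec (motive := fun _ => List ℕ) (Bool.rec (motive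 := fun _ => List ℕ) (Bool.rec (motive := fun _ => List ℕ) (rw984) (rw985) (Nat.ble 985 i)) (Bool.rec (motive := fun _ => List ℕ) (rw986) (rw987) (Nat.ble 987 i)) (Nat.ble 986 i)) (Bool.rec (motive := fun _ => List ℕ) (Bool.rec (motive := fun _ => List ℕ) (rw988) (rw989) (Nat.ble 989 i)) (Bool.rec (motive := fun _ => List ℕ) (rw990) (rw991) (Nat.ble 991 i)) (Nat.ble 990 i)) (Nat.ble 988 i)) (Nat.ble 984 i)) (Nat.ble 976 i)) (Bool.rec (motive := fun _ => List ℕ) (Bool.rec (motive := fun _ => List ℕ) (Bool.rec (motive := fun _ => List ℕ) (Bool.rec (motive := fun _ => List ℕ) (Bool.rec (motive := fun _ => List ℕ) (rw992) (rw993) (Nat.ble 993 i)) (Bool.rec (motive := fun _ => List ℕ) (rw994) (rw995) (Nat.ble 995 i)) (Nat.ble 994 i)) (Bool.rec (motive := fun _ => List ℕ) (Bool.rec (motive := fun _ => List ℕ) (rw996) (rw997) (Nat.ble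 997 i)) (Bool.rec (motive := fun _ => List ℕ) (rw998) (rw999) (Nat.ble 999 i)) (Nat.ble 998 i)) (Nat.ble 996 i)) (Bool.rec (motive := fun _ => List ℕ) (Bool.rec (motive := fun _ => List ℕ) (Bool.rec (motive := fun _ => List ℕ) (rw1000) (rw1001) (Nat.ble 1001 i)) (Bool.rec (motive := fun _ => List ℕ) (rw1002) (rw1003) (Nat.ble 1003 i)) (Nat.ble 1002 i)) (Bool.rec (motive := fun _ => List ℕ) (Bool.rec (motive := fun _ => List ℕ) (rw1004) (rw1005) (Nat.ble 1005 i)) (Bool.rec (motive := fun _ => List ℕ) (rw1006) (rw1007) (Nat.ble 1007 i)) (Nat.ble 1006 i)) (Nat.ble 1004 i)) (Nat.ble 1000 i)) (Bool.rec (motive := fun _ => List ℕ) (Bool.rec (motive := fun _ => List ℕ) (Bool.rec (motive := fun _ => List ℕ) (Bool.rec (motive := fun _ => List ℕ) (rw1008) (rw1009) (Nat.ble 1009 i)) (Bool.rec (motive := fun _ => List ℕ) (rw1010) (rw1011)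 (Nat.ble 1011 i)) (Nat.ble 1010 i)) (Bool.rec (motive := fun _ => List ℕ) (Bool.rec (motive := fun _ => List ℕ) (rw1012) (rw1013) (Nat.ble 1013 i)) (Bool.rec (motive := fun _ => List ℕ) (rw1014) (rw1015) (Nat.ble 1015 i)) (Nat.ble 1014 i)) (Nat.ble 1012 i)) (Bool.rec (motive := fun _ => List ℕ) (Bool.rec (motive := fun _ => List ℕ) (Bool.rec (motive := fun _ => List ℕ) (rw1016) (rw1017) (Nat.ble 1017 i)) (Bool.rec (motive := fun _ => List ℕ) (rw1018) (rw1019) (Nat.ble 1019 i)) (Nat.ble 1018 i)) (Bool.rec (motive := fun _ => List ℕ) (Bool.rec (motive := fun _ => List ℕ) (rw1020) (rw1021) (Nat.ble 1021 i)) (Bool.rec (motive := fun _ => List ℕ) (rw1022) (rw1023) (Nat.ble 1023 i)) (Nat.ble 1022 i)) (Nat.ble 1020 i)) (Nat.ble 1016 i)) (Nat.ble 1008 i)) (Nat.ble 992 i)) (Nat.ble 960 i)) (Nat.ble 896 i)) (Nat.ble 768 i)) (Nat.ble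 512 i)) (Bool.rec (motive := fun _ => List ℕ) (Bool.rec (motive := fun _ => List ℕ) (Bool.rec (motive := fun _ => List ℕ) (Bool.rec (motive := fun _ => List ℕ) (Bool.rec (motive := fun _ => List ℕ) (Bool.rec (motive := fun _ => List ℕ) (Bool.rec (motive := fun _ => List ℕ) (Bool.rec (motive := fun _ => List ℕ) (Bool.rec (motive := fun _ => List ℕ) (Bool.rec (motive := fun _ => List ℕ) (rw1024) (rw1025) (Nat.ble 1025 i)) (Bool.rec (motive := fun _ => List ℕ) (rw1026) (rw1027) (Nat.ble 1027 i)) (Nat.ble 1026 i)) (Bool.rec (motive := fun _ => List ℕ) (Bool.rec (motive := fun _ => List ℕ) (rw1028) (rw1029) (Nat.ble 1029 i)) (Bool.rec (motive := fun _ => List ℕ) (rw1030) (rw1031) (Nat.ble 1031 i)) (Nat.ble 1030 i)) (Nat.ble 1028 i)) (Bool.rec (motive := fun _ => List ℕ) (Bool.rec (motive := fun _ => List ℕ) (Bool.rec (motive :=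 fun _ => List ℕ) (rw1032) (rw1033) (Nat.ble 1033 i)) (Bool.rec (motive := fun _ => List ℕ) (rw1034) (rw1035) (Nat.ble 1035 i)) (Nat.ble 1034 i)) (Bool.rec (motive := fun _ => List ℕ) (Bool.rec (motive := fun _ => List ℕ) (rw1036) (rw1037) (Nat.ble 1037 i)) (Bool.rec (motive := fun _ => List ℕ) (rw1038) (rw1039) (Nat.ble 1039 i)) (Nat.ble 1038 i)) (Nat.ble 1036 i)) (Nat.ble 1032 i)) (Bool.rec (motive := fun _ => List ℕ) (Bool.rec (motive := fun _ => List ℕ) (Bool.rec (motive := fun _ => List ℕ) (Bool.rec (motive := fun _ => List ℕ) (rw1040) (rw1041) (Nat.ble 1041 i)) (Bool.rec (motive := fun _ => List ℕ) (rw1042) (rw1043) (Nat.ble 1043 i)) (Nat.ble 1042 i)) (Bool.rec (motive := fun _ => List ℕ) (Bool.rec (motive := fun _ => List ℕ) (rw1044) (rw1045) (Nat.ble 1045 i)) (Bool.rec (motive := fun _ => List ℕ) (rw1046) (rw1047) (Nat.ble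 1047 i)) (Nat.ble 1046 i)) (Nat.ble 1044 i)) (Bool.rec (motive := fun _ => List ℕ) (Bool.rec (motive := fun _ => List ℕ) (Bool.rec (motive := fun _ => List ℕ) (rw1048) (rw1049) (Nat.ble 1049 i)) (Bool.rec (motive := fun _ => List ℕ) (rw1050) (rw1051) (Nat.ble 1051 i)) (Nat.ble 1050 i)) (Bool.rec (motive := fun _ => List ℕ) (Bool.rec (motive := fun _ => List ℕ) (rw1052) (rw1053) (Nat.ble 1053 i)) (Bool.rec (motive := fun _ => List ℕ) (rw1054) (rw1055) (Nat.ble 1055 i)) (Nat.ble 1054 i)) (Nat.ble 1052 i)) (Nat.ble 1048 i)) (Nat.ble 1040 i)) (Bool.rec (motive := fun _ => List ℕ) (Bool.rec (motive := fun _ => List ℕ) (Bool.rec (motive := fun _ => List ℕ) (Bool.rec (motive := fun _ => List ℕ) (Bool.rec (motive := fun _ => List ℕ) (rw1056) (rw1057) (Nat.ble 1057 i)) (Bool.rec (motive := fun _ => List ℕ) (rw1058) (rw1059) (Nat.ble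 1059 i)) (Nat.ble 1058 i)) (Bool.rec (motive := fun _ => List ℕ) (Bool.rec (motive := fun _ => List ℕ) (rw1060) (rw1061) (Nat.ble 1061 i)) (Bool.rec (motive := fun _ => List ℕ) (rw1062) (rw1063) (Nat.ble 1063 i)) (Nat.ble 1062 i)) (Nat.ble 1060 i)) (Bool.rec (motive := fun _ => List ℕ) (Bool.rec (motive := fun _ => List ℕ) (Bool.rec (motive := fun _ => List ℕ) (rw1064) (rw1065) (Nat.ble 1065 i)) (Bool.rec (motive := fun _ => List ℕ) (rw1066) (rw1067) (Nat.ble 1067 i)) (Nat.ble 1066 i)) (Bool.rec (motive := fun _ => List ℕ) (Bool.rec (motive := fun _ => List ℕ) (rw1068) (rw1069) (Nat.ble 1069 i)) (Bool.rec (motive := fun _ => List ℕ) (rw1070) (rw1071) (Nat.ble 1071 i)) (Nat.ble 1070 i)) (Nat.ble 1068 i)) (Nat.ble 1064 i)) (Bool.rec (motive := fun _ => List ℕ) (Bool.rec (motive := fun _ => List ℕ) (Bool.rec (motive := fun _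 => List ℕ) (Bool.rec (motive := fun _ => List ℕ) (rw1072) (rw1073) (Nat.ble 1073 i)) (Bool.rec (motive := fun _ => List ℕ) (rw1074) (rw1075) (Nat.ble 1075 i)) (Nat.ble 1074 i)) (Bool.rec (motive := fun _ => List ℕ) (Bool.rec (motive := fun _ => List ℕ) (rw1076) (rw1077) (Nat.ble 1077 i)) (Bool.rec (motive := fun _ => List ℕ) (rw1078) (rw1079) (Nat.ble 1079 i)) (Nat.ble 1078 i)) (Nat.ble 1076 i)) (Bool.rec (motive := fun _ => List ℕ) (Bool.rec (motive := fun _ => List ℕ) (Bool.rec (motive := fun _ => List ℕ) (rw1080) ([]) (Nat.ble 1081 i)) ([]) (Nat.ble 1082 i)) ([]) (Nat.ble 1084 i)) (Nat.ble 1080 i)) (Nat.ble 1072 i)) (Nat.ble 1056 i)) ([]) (Nat.ble 1088 i)) ([]) (Nat.ble 1152 i)) ([]) (Nat.ble 1280 i)) ([]) (Nat.ble 1536 i)) (Nat.ble 1024 i))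
def sw0 : List ℕ := [2]
def sw1 : List ℕ := [4]
def sw2 : List ℕ := [6]
def sw3 : List ℕ := [8]
def sw4 : List ℕ := [10]
def sw5 : List ℕ := [12]
noncomputable def subW (i : ℕ) : List ℕ := (Bool.rec (motive := fun _ => List ℕ) (Bool.rec (motive := fun _ => List ℕ) (Bool.rec (motive := fun _ => List ℕ) (sw0) (sw1) (Nat.ble 1 i)) (Bool.rec (motive := fun _ => List ℕ) (sw2) (sw3) (Nat.ble 3 i)) (Nat.ble 2 i)) (Bool.rec (motive := fun _ => List ℕ) (Bool.rec (motive := fun _ => List ℕ) (sw4) (sw5) (Nat.ble 5 i)) ([]) (Nat.ble 6 i)) (Nat.ble 4 i))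

noncomputable def data : Data where
  w := 18
  mask := 262143
  tw := 22
  tmask := 4194303
  hsh := 40
  lsh := 58
  ew := 62
  emask := 4611686018427387903
  mw := 63
  mmask := 9223372036854775807
  jw := 26
  jmask := 67108863
  bsh := 11
  bmask := 2047
  nc := 14
  fuel := 6
  E := eT
  J := jT
  Mg := mgT
  JM := jmT
  relW := relW
  nrot := 1081
  subW := subW
  nsub := 6

def M : ℕ := 242990
def n : ℕ := 122760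

def bases : List (List ℕ) := [
  [2, 2],
  [3, 3],
  [4, 2, 4, 2, 4, 2],
  [3, 5, 3, 5, 3, 5],
  [6, 2, 6, 2],
  [3, 7, 3, 7],
  [8, 2, 8, 2],
  [3, 9, 3, 9],
  [10, 2, 10, 2],
  [3, 11, 3, 11],
  [12, 2, 12, 2],
  [3, 13, 3, 13],
  [4, 4],
  [5, 5],
  [6, 4, 6, 4, 6, 4],
  [5, 7, 5, 7, 5, 7],
  [8, 4, 8, 4],
  [5, 9, 5, 9],
  [10, 4, 10, 4],
  [5, 11, 5, 11],
  [12, 4, 12, 4],
  [5, 13, 5, 13],
  [6, 6],
  [7, 7],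
  [8, 6, 8, 6, 8, 6, 8, 6, 8, 6, 8, 6, 8, 6, 8, 6],
  [7, 9, 7, 9, 7, 9, 7, 9, 7, 9, 7, 9, 7, 9, 7, 9],
  [10, 6, 10, 6],
  [7, 11, 7, 11],
  [12, 6, 12, 6],
  [7, 13, 7, 13],
  [8, 8],
  [9, 9],
  [10, 8, 10, 8, 10, 8],
  [9, 11, 9, 11, 9, 11],
  [12, 8, 12, 8],
  [9, 13, 9, 13],
  [10, 10],
  [11, 11],
  [12, 10, 12, 10, 12, 10],
  [11, 13, 11, 13, 11, 13],
  [12, 12],
  [13, 13],
  [7, 9, 7, 9, 7, 9, 7, 9, 12, 2],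
  [3, 13, 8, 6, 8, 6, 8, 6, 8, 6],
  [0, 8, 6, 4, 0, 8, 6, 4, 0, 8, 6, 4, 0, 8, 6, 4, 0, 8, 6, 4],
  [5, 7, 9, 1, 5, 7, 9, 1, 5, 7, 9, 1, 5, 7, 9, 1, 5, 7, 9, 1],
  [6, 0, 7, 4, 0, 5, 6, 0, 7, 4, 0],
  [1, 5, 6, 1, 7, 4, 1, 5, 6, 1, 7],
  [1, 3, 13, 0, 0, 0, 1, 1, 12, 2],
  [3, 13, 0, 0, 1, 1, 1, 12, 2, 0],
  [3, 3, 13, 0, 0, 2, 1, 1, 12, 2],
  [3, 13, 0, 0, 3, 1, 1, 12, 2, 2],
  [5, 3, 13, 0, 0, 4, 1, 1, 12, 2],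
  [3, 13, 0, 0, 5, 1, 1, 12, 2, 4],
  [7, 3, 13, 0, 0, 6, 1, 1, 12, 2],
  [3, 13, 0, 0, 7, 1, 1, 12, 2, 6],
  [9, 3, 13, 0, 0, 8, 1, 1, 12, 2],
  [3, 13, 0, 0, 9, 1, 1, 12, 2, 8],
  [11, 3, 13, 0, 0, 10, 1, 1, 12, 2],
  [3, 13, 0, 0, 11, 1, 1, 12, 2, 10],
  [13, 3, 13, 0, 0, 12, 1, 1, 12, 2],
  [3, 13, 0, 0, 13, 1, 1, 12, 2, 12],
  [1, 7, 0, 8, 0, 8, 7, 9, 1, 9, 1, 0, 0, 8, 0, 8, 6, 9, 1, 9, 1, 6],
  [7, 0, 8, 0, 8, 7, 9, 1, 9, 1, 1, 0, 8, 0, 8, 6, 9, 1, 9, 1, 6, 0],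
  [3, 7, 0, 8, 0, 8, 7, 9, 1, 9, 1, 2, 0, 8, 0, 8, 6, 9, 1, 9, 1, 6],
  [7, 0, 8, 0, 8, 7, 9, 1, 9, 1, 3, 0, 8, 0, 8, 6, 9, 1, 9, 1, 6, 2],
  [5, 7, 0, 8, 0, 8, 7, 9, 1, 9, 1, 4, 0, 8, 0, 8, 6, 9, 1, 9, 1, 6],
  [7, 0, 8, 0, 8, 7, 9, 1, 9, 1, 5, 0, 8, 0, 8, 6, 9, 1, 9, 1, 6, 4],
  [7, 7, 0, 8, 0, 8, 7, 9, 1, 9, 1, 6, 0, 8, 0, 8, 6, 9, 1, 9, 1, 6],
  [7, 0, 8, 0, 8, 7, 9, 1, 9, 1, 7, 0, 8, 0, 8, 6, 9, 1, 9, 1, 6, 6],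
  [9, 7, 0, 8, 0, 8, 7, 9, 1, 9, 1, 8, 0, 8, 0, 8, 6, 9, 1, 9, 1, 6],
  [7, 0, 8, 0, 8, 7, 9, 1, 9, 1, 9, 0, 8, 0, 8, 6, 9, 1, 9, 1, 6, 8],
  [11, 7, 0, 8, 0, 8, 7, 9, 1, 9, 1, 10, 0, 8, 0, 8, 6, 9, 1, 9, 1, 6],
  [7, 0, 8, 0, 8, 7, 9, 1, 9, 1, 11, 0, 8, 0, 8, 6, 9, 1, 9, 1, 6, 10],
  [13, 7, 0, 8, 0, 8, 7, 9, 1, 9, 1, 12, 0, 8, 0, 8, 6, 9, 1, 9, 1, 6],
  [7, 0, 8, 0, 8, 7, 9, 1, 9, 1, 13, 0, 8, 0, 8, 6, 9, 1, 9, 1, 6, 12],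
  [1, 9, 0, 6, 0, 6, 9, 7, 1, 7, 1, 0, 0, 6, 0, 6, 8, 7, 1, 7, 1, 8],
  [9, 0, 6, 0, 6, 9, 7, 1, 7, 1, 1, 0, 6, 0, 6, 8, 7, 1, 7, 1, 8, 0],
  [3, 9, 0, 6, 0, 6, 9, 7, 1, 7, 1, 2, 0, 6, 0, 6, 8, 7, 1, 7, 1, 8],
  [9, 0, 6, 0, 6, 9, 7, 1, 7, 1, 3, 0, 6, 0, 6, 8, 7, 1, 7, 1, 8, 2],
  [5, 9, 0, 6, 0, 6, 9, 7, 1, 7, 1, 4, 0, 6, 0, 6, 8, 7, 1, 7, 1, 8],
  [9, 0, 6, 0, 6, 9, 7, 1, 7, 1, 5, 0, 6, 0, 6, 8, 7, 1, 7, 1, 8, 4],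
  [7, 9, 0, 6, 0, 6, 9, 7, 1, 7, 1, 6, 0, 6, 0, 6, 8, 7, 1, 7, 1, 8],
  [9, 0, 6, 0, 6, 9, 7, 1, 7, 1, 7, 0, 6, 0, 6, 8, 7, 1, 7, 1, 8, 6],
  [9, 9, 0, 6, 0, 6, 9, 7, 1, 7, 1, 8, 0, 6, 0, 6, 8, 7, 1, 7, 1, 8],
  [9, 0, 6, 0, 6, 9, 7, 1, 7, 1, 9, 0, 6, 0, 6, 8, 7, 1, 7, 1, 8, 8],
  [11, 9, 0, 6, 0, 6, 9, 7, 1, 7, 1, 10, 0, 6, 0, 6, 8, 7, 1, 7, 1, 8],
  [9, 0, 6, 0, 6, 9, 7, 1, 7, 1, 11, 0, 6, 0, 6, 8, 7, 1, 7, 1, 8, 10],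
  [13, 9, 0, 6, 0, 6, 9, 7, 1, 7, 1, 12, 0, 6, 0, 6, 8, 7, 1, 7, 1, 8],
  [9, 0, 6, 0, 6, 9, 7, 1, 7, 1, 13, 0, 6, 0, 6, 8, 7, 1, 7, 1, 8, 12],
  [1, 1, 11, 8, 1, 9, 10, 1, 11, 8, 1, 9, 0, 8, 0, 9, 10, 0, 11, 8, 0, 9, 10, 0],
  [1, 11, 8, 1, 9, 10, 1, 11, 8, 1, 9, 1, 8, 0, 9, 10, 0, 11, 8, 0, 9, 10, 0, 0],
  [3, 1, 11, 8, 1, 9, 10, 1, 11, 8, 1, 9, 2, 8, 0, 9, 10, 0, 11, 8, 0, 9, 10, 0],
  [1, 11, 8, 1, 9, 10, 1, 11, 8, 1, 9, 3, 8, 0, 9, 10, 0, 11, 8, 0, 9, 10, 0, 2],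
  [5, 1, 11, 8, 1, 9, 10, 1, 11, 8, 1, 9, 4, 8, 0, 9, 10, 0, 11, 8, 0, 9, 10, 0],
  [1, 11, 8, 1, 9, 10, 1, 11, 8, 1, 9, 5, 8, 0, 9, 10, 0, 11, 8, 0, 9, 10, 0, 4],
  [7, 1, 11, 8, 1, 9, 10, 1, 11, 8, 1, 9, 6, 8, 0, 9, 10, 0, 11, 8, 0, 9, 10, 0],
  [1, 11, 8, 1, 9, 10, 1, 11, 8, 1, 9, 7, 8, 0, 9, 10, 0, 11, 8, 0, 9, 10, 0, 6],
  [9, 1, 11, 8, 1, 9, 10, 1, 11, 8, 1, 9, 8, 8, 0, 9, 10, 0, 11, 8, 0, 9, 10, 0],
  [1, 11, 8, 1, 9, 10, 1, 11, 8, 1, 9, 9, 8, 0, 9, 10, 0, 11, 8, 0, 9, 10, 0, 8],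
  [11, 1, 11, 8, 1, 9, 10, 1, 11, 8, 1, 9, 10, 8, 0, 9, 10, 0, 11, 8, 0, 9, 10, 0],
  [1, 11, 8, 1, 9, 10, 1, 11, 8, 1, 9, 11, 8, 0, 9, 10, 0, 11, 8, 0, 9, 10, 0, 10],
  [13, 1, 11, 8, 1, 9, 10, 1, 11, 8, 1, 9, 12, 8, 0, 9, 10, 0, 11, 8, 0, 9, 10, 0],
  [1, 11, 8, 1, 9, 10, 1, 11, 8, 1, 9, 13, 8, 0, 9, 10, 0, 11, 8, 0, 9, 10, 0, 12],
  [1, 1, 12, 2, 1, 1, 12, 2],
  [3, 13, 0, 0, 3, 13, 0, 0],
  [0, 8, 0, 8, 6, 9, 1, 9, 1, 6, 0, 8, 0, 8, 6, 9, 1, 9, 1, 6],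
  [0, 6, 0, 6, 8, 7, 1, 7, 1, 8, 0, 6, 0, 6, 8, 7, 1, 7, 1, 8],
  [9, 0, 6, 0, 6, 9, 7, 1, 7, 1, 9, 0, 6, 0, 6, 9, 7, 1, 7, 1],
  [8, 0, 9, 10, 0, 11, 8, 0, 9, 10, 0, 8, 0, 9, 10, 0, 11, 8, 0, 9, 10, 0],
  [1, 11, 8, 1, 9, 10, 1, 11, 8, 1, 9, 1, 11, 8, 1, 9, 10, 1, 11, 8, 1, 9],
  [2, 4, 2, 4, 2, 4],
  [2, 6, 2, 6],
  [4, 6, 4, 6, 4, 6],
  [2, 8, 2, 8],
  [4, 8, 4, 8],
  [6, 8, 6, 8, 6, 8, 6, 8, 6, 8, 6, 8, 6, 8, 6, 8],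
  [2, 10, 2, 10],
  [4, 10, 4, 10],
  [6, 10, 6, 10],
  [8, 10, 8, 10, 8, 10],
  [2, 12, 2, 12],
  [4, 12, 4, 12],
  [6, 12, 6, 12],
  [8, 12, 8, 12],
  [10, 12, 10, 12, 10, 12]]

def rots : List (ℕ × ℕ) := [(105, 6), (54, 4), (56, 4), (60, 3), (105, 7), (50, 4), (60, 4), (50, 3), (46, 1), (105, 3), (46, 4), (80, 4), (52, 4), (76, 4), (58, 4), (49, 9), (82, 4), (64, 12), (66, 2), (51, 2), (46, 10), (61, 2), (46, 7), (48, 3), (84, 12), (62, 2), (77, 13), (54, 3), (77, 3), (77, 21), (61, 3), (76, 14), (62, 4), (82, 12), (76, 2), (56, 3), (44, 0), (53, 3), (78, 4), (66, 4), (67, 11), (86, 4), (52, 3), (109, 18), (96, 23), (77, 1), (57, 3), (102, 14), (90, 12), (84, 14), (82, 2), (80, 14), (78, 2), (44, 4), (62, 14), (63, 13), (78, 14), (84, 2), (100, 23), (70, 4), (93, 16), (80, 2), (90, 14), (82, 14), (76, 12), (88, 12), (98,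 23), (91, 16), (64, 4), (74, 4), (74, 2), (94, 14), (64, 14), (91, 13), (98, 17), (44, 16), (90, 20), (102, 23), (58, 3), (70, 14), (91, 22), (72, 12), (88, 14), (91, 19), (96, 20), (63, 3), (72, 4), (100, 17), (88, 4), (109, 7), (59, 3), (74, 14), (70, 12), (79, 13), (90, 17), (94, 20), (80, 12), (70, 2), (92, 20), (65, 11), (92, 23), (94, 23), (66, 14), (94, 17), (96, 14), (100, 14), (102, 20), (92, 17), (79, 11), (102, 17), (62, 12), (83, 11), (63, 1), (98, 20), (92, 14), (81, 11), (96, 17), (64, 2), (72, 2), (100, 20), (75, 11), (101, 22), (71, 11), (97, 19), (66, 12), (88, 2), (73, 11), (98, 14), (86, 14), (72, 14), (74, 12), (86, 2), (89, 11), (78, 12), (87, 13), (93, 19), (55, 3), (59, 2), (93, 13), (87, 11), (67, 13), (44, 12), (44, 8), (83, 13), (86, 12), (101, 19), (55, 2), (95, 19), (93, 22), (95, 22), (65, 13),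 (81, 13), (50, 7), (52, 7), (54, 7), (56, 7), (50, 6), (58, 7), (54, 6), (56, 6), (52, 6), (47, 3), (104, 5), (49, 6), (47, 9), (60, 6), (76, 20), (104, 0), (60, 7), (47, 6), (104, 4), (58, 6), (55, 5), (57, 5), (61, 5), (76, 18), (48, 0), (80, 10), (57, 6), (47, 0), (51, 5), (82, 20), (53, 5), (59, 5), (66, 10), (82, 18), (88, 18), (77, 19), (80, 18), (77, 17), (84, 18), (77, 9), (78, 10), (80, 20), (78, 20), (51, 6), (76, 0), (102, 4), (90, 4), (91, 6), (86, 8), (63, 17), (100, 1), (63, 7), (84, 20), (55, 6), (62, 8), (76, 8), (102, 1), (63, 19), (66, 18), (62, 18), (96, 4), (78, 18), (98, 1), (82, 8), (64, 8), (72, 8), (92, 7), (64, 18), (94, 1), (77, 7), (98, 4), (91, 3), (86, 18), (90, 10), (72, 20), (70, 18), (72, 10), (98, 10), (90, 7), (74, 8), (80, 8), (98, 7), (88, 20), (91, 11), (78, 8), (91, 9), (92, 10), (62,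 20), (94, 7), (92, 1), (92, 4), (99, 0), (90, 1), (94, 10), (96, 10), (100, 7), (64, 10), (70, 20), (102, 7), (74, 20), (66, 20), (94, 4), (95, 3), (100, 10), (75, 7), (86, 10), (74, 18), (88, 8), (70, 10), (96, 7), (72, 18), (64, 20), (86, 20), (102, 10), (45, 19), (66, 8), (100, 4), (63, 9), (96, 1), (45, 3), (74, 10), (97, 6), (70, 8), (93, 9), (88, 10), (99, 6), (45, 7), (101, 9), (75, 17), (45, 15), (45, 11), (75, 19), (71, 17), (53, 6), (82, 10), (61, 6), (103, 6), (97, 3), (87, 7), (71, 9), (95, 0), (97, 0), (93, 6), (101, 6), (71, 19), (89, 19), (79, 17), (95, 9), (95, 6), (93, 3), (89, 7), (79, 7), (50, 5), (0, 1), (4, 1), (6, 1), (8, 1), (2, 5), (10, 1), (48, 9), (4, 3), (51, 8), (10, 3), (2, 1), (42, 9), (78, 11), (49, 8), (6, 3), (2, 3), (54, 9), (104, 7), (61, 8), (79, 21), (52, 9), (92, 12), (104, 3), (56, 9),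 (60, 9), (58, 9), (8, 3), (55, 8), (93, 23), (64, 11), (57, 8), (65, 21), (53, 8), (59, 8), (3, 0), (51, 4), (5, 0), (3, 4), (9, 0), (7, 0), (11, 0), (78, 0), (43, 0), (1, 1), (7, 2), (48, 1), (5, 2), (11, 2), (55, 0), (56, 1), (3, 2), (54, 1), (49, 0), (52, 1), (92, 0), (79, 10), (57, 0), (60, 1), (105, 4), (53, 0), (64, 0), (9, 2), (50, 1), (58, 1), (61, 0), (93, 11), (59, 0), (52, 5), (12, 1), (2, 0), (16, 1), (18, 1), (2, 2), (20, 1), (81, 21), (47, 5), (53, 9), (2, 4), (80, 11), (46, 3), (14, 1), (14, 5), (14, 3), (20, 3), (46, 9), (16, 3), (18, 3), (44, 19), (44, 3), (44, 15), (44, 11), (44, 7), (53, 4), (13, 1), (46, 5), (47, 7), (15, 4), (52, 0), (80, 0), (19, 0), (17, 0), (15, 0), (21, 0), (3, 1), (15, 2), (47, 1), (3, 3), (81, 10), (21, 2), (3, 5), (17, 2), (45, 4), (19, 2), (94, 0), (45, 0), (45, 12), (45, 8), (45,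 16), (54, 5), (22, 1), (4, 0), (14, 0), (26, 1), (14, 2), (4, 2), (28, 1), (43, 9), (46, 0), (55, 9), (28, 3), (14, 4), (43, 3), (46, 6), (69, 20), (64, 16), (78, 13), (82, 5), (62, 16), (76, 3), (66, 21), (83, 21), (82, 11), (43, 7), (63, 15), (82, 3), (72, 16), (43, 5), (24, 1), (64, 21), (77, 12), (47, 2), (74, 16), (68, 16), (47, 8), (77, 4), (84, 13), (84, 15), (108, 12), (24, 5), (77, 2), (88, 15), (26, 3), (62, 21), (80, 5), (88, 13), (44, 2), (74, 21), (72, 21), (76, 5), (78, 15), (76, 15), (76, 13), (66, 16), (80, 15), (80, 3), (24, 9), (84, 5), (70, 16), (96, 12), (84, 3), (86, 13), (80, 13), (70, 21), (24, 15), (86, 3), (77, 14), (63, 20), (86, 5), (78, 5), (78, 3), (44, 14), (75, 15), (88, 3), (88, 5), (82, 13), (86, 15), (24, 7), (44, 18), (44, 10), (24, 11), (65, 15), (73, 20), (82, 15), (24, 3), (24, 13), (44,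 6), (81, 12), (67, 20), (79, 12), (83, 4), (87, 14), (65, 20), (46, 8), (23, 1), (47, 10), (47, 4), (55, 4), (46, 2), (27, 0), (29, 0), (77, 8), (76, 9), (5, 3), (54, 0), (62, 6), (63, 5), (82, 19), (76, 19), (68, 1), (5, 1), (64, 6), (15, 3), (82, 17), (15, 5), (68, 6), (29, 2), (82, 0), (76, 17), (42, 4), (78, 17), (72, 6), (83, 10), (74, 6), (66, 6), (15, 1), (42, 6), (25, 12), (88, 17), (42, 2), (107, 17), (84, 19), (88, 19), (77, 18), (65, 0), (27, 2), (67, 0), (80, 9), (84, 17), (78, 19), (25, 8), (77, 6), (70, 1), (86, 17), (76, 7), (88, 9), (45, 17), (86, 9), (25, 10), (77, 16), (84, 9), (66, 1), (80, 17), (25, 0), (42, 0), (71, 0), (78, 9), (62, 1), (88, 7), (78, 7), (64, 1), (72, 1), (74, 1), (63, 0), (86, 19), (70, 6), (80, 7), (25, 2), (45, 1), (86, 7), (82, 9), (73, 5), (80, 19), (25, 6), (82, 7), (45, 5), (25,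 4), (45, 9), (45, 13), (25, 14), (73, 0), (65, 5), (79, 8), (67, 5), (56, 5), (30, 1), (16, 0), (6, 2), (6, 0), (34, 1), (57, 9), (24, 0), (16, 2), (24, 2), (43, 2), (43, 4), (62, 5), (82, 21), (66, 3), (64, 13), (76, 21), (84, 11), (84, 16), (32, 1), (63, 4), (64, 3), (78, 21), (34, 3), (76, 16), (44, 1), (74, 15), (24, 8), (102, 9), (62, 15), (91, 18), (109, 11), (62, 3), (63, 2), (96, 19), (96, 9), (72, 5), (91, 8), (80, 16), (92, 3), (32, 3), (100, 13), (64, 15), (63, 14), (70, 5), (88, 21), (32, 5), (80, 21), (98, 3), (77, 15), (72, 15), (44, 17), (90, 19), (70, 3), (43, 8), (91, 2), (98, 19), (85, 20), (96, 3), (90, 3), (70, 15), (102, 19), (92, 19), (98, 9), (90, 13), (78, 16), (24, 10), (94, 3), (62, 13), (74, 13), (43, 6), (92, 13), (64, 5), (94, 9), (98, 13), (90, 9), (102, 3), (100, 19), (66, 15), (63, 12), (91,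 12), (96, 13), (94, 19), (66, 5), (103, 12), (72, 13), (74, 5), (24, 14), (74, 3), (44, 5), (77, 20), (92, 9), (72, 3), (82, 16), (102, 13), (86, 21), (100, 9), (66, 13), (88, 16), (94, 13), (95, 18), (100, 3), (86, 16), (89, 15), (70, 13), (44, 9), (24, 6), (44, 13), (24, 12), (93, 12), (81, 20), (89, 20), (99, 8), (24, 4), (79, 15), (97, 12), (95, 12), (87, 15), (87, 20), (101, 18), (81, 15), (65, 14), (67, 12), (73, 12), (83, 20), (33, 0), (31, 1), (25, 7), (17, 3), (7, 3), (62, 7), (63, 6), (62, 17), (42, 1), (17, 1), (42, 3), (63, 18), (62, 19), (56, 0), (70, 17), (76, 6), (76, 1), (84, 6), (84, 1), (64, 9), (77, 0), (25, 3), (57, 4), (78, 6), (64, 7), (64, 17), (25, 9), (7, 1), (100, 21), (90, 5), (70, 19), (88, 1), (74, 19), (66, 19), (90, 11), (91, 4), (70, 9), (80, 6), (77, 5), (90, 15), (79, 0), (94, 5), (92, 15),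 (91, 10), (66, 17), (96, 21), (93, 10), (91, 20), (42, 5), (92, 21), (110, 21), (92, 5), (92, 11), (78, 1), (96, 15), (74, 17), (98, 21), (70, 7), (91, 14), (64, 19), (96, 5), (102, 5), (89, 0), (82, 6), (35, 0), (100, 11), (100, 15), (63, 8), (35, 2), (62, 9), (98, 5), (98, 0), (42, 7), (94, 15), (63, 16), (94, 11), (102, 21), (72, 7), (90, 21), (74, 7), (96, 11), (72, 9), (66, 9), (72, 17), (33, 4), (102, 11), (66, 7), (25, 5), (45, 2), (94, 21), (25, 15), (101, 10), (88, 6), (33, 2), (81, 0), (80, 1), (99, 10), (82, 1), (83, 0), (81, 5), (98, 15), (102, 15), (45, 18), (45, 6), (72, 19), (25, 1), (74, 9), (93, 14), (79, 5), (100, 5), (71, 18), (71, 8), (25, 11), (45, 14), (86, 6), (45, 10), (86, 1), (87, 0), (65, 6), (75, 16), (95, 20), (71, 6), (25, 13), (87, 5), (67, 6), (58, 5), (36, 1), (32, 0), (38, 1), (18, 0), (26,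 0), (32, 2), (26, 2), (8, 0), (8, 2), (18, 2), (38, 5), (59, 9), (101, 23), (92, 6), (90, 6), (91, 5), (91, 21), (90, 16), (92, 22), (91, 15), (98, 16), (98, 22), (98, 6), (38, 3), (94, 6), (90, 22), (96, 6), (32, 4), (100, 6), (94, 22), (102, 22), (94, 16), (101, 5), (96, 22), (102, 6), (100, 16), (92, 16), (96, 16), (93, 5), (102, 16), (95, 15), (103, 5), (93, 21), (100, 22), (101, 21), (103, 15), (97, 5), (58, 0), (39, 0), (39, 2), (59, 4), (27, 3), (9, 3), (100, 0), (37, 1), (100, 8), (9, 1), (90, 8), (33, 5), (90, 18), (90, 2), (94, 18), (100, 2), (98, 18), (91, 17), (33, 1), (100, 18), (19, 3), (96, 2), (27, 1), (94, 2), (96, 8), (92, 8), (92, 18), (98, 8), (92, 2), (101, 17), (91, 1), (19, 1), (91, 7), (94, 8), (39, 4), (98, 2), (102, 18), (96, 18), (102, 8), (33, 3), (102, 2), (93, 17), (93, 7), (97, 17), (97, 1),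 (48, 8), (60, 5), (40, 1), (20, 0), (28, 0), (34, 0), (20, 2), (28, 2), (34, 2), (10, 0), (10, 2), (54, 8), (53, 7), (104, 2), (52, 8), (38, 0), (104, 6), (88, 11), (42, 8), (38, 2), (89, 21), (49, 7), (55, 7), (61, 9), (56, 8), (102, 12), (51, 7), (38, 4), (103, 23), (57, 7), (50, 8), (58, 8), (60, 8), (61, 7), (59, 7), (11, 3), (61, 4), (60, 0), (41, 1), (21, 3), (48, 2), (88, 0), (35, 1), (105, 5), (29, 3), (29, 1), (54, 2), (49, 1), (43, 1), (102, 0), (21, 1), (51, 1), (56, 2), (53, 1), (89, 10), (52, 2), (35, 3), (103, 11), (39, 5), (50, 2), (11, 1), (74, 0), (60, 2), (58, 2), (39, 3), (39, 1), (59, 1), (81, 16), (66, 0), (48, 4), (84, 10), (105, 1), (105, 0), (107, 10), (84, 8), (96, 0), (79, 6), (101, 11), (37, 0), (77, 10), (109, 10), (49, 2), (110, 16), (73, 7), (109, 20), (89, 12), (62, 0), (66, 11), (22, 0), (72,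 11), (72, 0), (70, 0), (98, 11), (94, 12), (63, 21), (76, 10), (93, 0), (86, 11), (13, 0), (91, 23), (41, 0), (62, 10), (53, 2), (12, 0), (97, 13), (23, 0), (30, 0), (74, 11), (93, 4), (100, 12), (86, 0), (50, 9), (90, 23), (65, 12), (97, 4), (31, 0), (89, 14), (81, 3), (95, 10), (101, 8), (68, 17), (95, 11), (1, 0), (97, 16), (70, 11), (67, 14), (71, 12), (93, 2), (57, 2), (67, 7)]

def subsL : List (List ℕ) := [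
  [2],
  [4],
  [6],
  [8],
  [10],
  [12]]

end Cfsg.Agent.Lib.Helper18.ONM.TCI
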