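import Cfsg.Agent.Lib.Helper18.ONM.TCOD
import Cfsg.Agent.Lib.Helper4.TC.Strict

set_option autoImplicit false
set_option maxRecDepth 100000
set_option linter.unusedVariables false
set_option Elab.async false

namespace Cfsg.Agent.Lib.Helper18.ONM.TCO

open Cfsg.Agent.Helper4.TC

theorem e9_c4 : edgeRange data 9 16384 65536 = true := edgeRange_strict data 9 16384 65536 (by decide +kernel)
theorem e9_c5 : edgeRange data 9 16384 81920 = true := edgeRange_strict data 9 16384 81920 (by decide +kernel)
theorem e9_c6 : edgeRange data 9 16384 98304 = true := edgeRange_strict data 9 16384 98304 (by decide +kernel)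
theorem e9_c7 : edgeRange data 9 16384 114688 = true := edgeRange_strict data 9 16384 114688 (by decide +kernel)

end Cfsg.Agent.Lib.Helper18.ONM.TCO
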