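import Cfsg.Agent.Lib.Helper18.ONM.TCOD
import Cfsg.Agent.Lib.Helper4.TC.Strict
import Cfsg.Agent.Lib.Helper7.TCSplit

set_option autoImplicit false
set_option maxRecDepth 100000
set_option linter.unusedVariables false
set_option Elab.async false

namespace Cfsg.Agent.Lib.Helper18.ONM.TCO

open Cfsg.Agent.Helper4.TC
open Cfsg.Agent.Lib.Helper7.TCSplit

theorem cnt0_p0 : countFinal data 32768 0 0 = 12038 := countFinal_strict data 32768 0 0 12038 (by decide +kernel)
theorem cnt0_p1 : countFinal data 32768 32768 0 = 12995 := countFinal_strict data 32768 32768 0 12995 (by decide +kernel)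
theorem cnt0_p2 : countFinal data 32768 65536 0 = 13950 := countFinal_strict data 32768 65536 0 13950 (by decide +kernel)
theorem cnt0_p3 : countFinal data 32768 98304 0 = 14046 := countFinal_strict data 32768 98304 0 14046 (by decide +kernel)
theorem cnt0_p4 : countFinal data 32768 131072 0 = 14861 := countFinal_strict data 32768 131072 0 14861 (by decide +kernel)
theorem cnt0_p5 : countFinal data 32768 163840 0 = 16260 := countFinal_strict data 32768 163840 0 16260 (by decide +kernel)
theorem cnt0_p6 : countFinal data 32768 196608 0 = 14010 := countFinal_strict data 32768 196608 0 14010 (by decide +kernel)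
theorem cnt0_p7 : countFinal data 32768 229376 0 = 12942 := countFinal_strict data 32768 229376 0 12942 (by decide +kernel)
theorem cnt0_p8 : countFinal data 32768 262144 0 = 19523 := countFinal_strict data 32768 262144 0 19523 (by decide +kernel)
theorem cnt0_p9 : countFinal data 32768 294912 0 = 28723 := countFinal_strict data 32768 294912 0 28723 (by decide +kernel)
theorem cnt0_p10 : countFinal data 32768 327680 0 = 29768 := countFinal_strict data 32768 327680 0 29768 (by decide +kernel)
theorem cnt0_p11 : countFinal data 32768 360448 0 = 30551 := countFinal_strict data 32768 360448 0 30551 (by decide +kernel)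
theorem cnt0_p12 : countFinal data 32768 393216 0 = 31105 := countFinal_strict data 32768 393216 0 31105 (by decide +kernel)
theorem cnt0_p13 : countFinal data 32768 425984 0 = 31754 := countFinal_strict data 32768 425984 0 31754 (by decide +kernel)
theorem cnt0_p14 : countFinal data 32768 458752 0 = 32201 := countFinal_strict data 32768 458752 0 32201 (by decide +kernel)
theorem cnt0_p15 : countFinal data 32768 491520 0 = 32542 := countFinal_strict data 32768 491520 0 32542 (by decide +kernel)
theorem cnt0_p16 : countFinal data 21030 524288 0 = 21011 := countFinal_strict data 21030 524288 0 21011 (by decide +kernel)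
theorem cnt0 : countFinal data 545318 0 0 = 368280 :=
  countFinal_glue data 32768 512550 545318 0 32768 12038 356242 368280 rfl rfl rfl cnt0_p0 (countFinal_glue data 32768 479782 512550 32768 65536 12995 343247 356242 rfl rfl rfl cnt0_p1 (countFinal_glue data 32768 447014 479782 65536 98304 13950 329297 343247 rfl rfl rfl cnt0_p2 (countFinal_glue data 32768 414246 447014 98304 131072 14046 315251 329297 rfl rfl rfl cnt0_p3 (countFinal_glue data 32768 381478 414246 131072 163840 14861 300390 315251 rfl rfl rfl cnt0_p4 (countFinal_glue data 32768 348710 381478 163840 196608 16260 284130 300390 rfl rfl rfl cnt0_p5 (countFinal_glue data 32768 315942 348710 196608 229376 14010 270120 284130 rfl rfl rfl cnt0_p6 (countFinal_glue data 32768 283174 315942 229376 262144 12942 257178 270120 rfl rfl rfl cnt0_p7 (countFinal_glue data 32768 250406 283174 262144 294912 19523 237655 257178 rfl rfl rfl cnt0_p8 (countFinal_glue data 32768 217638 250406 294912 327680 28723 208932 237655 rfl rfl rfl cnt0_p9 (countFinal_glue data 32768 184870 217638 327680 360448 29768 179164 208932 rfl rfl rfl cnt0_p10 (countFinal_glue data 32768 152102 184870 360448 393216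 30551 148613 179164 rfl rfl rfl cnt0_p11 (countFinal_glue data 32768 119334 152102 393216 425984 31105 117508 148613 rfl rfl rfl cnt0_p12 (countFinal_glue data 32768 86566 119334 425984 458752 31754 85754 117508 rfl rfl rfl cnt0_p13 (countFinal_glue data 32768 53798 86566 458752 491520 32201 53553 85754 rfl rfl rfl cnt0_p14 (countFinal_glue data 32768 21030 53798 491520 524288 32542 21011 53553 rfl rfl rfl cnt0_p15 (cnt0_p16))))))))))))))))
theorem rows0_p0 : rowsRange data 545318 2048 0 = true := rowsRange_strict data 545318 2048 0 (by decide +kernel)
theorem rows0_p1 : rowsRange data 545318 2048 2048 = true := rowsRange_strict data 545318 2048 2048 (by decide +kernel)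
theorem rows0_p2 : rowsRange data 545318 2048 4096 = true := rowsRange_strict data 545318 2048 4096 (by decide +kernel)
theorem rows0_p3 : rowsRange data 545318 2048 6144 = true := rowsRange_strict data 545318 2048 6144 (by decide +kernel)
theorem rows0_p4 : rowsRange data 545318 2048 8192 = true := rowsRange_strict data 545318 2048 8192 (by decide +kernel)
theorem rows0_p5 : rowsRange data 545318 2048 10240 = true := rowsRange_strict data 545318 2048 10240 (by decide +kernel)
theorem rows0_p6 : rowsRange data 545318 2048 12288 = true := rowsRange_strict data 545318 2048 12288 (by decide +kernel)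
theorem rows0_p7 : rowsRange data 545318 2048 14336 = true := rowsRange_strict data 545318 2048 14336 (by decide +kernel)
theorem rows0 : rowsRange data 545318 16384 0 = true :=
  rowsRange_glue data 545318 2048 14336 16384 0 2048 rfl rfl rows0_p0 (rowsRange_glue data 545318 2048 12288 14336 2048 4096 rfl rfl rows0_p1 (rowsRange_glue data 545318 2048 10240 12288 4096 6144 rfl rfl rows0_p2 (rowsRange_glue data 545318 2048 8192 10240 6144 8192 rfl rfl rows0_p3 (rowsRange_glue data 545318 2048 6144 8192 8192 10240 rfl rfl rows0_p4 (rowsRange_glue data 545318 2048 4096 6144 10240 12288 rfl rfl rows0_p5 (rowsRange_glue data 545318 2048 2048 4096 12288 14336 rfl rfl rows0_p6 (rows0_p7)))))))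
theorem rows1_p0 : rowsRange data 545318 2048 16384 = true := rowsRange_strict data 545318 2048 16384 (by decide +kernel)
theorem rows1_p1 : rowsRange data 545318 2048 18432 = true := rowsRange_strict data 545318 2048 18432 (by decide +kernel)
theorem rows1_p2 : rowsRange data 545318 2048 20480 = true := rowsRange_strict data 545318 2048 20480 (by decide +kernel)
theorem rows1_p3 : rowsRange data 545318 2048 22528 = true := rowsRange_strict data 545318 2048 22528 (by decide +kernel)
theorem rows1_p4 : rowsRange data 545318 2048 24576 = true := rowsRange_strict data 545318 2048 24576 (by decide +kernel)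
theorem rows1_p5 : rowsRange data 545318 2048 26624 = true := rowsRange_strict data 545318 2048 26624 (by decide +kernel)
theorem rows1_p6 : rowsRange data 545318 2048 28672 = true := rowsRange_strict data 545318 2048 28672 (by decide +kernel)
theorem rows1_p7 : rowsRange data 545318 2048 30720 = true := rowsRange_strict data 545318 2048 30720 (by decide +kernel)
theorem rows1 : rowsRange data 545318 16384 16384 = true :=
  rowsRange_glue data 545318 2048 14336 16384 16384 18432 rfl rfl rows1_p0 (rowsRange_glue data 545318 2048 12288 14336 18432 20480 rfl rfl rows1_p1 (rowsRange_glue data 545318 2048 10240 12288 20480 22528 rfl rfl rows1_p2 (rowsRange_glue data 545318 2048 8192 10240 22528 24576 rfl rfl rows1_p3 (rowsRange_glue data 545318 2048 6144 8192 24576 26624 rfl rfl rows1_p4 (rowsRange_glue data 545318 2048 4096 6144 26624 28672 rfl rfl rows1_p5 (rowsRange_glue data 545318 2048 2048 4096 28672 30720 rfl rfl rows1_p6 (rows1_p7)))))))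
theorem rows2_p0 : rowsRange data 545318 2048 32768 = true := rowsRange_strict data 545318 2048 32768 (by decide +kernel)
theorem rows2_p1 : rowsRange data 545318 2048 34816 = true := rowsRange_strict data 545318 2048 34816 (by decide +kernel)
theorem rows2_p2 : rowsRange data 545318 2048 36864 = true := rowsRange_strict data 545318 2048 36864 (by decide +kernel)
theorem rows2_p3 : rowsRange data 545318 2048 38912 = true := rowsRange_strict data 545318 2048 38912 (by decide +kernel)
theorem rows2_p4 : rowsRange data 545318 2048 40960 = true := rowsRange_strict data 545318 2048 40960 (by decide +kernel)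
theorem rows2_p5 : rowsRange data 545318 2048 43008 = true := rowsRange_strict data 545318 2048 43008 (by decide +kernel)
theorem rows2_p6 : rowsRange data 545318 2048 45056 = true := rowsRange_strict data 545318 2048 45056 (by decide +kernel)
theorem rows2_p7 : rowsRange data 545318 2048 47104 = true := rowsRange_strict data 545318 2048 47104 (by decide +kernel)
theorem rows2 : rowsRange data 545318 16384 32768 = true :=
  rowsRange_glue data 545318 2048 14336 16384 32768 34816 rfl rfl rows2_p0 (rowsRange_glue data 545318 2048 12288 14336 34816 36864 rfl rfl rows2_p1 (rowsRange_glue data 545318 2048 10240 12288 36864 38912 rfl rfl rows2_p2 (rowsRange_glue data 545318 2048 8192 10240 38912 40960 rfl rfl rows2_p3 (rowsRange_glue data 545318 2048 6144 8192 40960 43008 rfl rfl rows2_p4 (rowsRange_glue data 545318 2048 4096 6144 43008 45056 rfl rfl rows2_p5 (rowsRange_glue data 545318 2048 2048 4096 45056 47104 rfl rfl rows2_p6 (rows2_p7)))))))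
theorem rows3_p0 : rowsRange data 545318 2048 49152 = true := rowsRange_strict data 545318 2048 49152 (by decide +kernel)
theorem rows3_p1 : rowsRange data 545318 2048 51200 = true := rowsRange_strict data 545318 2048 51200 (by decide +kernel)
theorem rows3_p2 : rowsRange data 545318 2048 53248 = true := rowsRange_strict data 545318 2048 53248 (by decide +kernel)
theorem rows3_p3 : rowsRange data 545318 2048 55296 = true := rowsRange_strict data 545318 2048 55296 (by decide +kernel)
theorem rows3_p4 : rowsRange data 545318 2048 57344 = true := rowsRange_strict data 545318 2048 57344 (by decide +kernel)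
theorem rows3_p5 : rowsRange data 545318 2048 59392 = true := rowsRange_strict data 545318 2048 59392 (by decide +kernel)
theorem rows3_p6 : rowsRange data 545318 2048 61440 = true := rowsRange_strict data 545318 2048 61440 (by decide +kernel)
theorem rows3_p7 : rowsRange data 545318 2048 63488 = true := rowsRange_strict data 545318 2048 63488 (by decide +kernel)
theorem rows3 : rowsRange data 545318 16384 49152 = true :=
  rowsRange_glue data 545318 2048 14336 16384 49152 51200 rfl rfl rows3_p0 (rowsRange_glue data 545318 2048 12288 14336 51200 53248 rfl rfl rows3_p1 (rowsRange_glue data 545318 2048 10240 12288 53248 55296 rfl rfl rows3_p2 (rowsRange_glue data 545318 2048 8192 10240 55296 57344 rfl rfl rows3_p3 (rowsRange_glue data 545318 2048 6144 8192 57344 59392 rfl rfl rows3_p4 (rowsRange_glue data 545318 2048 4096 6144 59392 61440 rfl rfl rows3_p5 (rowsRange_glue data 545318 2048 2048 4096 61440 63488 rfl rfl rows3_p6 (rows3_p7)))))))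

end Cfsg.Agent.Lib.Helper18.ONM.TCO
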