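import Cfsg.Agent.Lib.Helper18.ONM.TCOD
import Cfsg.Agent.Lib.Helper4.TC.Strict
import Cfsg.Agent.Lib.Helper7.TCSplit

set_option autoImplicit false
set_option maxRecDepth 100000
set_option linter.unusedVariables false
set_option Elab.async false

namespace Cfsg.Agent.Lib.Helper18.ONM.TCO

open Cfsg.Agent.Helper4.TC
open Cfsg.Agent.Lib.Helper7.TCSplit

theorem rows4_p0 : rowsRange data 545318 2048 65536 = true := rowsRange_strict data 545318 2048 65536 (by decide +kernel)
theorem rows4_p1 : rowsRange data 545318 2048 67584 = true := rowsRange_strict data 545318 2048 67584 (by decide +kernel)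
theorem rows4_p2 : rowsRange data 545318 2048 69632 = true := rowsRange_strict data 545318 2048 69632 (by decide +kernel)
theorem rows4_p3 : rowsRange data 545318 2048 71680 = true := rowsRange_strict data 545318 2048 71680 (by decide +kernel)
theorem rows4_p4 : rowsRange data 545318 2048 73728 = true := rowsRange_strict data 545318 2048 73728 (by decide +kernel)
theorem rows4_p5 : rowsRange data 545318 2048 75776 = true := rowsRange_strict data 545318 2048 75776 (by decide +kernel)
theorem rows4_p6 : rowsRange data 545318 2048 77824 = true := rowsRange_strict data 545318 2048 77824 (by decide +kernel)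
theorem rows4_p7 : rowsRange data 545318 2048 79872 = true := rowsRange_strict data 545318 2048 79872 (by decide +kernel)
theorem rows4 : rowsRange data 545318 16384 65536 = true :=
  rowsRange_glue data 545318 2048 14336 16384 65536 67584 rfl rfl rows4_p0 (rowsRange_glue data 545318 2048 12288 14336 67584 69632 rfl rfl rows4_p1 (rowsRange_glue data 545318 2048 10240 12288 69632 71680 rfl rfl rows4_p2 (rowsRange_glue data 545318 2048 8192 10240 71680 73728 rfl rfl rows4_p3 (rowsRange_glue data 545318 2048 6144 8192 73728 75776 rfl rfl rows4_p4 (rowsRange_glue data 545318 2048 4096 6144 75776 77824 rfl rfl rows4_p5 (rowsRange_glue data 545318 2048 2048 4096 77824 79872 rfl rfl rows4_p6 (rows4_p7)))))))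
theorem rows5_p0 : rowsRange data 545318 2048 81920 = true := rowsRange_strict data 545318 2048 81920 (by decide +kernel)
theorem rows5_p1 : rowsRange data 545318 2048 83968 = true := rowsRange_strict data 545318 2048 83968 (by decide +kernel)
theorem rows5_p2 : rowsRange data 545318 2048 86016 = true := rowsRange_strict data 545318 2048 86016 (by decide +kernel)
theorem rows5_p3 : rowsRange data 545318 2048 88064 = true := rowsRange_strict data 545318 2048 88064 (by decide +kernel)
theorem rows5_p4 : rowsRange data 545318 2048 90112 = true := rowsRange_strict data 545318 2048 90112 (by decide +kernel)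
theorem rows5_p5 : rowsRange data 545318 2048 92160 = true := rowsRange_strict data 545318 2048 92160 (by decide +kernel)
theorem rows5_p6 : rowsRange data 545318 2048 94208 = true := rowsRange_strict data 545318 2048 94208 (by decide +kernel)
theorem rows5_p7 : rowsRange data 545318 2048 96256 = true := rowsRange_strict data 545318 2048 96256 (by decide +kernel)
theorem rows5 : rowsRange data 545318 16384 81920 = true :=
  rowsRange_glue data 545318 2048 14336 16384 81920 83968 rfl rfl rows5_p0 (rowsRange_glue data 545318 2048 12288 14336 83968 86016 rfl rfl rows5_p1 (rowsRange_glue data 545318 2048 10240 12288 86016 88064 rfl rfl rows5_p2 (rowsRange_glue data 545318 2048 8192 10240 88064 90112 rfl rfl rows5_p3 (rowsRange_glue data 545318 2048 6144 8192 90112 92160 rfl rfl rows5_p4 (rowsRange_glue data 545318 2048 4096 6144 92160 94208 rfl rfl rows5_p5 (rowsRange_glue data 545318 2048 2048 4096 94208 96256 rfl rfl rows5_p6 (rows5_p7)))))))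
theorem rows6_p0 : rowsRange data 545318 2048 98304 = true := rowsRange_strict data 545318 2048 98304 (by decide +kernel)
theorem rows6_p1 : rowsRange data 545318 2048 100352 = true := rowsRange_strict data 545318 2048 100352 (by decide +kernel)
theorem rows6_p2 : rowsRange data 545318 2048 102400 = true := rowsRange_strict data 545318 2048 102400 (by decide +kernel)
theorem rows6_p3 : rowsRange data 545318 2048 104448 = true := rowsRange_strict data 545318 2048 104448 (by decide +kernel)
theorem rows6_p4 : rowsRange data 545318 2048 106496 = true := rowsRange_strict data 545318 2048 106496 (by decide +kernel)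
theorem rows6_p5 : rowsRange data 545318 2048 108544 = true := rowsRange_strict data 545318 2048 108544 (by decide +kernel)
theorem rows6_p6 : rowsRange data 545318 2048 110592 = true := rowsRange_strict data 545318 2048 110592 (by decide +kernel)
theorem rows6_p7 : rowsRange data 545318 2048 112640 = true := rowsRange_strict data 545318 2048 112640 (by decide +kernel)
theorem rows6 : rowsRange data 545318 16384 98304 = true :=
  rowsRange_glue data 545318 2048 14336 16384 98304 100352 rfl rfl rows6_p0 (rowsRange_glue data 545318 2048 12288 14336 100352 102400 rfl rfl rows6_p1 (rowsRange_glue data 545318 2048 10240 12288 102400 104448 rfl rfl rows6_p2 (rowsRange_glue data 545318 2048 8192 10240 104448 106496 rfl rfl rows6_p3 (rowsRange_glue data 545318 2048 6144 8192 106496 108544 rfl rfl rows6_p4 (rowsRange_glue data 545318 2048 4096 6144 108544 110592 rfl rfl rows6_p5 (rowsRange_glue data 545318 2048 2048 4096 110592 112640 rfl rfl rows6_p6 (rows6_p7)))))))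
theorem rows7_p0 : rowsRange data 545318 2048 114688 = true := rowsRange_strict data 545318 2048 114688 (by decide +kernel)
theorem rows7_p1 : rowsRange data 545318 2048 116736 = true := rowsRange_strict data 545318 2048 116736 (by decide +kernel)
theorem rows7_p2 : rowsRange data 545318 2048 118784 = true := rowsRange_strict data 545318 2048 118784 (by decide +kernel)
theorem rows7_p3 : rowsRange data 545318 2048 120832 = true := rowsRange_strict data 545318 2048 120832 (by decide +kernel)
theorem rows7_p4 : rowsRange data 545318 2048 122880 = true := rowsRange_strict data 545318 2048 122880 (by decide +kernel)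
theorem rows7_p5 : rowsRange data 545318 2048 124928 = true := rowsRange_strict data 545318 2048 124928 (by decide +kernel)
theorem rows7_p6 : rowsRange data 545318 2048 126976 = true := rowsRange_strict data 545318 2048 126976 (by decide +kernel)
theorem rows7_p7 : rowsRange data 545318 2048 129024 = true := rowsRange_strict data 545318 2048 129024 (by decide +kernel)
theorem rows7 : rowsRange data 545318 16384 114688 = true :=
  rowsRange_glue data 545318 2048 14336 16384 114688 116736 rfl rfl rows7_p0 (rowsRange_glue data 545318 2048 12288 14336 116736 118784 rfl rfl rows7_p1 (rowsRange_glue data 545318 2048 10240 12288 118784 120832 rfl rfl rows7_p2 (rowsRange_glue data 545318 2048 8192 10240 120832 122880 rfl rfl rows7_p3 (rowsRange_glue data 545318 2048 6144 8192 122880 124928 rfl rfl rows7_p4 (rowsRange_glue data 545318 2048 4096 6144 124928 126976 rfl rfl rows7_p5 (rowsRange_glue data 545318 2048 2048 4096 126976 129024 rfl rfl rows7_p6 (rows7_p7)))))))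

end Cfsg.Agent.Lib.Helper18.ONM.TCO
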