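import Cfsg.Agent.Lib.Helper18.ONM.TCOD
import Cfsg.Agent.Lib.Helper4.TC.Strict
import Cfsg.Agent.Lib.Helper7.TCSplit

set_option autoImplicit false
set_option maxRecDepth 100000
set_option linter.unusedVariables false
set_option Elab.async false

namespace Cfsg.Agent.Lib.Helper18.ONM.TCO

open Cfsg.Agent.Helper4.TC
open Cfsg.Agent.Lib.Helper7.TCSplit

theorem rows16_p0 : rowsRange data 545318 2048 262144 = true := rowsRange_strict data 545318 2048 262144 (by decide +kernel)
theorem rows16_p1 : rowsRange data 545318 2048 264192 = true := rowsRange_strict data 545318 2048 264192 (by decide +kernel)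
theorem rows16_p2 : rowsRange data 545318 2048 266240 = true := rowsRange_strict data 545318 2048 266240 (by decide +kernel)
theorem rows16_p3 : rowsRange data 545318 2048 268288 = true := rowsRange_strict data 545318 2048 268288 (by decide +kernel)
theorem rows16_p4 : rowsRange data 545318 2048 270336 = true := rowsRange_strict data 545318 2048 270336 (by decide +kernel)
theorem rows16_p5 : rowsRange data 545318 2048 272384 = true := rowsRange_strict data 545318 2048 272384 (by decide +kernel)
theorem rows16_p6 : rowsRange data 545318 2048 274432 = true := rowsRange_strict data 545318 2048 274432 (by decide +kernel)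
theorem rows16_p7 : rowsRange data 545318 2048 276480 = true := rowsRange_strict data 545318 2048 276480 (by decide +kernel)
theorem rows16 : rowsRange data 545318 16384 262144 = true :=
  rowsRange_glue data 545318 2048 14336 16384 262144 264192 rfl rfl rows16_p0 (rowsRange_glue data 545318 2048 12288 14336 264192 266240 rfl rfl rows16_p1 (rowsRange_glue data 545318 2048 10240 12288 266240 268288 rfl rfl rows16_p2 (rowsRange_glue data 545318 2048 8192 10240 268288 270336 rfl rfl rows16_p3 (rowsRange_glue data 545318 2048 6144 8192 270336 272384 rfl rfl rows16_p4 (rowsRange_glue data 545318 2048 4096 6144 272384 274432 rfl rfl rows16_p5 (rowsRange_glue data 545318 2048 2048 4096 274432 276480 rfl rfl rows16_p6 (rows16_p7)))))))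
theorem rows17_p0 : rowsRange data 545318 2048 278528 = true := rowsRange_strict data 545318 2048 278528 (by decide +kernel)
theorem rows17_p1 : rowsRange data 545318 2048 280576 = true := rowsRange_strict data 545318 2048 280576 (by decide +kernel)
theorem rows17_p2 : rowsRange data 545318 2048 282624 = true := rowsRange_strict data 545318 2048 282624 (by decide +kernel)
theorem rows17_p3 : rowsRange data 545318 2048 284672 = true := rowsRange_strict data 545318 2048 284672 (by decide +kernel)
theorem rows17_p4 : rowsRange data 545318 2048 286720 = true := rowsRange_strict data 545318 2048 286720 (by decide +kernel)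
theorem rows17_p5 : rowsRange data 545318 2048 288768 = true := rowsRange_strict data 545318 2048 288768 (by decide +kernel)
theorem rows17_p6 : rowsRange data 545318 2048 290816 = true := rowsRange_strict data 545318 2048 290816 (by decide +kernel)
theorem rows17_p7 : rowsRange data 545318 2048 292864 = true := rowsRange_strict data 545318 2048 292864 (by decide +kernel)
theorem rows17 : rowsRange data 545318 16384 278528 = true :=
  rowsRange_glue data 545318 2048 14336 16384 278528 280576 rfl rfl rows17_p0 (rowsRange_glue data 545318 2048 12288 14336 280576 282624 rfl rfl rows17_p1 (rowsRange_glue data 545318 2048 10240 12288 282624 284672 rfl rfl rows17_p2 (rowsRange_glue data 545318 2048 8192 10240 284672 286720 rfl rfl rows17_p3 (rowsRange_glue data 545318 2048 6144 8192 286720 288768 rfl rfl rows17_p4 (rowsRange_glue data 545318 2048 4096 6144 288768 290816 rfl rfl rows17_p5 (rowsRange_glue data 545318 2048 2048 4096 290816 292864 rfl rfl rows17_p6 (rows17_p7)))))))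
theorem rows18_p0 : rowsRange data 545318 2048 294912 = true := rowsRange_strict data 545318 2048 294912 (by decide +kernel)
theorem rows18_p1 : rowsRange data 545318 2048 296960 = true := rowsRange_strict data 545318 2048 296960 (by decide +kernel)
theorem rows18_p2 : rowsRange data 545318 2048 299008 = true := rowsRange_strict data 545318 2048 299008 (by decide +kernel)
theorem rows18_p3 : rowsRange data 545318 2048 301056 = true := rowsRange_strict data 545318 2048 301056 (by decide +kernel)
theorem rows18_p4 : rowsRange data 545318 2048 303104 = true := rowsRange_strict data 545318 2048 303104 (by decide +kernel)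
theorem rows18_p5 : rowsRange data 545318 2048 305152 = true := rowsRange_strict data 545318 2048 305152 (by decide +kernel)
theorem rows18_p6 : rowsRange data 545318 2048 307200 = true := rowsRange_strict data 545318 2048 307200 (by decide +kernel)
theorem rows18_p7 : rowsRange data 545318 2048 309248 = true := rowsRange_strict data 545318 2048 309248 (by decide +kernel)
theorem rows18 : rowsRange data 545318 16384 294912 = true :=
  rowsRange_glue data 545318 2048 14336 16384 294912 296960 rfl rfl rows18_p0 (rowsRange_glue data 545318 2048 12288 14336 296960 299008 rfl rfl rows18_p1 (rowsRange_glue data 545318 2048 10240 12288 299008 301056 rfl rfl rows18_p2 (rowsRange_glue data 545318 2048 8192 10240 301056 303104 rfl rfl rows18_p3 (rowsRange_glue data 545318 2048 6144 8192 303104 305152 rfl rfl rows18_p4 (rowsRange_glue data 545318 2048 4096 6144 305152 307200 rfl rfl rows18_p5 (rowsRange_glue data 545318 2048 2048 4096 307200 309248 rfl rfl rows18_p6 (rows18_p7)))))))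
theorem rows19_p0 : rowsRange data 545318 2048 311296 = true := rowsRange_strict data 545318 2048 311296 (by decide +kernel)
theorem rows19_p1 : rowsRange data 545318 2048 313344 = true := rowsRange_strict data 545318 2048 313344 (by decide +kernel)
theorem rows19_p2 : rowsRange data 545318 2048 315392 = true := rowsRange_strict data 545318 2048 315392 (by decide +kernel)
theorem rows19_p3 : rowsRange data 545318 2048 317440 = true := rowsRange_strict data 545318 2048 317440 (by decide +kernel)
theorem rows19_p4 : rowsRange data 545318 2048 319488 = true := rowsRange_strict data 545318 2048 319488 (by decide +kernel)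
theorem rows19_p5 : rowsRange data 545318 2048 321536 = true := rowsRange_strict data 545318 2048 321536 (by decide +kernel)
theorem rows19_p6 : rowsRange data 545318 2048 323584 = true := rowsRange_strict data 545318 2048 323584 (by decide +kernel)
theorem rows19_p7 : rowsRange data 545318 2048 325632 = true := rowsRange_strict data 545318 2048 325632 (by decide +kernel)
theorem rows19 : rowsRange data 545318 16384 311296 = true :=
  rowsRange_glue data 545318 2048 14336 16384 311296 313344 rfl rfl rows19_p0 (rowsRange_glue data 545318 2048 12288 14336 313344 315392 rfl rfl rows19_p1 (rowsRange_glue data 545318 2048 10240 12288 315392 317440 rfl rfl rows19_p2 (rowsRange_glue data 545318 2048 8192 10240 317440 319488 rfl rfl rows19_p3 (rowsRange_glue data 545318 2048 6144 8192 319488 321536 rfl rfl rows19_p4 (rowsRange_glue data 545318 2048 4096 6144 321536 323584 rfl rfl rows19_p5 (rowsRange_glue data 545318 2048 2048 4096 323584 325632 rfl rfl rows19_p6 (rows19_p7)))))))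

end Cfsg.Agent.Lib.Helper18.ONM.TCO
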