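import Cfsg.Agent.Lib.Helper18.ONM.TCOD
import Cfsg.Agent.Lib.Helper4.TC.Strict
import Cfsg.Agent.Lib.Helper7.TCSplit

set_option autoImplicit false
set_option maxRecDepth 100000
set_option linter.unusedVariables false
set_option Elab.async false

namespace Cfsg.Agent.Lib.Helper18.ONM.TCO

open Cfsg.Agent.Helper4.TC
open Cfsg.Agent.Lib.Helper7.TCSplit

theorem rows20_p0 : rowsRange data 545318 2048 327680 = true := rowsRange_strict data 545318 2048 327680 (by decide +kernel)
theorem rows20_p1 : rowsRange data 545318 2048 329728 = true := rowsRange_strict data 545318 2048 329728 (by decide +kernel)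
theorem rows20_p2 : rowsRange data 545318 2048 331776 = true := rowsRange_strict data 545318 2048 331776 (by decide +kernel)
theorem rows20_p3 : rowsRange data 545318 2048 333824 = true := rowsRange_strict data 545318 2048 333824 (by decide +kernel)
theorem rows20_p4 : rowsRange data 545318 2048 335872 = true := rowsRange_strict data 545318 2048 335872 (by decide +kernel)
theorem rows20_p5 : rowsRange data 545318 2048 337920 = true := rowsRange_strict data 545318 2048 337920 (by decide +kernel)
theorem rows20_p6 : rowsRange data 545318 2048 339968 = true := rowsRange_strict data 545318 2048 339968 (by decide +kernel)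
theorem rows20_p7 : rowsRange data 545318 2048 342016 = true := rowsRange_strict data 545318 2048 342016 (by decide +kernel)
theorem rows20 : rowsRange data 545318 16384 327680 = true :=
  rowsRange_glue data 545318 2048 14336 16384 327680 329728 rfl rfl rows20_p0 (rowsRange_glue data 545318 2048 12288 14336 329728 331776 rfl rfl rows20_p1 (rowsRange_glue data 545318 2048 10240 12288 331776 333824 rfl rfl rows20_p2 (rowsRange_glue data 545318 2048 8192 10240 333824 335872 rfl rfl rows20_p3 (rowsRange_glue data 545318 2048 6144 8192 335872 337920 rfl rfl rows20_p4 (rowsRange_glue data 545318 2048 4096 6144 337920 339968 rfl rfl rows20_p5 (rowsRange_glue data 545318 2048 2048 4096 339968 342016 rfl rfl rows20_p6 (rows20_p7)))))))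
theorem rows21_p0 : rowsRange data 545318 2048 344064 = true := rowsRange_strict data 545318 2048 344064 (by decide +kernel)
theorem rows21_p1 : rowsRange data 545318 2048 346112 = true := rowsRange_strict data 545318 2048 346112 (by decide +kernel)
theorem rows21_p2 : rowsRange data 545318 2048 348160 = true := rowsRange_strict data 545318 2048 348160 (by decide +kernel)
theorem rows21_p3 : rowsRange data 545318 2048 350208 = true := rowsRange_strict data 545318 2048 350208 (by decide +kernel)
theorem rows21_p4 : rowsRange data 545318 2048 352256 = true := rowsRange_strict data 545318 2048 352256 (by decide +kernel)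
theorem rows21_p5 : rowsRange data 545318 2048 354304 = true := rowsRange_strict data 545318 2048 354304 (by decide +kernel)
theorem rows21_p6 : rowsRange data 545318 2048 356352 = true := rowsRange_strict data 545318 2048 356352 (by decide +kernel)
theorem rows21_p7 : rowsRange data 545318 2048 358400 = true := rowsRange_strict data 545318 2048 358400 (by decide +kernel)
theorem rows21 : rowsRange data 545318 16384 344064 = true :=
  rowsRange_glue data 545318 2048 14336 16384 344064 346112 rfl rfl rows21_p0 (rowsRange_glue data 545318 2048 12288 14336 346112 348160 rfl rfl rows21_p1 (rowsRange_glue data 545318 2048 10240 12288 348160 350208 rfl rfl rows21_p2 (rowsRange_glue data 545318 2048 8192 10240 350208 352256 rfl rfl rows21_p3 (rowsRange_glue data 545318 2048 6144 8192 352256 354304 rfl rfl rows21_p4 (rowsRange_glue data 545318 2048 4096 6144 354304 356352 rfl rfl rows21_p5 (rowsRange_glue data 545318 2048 2048 4096 356352 358400 rfl rfl rows21_p6 (rows21_p7)))))))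
theorem rows22_p0 : rowsRange data 545318 2048 360448 = true := rowsRange_strict data 545318 2048 360448 (by decide +kernel)
theorem rows22_p1 : rowsRange data 545318 2048 362496 = true := rowsRange_strict data 545318 2048 362496 (by decide +kernel)
theorem rows22_p2 : rowsRange data 545318 2048 364544 = true := rowsRange_strict data 545318 2048 364544 (by decide +kernel)
theorem rows22_p3 : rowsRange data 545318 2048 366592 = true := rowsRange_strict data 545318 2048 366592 (by decide +kernel)
theorem rows22_p4 : rowsRange data 545318 2048 368640 = true := rowsRange_strict data 545318 2048 368640 (by decide +kernel)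
theorem rows22_p5 : rowsRange data 545318 2048 370688 = true := rowsRange_strict data 545318 2048 370688 (by decide +kernel)
theorem rows22_p6 : rowsRange data 545318 2048 372736 = true := rowsRange_strict data 545318 2048 372736 (by decide +kernel)
theorem rows22_p7 : rowsRange data 545318 2048 374784 = true := rowsRange_strict data 545318 2048 374784 (by decide +kernel)
theorem rows22 : rowsRange data 545318 16384 360448 = true :=
  rowsRange_glue data 545318 2048 14336 16384 360448 362496 rfl rfl rows22_p0 (rowsRange_glue data 545318 2048 12288 14336 362496 364544 rfl rfl rows22_p1 (rowsRange_glue data 545318 2048 10240 12288 364544 366592 rfl rfl rows22_p2 (rowsRange_glue data 545318 2048 8192 10240 366592 368640 rfl rfl rows22_p3 (rowsRange_glue data 545318 2048 6144 8192 368640 370688 rfl rfl rows22_p4 (rowsRange_glue data 545318 2048 4096 6144 370688 372736 rfl rfl rows22_p5 (rowsRange_glue data 545318 2048 2048 4096 372736 374784 rfl rfl rows22_p6 (rows22_p7)))))))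
theorem rows23_p0 : rowsRange data 545318 2048 376832 = true := rowsRange_strict data 545318 2048 376832 (by decide +kernel)
theorem rows23_p1 : rowsRange data 545318 2048 378880 = true := rowsRange_strict data 545318 2048 378880 (by decide +kernel)
theorem rows23_p2 : rowsRange data 545318 2048 380928 = true := rowsRange_strict data 545318 2048 380928 (by decide +kernel)
theorem rows23_p3 : rowsRange data 545318 2048 382976 = true := rowsRange_strict data 545318 2048 382976 (by decide +kernel)
theorem rows23_p4 : rowsRange data 545318 2048 385024 = true := rowsRange_strict data 545318 2048 385024 (by decide +kernel)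
theorem rows23_p5 : rowsRange data 545318 2048 387072 = true := rowsRange_strict data 545318 2048 387072 (by decide +kernel)
theorem rows23_p6 : rowsRange data 545318 2048 389120 = true := rowsRange_strict data 545318 2048 389120 (by decide +kernel)
theorem rows23_p7 : rowsRange data 545318 2048 391168 = true := rowsRange_strict data 545318 2048 391168 (by decide +kernel)
theorem rows23 : rowsRange data 545318 16384 376832 = true :=
  rowsRange_glue data 545318 2048 14336 16384 376832 378880 rfl rfl rows23_p0 (rowsRange_glue data 545318 2048 12288 14336 378880 380928 rfl rfl rows23_p1 (rowsRange_glue data 545318 2048 10240 12288 380928 382976 rfl rfl rows23_p2 (rowsRange_glue data 545318 2048 8192 10240 382976 385024 rfl rfl rows23_p3 (rowsRange_glue data 545318 2048 6144 8192 385024 387072 rfl rfl rows23_p4 (rowsRange_glue data 545318 2048 4096 6144 387072 389120 rfl rfl rows23_p5 (rowsRange_glue data 545318 2048 2048 4096 389120 391168 rfl rfl rows23_p6 (rows23_p7)))))))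

end Cfsg.Agent.Lib.Helper18.ONM.TCO
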