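import Cfsg.Agent.Lib.Helper18.ONM.TCOD
import Cfsg.Agent.Lib.Helper4.TC.Strict
import Cfsg.Agent.Lib.Helper7.TCSplit

set_option autoImplicit false
set_option maxRecDepth 100000
set_option linter.unusedVariables false
set_option Elab.async false

namespace Cfsg.Agent.Lib.Helper18.ONM.TCO

open Cfsg.Agent.Helper4.TC
open Cfsg.Agent.Lib.Helper7.TCSplit

theorem rows24_p0 : rowsRange data 545318 2048 393216 = true := rowsRange_strict data 545318 2048 393216 (by decide +kernel)
theorem rows24_p1 : rowsRange data 545318 2048 395264 = true := rowsRange_strict data 545318 2048 395264 (by decide +kernel)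
theorem rows24_p2 : rowsRange data 545318 2048 397312 = true := rowsRange_strict data 545318 2048 397312 (by decide +kernel)
theorem rows24_p3 : rowsRange data 545318 2048 399360 = true := rowsRange_strict data 545318 2048 399360 (by decide +kernel)
theorem rows24_p4 : rowsRange data 545318 2048 401408 = true := rowsRange_strict data 545318 2048 401408 (by decide +kernel)
theorem rows24_p5 : rowsRange data 545318 2048 403456 = true := rowsRange_strict data 545318 2048 403456 (by decide +kernel)
theorem rows24_p6 : rowsRange data 545318 2048 405504 = true := rowsRange_strict data 545318 2048 405504 (by decide +kernel)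
theorem rows24_p7 : rowsRange data 545318 2048 407552 = true := rowsRange_strict data 545318 2048 407552 (by decide +kernel)
theorem rows24 : rowsRange data 545318 16384 393216 = true :=
  rowsRange_glue data 545318 2048 14336 16384 393216 395264 rfl rfl rows24_p0 (rowsRange_glue data 545318 2048 12288 14336 395264 397312 rfl rfl rows24_p1 (rowsRange_glue data 545318 2048 10240 12288 397312 399360 rfl rfl rows24_p2 (rowsRange_glue data 545318 2048 8192 10240 399360 401408 rfl rfl rows24_p3 (rowsRange_glue data 545318 2048 6144 8192 401408 403456 rfl rfl rows24_p4 (rowsRange_glue data 545318 2048 4096 6144 403456 405504 rfl rfl rows24_p5 (rowsRange_glue data 545318 2048 2048 4096 405504 407552 rfl rfl rows24_p6 (rows24_p7)))))))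
theorem rows25_p0 : rowsRange data 545318 2048 409600 = true := rowsRange_strict data 545318 2048 409600 (by decide +kernel)
theorem rows25_p1 : rowsRange data 545318 2048 411648 = true := rowsRange_strict data 545318 2048 411648 (by decide +kernel)
theorem rows25_p2 : rowsRange data 545318 2048 413696 = true := rowsRange_strict data 545318 2048 413696 (by decide +kernel)
theorem rows25_p3 : rowsRange data 545318 2048 415744 = true := rowsRange_strict data 545318 2048 415744 (by decide +kernel)
theorem rows25_p4 : rowsRange data 545318 2048 417792 = true := rowsRange_strict data 545318 2048 417792 (by decide +kernel)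
theorem rows25_p5 : rowsRange data 545318 2048 419840 = true := rowsRange_strict data 545318 2048 419840 (by decide +kernel)
theorem rows25_p6 : rowsRange data 545318 2048 421888 = true := rowsRange_strict data 545318 2048 421888 (by decide +kernel)
theorem rows25_p7 : rowsRange data 545318 2048 423936 = true := rowsRange_strict data 545318 2048 423936 (by decide +kernel)
theorem rows25 : rowsRange data 545318 16384 409600 = true :=
  rowsRange_glue data 545318 2048 14336 16384 409600 411648 rfl rfl rows25_p0 (rowsRange_glue data 545318 2048 12288 14336 411648 413696 rfl rfl rows25_p1 (rowsRange_glue data 545318 2048 10240 12288 413696 415744 rfl rfl rows25_p2 (rowsRange_glue data 545318 2048 8192 10240 415744 417792 rfl rfl rows25_p3 (rowsRange_glue data 545318 2048 6144 8192 417792 419840 rfl rfl rows25_p4 (rowsRange_glue data 545318 2048 4096 6144 419840 421888 rfl rfl rows25_p5 (rowsRange_glue data 545318 2048 2048 4096 421888 423936 rfl rfl rows25_p6 (rows25_p7)))))))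
theorem rows26_p0 : rowsRange data 545318 2048 425984 = true := rowsRange_strict data 545318 2048 425984 (by decide +kernel)
theorem rows26_p1 : rowsRange data 545318 2048 428032 = true := rowsRange_strict data 545318 2048 428032 (by decide +kernel)
theorem rows26_p2 : rowsRange data 545318 2048 430080 = true := rowsRange_strict data 545318 2048 430080 (by decide +kernel)
theorem rows26_p3 : rowsRange data 545318 2048 432128 = true := rowsRange_strict data 545318 2048 432128 (by decide +kernel)
theorem rows26_p4 : rowsRange data 545318 2048 434176 = true := rowsRange_strict data 545318 2048 434176 (by decide +kernel)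
theorem rows26_p5 : rowsRange data 545318 2048 436224 = true := rowsRange_strict data 545318 2048 436224 (by decide +kernel)
theorem rows26_p6 : rowsRange data 545318 2048 438272 = true := rowsRange_strict data 545318 2048 438272 (by decide +kernel)
theorem rows26_p7 : rowsRange data 545318 2048 440320 = true := rowsRange_strict data 545318 2048 440320 (by decide +kernel)
theorem rows26 : rowsRange data 545318 16384 425984 = true :=
  rowsRange_glue data 545318 2048 14336 16384 425984 428032 rfl rfl rows26_p0 (rowsRange_glue data 545318 2048 12288 14336 428032 430080 rfl rfl rows26_p1 (rowsRange_glue data 545318 2048 10240 12288 430080 432128 rfl rfl rows26_p2 (rowsRange_glue data 545318 2048 8192 10240 432128 434176 rfl rfl rows26_p3 (rowsRange_glue data 545318 2048 6144 8192 434176 436224 rfl rfl rows26_p4 (rowsRange_glue data 545318 2048 4096 6144 436224 438272 rfl rfl rows26_p5 (rowsRange_glue data 545318 2048 2048 4096 438272 440320 rfl rfl rows26_p6 (rows26_p7)))))))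
theorem rows27_p0 : rowsRange data 545318 2048 442368 = true := rowsRange_strict data 545318 2048 442368 (by decide +kernel)
theorem rows27_p1 : rowsRange data 545318 2048 444416 = true := rowsRange_strict data 545318 2048 444416 (by decide +kernel)
theorem rows27_p2 : rowsRange data 545318 2048 446464 = true := rowsRange_strict data 545318 2048 446464 (by decide +kernel)
theorem rows27_p3 : rowsRange data 545318 2048 448512 = true := rowsRange_strict data 545318 2048 448512 (by decide +kernel)
theorem rows27_p4 : rowsRange data 545318 2048 450560 = true := rowsRange_strict data 545318 2048 450560 (by decide +kernel)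
theorem rows27_p5 : rowsRange data 545318 2048 452608 = true := rowsRange_strict data 545318 2048 452608 (by decide +kernel)
theorem rows27_p6 : rowsRange data 545318 2048 454656 = true := rowsRange_strict data 545318 2048 454656 (by decide +kernel)
theorem rows27_p7 : rowsRange data 545318 2048 456704 = true := rowsRange_strict data 545318 2048 456704 (by decide +kernel)
theorem rows27 : rowsRange data 545318 16384 442368 = true :=
  rowsRange_glue data 545318 2048 14336 16384 442368 444416 rfl rfl rows27_p0 (rowsRange_glue data 545318 2048 12288 14336 444416 446464 rfl rfl rows27_p1 (rowsRange_glue data 545318 2048 10240 12288 446464 448512 rfl rfl rows27_p2 (rowsRange_glue data 545318 2048 8192 10240 448512 450560 rfl rfl rows27_p3 (rowsRange_glue data 545318 2048 6144 8192 450560 452608 rfl rfl rows27_p4 (rowsRange_glue data 545318 2048 4096 6144 452608 454656 rfl rfl rows27_p5 (rowsRange_glue data 545318 2048 2048 4096 454656 456704 rfl rfl rows27_p6 (rows27_p7)))))))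

end Cfsg.Agent.Lib.Helper18.ONM.TCO
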