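import Cfsg.Agent.Lib.Helper18.ONM.TCOD
import Cfsg.Agent.Lib.Helper4.TC.Strict
import Cfsg.Agent.Lib.Helper7.TCSplit

set_option autoImplicit false
set_option maxRecDepth 100000
set_option linter.unusedVariables false
set_option Elab.async false

namespace Cfsg.Agent.Lib.Helper18.ONM.TCO

open Cfsg.Agent.Helper4.TC
open Cfsg.Agent.Lib.Helper7.TCSplit

theorem rows28_p0 : rowsRange data 545318 2048 458752 = true := rowsRange_strict data 545318 2048 458752 (by decide +kernel)
theorem rows28_p1 : rowsRange data 545318 2048 460800 = true := rowsRange_strict data 545318 2048 460800 (by decide +kernel)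
theorem rows28_p2 : rowsRange data 545318 2048 462848 = true := rowsRange_strict data 545318 2048 462848 (by decide +kernel)
theorem rows28_p3 : rowsRange data 545318 2048 464896 = true := rowsRange_strict data 545318 2048 464896 (by decide +kernel)
theorem rows28_p4 : rowsRange data 545318 2048 466944 = true := rowsRange_strict data 545318 2048 466944 (by decide +kernel)
theorem rows28_p5 : rowsRange data 545318 2048 468992 = true := rowsRange_strict data 545318 2048 468992 (by decide +kernel)
theorem rows28_p6 : rowsRange data 545318 2048 471040 = true := rowsRange_strict data 545318 2048 471040 (by decide +kernel)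
theorem rows28_p7 : rowsRange data 545318 2048 473088 = true := rowsRange_strict data 545318 2048 473088 (by decide +kernel)
theorem rows28 : rowsRange data 545318 16384 458752 = true :=
  rowsRange_glue data 545318 2048 14336 16384 458752 460800 rfl rfl rows28_p0 (rowsRange_glue data 545318 2048 12288 14336 460800 462848 rfl rfl rows28_p1 (rowsRange_glue data 545318 2048 10240 12288 462848 464896 rfl rfl rows28_p2 (rowsRange_glue data 545318 2048 8192 10240 464896 466944 rfl rfl rows28_p3 (rowsRange_glue data 545318 2048 6144 8192 466944 468992 rfl rfl rows28_p4 (rowsRange_glue data 545318 2048 4096 6144 468992 471040 rfl rfl rows28_p5 (rowsRange_glue data 545318 2048 2048 4096 471040 473088 rfl rfl rows28_p6 (rows28_p7)))))))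
theorem rows29_p0 : rowsRange data 545318 2048 475136 = true := rowsRange_strict data 545318 2048 475136 (by decide +kernel)
theorem rows29_p1 : rowsRange data 545318 2048 477184 = true := rowsRange_strict data 545318 2048 477184 (by decide +kernel)
theorem rows29_p2 : rowsRange data 545318 2048 479232 = true := rowsRange_strict data 545318 2048 479232 (by decide +kernel)
theorem rows29_p3 : rowsRange data 545318 2048 481280 = true := rowsRange_strict data 545318 2048 481280 (by decide +kernel)
theorem rows29_p4 : rowsRange data 545318 2048 483328 = true := rowsRange_strict data 545318 2048 483328 (by decide +kernel)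
theorem rows29_p5 : rowsRange data 545318 2048 485376 = true := rowsRange_strict data 545318 2048 485376 (by decide +kernel)
theorem rows29_p6 : rowsRange data 545318 2048 487424 = true := rowsRange_strict data 545318 2048 487424 (by decide +kernel)
theorem rows29_p7 : rowsRange data 545318 2048 489472 = true := rowsRange_strict data 545318 2048 489472 (by decide +kernel)
theorem rows29 : rowsRange data 545318 16384 475136 = true :=
  rowsRange_glue data 545318 2048 14336 16384 475136 477184 rfl rfl rows29_p0 (rowsRange_glue data 545318 2048 12288 14336 477184 479232 rfl rfl rows29_p1 (rowsRange_glue data 545318 2048 10240 12288 479232 481280 rfl rfl rows29_p2 (rowsRange_glue data 545318 2048 8192 10240 481280 483328 rfl rfl rows29_p3 (rowsRange_glue data 545318 2048 6144 8192 483328 485376 rfl rfl rows29_p4 (rowsRange_glue data 545318 2048 4096 6144 485376 487424 rfl rfl rows29_p5 (rowsRange_glue data 545318 2048 2048 4096 487424 489472 rfl rfl rows29_p6 (rows29_p7)))))))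
theorem rows30_p0 : rowsRange data 545318 2048 491520 = true := rowsRange_strict data 545318 2048 491520 (by decide +kernel)
theorem rows30_p1 : rowsRange data 545318 2048 493568 = true := rowsRange_strict data 545318 2048 493568 (by decide +kernel)
theorem rows30_p2 : rowsRange data 545318 2048 495616 = true := rowsRange_strict data 545318 2048 495616 (by decide +kernel)
theorem rows30_p3 : rowsRange data 545318 2048 497664 = true := rowsRange_strict data 545318 2048 497664 (by decide +kernel)
theorem rows30_p4 : rowsRange data 545318 2048 499712 = true := rowsRange_strict data 545318 2048 499712 (by decide +kernel)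
theorem rows30_p5 : rowsRange data 545318 2048 501760 = true := rowsRange_strict data 545318 2048 501760 (by decide +kernel)
theorem rows30_p6 : rowsRange data 545318 2048 503808 = true := rowsRange_strict data 545318 2048 503808 (by decide +kernel)
theorem rows30_p7 : rowsRange data 545318 2048 505856 = true := rowsRange_strict data 545318 2048 505856 (by decide +kernel)
theorem rows30 : rowsRange data 545318 16384 491520 = true :=
  rowsRange_glue data 545318 2048 14336 16384 491520 493568 rfl rfl rows30_p0 (rowsRange_glue data 545318 2048 12288 14336 493568 495616 rfl rfl rows30_p1 (rowsRange_glue data 545318 2048 10240 12288 495616 497664 rfl rfl rows30_p2 (rowsRange_glue data 545318 2048 8192 10240 497664 499712 rfl rfl rows30_p3 (rowsRange_glue data 545318 2048 6144 8192 499712 501760 rfl rfl rows30_p4 (rowsRange_glue data 545318 2048 4096 6144 501760 503808 rfl rfl rows30_p5 (rowsRange_glue data 545318 2048 2048 4096 503808 505856 rfl rfl rows30_p6 (rows30_p7)))))))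
theorem rows31_p0 : rowsRange data 545318 2048 507904 = true := rowsRange_strict data 545318 2048 507904 (by decide +kernel)
theorem rows31_p1 : rowsRange data 545318 2048 509952 = true := rowsRange_strict data 545318 2048 509952 (by decide +kernel)
theorem rows31_p2 : rowsRange data 545318 2048 512000 = true := rowsRange_strict data 545318 2048 512000 (by decide +kernel)
theorem rows31_p3 : rowsRange data 545318 2048 514048 = true := rowsRange_strict data 545318 2048 514048 (by decide +kernel)
theorem rows31_p4 : rowsRange data 545318 2048 516096 = true := rowsRange_strict data 545318 2048 516096 (by decide +kernel)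
theorem rows31_p5 : rowsRange data 545318 2048 518144 = true := rowsRange_strict data 545318 2048 518144 (by decide +kernel)
theorem rows31_p6 : rowsRange data 545318 2048 520192 = true := rowsRange_strict data 545318 2048 520192 (by decide +kernel)
theorem rows31_p7 : rowsRange data 545318 2048 522240 = true := rowsRange_strict data 545318 2048 522240 (by decide +kernel)
theorem rows31 : rowsRange data 545318 16384 507904 = true :=
  rowsRange_glue data 545318 2048 14336 16384 507904 509952 rfl rfl rows31_p0 (rowsRange_glue data 545318 2048 12288 14336 509952 512000 rfl rfl rows31_p1 (rowsRange_glue data 545318 2048 10240 12288 512000 514048 rfl rfl rows31_p2 (rowsRange_glue data 545318 2048 8192 10240 514048 516096 rfl rfl rows31_p3 (rowsRange_glue data 545318 2048 6144 8192 516096 518144 rfl rfl rows31_p4 (rowsRange_glue data 545318 2048 4096 6144 518144 520192 rfl rfl rows31_p5 (rowsRange_glue data 545318 2048 2048 4096 520192 522240 rfl rfl rows31_p6 (rows31_p7)))))))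

end Cfsg.Agent.Lib.Helper18.ONM.TCO
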