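import Cfsg.Agent.Lib.Helper18.ONM.TCOD
import Cfsg.Agent.Lib.Helper4.TC.Strict
import Cfsg.Agent.Lib.Helper7.TCSplit

set_option autoImplicit false
set_option maxRecDepth 100000
set_option linter.unusedVariables false
set_option Elab.async false

namespace Cfsg.Agent.Lib.Helper18.ONM.TCO

open Cfsg.Agent.Helper4.TC
open Cfsg.Agent.Lib.Helper7.TCSplit

theorem rows32_p0 : rowsRange data 545318 2048 524288 = true := rowsRange_strict data 545318 2048 524288 (by decide +kernel)
theorem rows32_p1 : rowsRange data 545318 2048 526336 = true := rowsRange_strict data 545318 2048 526336 (by decide +kernel)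
theorem rows32_p2 : rowsRange data 545318 2048 528384 = true := rowsRange_strict data 545318 2048 528384 (by decide +kernel)
theorem rows32_p3 : rowsRange data 545318 2048 530432 = true := rowsRange_strict data 545318 2048 530432 (by decide +kernel)
theorem rows32_p4 : rowsRange data 545318 2048 532480 = true := rowsRange_strict data 545318 2048 532480 (by decide +kernel)
theorem rows32_p5 : rowsRange data 545318 2048 534528 = true := rowsRange_strict data 545318 2048 534528 (by decide +kernel)
theorem rows32_p6 : rowsRange data 545318 2048 536576 = true := rowsRange_strict data 545318 2048 536576 (by decide +kernel)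
theorem rows32_p7 : rowsRange data 545318 2048 538624 = true := rowsRange_strict data 545318 2048 538624 (by decide +kernel)
theorem rows32 : rowsRange data 545318 16384 524288 = true :=
  rowsRange_glue data 545318 2048 14336 16384 524288 526336 rfl rfl rows32_p0 (rowsRange_glue data 545318 2048 12288 14336 526336 528384 rfl rfl rows32_p1 (rowsRange_glue data 545318 2048 10240 12288 528384 530432 rfl rfl rows32_p2 (rowsRange_glue data 545318 2048 8192 10240 530432 532480 rfl rfl rows32_p3 (rowsRange_glue data 545318 2048 6144 8192 532480 534528 rfl rfl rows32_p4 (rowsRange_glue data 545318 2048 4096 6144 534528 536576 rfl rfl rows32_p5 (rowsRange_glue data 545318 2048 2048 4096 536576 538624 rfl rfl rows32_p6 (rows32_p7)))))))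
theorem rows33_p0 : rowsRange data 545318 2048 540672 = true := rowsRange_strict data 545318 2048 540672 (by decide +kernel)
theorem rows33_p1 : rowsRange data 545318 2048 542720 = true := rowsRange_strict data 545318 2048 542720 (by decide +kernel)
theorem rows33_p2 : rowsRange data 545318 550 544768 = true := rowsRange_strict data 545318 550 544768 (by decide +kernel)
theorem rows33 : rowsRange data 545318 4646 540672 = true :=
  rowsRange_glue data 545318 2048 2598 4646 540672 542720 rfl rfl rows33_p0 (rowsRange_glue data 545318 2048 550 2598 542720 544768 rfl rfl rows33_p1 (rows33_p2))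

end Cfsg.Agent.Lib.Helper18.ONM.TCO
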