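import Cfsg.Agent.Lib.Helper18.ONM.TCOD
import Cfsg.Agent.Lib.Helper4.TC.Strict
import Cfsg.Agent.Lib.Helper7.TCSplit

set_option autoImplicit false
set_option maxRecDepth 100000
set_option linter.unusedVariables false
set_option Elab.async false

namespace Cfsg.Agent.Lib.Helper18.ONM.TCO

open Cfsg.Agent.Helper4.TC
open Cfsg.Agent.Lib.Helper7.TCSplit

theorem m_c32 : mergeRange data 16384 524288 = true := mergeRange_strict data 16384 524288 (by decide +kernel)
theorem m_c33 : mergeRange data 4646 540672 = true := mergeRange_strict data 4646 540672 (by decide +kernel)
theorem m_c34_p0 : mergeRange data 16384 545318 = true := mergeRange_strict data 16384 545318 (by decide +kernel)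
theorem m_c34_p1 : mergeRange data 16384 561702 = true := mergeRange_strict data 16384 561702 (by decide +kernel)
theorem m_c34_p2 : mergeRange data 16384 578086 = true := mergeRange_strict data 16384 578086 (by decide +kernel)
theorem m_c34_p3 : mergeRange data 16384 594470 = true := mergeRange_strict data 16384 594470 (by decide +kernel)
theorem m_c34_p4 : mergeRange data 16384 610854 = true := mergeRange_strict data 16384 610854 (by decide +kernel)
theorem m_c34_p5 : mergeRange data 16384 627238 = true := mergeRange_strict data 16384 627238 (by decide +kernel)
theorem m_c34_p6 : mergeRange data 16384 643622 = true := mergeRange_strict data 16384 643622 (by decide +kernel)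
theorem m_c34_p7 : mergeRange data 16384 660006 = true := mergeRange_strict data 16384 660006 (by decide +kernel)
theorem m_c34_p8 : mergeRange data 16384 676390 = true := mergeRange_strict data 16384 676390 (by decide +kernel)
theorem m_c34_p9 : mergeRange data 16384 692774 = true := mergeRange_strict data 16384 692774 (by decide +kernel)
theorem m_c34_p10 : mergeRange data 16384 709158 = true := mergeRange_strict data 16384 709158 (by decide +kernel)
theorem m_c34_p11 : mergeRange data 16384 725542 = true := mergeRange_strict data 16384 725542 (by decide +kernel)
theorem m_c34_p12 : mergeRange data 16384 741926 = true := mergeRange_strict data 16384 741926 (by decide +kernel)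
theorem m_c34_p13 : mergeRange data 16384 758310 = true := mergeRange_strict data 16384 758310 (by decide +kernel)
theorem m_c34_p14 : mergeRange data 16384 774694 = true := mergeRange_strict data 16384 774694 (by decide +kernel)
theorem m_c34_p15 : mergeRange data 16384 791078 = true := mergeRange_strict data 16384 791078 (by decide +kernel)
theorem m_c34_p16 : mergeRange data 16384 807462 = true := mergeRange_strict data 16384 807462 (by decide +kernel)
theorem m_c34_p17 : mergeRange data 16384 823846 = true := mergeRange_strict data 16384 823846 (by decide +kernel)
theorem m_c34_p18 : mergeRange data 16384 840230 = true := mergeRange_strict data 16384 840230 (by decide +kernel)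
theorem m_c34_p19 : mergeRange data 16384 856614 = true := mergeRange_strict data 16384 856614 (by decide +kernel)
theorem m_c34_p20 : mergeRange data 16384 872998 = true := mergeRange_strict data 16384 872998 (by decide +kernel)
theorem m_c34_p21 : mergeRange data 16384 889382 = true := mergeRange_strict data 16384 889382 (by decide +kernel)
theorem m_c34_p22 : mergeRange data 16384 905766 = true := mergeRange_strict data 16384 905766 (by decide +kernel)
theorem m_c34_p23 : mergeRange data 16384 922150 = true := mergeRange_strict data 16384 922150 (by decide +kernel)
theorem m_c34_p24 : mergeRange data 16384 938534 = true := mergeRange_strict data 16384 938534 (by decide +kernel)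
theorem m_c34_p25 : mergeRange data 16384 954918 = true := mergeRange_strict data 16384 954918 (by decide +kernel)
theorem m_c34_p26 : mergeRange data 16384 971302 = true := mergeRange_strict data 16384 971302 (by decide +kernel)
theorem m_c34_p27 : mergeRange data 16384 987686 = true := mergeRange_strict data 16384 987686 (by decide +kernel)
theorem m_c34_p28 : mergeRange data 16384 1004070 = true := mergeRange_strict data 16384 1004070 (by decide +kernel)
theorem m_c34_p29 : mergeRange data 16384 1020454 = true := mergeRange_strict data 16384 1020454 (by decide +kernel)
theorem m_c34_p30 : mergeRange data 11738 1036838 = true := mergeRange_strict data 11738 1036838 (by decide +kernel)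
theorem m_c34 : mergeRange data 503258 545318 = true :=
  mergeRange_glue data 16384 486874 503258 545318 561702 rfl rfl m_c34_p0 (mergeRange_glue data 16384 470490 486874 561702 578086 rfl rfl m_c34_p1 (mergeRange_glue data 16384 454106 470490 578086 594470 rfl rfl m_c34_p2 (mergeRange_glue data 16384 437722 454106 594470 610854 rfl rfl m_c34_p3 (mergeRange_glue data 16384 421338 437722 610854 627238 rfl rfl m_c34_p4 (mergeRange_glue data 16384 404954 421338 627238 643622 rfl rfl m_c34_p5 (mergeRange_glue data 16384 388570 404954 643622 660006 rfl rfl m_c34_p6 (mergeRange_glue data 16384 372186 388570 660006 676390 rfl rfl m_c34_p7 (mergeRange_glue data 16384 355802 372186 676390 692774 rfl rfl m_c34_p8 (mergeRange_glue data 16384 339418 355802 692774 709158 rfl rfl m_c34_p9 (mergeRange_glue data 16384 323034 339418 709158 725542 rfl rfl m_c34_p10 (mergeRange_glue data 16384 306650 323034 725542 741926 rfl rfl m_c34_p11 (mergeRange_glue data 16384 290266 306650 741926 758310 rfl rfl m_c34_p12 (mergeRange_glue data 16384 273882 290266 758310 774694 rfl rfl m_c34_p13 (mergeRange_glue data 16384 257498 273882 774694 791078 rfl rfl m_c34_p14 (mergeRange_glue data 16384 241114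 257498 791078 807462 rfl rfl m_c34_p15 (mergeRange_glue data 16384 224730 241114 807462 823846 rfl rfl m_c34_p16 (mergeRange_glue data 16384 208346 224730 823846 840230 rfl rfl m_c34_p17 (mergeRange_glue data 16384 191962 208346 840230 856614 rfl rfl m_c34_p18 (mergeRange_glue data 16384 175578 191962 856614 872998 rfl rfl m_c34_p19 (mergeRange_glue data 16384 159194 175578 872998 889382 rfl rfl m_c34_p20 (mergeRange_glue data 16384 142810 159194 889382 905766 rfl rfl m_c34_p21 (mergeRange_glue data 16384 126426 142810 905766 922150 rfl rfl m_c34_p22 (mergeRange_glue data 16384 110042 126426 922150 938534 rfl rfl m_c34_p23 (mergeRange_glue data 16384 93658 110042 938534 954918 rfl rfl m_c34_p24 (mergeRange_glue data 16384 77274 93658 954918 971302 rfl rfl m_c34_p25 (mergeRange_glue data 16384 60890 77274 971302 987686 rfl rfl m_c34_p26 (mergeRange_glue data 16384 44506 60890 987686 1004070 rfl rfl m_c34_p27 (mergeRange_glue data 16384 28122 44506 1004070 1020454 rfl rfl m_c34_p28 (mergeRange_glue data 16384 11738 28122 1020454 1036838 rfl rfl m_c34_p29 (m_c34_p30))))))))))))))))))))))))))))))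

end Cfsg.Agent.Lib.Helper18.ONM.TCO
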