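import Cfsg.Agent.Lib.Helper4.TC.Perm
import Cfsg.Agent.Lib.Helper4.TC.ONCod
import Cfsg.Agent.Lib.Helper18.ONM.TCOFin
import Cfsg.Agent.Lib.Helper18.ONM.TCOCM0
import Cfsg.Agent.Lib.Helper18.ONM.TCOCM1
import Cfsg.Agent.Lib.Helper18.ONM.TCOCM2
import Cfsg.Agent.Lib.Helper18.ONM.TCOCM3
import Cfsg.Agent.Lib.Helper18.ONM.TCOCM4
import Cfsg.Agent.Lib.Helper18.ONM.TCOCM5
import Cfsg.Agent.Lib.Helper18.ONM.TCOCM6
import Cfsg.Agent.Lib.Helper18.ONM.TCOCM7
import Cfsg.Agent.Lib.Helper18.ONM.TCOCM8
import Cfsg.Agent.Lib.Helper18.ONM.TCOCE0x0
import Cfsg.Agent.Lib.Helper18.ONM.TCOCE0x1
import Cfsg.Agent.Lib.Helper18.ONM.TCOCE0x2
import Cfsg.Agent.Lib.Helper18.ONM.TCOCE0x3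
import Cfsg.Agent.Lib.Helper18.ONM.TCOCE0x4
import Cfsg.Agent.Lib.Helper18.ONM.TCOCE0x5
import Cfsg.Agent.Lib.Helper18.ONM.TCOCE0x6
import Cfsg.Agent.Lib.Helper18.ONM.TCOCE0x7
import Cfsg.Agent.Lib.Helper18.ONM.TCOCE0x8
import Cfsg.Agent.Lib.Helper18.ONM.TCOCE1x0
import Cfsg.Agent.Lib.Helper18.ONM.TCOCE1x1
import Cfsg.Agent.Lib.Helper18.ONM.TCOCE1x2
import Cfsg.Agent.Lib.Helper18.ONM.TCOCE1x3
import Cfsg.Agent.Lib.Helper18.ONM.TCOCE1x4
import Cfsg.Agent.Lib.Helper18.ONM.TCOCE1x5
import Cfsg.Agent.Lib.Helper18.ONM.TCOCE1x6
import Cfsg.Agent.Lib.Helper18.ONM.TCOCE1x7
import Cfsg.Agent.Lib.Helper18.ONM.TCOCE1x8
import Cfsg.Agent.Lib.Helper18.ONM.TCOCE2x0
import Cfsg.Agent.Lib.Helper18.ONM.TCOCE2x1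
import Cfsg.Agent.Lib.Helper18.ONM.TCOCE2x2
import Cfsg.Agent.Lib.Helper18.ONM.TCOCE2x3
import Cfsg.Agent.Lib.Helper18.ONM.TCOCE2x4
import Cfsg.Agent.Lib.Helper18.ONM.TCOCE2x5
import Cfsg.Agent.Lib.Helper18.ONM.TCOCE2x6
import Cfsg.Agent.Lib.Helper18.ONM.TCOCE2x7
import Cfsg.Agent.Lib.Helper18.ONM.TCOCE2x8
import Cfsg.Agent.Lib.Helper18.ONM.TCOCE3x0
import Cfsg.Agent.Lib.Helper18.ONM.TCOCE3x1
import Cfsg.Agent.Lib.Helper18.ONM.TCOCE3x2
import Cfsg.Agent.Lib.Helper18.ONM.TCOCE3x3
import Cfsg.Agent.Lib.Helper18.ONM.TCOCE3x4
import Cfsg.Agent.Lib.Helper18.ONM.TCOCE3x5
import Cfsg.Agent.Lib.Helper18.ONM.TCOCE3x6
import Cfsg.Agent.Lib.Helper18.ONM.TCOCE3x7
import Cfsg.Agent.Lib.Helper18.ONM.TCOCE3x8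
import Cfsg.Agent.Lib.Helper18.ONM.TCOCE4x0
import Cfsg.Agent.Lib.Helper18.ONM.TCOCE4x1
import Cfsg.Agent.Lib.Helper18.ONM.TCOCE4x2
import Cfsg.Agent.Lib.Helper18.ONM.TCOCE4x3
import Cfsg.Agent.Lib.Helper18.ONM.TCOCE4x4
import Cfsg.Agent.Lib.Helper18.ONM.TCOCE4x5
import Cfsg.Agent.Lib.Helper18.ONM.TCOCE4x6
import Cfsg.Agent.Lib.Helper18.ONM.TCOCE4x7
import Cfsg.Agent.Lib.Helper18.ONM.TCOCE4x8
import Cfsg.Agent.Lib.Helper18.ONM.TCOCE5x0
import Cfsg.Agent.Lib.Helper18.ONM.TCOCE5x1
import Cfsg.Agent.Lib.Helper18.ONM.TCOCE5x2
import Cfsg.Agent.Lib.Helper18.ONM.TCOCE5x3
import Cfsg.Agent.Lib.Helper18.ONM.TCOCE5x4
import Cfsg.Agent.Lib.Helper18.ONM.TCOCE5x5
import Cfsg.Agent.Lib.Helper18.ONM.TCOCE5x6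
import Cfsg.Agent.Lib.Helper18.ONM.TCOCE5x7
import Cfsg.Agent.Lib.Helper18.ONM.TCOCE5x8
import Cfsg.Agent.Lib.Helper18.ONM.TCOCE6x0
import Cfsg.Agent.Lib.Helper18.ONM.TCOCE6x1
import Cfsg.Agent.Lib.Helper18.ONM.TCOCE6x2
import Cfsg.Agent.Lib.Helper18.ONM.TCOCE6x3
import Cfsg.Agent.Lib.Helper18.ONM.TCOCE6x4
import Cfsg.Agent.Lib.Helper18.ONM.TCOCE6x5
import Cfsg.Agent.Lib.Helper18.ONM.TCOCE6x6
import Cfsg.Agent.Lib.Helper18.ONM.TCOCE6x7
import Cfsg.Agent.Lib.Helper18.ONM.TCOCE6x8
import Cfsg.Agent.Lib.Helper18.ONM.TCOCE7x0
import Cfsg.Agent.Lib.Helper18.ONM.TCOCE7x1
import Cfsg.Agent.Lib.Helper18.ONM.TCOCE7x2
import Cfsg.Agent.Lib.Helper18.ONM.TCOCE7x3
import Cfsg.Agent.Lib.Helper18.ONM.TCOCE7x4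
import Cfsg.Agent.Lib.Helper18.ONM.TCOCE7x5
import Cfsg.Agent.Lib.Helper18.ONM.TCOCE7x6
import Cfsg.Agent.Lib.Helper18.ONM.TCOCE7x7
import Cfsg.Agent.Lib.Helper18.ONM.TCOCE7x8
import Cfsg.Agent.Lib.Helper18.ONM.TCOCE8x0
import Cfsg.Agent.Lib.Helper18.ONM.TCOCE8x1
import Cfsg.Agent.Lib.Helper18.ONM.TCOCE8x2
import Cfsg.Agent.Lib.Helper18.ONM.TCOCE8x3
import Cfsg.Agent.Lib.Helper18.ONM.TCOCE8x4
import Cfsg.Agent.Lib.Helper18.ONM.TCOCE8x5
import Cfsg.Agent.Lib.Helper18.ONM.TCOCE8x6
import Cfsg.Agent.Lib.Helper18.ONM.TCOCE8x7
import Cfsg.Agent.Lib.Helper18.ONM.TCOCE8x8
import Cfsg.Agent.Lib.Helper18.ONM.TCOCE9x0
import Cfsg.Agent.Lib.Helper18.ONM.TCOCE9x1
import Cfsg.Agent.Lib.Helper18.ONM.TCOCE9x2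
import Cfsg.Agent.Lib.Helper18.ONM.TCOCE9x3
import Cfsg.Agent.Lib.Helper18.ONM.TCOCE9x4
import Cfsg.Agent.Lib.Helper18.ONM.TCOCE9x5
import Cfsg.Agent.Lib.Helper18.ONM.TCOCE9x6
import Cfsg.Agent.Lib.Helper18.ONM.TCOCE9x7
import Cfsg.Agent.Lib.Helper18.ONM.TCOCE9x8
import Cfsg.Agent.Lib.Helper18.ONM.TCOCE10x0
import Cfsg.Agent.Lib.Helper18.ONM.TCOCE10x1
import Cfsg.Agent.Lib.Helper18.ONM.TCOCE10x2
import Cfsg.Agent.Lib.Helper18.ONM.TCOCE10x3
import Cfsg.Agent.Lib.Helper18.ONM.TCOCE10x4
import Cfsg.Agent.Lib.Helper18.ONM.TCOCE10x5
import Cfsg.Agent.Lib.Helper18.ONM.TCOCE10x6
import Cfsg.Agent.Lib.Helper18.ONM.TCOCE10x7
import Cfsg.Agent.Lib.Helper18.ONM.TCOCE10x8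
import Cfsg.Agent.Lib.Helper18.ONM.TCOCE11x0
import Cfsg.Agent.Lib.Helper18.ONM.TCOCE11x1
import Cfsg.Agent.Lib.Helper18.ONM.TCOCE11x2
import Cfsg.Agent.Lib.Helper18.ONM.TCOCE11x3
import Cfsg.Agent.Lib.Helper18.ONM.TCOCE11x4
import Cfsg.Agent.Lib.Helper18.ONM.TCOCE11x5
import Cfsg.Agent.Lib.Helper18.ONM.TCOCE11x6
import Cfsg.Agent.Lib.Helper18.ONM.TCOCE11x7
import Cfsg.Agent.Lib.Helper18.ONM.TCOCE11x8
import Cfsg.Agent.Lib.Helper18.ONM.TCOCE12x0
import Cfsg.Agent.Lib.Helper18.ONM.TCOCE12x1
import Cfsg.Agent.Lib.Helper18.ONM.TCOCE12x2
import Cfsg.Agent.Lib.Helper18.ONM.TCOCE12x3
import Cfsg.Agent.Lib.Helper18.ONM.TCOCE12x4
import Cfsg.Agent.Lib.Helper18.ONM.TCOCE12x5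
import Cfsg.Agent.Lib.Helper18.ONM.TCOCE12x6
import Cfsg.Agent.Lib.Helper18.ONM.TCOCE12x7
import Cfsg.Agent.Lib.Helper18.ONM.TCOCE12x8
import Cfsg.Agent.Lib.Helper18.ONM.TCOCE13x0
import Cfsg.Agent.Lib.Helper18.ONM.TCOCE13x1
import Cfsg.Agent.Lib.Helper18.ONM.TCOCE13x2
import Cfsg.Agent.Lib.Helper18.ONM.TCOCE13x3
import Cfsg.Agent.Lib.Helper18.ONM.TCOCE13x4
import Cfsg.Agent.Lib.Helper18.ONM.TCOCE13x5
import Cfsg.Agent.Lib.Helper18.ONM.TCOCE13x6
import Cfsg.Agent.Lib.Helper18.ONM.TCOCE13x7
import Cfsg.Agent.Lib.Helper18.ONM.TCOCE13x8
import Cfsg.Agent.Lib.Helper18.ONM.TCOCF0
import Cfsg.Agent.Lib.Helper18.ONM.TCOCF1
import Cfsg.Agent.Lib.Helper18.ONM.TCOCF2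
import Cfsg.Agent.Lib.Helper18.ONM.TCOCF3
import Cfsg.Agent.Lib.Helper18.ONM.TCOCF4
import Cfsg.Agent.Lib.Helper18.ONM.TCOCF5
import Cfsg.Agent.Lib.Helper18.ONM.TCOCF6
import Cfsg.Agent.Lib.Helper18.ONM.TCOCF7
import Cfsg.Agent.Lib.Helper18.ONM.TCOCF8

set_option autoImplicit false
set_option maxRecDepth 100000
set_option linter.unusedVariables false

namespace Cfsg.Agent.Lib.Helper18.ONM.TCO

open Cfsg.Agent.Helper4.TC

theorem allE0 : ∀ k, k < 1048576 → justE data 0 k = true := by
  intro k hk
  by_cases hh1 : k < 278528
  · skip
    by_cases hh2 : k < 131072
    · skip
      by_cases hh3 : k < 65536
      · skip
        by_cases hh4 : k < 32768
        · skip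
          by_cases hh5 : k < 16384
          · skip
            exact edgeRange_sound data 0 16384 0 e0_c0 k (by omega) (by omega)
          · skip
            exact edgeRange_sound data 0 16384 16384 e0_c1 k (by omega) (by omega)
        · skip
          by_cases hh6 : k < 49152
          · skip
            exact edgeRange_sound data 0 16384 32768 e0_c2 k (by omega) (by omega)
          · skip
            exact edgeRange_sound data 0 16384 49152 e0_c3 k (by omega) (by omega)
      · skip
        by_cases hh7 : k < 98304
        · skip
          by_cases hh8 : k < 81920
          · skip
            exact edgeRange_sound data 0 16384 65536 e0_c4 k (by omega) (by omega)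
          · skip
            exact edgeRange_sound data 0 16384 81920 e0_c5 k (by omega) (by omega)
        · skip
          by_cases hh9 : k < 114688
          · skip
            exact edgeRange_sound data 0 16384 98304 e0_c6 k (by omega) (by omega)
          · skip
            exact edgeRange_sound data 0 16384 114688 e0_c7 k (by omega) (by omega)
    · skip
      by_cases hh10 : k < 196608
      · skip
        by_cases hh11 : k < 163840
        · skip
          by_cases hh12 : k < 147456
          · skip
            exact edgeRange_sound data 0 16384 131072 e0_c8 k (by omega) (by omega)
          · skip
            exact edgeRange_sound data 0 16384 147456 e0_c9 k (by omega) (by omega)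
        · skip
          by_cases hh13 : k < 180224
          · skip
            exact edgeRange_sound data 0 16384 163840 e0_c10 k (by omega) (by omega)
          · skip
            exact edgeRange_sound data 0 16384 180224 e0_c11 k (by omega) (by omega)
      · skip
        by_cases hh14 : k < 229376
        · skip
          by_cases hh15 : k < 212992
          · skip
            exact edgeRange_sound data 0 16384 196608 e0_c12 k (by omega) (by omega)
          · skip
            exact edgeRange_sound data 0 16384 212992 e0_c13 k (by omega) (by omega)
        · skip
          by_cases hh16 : k < 245760
          · skip
            exact edgeRange_sound data 0 16384 229376 e0_c14 k (by omega) (by omega)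
          · skip
            by_cases hh17 : k < 262144
            · skip
              exact edgeRange_sound data 0 16384 245760 e0_c15 k (by omega) (by omega)
            · skip
              exact edgeRange_sound data 0 16384 262144 e0_c16 k (by omega) (by omega)
  · skip
    by_cases hh18 : k < 425984
    · skip
      by_cases hh19 : k < 344064
      · skip
        by_cases hh20 : k < 311296
        · skip
          by_cases hh21 : k < 294912
          · skip
            exact edgeRange_sound data 0 16384 278528 e0_c17 k (by omega) (by omega)
          · skip
            exact edgeRange_sound data 0 16384 294912 e0_c18 k (by omega) (by omega)
        · skip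
          by_cases hh22 : k < 327680
          · skip
            exact edgeRange_sound data 0 16384 311296 e0_c19 k (by omega) (by omega)
          · skip
            exact edgeRange_sound data 0 16384 327680 e0_c20 k (by omega) (by omega)
      · skip
        by_cases hh23 : k < 376832
        · skip
          by_cases hh24 : k < 360448
          · skip
            exact edgeRange_sound data 0 16384 344064 e0_c21 k (by omega) (by omega)
          · skip
            exact edgeRange_sound data 0 16384 360448 e0_c22 k (by omega) (by omega)
        · skip
          by_cases hh25 : k < 393216
          · skip
            exact edgeRange_sound data 0 16384 376832 e0_c23 k (by omega) (by omega)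
          · skip
            by_cases hh26 : k < 409600
            · skip
              exact edgeRange_sound data 0 16384 393216 e0_c24 k (by omega) (by omega)
            · skip
              exact edgeRange_sound data 0 16384 409600 e0_c25 k (by omega) (by omega)
    · skip
      by_cases hh27 : k < 491520
      · skip
        by_cases hh28 : k < 458752
        · skip
          by_cases hh29 : k < 442368
          · skip
            exact edgeRange_sound data 0 16384 425984 e0_c26 k (by omega) (by omega)
          · skip
            exact edgeRange_sound data 0 16384 442368 e0_c27 k (by omega) (by omega)
        · skip
          by_cases hh30 : k < 475136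
          · skip
            exact edgeRange_sound data 0 16384 458752 e0_c28 k (by omega) (by omega)
          · skip
            exact edgeRange_sound data 0 16384 475136 e0_c29 k (by omega) (by omega)
      · skip
        by_cases hh31 : k < 524288
        · skip
          by_cases hh32 : k < 507904
          · skip
            exact edgeRange_sound data 0 16384 491520 e0_c30 k (by omega) (by omega)
          · skip
            exact edgeRange_sound data 0 16384 507904 e0_c31 k (by omega) (by omega)
        · skip
          by_cases hh33 : k < 540672
          · skip
            exact edgeRange_sound data 0 16384 524288 e0_c32 k (by omega) (by omega)
          · skip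
            by_cases hh34 : k < 545318
            · skip
              exact edgeRange_sound data 0 4646 540672 e0_c33 k (by omega) (by omega)
            · skip
              exact edgeRange_sound data 0 503258 545318 e0_c34 k (by omega) (by omega)

theorem allE1 : ∀ k, k < 1048576 → justE data 1 k = true := by
  intro k hk
  by_cases hh1 : k < 278528
  · skip
    by_cases hh2 : k < 131072
    · skip
      by_cases hh3 : k < 65536
      · skip
        by_cases hh4 : k < 32768
        · skip
          by_cases hh5 : k < 16384
          · skip
            exact edgeRange_sound data 1 16384 0 e1_c0 k (by omega) (by omega)
          · skip
            exact edgeRange_sound data 1 16384 16384 e1_c1 k (by omega) (by omega)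
        · skip
          by_cases hh6 : k < 49152
          · skip
            exact edgeRange_sound data 1 16384 32768 e1_c2 k (by omega) (by omega)
          · skip
            exact edgeRange_sound data 1 16384 49152 e1_c3 k (by omega) (by omega)
      · skip
        by_cases hh7 : k < 98304
        · skip
          by_cases hh8 : k < 81920
          · skip
            exact edgeRange_sound data 1 16384 65536 e1_c4 k (by omega) (by omega)
          · skip
            exact edgeRange_sound data 1 16384 81920 e1_c5 k (by omega) (by omega)
        · skip
          by_cases hh9 : k < 114688
          · skip
            exact edgeRange_sound data 1 16384 98304 e1_c6 k (by omega) (by omega)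
          · skip
            exact edgeRange_sound data 1 16384 114688 e1_c7 k (by omega) (by omega)
    · skip
      by_cases hh10 : k < 196608
      · skip
        by_cases hh11 : k < 163840
        · skip
          by_cases hh12 : k < 147456
          · skip
            exact edgeRange_sound data 1 16384 131072 e1_c8 k (by omega) (by omega)
          · skip
            exact edgeRange_sound data 1 16384 147456 e1_c9 k (by omega) (by omega)
        · skip
          by_cases hh13 : k < 180224
          · skip
            exact edgeRange_sound data 1 16384 163840 e1_c10 k (by omega) (by omega)
          · skip
            exact edgeRange_sound data 1 16384 180224 e1_c11 k (by omega) (by omega)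
      · skip
        by_cases hh14 : k < 229376
        · skip
          by_cases hh15 : k < 212992
          · skip
            exact edgeRange_sound data 1 16384 196608 e1_c12 k (by omega) (by omega)
          · skip
            exact edgeRange_sound data 1 16384 212992 e1_c13 k (by omega) (by omega)
        · skip
          by_cases hh16 : k < 245760
          · skip
            exact edgeRange_sound data 1 16384 229376 e1_c14 k (by omega) (by omega)
          · skip
            by_cases hh17 : k < 262144
            · skip
              exact edgeRange_sound data 1 16384 245760 e1_c15 k (by omega) (by omega)
            · skip
              exact edgeRange_sound data 1 16384 262144 e1_c16 k (by omega) (by omega)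
  · skip
    by_cases hh18 : k < 425984
    · skip
      by_cases hh19 : k < 344064
      · skip
        by_cases hh20 : k < 311296
        · skip
          by_cases hh21 : k < 294912
          · skip
            exact edgeRange_sound data 1 16384 278528 e1_c17 k (by omega) (by omega)
          · skip
            exact edgeRange_sound data 1 16384 294912 e1_c18 k (by omega) (by omega)
        · skip
          by_cases hh22 : k < 327680
          · skip
            exact edgeRange_sound data 1 16384 311296 e1_c19 k (by omega) (by omega)
          · skip
            exact edgeRange_sound data 1 16384 327680 e1_c20 k (by omega) (by omega)
      · skip
        by_cases hh23 : k < 376832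
        · skip
          by_cases hh24 : k < 360448
          · skip
            exact edgeRange_sound data 1 16384 344064 e1_c21 k (by omega) (by omega)
          · skip
            exact edgeRange_sound data 1 16384 360448 e1_c22 k (by omega) (by omega)
        · skip
          by_cases hh25 : k < 393216
          · skip
            exact edgeRange_sound data 1 16384 376832 e1_c23 k (by omega) (by omega)
          · skip
            by_cases hh26 : k < 409600
            · skip
              exact edgeRange_sound data 1 16384 393216 e1_c24 k (by omega) (by omega)
            · skip
              exact edgeRange_sound data 1 16384 409600 e1_c25 k (by omega) (by omega)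
    · skip
      by_cases hh27 : k < 491520
      · skip
        by_cases hh28 : k < 458752
        · skip
          by_cases hh29 : k < 442368
          · skip
            exact edgeRange_sound data 1 16384 425984 e1_c26 k (by omega) (by omega)
          · skip
            exact edgeRange_sound data 1 16384 442368 e1_c27 k (by omega) (by omega)
        · skip
          by_cases hh30 : k < 475136
          · skip
            exact edgeRange_sound data 1 16384 458752 e1_c28 k (by omega) (by omega)
          · skip
            exact edgeRange_sound data 1 16384 475136 e1_c29 k (by omega) (by omega)
      · skip
        by_cases hh31 : k < 524288
        · skip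
          by_cases hh32 : k < 507904
          · skip
            exact edgeRange_sound data 1 16384 491520 e1_c30 k (by omega) (by omega)
          · skip
            exact edgeRange_sound data 1 16384 507904 e1_c31 k (by omega) (by omega)
        · skip
          by_cases hh33 : k < 540672
          · skip
            exact edgeRange_sound data 1 16384 524288 e1_c32 k (by omega) (by omega)
          · skip
            by_cases hh34 : k < 545318
            · skip
              exact edgeRange_sound data 1 4646 540672 e1_c33 k (by omega) (by omega)
            · skip
              exact edgeRange_sound data 1 503258 545318 e1_c34 k (by omega) (by omega)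

theorem allE2 : ∀ k, k < 1048576 → justE data 2 k = true := by
  intro k hk
  by_cases hh1 : k < 278528
  · skip
    by_cases hh2 : k < 131072
    · skip
      by_cases hh3 : k < 65536
      · skip
        by_cases hh4 : k < 32768
        · skip
          by_cases hh5 : k < 16384
          · skip
            exact edgeRange_sound data 2 16384 0 e2_c0 k (by omega) (by omega)
          · skip
            exact edgeRange_sound data 2 16384 16384 e2_c1 k (by omega) (by omega)
        · skip
          by_cases hh6 : k < 49152
          · skip
            exact edgeRange_sound data 2 16384 32768 e2_c2 k (by omega) (by omega)
          · skip
            exact edgeRange_sound data 2 16384 49152 e2_c3 k (by omega) (by omega)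
      · skip
        by_cases hh7 : k < 98304
        · skip
          by_cases hh8 : k < 81920
          · skip
            exact edgeRange_sound data 2 16384 65536 e2_c4 k (by omega) (by omega)
          · skip
            exact edgeRange_sound data 2 16384 81920 e2_c5 k (by omega) (by omega)
        · skip
          by_cases hh9 : k < 114688
          · skip
            exact edgeRange_sound data 2 16384 98304 e2_c6 k (by omega) (by omega)
          · skip
            exact edgeRange_sound data 2 16384 114688 e2_c7 k (by omega) (by omega)
    · skip
      by_cases hh10 : k < 196608
      · skip
        by_cases hh11 : k < 163840
        · skip
          by_cases hh12 : k < 147456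
          · skip
            exact edgeRange_sound data 2 16384 131072 e2_c8 k (by omega) (by omega)
          · skip
            exact edgeRange_sound data 2 16384 147456 e2_c9 k (by omega) (by omega)
        · skip
          by_cases hh13 : k < 180224
          · skip
            exact edgeRange_sound data 2 16384 163840 e2_c10 k (by omega) (by omega)
          · skip
            exact edgeRange_sound data 2 16384 180224 e2_c11 k (by omega) (by omega)
      · skip
        by_cases hh14 : k < 229376
        · skip
          by_cases hh15 : k < 212992
          · skip
            exact edgeRange_sound data 2 16384 196608 e2_c12 k (by omega) (by omega)
          · skip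
            exact edgeRange_sound data 2 16384 212992 e2_c13 k (by omega) (by omega)
        · skip
          by_cases hh16 : k < 245760
          · skip
            exact edgeRange_sound data 2 16384 229376 e2_c14 k (by omega) (by omega)
          · skip
            by_cases hh17 : k < 262144
            · skip
              exact edgeRange_sound data 2 16384 245760 e2_c15 k (by omega) (by omega)
            · skip
              exact edgeRange_sound data 2 16384 262144 e2_c16 k (by omega) (by omega)
  · skip
    by_cases hh18 : k < 425984
    · skip
      by_cases hh19 : k < 344064
      · skip
        by_cases hh20 : k < 311296
        · skip
          by_cases hh21 : k < 294912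
          · skip
            exact edgeRange_sound data 2 16384 278528 e2_c17 k (by omega) (by omega)
          · skip
            exact edgeRange_sound data 2 16384 294912 e2_c18 k (by omega) (by omega)
        · skip
          by_cases hh22 : k < 327680
          · skip
            exact edgeRange_sound data 2 16384 311296 e2_c19 k (by omega) (by omega)
          · skip
            exact edgeRange_sound data 2 16384 327680 e2_c20 k (by omega) (by omega)
      · skip
        by_cases hh23 : k < 376832
        · skip
          by_cases hh24 : k < 360448
          · skip
            exact edgeRange_sound data 2 16384 344064 e2_c21 k (by omega) (by omega)
          · skip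
            exact edgeRange_sound data 2 16384 360448 e2_c22 k (by omega) (by omega)
        · skip
          by_cases hh25 : k < 393216
          · skip
            exact edgeRange_sound data 2 16384 376832 e2_c23 k (by omega) (by omega)
          · skip
            by_cases hh26 : k < 409600
            · skip
              exact edgeRange_sound data 2 16384 393216 e2_c24 k (by omega) (by omega)
            · skip
              exact edgeRange_sound data 2 16384 409600 e2_c25 k (by omega) (by omega)
    · skip
      by_cases hh27 : k < 491520
      · skip
        by_cases hh28 : k < 458752
        · skip
          by_cases hh29 : k < 442368
          · skip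
            exact edgeRange_sound data 2 16384 425984 e2_c26 k (by omega) (by omega)
          · skip
            exact edgeRange_sound data 2 16384 442368 e2_c27 k (by omega) (by omega)
        · skip
          by_cases hh30 : k < 475136
          · skip
            exact edgeRange_sound data 2 16384 458752 e2_c28 k (by omega) (by omega)
          · skip
            exact edgeRange_sound data 2 16384 475136 e2_c29 k (by omega) (by omega)
      · skip
        by_cases hh31 : k < 524288
        · skip
          by_cases hh32 : k < 507904
          · skip
            exact edgeRange_sound data 2 16384 491520 e2_c30 k (by omega) (by omega)
          · skip
            exact edgeRange_sound data 2 16384 507904 e2_c31 k (by omega) (by omega)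
        · skip
          by_cases hh33 : k < 540672
          · skip
            exact edgeRange_sound data 2 16384 524288 e2_c32 k (by omega) (by omega)
          · skip
            by_cases hh34 : k < 545318
            · skip
              exact edgeRange_sound data 2 4646 540672 e2_c33 k (by omega) (by omega)
            · skip
              exact edgeRange_sound data 2 503258 545318 e2_c34 k (by omega) (by omega)

theorem allE3 : ∀ k, k < 1048576 → justE data 3 k = true := by
  intro k hk
  by_cases hh1 : k < 278528
  · skip
    by_cases hh2 : k < 131072
    · skip
      by_cases hh3 : k < 65536
      · skip
        by_cases hh4 : k < 32768
        · skip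
          by_cases hh5 : k < 16384
          · skip
            exact edgeRange_sound data 3 16384 0 e3_c0 k (by omega) (by omega)
          · skip
            exact edgeRange_sound data 3 16384 16384 e3_c1 k (by omega) (by omega)
        · skip
          by_cases hh6 : k < 49152
          · skip
            exact edgeRange_sound data 3 16384 32768 e3_c2 k (by omega) (by omega)
          · skip
            exact edgeRange_sound data 3 16384 49152 e3_c3 k (by omega) (by omega)
      · skip
        by_cases hh7 : k < 98304
        · skip
          by_cases hh8 : k < 81920
          · skip
            exact edgeRange_sound data 3 16384 65536 e3_c4 k (by omega) (by omega)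
          · skip
            exact edgeRange_sound data 3 16384 81920 e3_c5 k (by omega) (by omega)
        · skip
          by_cases hh9 : k < 114688
          · skip
            exact edgeRange_sound data 3 16384 98304 e3_c6 k (by omega) (by omega)
          · skip
            exact edgeRange_sound data 3 16384 114688 e3_c7 k (by omega) (by omega)
    · skip
      by_cases hh10 : k < 196608
      · skip
        by_cases hh11 : k < 163840
        · skip
          by_cases hh12 : k < 147456
          · skip
            exact edgeRange_sound data 3 16384 131072 e3_c8 k (by omega) (by omega)
          · skip
            exact edgeRange_sound data 3 16384 147456 e3_c9 k (by omega) (by omega)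
        · skip
          by_cases hh13 : k < 180224
          · skip
            exact edgeRange_sound data 3 16384 163840 e3_c10 k (by omega) (by omega)
          · skip
            exact edgeRange_sound data 3 16384 180224 e3_c11 k (by omega) (by omega)
      · skip
        by_cases hh14 : k < 229376
        · skip
          by_cases hh15 : k < 212992
          · skip
            exact edgeRange_sound data 3 16384 196608 e3_c12 k (by omega) (by omega)
          · skip
            exact edgeRange_sound data 3 16384 212992 e3_c13 k (by omega) (by omega)
        · skip
          by_cases hh16 : k < 245760
          · skip
            exact edgeRange_sound data 3 16384 229376 e3_c14 k (by omega) (by omega)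
          · skip
            by_cases hh17 : k < 262144
            · skip
              exact edgeRange_sound data 3 16384 245760 e3_c15 k (by omega) (by omega)
            · skip
              exact edgeRange_sound data 3 16384 262144 e3_c16 k (by omega) (by omega)
  · skip
    by_cases hh18 : k < 425984
    · skip
      by_cases hh19 : k < 344064
      · skip
        by_cases hh20 : k < 311296
        · skip
          by_cases hh21 : k < 294912
          · skip
            exact edgeRange_sound data 3 16384 278528 e3_c17 k (by omega) (by omega)
          · skip
            exact edgeRange_sound data 3 16384 294912 e3_c18 k (by omega) (by omega)
        · skip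
          by_cases hh22 : k < 327680
          · skip
            exact edgeRange_sound data 3 16384 311296 e3_c19 k (by omega) (by omega)
          · skip
            exact edgeRange_sound data 3 16384 327680 e3_c20 k (by omega) (by omega)
      · skip
        by_cases hh23 : k < 376832
        · skip
          by_cases hh24 : k < 360448
          · skip
            exact edgeRange_sound data 3 16384 344064 e3_c21 k (by omega) (by omega)
          · skip
            exact edgeRange_sound data 3 16384 360448 e3_c22 k (by omega) (by omega)
        · skip
          by_cases hh25 : k < 393216
          · skip
            exact edgeRange_sound data 3 16384 376832 e3_c23 k (by omega) (by omega)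
          · skip
            by_cases hh26 : k < 409600
            · skip
              exact edgeRange_sound data 3 16384 393216 e3_c24 k (by omega) (by omega)
            · skip
              exact edgeRange_sound data 3 16384 409600 e3_c25 k (by omega) (by omega)
    · skip
      by_cases hh27 : k < 491520
      · skip
        by_cases hh28 : k < 458752
        · skip
          by_cases hh29 : k < 442368
          · skip
            exact edgeRange_sound data 3 16384 425984 e3_c26 k (by omega) (by omega)
          · skip
            exact edgeRange_sound data 3 16384 442368 e3_c27 k (by omega) (by omega)
        · skip
          by_cases hh30 : k < 475136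
          · skip
            exact edgeRange_sound data 3 16384 458752 e3_c28 k (by omega) (by omega)
          · skip
            exact edgeRange_sound data 3 16384 475136 e3_c29 k (by omega) (by omega)
      · skip
        by_cases hh31 : k < 524288
        · skip
          by_cases hh32 : k < 507904
          · skip
            exact edgeRange_sound data 3 16384 491520 e3_c30 k (by omega) (by omega)
          · skip
            exact edgeRange_sound data 3 16384 507904 e3_c31 k (by omega) (by omega)
        · skip
          by_cases hh33 : k < 540672
          · skip
            exact edgeRange_sound data 3 16384 524288 e3_c32 k (by omega) (by omega)
          · skip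
            by_cases hh34 : k < 545318
            · skip
              exact edgeRange_sound data 3 4646 540672 e3_c33 k (by omega) (by omega)
            · skip
              exact edgeRange_sound data 3 503258 545318 e3_c34 k (by omega) (by omega)

theorem allE4 : ∀ k, k < 1048576 → justE data 4 k = true := by
  intro k hk
  by_cases hh1 : k < 278528
  · skip
    by_cases hh2 : k < 131072
    · skip
      by_cases hh3 : k < 65536
      · skip
        by_cases hh4 : k < 32768
        · skip
          by_cases hh5 : k < 16384
          · skip
            exact edgeRange_sound data 4 16384 0 e4_c0 k (by omega) (by omega)
          · skip
            exact edgeRange_sound data 4 16384 16384 e4_c1 k (by omega) (by omega)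
        · skip
          by_cases hh6 : k < 49152
          · skip
            exact edgeRange_sound data 4 16384 32768 e4_c2 k (by omega) (by omega)
          · skip
            exact edgeRange_sound data 4 16384 49152 e4_c3 k (by omega) (by omega)
      · skip
        by_cases hh7 : k < 98304
        · skip
          by_cases hh8 : k < 81920
          · skip
            exact edgeRange_sound data 4 16384 65536 e4_c4 k (by omega) (by omega)
          · skip
            exact edgeRange_sound data 4 16384 81920 e4_c5 k (by omega) (by omega)
        · skip
          by_cases hh9 : k < 114688
          · skip
            exact edgeRange_sound data 4 16384 98304 e4_c6 k (by omega) (by omega)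
          · skip
            exact edgeRange_sound data 4 16384 114688 e4_c7 k (by omega) (by omega)
    · skip
      by_cases hh10 : k < 196608
      · skip
        by_cases hh11 : k < 163840
        · skip
          by_cases hh12 : k < 147456
          · skip
            exact edgeRange_sound data 4 16384 131072 e4_c8 k (by omega) (by omega)
          · skip
            exact edgeRange_sound data 4 16384 147456 e4_c9 k (by omega) (by omega)
        · skip
          by_cases hh13 : k < 180224
          · skip
            exact edgeRange_sound data 4 16384 163840 e4_c10 k (by omega) (by omega)
          · skip
            exact edgeRange_sound data 4 16384 180224 e4_c11 k (by omega) (by omega)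
      · skip
        by_cases hh14 : k < 229376
        · skip
          by_cases hh15 : k < 212992
          · skip
            exact edgeRange_sound data 4 16384 196608 e4_c12 k (by omega) (by omega)
          · skip
            exact edgeRange_sound data 4 16384 212992 e4_c13 k (by omega) (by omega)
        · skip
          by_cases hh16 : k < 245760
          · skip
            exact edgeRange_sound data 4 16384 229376 e4_c14 k (by omega) (by omega)
          · skip
            by_cases hh17 : k < 262144
            · skip
              exact edgeRange_sound data 4 16384 245760 e4_c15 k (by omega) (by omega)
            · skip
              exact edgeRange_sound data 4 16384 262144 e4_c16 k (by omega) (by omega)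
  · skip
    by_cases hh18 : k < 425984
    · skip
      by_cases hh19 : k < 344064
      · skip
        by_cases hh20 : k < 311296
        · skip
          by_cases hh21 : k < 294912
          · skip
            exact edgeRange_sound data 4 16384 278528 e4_c17 k (by omega) (by omega)
          · skip
            exact edgeRange_sound data 4 16384 294912 e4_c18 k (by omega) (by omega)
        · skip
          by_cases hh22 : k < 327680
          · skip
            exact edgeRange_sound data 4 16384 311296 e4_c19 k (by omega) (by omega)
          · skip
            exact edgeRange_sound data 4 16384 327680 e4_c20 k (by omega) (by omega)
      · skip
        by_cases hh23 : k < 376832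
        · skip
          by_cases hh24 : k < 360448
          · skip
            exact edgeRange_sound data 4 16384 344064 e4_c21 k (by omega) (by omega)
          · skip
            exact edgeRange_sound data 4 16384 360448 e4_c22 k (by omega) (by omega)
        · skip
          by_cases hh25 : k < 393216
          · skip
            exact edgeRange_sound data 4 16384 376832 e4_c23 k (by omega) (by omega)
          · skip
            by_cases hh26 : k < 409600
            · skip
              exact edgeRange_sound data 4 16384 393216 e4_c24 k (by omega) (by omega)
            · skip
              exact edgeRange_sound data 4 16384 409600 e4_c25 k (by omega) (by omega)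
    · skip
      by_cases hh27 : k < 491520
      · skip
        by_cases hh28 : k < 458752
        · skip
          by_cases hh29 : k < 442368
          · skip
            exact edgeRange_sound data 4 16384 425984 e4_c26 k (by omega) (by omega)
          · skip
            exact edgeRange_sound data 4 16384 442368 e4_c27 k (by omega) (by omega)
        · skip
          by_cases hh30 : k < 475136
          · skip
            exact edgeRange_sound data 4 16384 458752 e4_c28 k (by omega) (by omega)
          · skip
            exact edgeRange_sound data 4 16384 475136 e4_c29 k (by omega) (by omega)
      · skip
        by_cases hh31 : k < 524288
        · skip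
          by_cases hh32 : k < 507904
          · skip
            exact edgeRange_sound data 4 16384 491520 e4_c30 k (by omega) (by omega)
          · skip
            exact edgeRange_sound data 4 16384 507904 e4_c31 k (by omega) (by omega)
        · skip
          by_cases hh33 : k < 540672
          · skip
            exact edgeRange_sound data 4 16384 524288 e4_c32 k (by omega) (by omega)
          · skip
            by_cases hh34 : k < 545318
            · skip
              exact edgeRange_sound data 4 4646 540672 e4_c33 k (by omega) (by omega)
            · skip
              exact edgeRange_sound data 4 503258 545318 e4_c34 k (by omega) (by omega)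

theorem allE5 : ∀ k, k < 1048576 → justE data 5 k = true := by
  intro k hk
  by_cases hh1 : k < 278528
  · skip
    by_cases hh2 : k < 131072
    · skip
      by_cases hh3 : k < 65536
      · skip
        by_cases hh4 : k < 32768
        · skip
          by_cases hh5 : k < 16384
          · skip
            exact edgeRange_sound data 5 16384 0 e5_c0 k (by omega) (by omega)
          · skip
            exact edgeRange_sound data 5 16384 16384 e5_c1 k (by omega) (by omega)
        · skip
          by_cases hh6 : k < 49152
          · skip
            exact edgeRange_sound data 5 16384 32768 e5_c2 k (by omega) (by omega)
          · skip
            exact edgeRange_sound data 5 16384 49152 e5_c3 k (by omega) (by omega)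
      · skip
        by_cases hh7 : k < 98304
        · skip
          by_cases hh8 : k < 81920
          · skip
            exact edgeRange_sound data 5 16384 65536 e5_c4 k (by omega) (by omega)
          · skip
            exact edgeRange_sound data 5 16384 81920 e5_c5 k (by omega) (by omega)
        · skip
          by_cases hh9 : k < 114688
          · skip
            exact edgeRange_sound data 5 16384 98304 e5_c6 k (by omega) (by omega)
          · skip
            exact edgeRange_sound data 5 16384 114688 e5_c7 k (by omega) (by omega)
    · skip
      by_cases hh10 : k < 196608
      · skip
        by_cases hh11 : k < 163840
        · skip
          by_cases hh12 : k < 147456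
          · skip
            exact edgeRange_sound data 5 16384 131072 e5_c8 k (by omega) (by omega)
          · skip
            exact edgeRange_sound data 5 16384 147456 e5_c9 k (by omega) (by omega)
        · skip
          by_cases hh13 : k < 180224
          · skip
            exact edgeRange_sound data 5 16384 163840 e5_c10 k (by omega) (by omega)
          · skip
            exact edgeRange_sound data 5 16384 180224 e5_c11 k (by omega) (by omega)
      · skip
        by_cases hh14 : k < 229376
        · skip
          by_cases hh15 : k < 212992
          · skip
            exact edgeRange_sound data 5 16384 196608 e5_c12 k (by omega) (by omega)
          · skip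
            exact edgeRange_sound data 5 16384 212992 e5_c13 k (by omega) (by omega)
        · skip
          by_cases hh16 : k < 245760
          · skip
            exact edgeRange_sound data 5 16384 229376 e5_c14 k (by omega) (by omega)
          · skip
            by_cases hh17 : k < 262144
            · skip
              exact edgeRange_sound data 5 16384 245760 e5_c15 k (by omega) (by omega)
            · skip
              exact edgeRange_sound data 5 16384 262144 e5_c16 k (by omega) (by omega)
  · skip
    by_cases hh18 : k < 425984
    · skip
      by_cases hh19 : k < 344064
      · skip
        by_cases hh20 : k < 311296
        · skip
          by_cases hh21 : k < 294912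
          · skip
            exact edgeRange_sound data 5 16384 278528 e5_c17 k (by omega) (by omega)
          · skip
            exact edgeRange_sound data 5 16384 294912 e5_c18 k (by omega) (by omega)
        · skip
          by_cases hh22 : k < 327680
          · skip
            exact edgeRange_sound data 5 16384 311296 e5_c19 k (by omega) (by omega)
          · skip
            exact edgeRange_sound data 5 16384 327680 e5_c20 k (by omega) (by omega)
      · skip
        by_cases hh23 : k < 376832
        · skip
          by_cases hh24 : k < 360448
          · skip
            exact edgeRange_sound data 5 16384 344064 e5_c21 k (by omega) (by omega)
          · skip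
            exact edgeRange_sound data 5 16384 360448 e5_c22 k (by omega) (by omega)
        · skip
          by_cases hh25 : k < 393216
          · skip
            exact edgeRange_sound data 5 16384 376832 e5_c23 k (by omega) (by omega)
          · skip
            by_cases hh26 : k < 409600
            · skip
              exact edgeRange_sound data 5 16384 393216 e5_c24 k (by omega) (by omega)
            · skip
              exact edgeRange_sound data 5 16384 409600 e5_c25 k (by omega) (by omega)
    · skip
      by_cases hh27 : k < 491520
      · skip
        by_cases hh28 : k < 458752
        · skip
          by_cases hh29 : k < 442368
          · skip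
            exact edgeRange_sound data 5 16384 425984 e5_c26 k (by omega) (by omega)
          · skip
            exact edgeRange_sound data 5 16384 442368 e5_c27 k (by omega) (by omega)
        · skip
          by_cases hh30 : k < 475136
          · skip
            exact edgeRange_sound data 5 16384 458752 e5_c28 k (by omega) (by omega)
          · skip
            exact edgeRange_sound data 5 16384 475136 e5_c29 k (by omega) (by omega)
      · skip
        by_cases hh31 : k < 524288
        · skip
          by_cases hh32 : k < 507904
          · skip
            exact edgeRange_sound data 5 16384 491520 e5_c30 k (by omega) (by omega)
          · skip
            exact edgeRange_sound data 5 16384 507904 e5_c31 k (by omega) (by omega)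
        · skip
          by_cases hh33 : k < 540672
          · skip
            exact edgeRange_sound data 5 16384 524288 e5_c32 k (by omega) (by omega)
          · skip
            by_cases hh34 : k < 545318
            · skip
              exact edgeRange_sound data 5 4646 540672 e5_c33 k (by omega) (by omega)
            · skip
              exact edgeRange_sound data 5 503258 545318 e5_c34 k (by omega) (by omega)

theorem allE6 : ∀ k, k < 1048576 → justE data 6 k = true := by
  intro k hk
  by_cases hh1 : k < 278528
  · skip
    by_cases hh2 : k < 131072
    · skip
      by_cases hh3 : k < 65536
      · skip
        by_cases hh4 : k < 32768
        · skip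
          by_cases hh5 : k < 16384
          · skip
            exact edgeRange_sound data 6 16384 0 e6_c0 k (by omega) (by omega)
          · skip
            exact edgeRange_sound data 6 16384 16384 e6_c1 k (by omega) (by omega)
        · skip
          by_cases hh6 : k < 49152
          · skip
            exact edgeRange_sound data 6 16384 32768 e6_c2 k (by omega) (by omega)
          · skip
            exact edgeRange_sound data 6 16384 49152 e6_c3 k (by omega) (by omega)
      · skip
        by_cases hh7 : k < 98304
        · skip
          by_cases hh8 : k < 81920
          · skip
            exact edgeRange_sound data 6 16384 65536 e6_c4 k (by omega) (by omega)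
          · skip
            exact edgeRange_sound data 6 16384 81920 e6_c5 k (by omega) (by omega)
        · skip
          by_cases hh9 : k < 114688
          · skip
            exact edgeRange_sound data 6 16384 98304 e6_c6 k (by omega) (by omega)
          · skip
            exact edgeRange_sound data 6 16384 114688 e6_c7 k (by omega) (by omega)
    · skip
      by_cases hh10 : k < 196608
      · skip
        by_cases hh11 : k < 163840
        · skip
          by_cases hh12 : k < 147456
          · skip
            exact edgeRange_sound data 6 16384 131072 e6_c8 k (by omega) (by omega)
          · skip
            exact edgeRange_sound data 6 16384 147456 e6_c9 k (by omega) (by omega)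
        · skip
          by_cases hh13 : k < 180224
          · skip
            exact edgeRange_sound data 6 16384 163840 e6_c10 k (by omega) (by omega)
          · skip
            exact edgeRange_sound data 6 16384 180224 e6_c11 k (by omega) (by omega)
      · skip
        by_cases hh14 : k < 229376
        · skip
          by_cases hh15 : k < 212992
          · skip
            exact edgeRange_sound data 6 16384 196608 e6_c12 k (by omega) (by omega)
          · skip
            exact edgeRange_sound data 6 16384 212992 e6_c13 k (by omega) (by omega)
        · skip
          by_cases hh16 : k < 245760
          · skip
            exact edgeRange_sound data 6 16384 229376 e6_c14 k (by omega) (by omega)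
          · skip
            by_cases hh17 : k < 262144
            · skip
              exact edgeRange_sound data 6 16384 245760 e6_c15 k (by omega) (by omega)
            · skip
              exact edgeRange_sound data 6 16384 262144 e6_c16 k (by omega) (by omega)
  · skip
    by_cases hh18 : k < 425984
    · skip
      by_cases hh19 : k < 344064
      · skip
        by_cases hh20 : k < 311296
        · skip
          by_cases hh21 : k < 294912
          · skip
            exact edgeRange_sound data 6 16384 278528 e6_c17 k (by omega) (by omega)
          · skip
            exact edgeRange_sound data 6 16384 294912 e6_c18 k (by omega) (by omega)
        · skip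
          by_cases hh22 : k < 327680
          · skip
            exact edgeRange_sound data 6 16384 311296 e6_c19 k (by omega) (by omega)
          · skip
            exact edgeRange_sound data 6 16384 327680 e6_c20 k (by omega) (by omega)
      · skip
        by_cases hh23 : k < 376832
        · skip
          by_cases hh24 : k < 360448
          · skip
            exact edgeRange_sound data 6 16384 344064 e6_c21 k (by omega) (by omega)
          · skip
            exact edgeRange_sound data 6 16384 360448 e6_c22 k (by omega) (by omega)
        · skip
          by_cases hh25 : k < 393216
          · skip
            exact edgeRange_sound data 6 16384 376832 e6_c23 k (by omega) (by omega)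
          · skip
            by_cases hh26 : k < 409600
            · skip
              exact edgeRange_sound data 6 16384 393216 e6_c24 k (by omega) (by omega)
            · skip
              exact edgeRange_sound data 6 16384 409600 e6_c25 k (by omega) (by omega)
    · skip
      by_cases hh27 : k < 491520
      · skip
        by_cases hh28 : k < 458752
        · skip
          by_cases hh29 : k < 442368
          · skip
            exact edgeRange_sound data 6 16384 425984 e6_c26 k (by omega) (by omega)
          · skip
            exact edgeRange_sound data 6 16384 442368 e6_c27 k (by omega) (by omega)
        · skip
          by_cases hh30 : k < 475136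
          · skip
            exact edgeRange_sound data 6 16384 458752 e6_c28 k (by omega) (by omega)
          · skip
            exact edgeRange_sound data 6 16384 475136 e6_c29 k (by omega) (by omega)
      · skip
        by_cases hh31 : k < 524288
        · skip
          by_cases hh32 : k < 507904
          · skip
            exact edgeRange_sound data 6 16384 491520 e6_c30 k (by omega) (by omega)
          · skip
            exact edgeRange_sound data 6 16384 507904 e6_c31 k (by omega) (by omega)
        · skip
          by_cases hh33 : k < 540672
          · skip
            exact edgeRange_sound data 6 16384 524288 e6_c32 k (by omega) (by omega)
          · skip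
            by_cases hh34 : k < 545318
            · skip
              exact edgeRange_sound data 6 4646 540672 e6_c33 k (by omega) (by omega)
            · skip
              exact edgeRange_sound data 6 503258 545318 e6_c34 k (by omega) (by omega)

theorem allE7 : ∀ k, k < 1048576 → justE data 7 k = true := by
  intro k hk
  by_cases hh1 : k < 278528
  · skip
    by_cases hh2 : k < 131072
    · skip
      by_cases hh3 : k < 65536
      · skip
        by_cases hh4 : k < 32768
        · skip
          by_cases hh5 : k < 16384
          · skip
            exact edgeRange_sound data 7 16384 0 e7_c0 k (by omega) (by omega)
          · skip
            exact edgeRange_sound data 7 16384 16384 e7_c1 k (by omega) (by omega)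
        · skip
          by_cases hh6 : k < 49152
          · skip
            exact edgeRange_sound data 7 16384 32768 e7_c2 k (by omega) (by omega)
          · skip
            exact edgeRange_sound data 7 16384 49152 e7_c3 k (by omega) (by omega)
      · skip
        by_cases hh7 : k < 98304
        · skip
          by_cases hh8 : k < 81920
          · skip
            exact edgeRange_sound data 7 16384 65536 e7_c4 k (by omega) (by omega)
          · skip
            exact edgeRange_sound data 7 16384 81920 e7_c5 k (by omega) (by omega)
        · skip
          by_cases hh9 : k < 114688
          · skip
            exact edgeRange_sound data 7 16384 98304 e7_c6 k (by omega) (by omega)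
          · skip
            exact edgeRange_sound data 7 16384 114688 e7_c7 k (by omega) (by omega)
    · skip
      by_cases hh10 : k < 196608
      · skip
        by_cases hh11 : k < 163840
        · skip
          by_cases hh12 : k < 147456
          · skip
            exact edgeRange_sound data 7 16384 131072 e7_c8 k (by omega) (by omega)
          · skip
            exact edgeRange_sound data 7 16384 147456 e7_c9 k (by omega) (by omega)
        · skip
          by_cases hh13 : k < 180224
          · skip
            exact edgeRange_sound data 7 16384 163840 e7_c10 k (by omega) (by omega)
          · skip
            exact edgeRange_sound data 7 16384 180224 e7_c11 k (by omega) (by omega)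
      · skip
        by_cases hh14 : k < 229376
        · skip
          by_cases hh15 : k < 212992
          · skip
            exact edgeRange_sound data 7 16384 196608 e7_c12 k (by omega) (by omega)
          · skip
            exact edgeRange_sound data 7 16384 212992 e7_c13 k (by omega) (by omega)
        · skip
          by_cases hh16 : k < 245760
          · skip
            exact edgeRange_sound data 7 16384 229376 e7_c14 k (by omega) (by omega)
          · skip
            by_cases hh17 : k < 262144
            · skip
              exact edgeRange_sound data 7 16384 245760 e7_c15 k (by omega) (by omega)
            · skip
              exact edgeRange_sound data 7 16384 262144 e7_c16 k (by omega) (by omega)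
  · skip
    by_cases hh18 : k < 425984
    · skip
      by_cases hh19 : k < 344064
      · skip
        by_cases hh20 : k < 311296
        · skip
          by_cases hh21 : k < 294912
          · skip
            exact edgeRange_sound data 7 16384 278528 e7_c17 k (by omega) (by omega)
          · skip
            exact edgeRange_sound data 7 16384 294912 e7_c18 k (by omega) (by omega)
        · skip
          by_cases hh22 : k < 327680
          · skip
            exact edgeRange_sound data 7 16384 311296 e7_c19 k (by omega) (by omega)
          · skip
            exact edgeRange_sound data 7 16384 327680 e7_c20 k (by omega) (by omega)
      · skip
        by_cases hh23 : k < 376832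
        · skip
          by_cases hh24 : k < 360448
          · skip
            exact edgeRange_sound data 7 16384 344064 e7_c21 k (by omega) (by omega)
          · skip
            exact edgeRange_sound data 7 16384 360448 e7_c22 k (by omega) (by omega)
        · skip
          by_cases hh25 : k < 393216
          · skip
            exact edgeRange_sound data 7 16384 376832 e7_c23 k (by omega) (by omega)
          · skip
            by_cases hh26 : k < 409600
            · skip
              exact edgeRange_sound data 7 16384 393216 e7_c24 k (by omega) (by omega)
            · skip
              exact edgeRange_sound data 7 16384 409600 e7_c25 k (by omega) (by omega)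
    · skip
      by_cases hh27 : k < 491520
      · skip
        by_cases hh28 : k < 458752
        · skip
          by_cases hh29 : k < 442368
          · skip
            exact edgeRange_sound data 7 16384 425984 e7_c26 k (by omega) (by omega)
          · skip
            exact edgeRange_sound data 7 16384 442368 e7_c27 k (by omega) (by omega)
        · skip
          by_cases hh30 : k < 475136
          · skip
            exact edgeRange_sound data 7 16384 458752 e7_c28 k (by omega) (by omega)
          · skip
            exact edgeRange_sound data 7 16384 475136 e7_c29 k (by omega) (by omega)
      · skip
        by_cases hh31 : k < 524288
        · skip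
          by_cases hh32 : k < 507904
          · skip
            exact edgeRange_sound data 7 16384 491520 e7_c30 k (by omega) (by omega)
          · skip
            exact edgeRange_sound data 7 16384 507904 e7_c31 k (by omega) (by omega)
        · skip
          by_cases hh33 : k < 540672
          · skip
            exact edgeRange_sound data 7 16384 524288 e7_c32 k (by omega) (by omega)
          · skip
            by_cases hh34 : k < 545318
            · skip
              exact edgeRange_sound data 7 4646 540672 e7_c33 k (by omega) (by omega)
            · skip
              exact edgeRange_sound data 7 503258 545318 e7_c34 k (by omega) (by omega)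

theorem allE8 : ∀ k, k < 1048576 → justE data 8 k = true := by
  intro k hk
  by_cases hh1 : k < 278528
  · skip
    by_cases hh2 : k < 131072
    · skip
      by_cases hh3 : k < 65536
      · skip
        by_cases hh4 : k < 32768
        · skip
          by_cases hh5 : k < 16384
          · skip
            exact edgeRange_sound data 8 16384 0 e8_c0 k (by omega) (by omega)
          · skip
            exact edgeRange_sound data 8 16384 16384 e8_c1 k (by omega) (by omega)
        · skip
          by_cases hh6 : k < 49152
          · skip
            exact edgeRange_sound data 8 16384 32768 e8_c2 k (by omega) (by omega)
          · skip
            exact edgeRange_sound data 8 16384 49152 e8_c3 k (by omega) (by omega)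
      · skip
        by_cases hh7 : k < 98304
        · skip
          by_cases hh8 : k < 81920
          · skip
            exact edgeRange_sound data 8 16384 65536 e8_c4 k (by omega) (by omega)
          · skip
            exact edgeRange_sound data 8 16384 81920 e8_c5 k (by omega) (by omega)
        · skip
          by_cases hh9 : k < 114688
          · skip
            exact edgeRange_sound data 8 16384 98304 e8_c6 k (by omega) (by omega)
          · skip
            exact edgeRange_sound data 8 16384 114688 e8_c7 k (by omega) (by omega)
    · skip
      by_cases hh10 : k < 196608
      · skip
        by_cases hh11 : k < 163840
        · skip
          by_cases hh12 : k < 147456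
          · skip
            exact edgeRange_sound data 8 16384 131072 e8_c8 k (by omega) (by omega)
          · skip
            exact edgeRange_sound data 8 16384 147456 e8_c9 k (by omega) (by omega)
        · skip
          by_cases hh13 : k < 180224
          · skip
            exact edgeRange_sound data 8 16384 163840 e8_c10 k (by omega) (by omega)
          · skip
            exact edgeRange_sound data 8 16384 180224 e8_c11 k (by omega) (by omega)
      · skip
        by_cases hh14 : k < 229376
        · skip
          by_cases hh15 : k < 212992
          · skip
            exact edgeRange_sound data 8 16384 196608 e8_c12 k (by omega) (by omega)
          · skip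
            exact edgeRange_sound data 8 16384 212992 e8_c13 k (by omega) (by omega)
        · skip
          by_cases hh16 : k < 245760
          · skip
            exact edgeRange_sound data 8 16384 229376 e8_c14 k (by omega) (by omega)
          · skip
            by_cases hh17 : k < 262144
            · skip
              exact edgeRange_sound data 8 16384 245760 e8_c15 k (by omega) (by omega)
            · skip
              exact edgeRange_sound data 8 16384 262144 e8_c16 k (by omega) (by omega)
  · skip
    by_cases hh18 : k < 425984
    · skip
      by_cases hh19 : k < 344064
      · skip
        by_cases hh20 : k < 311296
        · skip
          by_cases hh21 : k < 294912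
          · skip
            exact edgeRange_sound data 8 16384 278528 e8_c17 k (by omega) (by omega)
          · skip
            exact edgeRange_sound data 8 16384 294912 e8_c18 k (by omega) (by omega)
        · skip
          by_cases hh22 : k < 327680
          · skip
            exact edgeRange_sound data 8 16384 311296 e8_c19 k (by omega) (by omega)
          · skip
            exact edgeRange_sound data 8 16384 327680 e8_c20 k (by omega) (by omega)
      · skip
        by_cases hh23 : k < 376832
        · skip
          by_cases hh24 : k < 360448
          · skip
            exact edgeRange_sound data 8 16384 344064 e8_c21 k (by omega) (by omega)
          · skip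
            exact edgeRange_sound data 8 16384 360448 e8_c22 k (by omega) (by omega)
        · skip
          by_cases hh25 : k < 393216
          · skip
            exact edgeRange_sound data 8 16384 376832 e8_c23 k (by omega) (by omega)
          · skip
            by_cases hh26 : k < 409600
            · skip
              exact edgeRange_sound data 8 16384 393216 e8_c24 k (by omega) (by omega)
            · skip
              exact edgeRange_sound data 8 16384 409600 e8_c25 k (by omega) (by omega)
    · skip
      by_cases hh27 : k < 491520
      · skip
        by_cases hh28 : k < 458752
        · skip
          by_cases hh29 : k < 442368
          · skip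
            exact edgeRange_sound data 8 16384 425984 e8_c26 k (by omega) (by omega)
          · skip
            exact edgeRange_sound data 8 16384 442368 e8_c27 k (by omega) (by omega)
        · skip
          by_cases hh30 : k < 475136
          · skip
            exact edgeRange_sound data 8 16384 458752 e8_c28 k (by omega) (by omega)
          · skip
            exact edgeRange_sound data 8 16384 475136 e8_c29 k (by omega) (by omega)
      · skip
        by_cases hh31 : k < 524288
        · skip
          by_cases hh32 : k < 507904
          · skip
            exact edgeRange_sound data 8 16384 491520 e8_c30 k (by omega) (by omega)
          · skip
            exact edgeRange_sound data 8 16384 507904 e8_c31 k (by omega) (by omega)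
        · skip
          by_cases hh33 : k < 540672
          · skip
            exact edgeRange_sound data 8 16384 524288 e8_c32 k (by omega) (by omega)
          · skip
            by_cases hh34 : k < 545318
            · skip
              exact edgeRange_sound data 8 4646 540672 e8_c33 k (by omega) (by omega)
            · skip
              exact edgeRange_sound data 8 503258 545318 e8_c34 k (by omega) (by omega)

theorem allE9 : ∀ k, k < 1048576 → justE data 9 k = true := by
  intro k hk
  by_cases hh1 : k < 278528
  · skip
    by_cases hh2 : k < 131072
    · skip
      by_cases hh3 : k < 65536
      · skip
        by_cases hh4 : k < 32768
        · skip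
          by_cases hh5 : k < 16384
          · skip
            exact edgeRange_sound data 9 16384 0 e9_c0 k (by omega) (by omega)
          · skip
            exact edgeRange_sound data 9 16384 16384 e9_c1 k (by omega) (by omega)
        · skip
          by_cases hh6 : k < 49152
          · skip
            exact edgeRange_sound data 9 16384 32768 e9_c2 k (by omega) (by omega)
          · skip
            exact edgeRange_sound data 9 16384 49152 e9_c3 k (by omega) (by omega)
      · skip
        by_cases hh7 : k < 98304
        · skip
          by_cases hh8 : k < 81920
          · skip
            exact edgeRange_sound data 9 16384 65536 e9_c4 k (by omega) (by omega)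
          · skip
            exact edgeRange_sound data 9 16384 81920 e9_c5 k (by omega) (by omega)
        · skip
          by_cases hh9 : k < 114688
          · skip
            exact edgeRange_sound data 9 16384 98304 e9_c6 k (by omega) (by omega)
          · skip
            exact edgeRange_sound data 9 16384 114688 e9_c7 k (by omega) (by omega)
    · skip
      by_cases hh10 : k < 196608
      · skip
        by_cases hh11 : k < 163840
        · skip
          by_cases hh12 : k < 147456
          · skip
            exact edgeRange_sound data 9 16384 131072 e9_c8 k (by omega) (by omega)
          · skip
            exact edgeRange_sound data 9 16384 147456 e9_c9 k (by omega) (by omega)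
        · skip
          by_cases hh13 : k < 180224
          · skip
            exact edgeRange_sound data 9 16384 163840 e9_c10 k (by omega) (by omega)
          · skip
            exact edgeRange_sound data 9 16384 180224 e9_c11 k (by omega) (by omega)
      · skip
        by_cases hh14 : k < 229376
        · skip
          by_cases hh15 : k < 212992
          · skip
            exact edgeRange_sound data 9 16384 196608 e9_c12 k (by omega) (by omega)
          · skip
            exact edgeRange_sound data 9 16384 212992 e9_c13 k (by omega) (by omega)
        · skip
          by_cases hh16 : k < 245760
          · skip
            exact edgeRange_sound data 9 16384 229376 e9_c14 k (by omega) (by omega)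
          · skip
            by_cases hh17 : k < 262144
            · skip
              exact edgeRange_sound data 9 16384 245760 e9_c15 k (by omega) (by omega)
            · skip
              exact edgeRange_sound data 9 16384 262144 e9_c16 k (by omega) (by omega)
  · skip
    by_cases hh18 : k < 425984
    · skip
      by_cases hh19 : k < 344064
      · skip
        by_cases hh20 : k < 311296
        · skip
          by_cases hh21 : k < 294912
          · skip
            exact edgeRange_sound data 9 16384 278528 e9_c17 k (by omega) (by omega)
          · skip
            exact edgeRange_sound data 9 16384 294912 e9_c18 k (by omega) (by omega)
        · skip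
          by_cases hh22 : k < 327680
          · skip
            exact edgeRange_sound data 9 16384 311296 e9_c19 k (by omega) (by omega)
          · skip
            exact edgeRange_sound data 9 16384 327680 e9_c20 k (by omega) (by omega)
      · skip
        by_cases hh23 : k < 376832
        · skip
          by_cases hh24 : k < 360448
          · skip
            exact edgeRange_sound data 9 16384 344064 e9_c21 k (by omega) (by omega)
          · skip
            exact edgeRange_sound data 9 16384 360448 e9_c22 k (by omega) (by omega)
        · skip
          by_cases hh25 : k < 393216
          · skip
            exact edgeRange_sound data 9 16384 376832 e9_c23 k (by omega) (by omega)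
          · skip
            by_cases hh26 : k < 409600
            · skip
              exact edgeRange_sound data 9 16384 393216 e9_c24 k (by omega) (by omega)
            · skip
              exact edgeRange_sound data 9 16384 409600 e9_c25 k (by omega) (by omega)
    · skip
      by_cases hh27 : k < 491520
      · skip
        by_cases hh28 : k < 458752
        · skip
          by_cases hh29 : k < 442368
          · skip
            exact edgeRange_sound data 9 16384 425984 e9_c26 k (by omega) (by omega)
          · skip
            exact edgeRange_sound data 9 16384 442368 e9_c27 k (by omega) (by omega)
        · skip
          by_cases hh30 : k < 475136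
          · skip
            exact edgeRange_sound data 9 16384 458752 e9_c28 k (by omega) (by omega)
          · skip
            exact edgeRange_sound data 9 16384 475136 e9_c29 k (by omega) (by omega)
      · skip
        by_cases hh31 : k < 524288
        · skip
          by_cases hh32 : k < 507904
          · skip
            exact edgeRange_sound data 9 16384 491520 e9_c30 k (by omega) (by omega)
          · skip
            exact edgeRange_sound data 9 16384 507904 e9_c31 k (by omega) (by omega)
        · skip
          by_cases hh33 : k < 540672
          · skip
            exact edgeRange_sound data 9 16384 524288 e9_c32 k (by omega) (by omega)
          · skip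
            by_cases hh34 : k < 545318
            · skip
              exact edgeRange_sound data 9 4646 540672 e9_c33 k (by omega) (by omega)
            · skip
              exact edgeRange_sound data 9 503258 545318 e9_c34 k (by omega) (by omega)

theorem allE10 : ∀ k, k < 1048576 → justE data 10 k = true := by
  intro k hk
  by_cases hh1 : k < 278528
  · skip
    by_cases hh2 : k < 131072
    · skip
      by_cases hh3 : k < 65536
      · skip
        by_cases hh4 : k < 32768
        · skip
          by_cases hh5 : k < 16384
          · skip
            exact edgeRange_sound data 10 16384 0 e10_c0 k (by omega) (by omega)
          · skip
            exact edgeRange_sound data 10 16384 16384 e10_c1 k (by omega) (by omega)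
        · skip
          by_cases hh6 : k < 49152
          · skip
            exact edgeRange_sound data 10 16384 32768 e10_c2 k (by omega) (by omega)
          · skip
            exact edgeRange_sound data 10 16384 49152 e10_c3 k (by omega) (by omega)
      · skip
        by_cases hh7 : k < 98304
        · skip
          by_cases hh8 : k < 81920
          · skip
            exact edgeRange_sound data 10 16384 65536 e10_c4 k (by omega) (by omega)
          · skip
            exact edgeRange_sound data 10 16384 81920 e10_c5 k (by omega) (by omega)
        · skip
          by_cases hh9 : k < 114688
          · skip
            exact edgeRange_sound data 10 16384 98304 e10_c6 k (by omega) (by omega)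
          · skip
            exact edgeRange_sound data 10 16384 114688 e10_c7 k (by omega) (by omega)
    · skip
      by_cases hh10 : k < 196608
      · skip
        by_cases hh11 : k < 163840
        · skip
          by_cases hh12 : k < 147456
          · skip
            exact edgeRange_sound data 10 16384 131072 e10_c8 k (by omega) (by omega)
          · skip
            exact edgeRange_sound data 10 16384 147456 e10_c9 k (by omega) (by omega)
        · skip
          by_cases hh13 : k < 180224
          · skip
            exact edgeRange_sound data 10 16384 163840 e10_c10 k (by omega) (by omega)
          · skip
            exact edgeRange_sound data 10 16384 180224 e10_c11 k (by omega) (by omega)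
      · skip
        by_cases hh14 : k < 229376
        · skip
          by_cases hh15 : k < 212992
          · skip
            exact edgeRange_sound data 10 16384 196608 e10_c12 k (by omega) (by omega)
          · skip
            exact edgeRange_sound data 10 16384 212992 e10_c13 k (by omega) (by omega)
        · skip
          by_cases hh16 : k < 245760
          · skip
            exact edgeRange_sound data 10 16384 229376 e10_c14 k (by omega) (by omega)
          · skip
            by_cases hh17 : k < 262144
            · skip
              exact edgeRange_sound data 10 16384 245760 e10_c15 k (by omega) (by omega)
            · skip
              exact edgeRange_sound data 10 16384 262144 e10_c16 k (by omega) (by omega)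
  · skip
    by_cases hh18 : k < 425984
    · skip
      by_cases hh19 : k < 344064
      · skip
        by_cases hh20 : k < 311296
        · skip
          by_cases hh21 : k < 294912
          · skip
            exact edgeRange_sound data 10 16384 278528 e10_c17 k (by omega) (by omega)
          · skip
            exact edgeRange_sound data 10 16384 294912 e10_c18 k (by omega) (by omega)
        · skip
          by_cases hh22 : k < 327680
          · skip
            exact edgeRange_sound data 10 16384 311296 e10_c19 k (by omega) (by omega)
          · skip
            exact edgeRange_sound data 10 16384 327680 e10_c20 k (by omega) (by omega)
      · skip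
        by_cases hh23 : k < 376832
        · skip
          by_cases hh24 : k < 360448
          · skip
            exact edgeRange_sound data 10 16384 344064 e10_c21 k (by omega) (by omega)
          · skip
            exact edgeRange_sound data 10 16384 360448 e10_c22 k (by omega) (by omega)
        · skip
          by_cases hh25 : k < 393216
          · skip
            exact edgeRange_sound data 10 16384 376832 e10_c23 k (by omega) (by omega)
          · skip
            by_cases hh26 : k < 409600
            · skip
              exact edgeRange_sound data 10 16384 393216 e10_c24 k (by omega) (by omega)
            · skip
              exact edgeRange_sound data 10 16384 409600 e10_c25 k (by omega) (by omega)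
    · skip
      by_cases hh27 : k < 491520
      · skip
        by_cases hh28 : k < 458752
        · skip
          by_cases hh29 : k < 442368
          · skip
            exact edgeRange_sound data 10 16384 425984 e10_c26 k (by omega) (by omega)
          · skip
            exact edgeRange_sound data 10 16384 442368 e10_c27 k (by omega) (by omega)
        · skip
          by_cases hh30 : k < 475136
          · skip
            exact edgeRange_sound data 10 16384 458752 e10_c28 k (by omega) (by omega)
          · skip
            exact edgeRange_sound data 10 16384 475136 e10_c29 k (by omega) (by omega)
      · skip
        by_cases hh31 : k < 524288
        · skip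
          by_cases hh32 : k < 507904
          · skip
            exact edgeRange_sound data 10 16384 491520 e10_c30 k (by omega) (by omega)
          · skip
            exact edgeRange_sound data 10 16384 507904 e10_c31 k (by omega) (by omega)
        · skip
          by_cases hh33 : k < 540672
          · skip
            exact edgeRange_sound data 10 16384 524288 e10_c32 k (by omega) (by omega)
          · skip
            by_cases hh34 : k < 545318
            · skip
              exact edgeRange_sound data 10 4646 540672 e10_c33 k (by omega) (by omega)
            · skip
              exact edgeRange_sound data 10 503258 545318 e10_c34 k (by omega) (by omega)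

theorem allE11 : ∀ k, k < 1048576 → justE data 11 k = true := by
  intro k hk
  by_cases hh1 : k < 278528
  · skip
    by_cases hh2 : k < 131072
    · skip
      by_cases hh3 : k < 65536
      · skip
        by_cases hh4 : k < 32768
        · skip
          by_cases hh5 : k < 16384
          · skip
            exact edgeRange_sound data 11 16384 0 e11_c0 k (by omega) (by omega)
          · skip
            exact edgeRange_sound data 11 16384 16384 e11_c1 k (by omega) (by omega)
        · skip
          by_cases hh6 : k < 49152
          · skip
            exact edgeRange_sound data 11 16384 32768 e11_c2 k (by omega) (by omega)
          · skip
            exact edgeRange_sound data 11 16384 49152 e11_c3 k (by omega) (by omega)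
      · skip
        by_cases hh7 : k < 98304
        · skip
          by_cases hh8 : k < 81920
          · skip
            exact edgeRange_sound data 11 16384 65536 e11_c4 k (by omega) (by omega)
          · skip
            exact edgeRange_sound data 11 16384 81920 e11_c5 k (by omega) (by omega)
        · skip
          by_cases hh9 : k < 114688
          · skip
            exact edgeRange_sound data 11 16384 98304 e11_c6 k (by omega) (by omega)
          · skip
            exact edgeRange_sound data 11 16384 114688 e11_c7 k (by omega) (by omega)
    · skip
      by_cases hh10 : k < 196608
      · skip
        by_cases hh11 : k < 163840
        · skip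
          by_cases hh12 : k < 147456
          · skip
            exact edgeRange_sound data 11 16384 131072 e11_c8 k (by omega) (by omega)
          · skip
            exact edgeRange_sound data 11 16384 147456 e11_c9 k (by omega) (by omega)
        · skip
          by_cases hh13 : k < 180224
          · skip
            exact edgeRange_sound data 11 16384 163840 e11_c10 k (by omega) (by omega)
          · skip
            exact edgeRange_sound data 11 16384 180224 e11_c11 k (by omega) (by omega)
      · skip
        by_cases hh14 : k < 229376
        · skip
          by_cases hh15 : k < 212992
          · skip
            exact edgeRange_sound data 11 16384 196608 e11_c12 k (by omega) (by omega)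
          · skip
            exact edgeRange_sound data 11 16384 212992 e11_c13 k (by omega) (by omega)
        · skip
          by_cases hh16 : k < 245760
          · skip
            exact edgeRange_sound data 11 16384 229376 e11_c14 k (by omega) (by omega)
          · skip
            by_cases hh17 : k < 262144
            · skip
              exact edgeRange_sound data 11 16384 245760 e11_c15 k (by omega) (by omega)
            · skip
              exact edgeRange_sound data 11 16384 262144 e11_c16 k (by omega) (by omega)
  · skip
    by_cases hh18 : k < 425984
    · skip
      by_cases hh19 : k < 344064
      · skip
        by_cases hh20 : k < 311296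
        · skip
          by_cases hh21 : k < 294912
          · skip
            exact edgeRange_sound data 11 16384 278528 e11_c17 k (by omega) (by omega)
          · skip
            exact edgeRange_sound data 11 16384 294912 e11_c18 k (by omega) (by omega)
        · skip
          by_cases hh22 : k < 327680
          · skip
            exact edgeRange_sound data 11 16384 311296 e11_c19 k (by omega) (by omega)
          · skip
            exact edgeRange_sound data 11 16384 327680 e11_c20 k (by omega) (by omega)
      · skip
        by_cases hh23 : k < 376832
        · skip
          by_cases hh24 : k < 360448
          · skip
            exact edgeRange_sound data 11 16384 344064 e11_c21 k (by omega) (by omega)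
          · skip
            exact edgeRange_sound data 11 16384 360448 e11_c22 k (by omega) (by omega)
        · skip
          by_cases hh25 : k < 393216
          · skip
            exact edgeRange_sound data 11 16384 376832 e11_c23 k (by omega) (by omega)
          · skip
            by_cases hh26 : k < 409600
            · skip
              exact edgeRange_sound data 11 16384 393216 e11_c24 k (by omega) (by omega)
            · skip
              exact edgeRange_sound data 11 16384 409600 e11_c25 k (by omega) (by omega)
    · skip
      by_cases hh27 : k < 491520
      · skip
        by_cases hh28 : k < 458752
        · skip
          by_cases hh29 : k < 442368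
          · skip
            exact edgeRange_sound data 11 16384 425984 e11_c26 k (by omega) (by omega)
          · skip
            exact edgeRange_sound data 11 16384 442368 e11_c27 k (by omega) (by omega)
        · skip
          by_cases hh30 : k < 475136
          · skip
            exact edgeRange_sound data 11 16384 458752 e11_c28 k (by omega) (by omega)
          · skip
            exact edgeRange_sound data 11 16384 475136 e11_c29 k (by omega) (by omega)
      · skip
        by_cases hh31 : k < 524288
        · skip
          by_cases hh32 : k < 507904
          · skip
            exact edgeRange_sound data 11 16384 491520 e11_c30 k (by omega) (by omega)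
          · skip
            exact edgeRange_sound data 11 16384 507904 e11_c31 k (by omega) (by omega)
        · skip
          by_cases hh33 : k < 540672
          · skip
            exact edgeRange_sound data 11 16384 524288 e11_c32 k (by omega) (by omega)
          · skip
            by_cases hh34 : k < 545318
            · skip
              exact edgeRange_sound data 11 4646 540672 e11_c33 k (by omega) (by omega)
            · skip
              exact edgeRange_sound data 11 503258 545318 e11_c34 k (by omega) (by omega)

theorem allE12 : ∀ k, k < 1048576 → justE data 12 k = true := by
  intro k hk
  by_cases hh1 : k < 278528
  · skip
    by_cases hh2 : k < 131072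
    · skip
      by_cases hh3 : k < 65536
      · skip
        by_cases hh4 : k < 32768
        · skip
          by_cases hh5 : k < 16384
          · skip
            exact edgeRange_sound data 12 16384 0 e12_c0 k (by omega) (by omega)
          · skip
            exact edgeRange_sound data 12 16384 16384 e12_c1 k (by omega) (by omega)
        · skip
          by_cases hh6 : k < 49152
          · skip
            exact edgeRange_sound data 12 16384 32768 e12_c2 k (by omega) (by omega)
          · skip
            exact edgeRange_sound data 12 16384 49152 e12_c3 k (by omega) (by omega)
      · skip
        by_cases hh7 : k < 98304
        · skip
          by_cases hh8 : k < 81920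
          · skip
            exact edgeRange_sound data 12 16384 65536 e12_c4 k (by omega) (by omega)
          · skip
            exact edgeRange_sound data 12 16384 81920 e12_c5 k (by omega) (by omega)
        · skip
          by_cases hh9 : k < 114688
          · skip
            exact edgeRange_sound data 12 16384 98304 e12_c6 k (by omega) (by omega)
          · skip
            exact edgeRange_sound data 12 16384 114688 e12_c7 k (by omega) (by omega)
    · skip
      by_cases hh10 : k < 196608
      · skip
        by_cases hh11 : k < 163840
        · skip
          by_cases hh12 : k < 147456
          · skip
            exact edgeRange_sound data 12 16384 131072 e12_c8 k (by omega) (by omega)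
          · skip
            exact edgeRange_sound data 12 16384 147456 e12_c9 k (by omega) (by omega)
        · skip
          by_cases hh13 : k < 180224
          · skip
            exact edgeRange_sound data 12 16384 163840 e12_c10 k (by omega) (by omega)
          · skip
            exact edgeRange_sound data 12 16384 180224 e12_c11 k (by omega) (by omega)
      · skip
        by_cases hh14 : k < 229376
        · skip
          by_cases hh15 : k < 212992
          · skip
            exact edgeRange_sound data 12 16384 196608 e12_c12 k (by omega) (by omega)
          · skip
            exact edgeRange_sound data 12 16384 212992 e12_c13 k (by omega) (by omega)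
        · skip
          by_cases hh16 : k < 245760
          · skip
            exact edgeRange_sound data 12 16384 229376 e12_c14 k (by omega) (by omega)
          · skip
            by_cases hh17 : k < 262144
            · skip
              exact edgeRange_sound data 12 16384 245760 e12_c15 k (by omega) (by omega)
            · skip
              exact edgeRange_sound data 12 16384 262144 e12_c16 k (by omega) (by omega)
  · skip
    by_cases hh18 : k < 425984
    · skip
      by_cases hh19 : k < 344064
      · skip
        by_cases hh20 : k < 311296
        · skip
          by_cases hh21 : k < 294912
          · skip
            exact edgeRange_sound data 12 16384 278528 e12_c17 k (by omega) (by omega)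
          · skip
            exact edgeRange_sound data 12 16384 294912 e12_c18 k (by omega) (by omega)
        · skip
          by_cases hh22 : k < 327680
          · skip
            exact edgeRange_sound data 12 16384 311296 e12_c19 k (by omega) (by omega)
          · skip
            exact edgeRange_sound data 12 16384 327680 e12_c20 k (by omega) (by omega)
      · skip
        by_cases hh23 : k < 376832
        · skip
          by_cases hh24 : k < 360448
          · skip
            exact edgeRange_sound data 12 16384 344064 e12_c21 k (by omega) (by omega)
          · skip
            exact edgeRange_sound data 12 16384 360448 e12_c22 k (by omega) (by omega)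
        · skip
          by_cases hh25 : k < 393216
          · skip
            exact edgeRange_sound data 12 16384 376832 e12_c23 k (by omega) (by omega)
          · skip
            by_cases hh26 : k < 409600
            · skip
              exact edgeRange_sound data 12 16384 393216 e12_c24 k (by omega) (by omega)
            · skip
              exact edgeRange_sound data 12 16384 409600 e12_c25 k (by omega) (by omega)
    · skip
      by_cases hh27 : k < 491520
      · skip
        by_cases hh28 : k < 458752
        · skip
          by_cases hh29 : k < 442368
          · skip
            exact edgeRange_sound data 12 16384 425984 e12_c26 k (by omega) (by omega)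
          · skip
            exact edgeRange_sound data 12 16384 442368 e12_c27 k (by omega) (by omega)
        · skip
          by_cases hh30 : k < 475136
          · skip
            exact edgeRange_sound data 12 16384 458752 e12_c28 k (by omega) (by omega)
          · skip
            exact edgeRange_sound data 12 16384 475136 e12_c29 k (by omega) (by omega)
      · skip
        by_cases hh31 : k < 524288
        · skip
          by_cases hh32 : k < 507904
          · skip
            exact edgeRange_sound data 12 16384 491520 e12_c30 k (by omega) (by omega)
          · skip
            exact edgeRange_sound data 12 16384 507904 e12_c31 k (by omega) (by omega)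
        · skip
          by_cases hh33 : k < 540672
          · skip
            exact edgeRange_sound data 12 16384 524288 e12_c32 k (by omega) (by omega)
          · skip
            by_cases hh34 : k < 545318
            · skip
              exact edgeRange_sound data 12 4646 540672 e12_c33 k (by omega) (by omega)
            · skip
              exact edgeRange_sound data 12 503258 545318 e12_c34 k (by omega) (by omega)

theorem allE13 : ∀ k, k < 1048576 → justE data 13 k = true := by
  intro k hk
  by_cases hh1 : k < 278528
  · skip
    by_cases hh2 : k < 131072
    · skip
      by_cases hh3 : k < 65536
      · skip
        by_cases hh4 : k < 32768
        · skip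
          by_cases hh5 : k < 16384
          · skip
            exact edgeRange_sound data 13 16384 0 e13_c0 k (by omega) (by omega)
          · skip
            exact edgeRange_sound data 13 16384 16384 e13_c1 k (by omega) (by omega)
        · skip
          by_cases hh6 : k < 49152
          · skip
            exact edgeRange_sound data 13 16384 32768 e13_c2 k (by omega) (by omega)
          · skip
            exact edgeRange_sound data 13 16384 49152 e13_c3 k (by omega) (by omega)
      · skip
        by_cases hh7 : k < 98304
        · skip
          by_cases hh8 : k < 81920
          · skip
            exact edgeRange_sound data 13 16384 65536 e13_c4 k (by omega) (by omega)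
          · skip
            exact edgeRange_sound data 13 16384 81920 e13_c5 k (by omega) (by omega)
        · skip
          by_cases hh9 : k < 114688
          · skip
            exact edgeRange_sound data 13 16384 98304 e13_c6 k (by omega) (by omega)
          · skip
            exact edgeRange_sound data 13 16384 114688 e13_c7 k (by omega) (by omega)
    · skip
      by_cases hh10 : k < 196608
      · skip
        by_cases hh11 : k < 163840
        · skip
          by_cases hh12 : k < 147456
          · skip
            exact edgeRange_sound data 13 16384 131072 e13_c8 k (by omega) (by omega)
          · skip
            exact edgeRange_sound data 13 16384 147456 e13_c9 k (by omega) (by omega)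
        · skip
          by_cases hh13 : k < 180224
          · skip
            exact edgeRange_sound data 13 16384 163840 e13_c10 k (by omega) (by omega)
          · skip
            exact edgeRange_sound data 13 16384 180224 e13_c11 k (by omega) (by omega)
      · skip
        by_cases hh14 : k < 229376
        · skip
          by_cases hh15 : k < 212992
          · skip
            exact edgeRange_sound data 13 16384 196608 e13_c12 k (by omega) (by omega)
          · skip
            exact edgeRange_sound data 13 16384 212992 e13_c13 k (by omega) (by omega)
        · skip
          by_cases hh16 : k < 245760
          · skip
            exact edgeRange_sound data 13 16384 229376 e13_c14 k (by omega) (by omega)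
          · skip
            by_cases hh17 : k < 262144
            · skip
              exact edgeRange_sound data 13 16384 245760 e13_c15 k (by omega) (by omega)
            · skip
              exact edgeRange_sound data 13 16384 262144 e13_c16 k (by omega) (by omega)
  · skip
    by_cases hh18 : k < 425984
    · skip
      by_cases hh19 : k < 344064
      · skip
        by_cases hh20 : k < 311296
        · skip
          by_cases hh21 : k < 294912
          · skip
            exact edgeRange_sound data 13 16384 278528 e13_c17 k (by omega) (by omega)
          · skip
            exact edgeRange_sound data 13 16384 294912 e13_c18 k (by omega) (by omega)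
        · skip
          by_cases hh22 : k < 327680
          · skip
            exact edgeRange_sound data 13 16384 311296 e13_c19 k (by omega) (by omega)
          · skip
            exact edgeRange_sound data 13 16384 327680 e13_c20 k (by omega) (by omega)
      · skip
        by_cases hh23 : k < 376832
        · skip
          by_cases hh24 : k < 360448
          · skip
            exact edgeRange_sound data 13 16384 344064 e13_c21 k (by omega) (by omega)
          · skip
            exact edgeRange_sound data 13 16384 360448 e13_c22 k (by omega) (by omega)
        · skip
          by_cases hh25 : k < 393216
          · skip
            exact edgeRange_sound data 13 16384 376832 e13_c23 k (by omega) (by omega)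
          · skip
            by_cases hh26 : k < 409600
            · skip
              exact edgeRange_sound data 13 16384 393216 e13_c24 k (by omega) (by omega)
            · skip
              exact edgeRange_sound data 13 16384 409600 e13_c25 k (by omega) (by omega)
    · skip
      by_cases hh27 : k < 491520
      · skip
        by_cases hh28 : k < 458752
        · skip
          by_cases hh29 : k < 442368
          · skip
            exact edgeRange_sound data 13 16384 425984 e13_c26 k (by omega) (by omega)
          · skip
            exact edgeRange_sound data 13 16384 442368 e13_c27 k (by omega) (by omega)
        · skip
          by_cases hh30 : k < 475136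
          · skip
            exact edgeRange_sound data 13 16384 458752 e13_c28 k (by omega) (by omega)
          · skip
            exact edgeRange_sound data 13 16384 475136 e13_c29 k (by omega) (by omega)
      · skip
        by_cases hh31 : k < 524288
        · skip
          by_cases hh32 : k < 507904
          · skip
            exact edgeRange_sound data 13 16384 491520 e13_c30 k (by omega) (by omega)
          · skip
            exact edgeRange_sound data 13 16384 507904 e13_c31 k (by omega) (by omega)
        · skip
          by_cases hh33 : k < 540672
          · skip
            exact edgeRange_sound data 13 16384 524288 e13_c32 k (by omega) (by omega)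
          · skip
            by_cases hh34 : k < 545318
            · skip
              exact edgeRange_sound data 13 4646 540672 e13_c33 k (by omega) (by omega)
            · skip
              exact edgeRange_sound data 13 503258 545318 e13_c34 k (by omega) (by omega)

theorem allE : ∀ c k, c < data.nc → k ≤ data.mask → justE data c k = true := by
  intro c k hc hk
  have hk' : k < 1048576 := Nat.lt_succ_of_le hk
  have hc' : c < 14 := hc
  interval_cases c
  · exact allE0 k hk'
  · exact allE1 k hk'
  · exact allE2 k hk'
  · exact allE3 k hk'
  · exact allE4 k hk'
  · exact allE5 k hk'
  · exact allE6 k hk'
  · exact allE7 k hk'
  · exact allE8 k hk'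
  · exact allE9 k hk'
  · exact allE10 k hk'
  · exact allE11 k hk'
  · exact allE12 k hk'
  · exact allE13 k hk'

theorem allM : ∀ k, k ≤ data.mask → justM data k = true := by
  intro k hk
  have hk' : k < 1048576 := Nat.lt_succ_of_le hk
  by_cases hh1 : k < 278528
  · skip
    by_cases hh2 : k < 131072
    · skip
      by_cases hh3 : k < 65536
      · skip
        by_cases hh4 : k < 32768
        · skip
          by_cases hh5 : k < 16384
          · skip
            exact mergeRange_sound data 16384 0 m_c0 k (by omega) (by omega)
          · skip
            exact mergeRange_sound data 16384 16384 m_c1 k (by omega) (by omega)
        · skip
          by_cases hh6 : k < 49152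
          · skip
            exact mergeRange_sound data 16384 32768 m_c2 k (by omega) (by omega)
          · skip
            exact mergeRange_sound data 16384 49152 m_c3 k (by omega) (by omega)
      · skip
        by_cases hh7 : k < 98304
        · skip
          by_cases hh8 : k < 81920
          · skip
            exact mergeRange_sound data 16384 65536 m_c4 k (by omega) (by omega)
          · skip
            exact mergeRange_sound data 16384 81920 m_c5 k (by omega) (by omega)
        · skip
          by_cases hh9 : k < 114688
          · skip
            exact mergeRange_sound data 16384 98304 m_c6 k (by omega) (by omega)
          · skip
            exact mergeRange_sound data 16384 114688 m_c7 k (by omega) (by omega)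
    · skip
      by_cases hh10 : k < 196608
      · skip
        by_cases hh11 : k < 163840
        · skip
          by_cases hh12 : k < 147456
          · skip
            exact mergeRange_sound data 16384 131072 m_c8 k (by omega) (by omega)
          · skip
            exact mergeRange_sound data 16384 147456 m_c9 k (by omega) (by omega)
        · skip
          by_cases hh13 : k < 180224
          · skip
            exact mergeRange_sound data 16384 163840 m_c10 k (by omega) (by omega)
          · skip
            exact mergeRange_sound data 16384 180224 m_c11 k (by omega) (by omega)
      · skip
        by_cases hh14 : k < 229376
        · skip
          by_cases hh15 : k < 212992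
          · skip
            exact mergeRange_sound data 16384 196608 m_c12 k (by omega) (by omega)
          · skip
            exact mergeRange_sound data 16384 212992 m_c13 k (by omega) (by omega)
        · skip
          by_cases hh16 : k < 245760
          · skip
            exact mergeRange_sound data 16384 229376 m_c14 k (by omega) (by omega)
          · skip
            by_cases hh17 : k < 262144
            · skip
              exact mergeRange_sound data 16384 245760 m_c15 k (by omega) (by omega)
            · skip
              exact mergeRange_sound data 16384 262144 m_c16 k (by omega) (by omega)
  · skip
    by_cases hh18 : k < 425984
    · skip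
      by_cases hh19 : k < 344064
      · skip
        by_cases hh20 : k < 311296
        · skip
          by_cases hh21 : k < 294912
          · skip
            exact mergeRange_sound data 16384 278528 m_c17 k (by omega) (by omega)
          · skip
            exact mergeRange_sound data 16384 294912 m_c18 k (by omega) (by omega)
        · skip
          by_cases hh22 : k < 327680
          · skip
            exact mergeRange_sound data 16384 311296 m_c19 k (by omega) (by omega)
          · skip
            exact mergeRange_sound data 16384 327680 m_c20 k (by omega) (by omega)
      · skip
        by_cases hh23 : k < 376832
        · skip
          by_cases hh24 : k < 360448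
          · skip
            exact mergeRange_sound data 16384 344064 m_c21 k (by omega) (by omega)
          · skip
            exact mergeRange_sound data 16384 360448 m_c22 k (by omega) (by omega)
        · skip
          by_cases hh25 : k < 393216
          · skip
            exact mergeRange_sound data 16384 376832 m_c23 k (by omega) (by omega)
          · skip
            by_cases hh26 : k < 409600
            · skip
              exact mergeRange_sound data 16384 393216 m_c24 k (by omega) (by omega)
            · skip
              exact mergeRange_sound data 16384 409600 m_c25 k (by omega) (by omega)
    · skip
      by_cases hh27 : k < 491520
      · skip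
        by_cases hh28 : k < 458752
        · skip
          by_cases hh29 : k < 442368
          · skip
            exact mergeRange_sound data 16384 425984 m_c26 k (by omega) (by omega)
          · skip
            exact mergeRange_sound data 16384 442368 m_c27 k (by omega) (by omega)
        · skip
          by_cases hh30 : k < 475136
          · skip
            exact mergeRange_sound data 16384 458752 m_c28 k (by omega) (by omega)
          · skip
            exact mergeRange_sound data 16384 475136 m_c29 k (by omega) (by omega)
      · skip
        by_cases hh31 : k < 524288
        · skip
          by_cases hh32 : k < 507904
          · skip
            exact mergeRange_sound data 16384 491520 m_c30 k (by omega) (by omega)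
          · skip
            exact mergeRange_sound data 16384 507904 m_c31 k (by omega) (by omega)
        · skip
          by_cases hh33 : k < 540672
          · skip
            exact mergeRange_sound data 16384 524288 m_c32 k (by omega) (by omega)
          · skip
            by_cases hh34 : k < 545318
            · skip
              exact mergeRange_sound data 4646 540672 m_c33 k (by omega) (by omega)
            · skip
              exact mergeRange_sound data 503258 545318 m_c34 k (by omega) (by omega)

theorem rows_all : ∀ k, k < M → isFinal data k = true → rowOK data M k data.nc = true := by
  intro k hk
  have hk' : k < 545318 := hk
  by_cases hh1 : k < 278528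
  · skip
    by_cases hh2 : k < 131072
    · skip
      by_cases hh3 : k < 65536
      · skip
        by_cases hh4 : k < 32768
        · skip
          by_cases hh5 : k < 16384
          · skip
            exact rowsRange_sound data M 16384 0 rows0 k (by omega) (by omega)
          · skip
            exact rowsRange_sound data M 16384 16384 rows1 k (by omega) (by omega)
        · skip
          by_cases hh6 : k < 49152
          · skip
            exact rowsRange_sound data M 16384 32768 rows2 k (by omega) (by omega)
          · skip
            exact rowsRange_sound data M 16384 49152 rows3 k (by omega) (by omega)
      · skip
        by_cases hh7 : k < 98304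
        · skip
          by_cases hh8 : k < 81920
          · skip
            exact rowsRange_sound data M 16384 65536 rows4 k (by omega) (by omega)
          · skip
            exact rowsRange_sound data M 16384 81920 rows5 k (by omega) (by omega)
        · skip
          by_cases hh9 : k < 114688
          · skip
            exact rowsRange_sound data M 16384 98304 rows6 k (by omega) (by omega)
          · skip
            exact rowsRange_sound data M 16384 114688 rows7 k (by omega) (by omega)
    · skip
      by_cases hh10 : k < 196608
      · skip
        by_cases hh11 : k < 163840
        · skip
          by_cases hh12 : k < 147456
          · skip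
            exact rowsRange_sound data M 16384 131072 rows8 k (by omega) (by omega)
          · skip
            exact rowsRange_sound data M 16384 147456 rows9 k (by omega) (by omega)
        · skip
          by_cases hh13 : k < 180224
          · skip
            exact rowsRange_sound data M 16384 163840 rows10 k (by omega) (by omega)
          · skip
            exact rowsRange_sound data M 16384 180224 rows11 k (by omega) (by omega)
      · skip
        by_cases hh14 : k < 229376
        · skip
          by_cases hh15 : k < 212992
          · skip
            exact rowsRange_sound data M 16384 196608 rows12 k (by omega) (by omega)
          · skip
            exact rowsRange_sound data M 16384 212992 rows13 k (by omega) (by omega)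
        · skip
          by_cases hh16 : k < 245760
          · skip
            exact rowsRange_sound data M 16384 229376 rows14 k (by omega) (by omega)
          · skip
            by_cases hh17 : k < 262144
            · skip
              exact rowsRange_sound data M 16384 245760 rows15 k (by omega) (by omega)
            · skip
              exact rowsRange_sound data M 16384 262144 rows16 k (by omega) (by omega)
  · skip
    by_cases hh18 : k < 409600
    · skip
      by_cases hh19 : k < 344064
      · skip
        by_cases hh20 : k < 311296
        · skip
          by_cases hh21 : k < 294912
          · skip
            exact rowsRange_sound data M 16384 278528 rows17 k (by omega) (by omega)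
          · skip
            exact rowsRange_sound data M 16384 294912 rows18 k (by omega) (by omega)
        · skip
          by_cases hh22 : k < 327680
          · skip
            exact rowsRange_sound data M 16384 311296 rows19 k (by omega) (by omega)
          · skip
            exact rowsRange_sound data M 16384 327680 rows20 k (by omega) (by omega)
      · skip
        by_cases hh23 : k < 376832
        · skip
          by_cases hh24 : k < 360448
          · skip
            exact rowsRange_sound data M 16384 344064 rows21 k (by omega) (by omega)
          · skip
            exact rowsRange_sound data M 16384 360448 rows22 k (by omega) (by omega)
        · skip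
          by_cases hh25 : k < 393216
          · skip
            exact rowsRange_sound data M 16384 376832 rows23 k (by omega) (by omega)
          · skip
            exact rowsRange_sound data M 16384 393216 rows24 k (by omega) (by omega)
    · skip
      by_cases hh26 : k < 475136
      · skip
        by_cases hh27 : k < 442368
        · skip
          by_cases hh28 : k < 425984
          · skip
            exact rowsRange_sound data M 16384 409600 rows25 k (by omega) (by omega)
          · skip
            exact rowsRange_sound data M 16384 425984 rows26 k (by omega) (by omega)
        · skip
          by_cases hh29 : k < 458752
          · skip
            exact rowsRange_sound data M 16384 442368 rows27 k (by omega) (by omega)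
          · skip
            exact rowsRange_sound data M 16384 458752 rows28 k (by omega) (by omega)
      · skip
        by_cases hh30 : k < 507904
        · skip
          by_cases hh31 : k < 491520
          · skip
            exact rowsRange_sound data M 16384 475136 rows29 k (by omega) (by omega)
          · skip
            exact rowsRange_sound data M 16384 491520 rows30 k (by omega) (by omega)
        · skip
          by_cases hh32 : k < 524288
          · skip
            exact rowsRange_sound data M 16384 507904 rows31 k (by omega) (by omega)
          · skip
            by_cases hh33 : k < 540672
            · skip
              exact rowsRange_sound data M 16384 524288 rows32 k (by omega) (by omega)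
            · skip
              exact rowsRange_sound data M 4646 540672 rows33 k (by omega) (by omega)

theorem cnt_ok : countFinal data M 0 0 = n := by
  exact cnt0

theorem bound : Finite (PresentedGroup (relSet Cfsg.Agent.Helper4.TC.ONCod.dec bases) ⧸ (Subgroup.closure (relSet Cfsg.Agent.Helper4.TC.ONCod.dec subsL)).map (PresentedGroup.mk (relSet Cfsg.Agent.Helper4.TC.ONCod.dec bases))) ∧
    Nat.card (PresentedGroup (relSet Cfsg.Agent.Helper4.TC.ONCod.dec bases) ⧸ (Subgroup.closure (relSet Cfsg.Agent.Helper4.TC.ONCod.dec subsL)).map (PresentedGroup.mk (relSet Cfsg.Agent.Helper4.TC.ONCod.dec bases))) ≤ n :=
  tc_bound data bases subsL rots Cfsg.Agent.Helper4.TC.ONCod.coding (mem_relSet bases) (mem_relSet subsL) words_ok allE allM M n fin0_ok (by decide) (by decide) cnt_ok rows_all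

end Cfsg.Agent.Lib.Helper18.ONM.TCO
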