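import Cfsg.Agent.Lib.Helper18.ONM.TCOD
import Cfsg.Agent.Lib.Helper4.TC.Strict
import Cfsg.Agent.Lib.Helper7.TCSplit

set_option autoImplicit false
set_option maxRecDepth 100000
set_option linter.unusedVariables false
set_option Elab.async false

namespace Cfsg.Agent.Lib.Helper18.ONM.TCO

open Cfsg.Agent.Helper4.TC
open Cfsg.Agent.Lib.Helper7.TCSplit

theorem rows8_p0 : rowsRange data 545318 2048 131072 = true := rowsRange_strict data 545318 2048 131072 (by decide +kernel)
theorem rows8_p1 : rowsRange data 545318 2048 133120 = true := rowsRange_strict data 545318 2048 133120 (by decide +kernel)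
theorem rows8_p2 : rowsRange data 545318 2048 135168 = true := rowsRange_strict data 545318 2048 135168 (by decide +kernel)
theorem rows8_p3 : rowsRange data 545318 2048 137216 = true := rowsRange_strict data 545318 2048 137216 (by decide +kernel)
theorem rows8_p4 : rowsRange data 545318 2048 139264 = true := rowsRange_strict data 545318 2048 139264 (by decide +kernel)
theorem rows8_p5 : rowsRange data 545318 2048 141312 = true := rowsRange_strict data 545318 2048 141312 (by decide +kernel)
theorem rows8_p6 : rowsRange data 545318 2048 143360 = true := rowsRange_strict data 545318 2048 143360 (by decide +kernel)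
theorem rows8_p7 : rowsRange data 545318 2048 145408 = true := rowsRange_strict data 545318 2048 145408 (by decide +kernel)
theorem rows8 : rowsRange data 545318 16384 131072 = true :=
  rowsRange_glue data 545318 2048 14336 16384 131072 133120 rfl rfl rows8_p0 (rowsRange_glue data 545318 2048 12288 14336 133120 135168 rfl rfl rows8_p1 (rowsRange_glue data 545318 2048 10240 12288 135168 137216 rfl rfl rows8_p2 (rowsRange_glue data 545318 2048 8192 10240 137216 139264 rfl rfl rows8_p3 (rowsRange_glue data 545318 2048 6144 8192 139264 141312 rfl rfl rows8_p4 (rowsRange_glue data 545318 2048 4096 6144 141312 143360 rfl rfl rows8_p5 (rowsRange_glue data 545318 2048 2048 4096 143360 145408 rfl rfl rows8_p6 (rows8_p7)))))))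
theorem rows9_p0 : rowsRange data 545318 2048 147456 = true := rowsRange_strict data 545318 2048 147456 (by decide +kernel)
theorem rows9_p1 : rowsRange data 545318 2048 149504 = true := rowsRange_strict data 545318 2048 149504 (by decide +kernel)
theorem rows9_p2 : rowsRange data 545318 2048 151552 = true := rowsRange_strict data 545318 2048 151552 (by decide +kernel)
theorem rows9_p3 : rowsRange data 545318 2048 153600 = true := rowsRange_strict data 545318 2048 153600 (by decide +kernel)
theorem rows9_p4 : rowsRange data 545318 2048 155648 = true := rowsRange_strict data 545318 2048 155648 (by decide +kernel)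
theorem rows9_p5 : rowsRange data 545318 2048 157696 = true := rowsRange_strict data 545318 2048 157696 (by decide +kernel)
theorem rows9_p6 : rowsRange data 545318 2048 159744 = true := rowsRange_strict data 545318 2048 159744 (by decide +kernel)
theorem rows9_p7 : rowsRange data 545318 2048 161792 = true := rowsRange_strict data 545318 2048 161792 (by decide +kernel)
theorem rows9 : rowsRange data 545318 16384 147456 = true :=
  rowsRange_glue data 545318 2048 14336 16384 147456 149504 rfl rfl rows9_p0 (rowsRange_glue data 545318 2048 12288 14336 149504 151552 rfl rfl rows9_p1 (rowsRange_glue data 545318 2048 10240 12288 151552 153600 rfl rfl rows9_p2 (rowsRange_glue data 545318 2048 8192 10240 153600 155648 rfl rfl rows9_p3 (rowsRange_glue data 545318 2048 6144 8192 155648 157696 rfl rfl rows9_p4 (rowsRange_glue data 545318 2048 4096 6144 157696 159744 rfl rfl rows9_p5 (rowsRange_glue data 545318 2048 2048 4096 159744 161792 rfl rfl rows9_p6 (rows9_p7)))))))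
theorem rows10_p0 : rowsRange data 545318 2048 163840 = true := rowsRange_strict data 545318 2048 163840 (by decide +kernel)
theorem rows10_p1 : rowsRange data 545318 2048 165888 = true := rowsRange_strict data 545318 2048 165888 (by decide +kernel)
theorem rows10_p2 : rowsRange data 545318 2048 167936 = true := rowsRange_strict data 545318 2048 167936 (by decide +kernel)
theorem rows10_p3 : rowsRange data 545318 2048 169984 = true := rowsRange_strict data 545318 2048 169984 (by decide +kernel)
theorem rows10_p4 : rowsRange data 545318 2048 172032 = true := rowsRange_strict data 545318 2048 172032 (by decide +kernel)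
theorem rows10_p5 : rowsRange data 545318 2048 174080 = true := rowsRange_strict data 545318 2048 174080 (by decide +kernel)
theorem rows10_p6 : rowsRange data 545318 2048 176128 = true := rowsRange_strict data 545318 2048 176128 (by decide +kernel)
theorem rows10_p7 : rowsRange data 545318 2048 178176 = true := rowsRange_strict data 545318 2048 178176 (by decide +kernel)
theorem rows10 : rowsRange data 545318 16384 163840 = true :=
  rowsRange_glue data 545318 2048 14336 16384 163840 165888 rfl rfl rows10_p0 (rowsRange_glue data 545318 2048 12288 14336 165888 167936 rfl rfl rows10_p1 (rowsRange_glue data 545318 2048 10240 12288 167936 169984 rfl rfl rows10_p2 (rowsRange_glue data 545318 2048 8192 10240 169984 172032 rfl rfl rows10_p3 (rowsRange_glue data 545318 2048 6144 8192 172032 174080 rfl rfl rows10_p4 (rowsRange_glue data 545318 2048 4096 6144 174080 176128 rfl rfl rows10_p5 (rowsRange_glue data 545318 2048 2048 4096 176128 178176 rfl rfl rows10_p6 (rows10_p7)))))))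
theorem rows11_p0 : rowsRange data 545318 2048 180224 = true := rowsRange_strict data 545318 2048 180224 (by decide +kernel)
theorem rows11_p1 : rowsRange data 545318 2048 182272 = true := rowsRange_strict data 545318 2048 182272 (by decide +kernel)
theorem rows11_p2 : rowsRange data 545318 2048 184320 = true := rowsRange_strict data 545318 2048 184320 (by decide +kernel)
theorem rows11_p3 : rowsRange data 545318 2048 186368 = true := rowsRange_strict data 545318 2048 186368 (by decide +kernel)
theorem rows11_p4 : rowsRange data 545318 2048 188416 = true := rowsRange_strict data 545318 2048 188416 (by decide +kernel)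
theorem rows11_p5 : rowsRange data 545318 2048 190464 = true := rowsRange_strict data 545318 2048 190464 (by decide +kernel)
theorem rows11_p6 : rowsRange data 545318 2048 192512 = true := rowsRange_strict data 545318 2048 192512 (by decide +kernel)
theorem rows11_p7 : rowsRange data 545318 2048 194560 = true := rowsRange_strict data 545318 2048 194560 (by decide +kernel)
theorem rows11 : rowsRange data 545318 16384 180224 = true :=
  rowsRange_glue data 545318 2048 14336 16384 180224 182272 rfl rfl rows11_p0 (rowsRange_glue data 545318 2048 12288 14336 182272 184320 rfl rfl rows11_p1 (rowsRange_glue data 545318 2048 10240 12288 184320 186368 rfl rfl rows11_p2 (rowsRange_glue data 545318 2048 8192 10240 186368 188416 rfl rfl rows11_p3 (rowsRange_glue data 545318 2048 6144 8192 188416 190464 rfl rfl rows11_p4 (rowsRange_glue data 545318 2048 4096 6144 190464 192512 rfl rfl rows11_p5 (rowsRange_glue data 545318 2048 2048 4096 192512 194560 rfl rfl rows11_p6 (rows11_p7)))))))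

end Cfsg.Agent.Lib.Helper18.ONM.TCO
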