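import Cfsg.Agent.Lib.Helper18.ONM.TCOT0
import Cfsg.Agent.Lib.Helper18.ONM.TCOT1
import Cfsg.Agent.Lib.Helper18.ONM.TCOT2
import Cfsg.Agent.Lib.Helper18.ONM.TCOT3
import Cfsg.Agent.Lib.Helper18.ONM.TCOT4
import Cfsg.Agent.Lib.Helper18.ONM.TCOT5
import Cfsg.Agent.Lib.Helper18.ONM.TCOT6
import Cfsg.Agent.Lib.Helper18.ONM.TCOT7
import Cfsg.Agent.Lib.Helper18.ONM.TCOT8
import Cfsg.Agent.Lib.Helper18.ONM.TCOT9
import Cfsg.Agent.Lib.Helper18.ONM.TCOT10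
import Cfsg.Agent.Lib.Helper18.ONM.TCOT11
import Cfsg.Agent.Lib.Helper18.ONM.TCOT12
import Cfsg.Agent.Lib.Helper18.ONM.TCOT13
import Cfsg.Agent.Lib.Helper18.ONM.TCOT14
import Cfsg.Agent.Lib.Helper18.ONM.TCOT15
import Cfsg.Agent.Lib.Helper18.ONM.TCOT16
import Cfsg.Agent.Lib.Helper18.ONM.TCOT17
import Cfsg.Agent.Lib.Helper18.ONM.TCOT18
import Cfsg.Agent.Lib.Helper18.ONM.TCOT19
import Cfsg.Agent.Lib.Helper18.ONM.TCOT20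
import Cfsg.Agent.Lib.Helper18.ONM.TCOT21
import Cfsg.Agent.Lib.Helper18.ONM.TCOT22
import Cfsg.Agent.Lib.Helper18.ONM.TCOT23
import Cfsg.Agent.Lib.Helper18.ONM.TCOT24
import Cfsg.Agent.Lib.Helper18.ONM.TCOT25
import Cfsg.Agent.Lib.Helper18.ONM.TCOT26
import Cfsg.Agent.Lib.Helper18.ONM.TCOT27
import Cfsg.Agent.Lib.Helper18.ONM.TCOT28
import Cfsg.Agent.Lib.Helper18.ONM.TCOT29
import Cfsg.Agent.Lib.Helper18.ONM.TCOT30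
import Cfsg.Agent.Lib.Helper18.ONM.TCOT31
import Cfsg.Agent.Lib.Helper18.ONM.TCOT32
import Cfsg.Agent.Lib.Helper18.ONM.TCOT33
import Cfsg.Agent.Lib.Helper18.ONM.TCOT34
import Cfsg.Agent.Lib.Helper18.ONM.TCOT35
import Cfsg.Agent.Lib.Helper18.ONM.TCOT36
import Cfsg.Agent.Lib.Helper18.ONM.TCOT37
import Cfsg.Agent.Lib.Helper18.ONM.TCOT38
import Cfsg.Agent.Lib.Helper18.ONM.TCOT39
import Cfsg.Agent.Lib.Helper18.ONM.TCOT40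
import Cfsg.Agent.Lib.Helper18.ONM.TCOT41
import Cfsg.Agent.Lib.Helper18.ONM.TCOT42
import Cfsg.Agent.Lib.Helper18.ONM.TCOT43
import Cfsg.Agent.Lib.Helper18.ONM.TCOT44
import Cfsg.Agent.Lib.Helper18.ONM.TCOT45
import Cfsg.Agent.Lib.Helper18.ONM.TCOT46
import Cfsg.Agent.Lib.Helper18.ONM.TCOT47
import Cfsg.Agent.Lib.Helper18.ONM.TCOT48
import Cfsg.Agent.Lib.Helper18.ONM.TCOT49
import Cfsg.Agent.Lib.Helper18.ONM.TCOT50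
import Cfsg.Agent.Lib.Helper18.ONM.TCOT51
import Cfsg.Agent.Lib.Helper18.ONM.TCOT52
import Cfsg.Agent.Lib.Helper18.ONM.TCOT53
import Cfsg.Agent.Lib.Helper18.ONM.TCOT54
import Cfsg.Agent.Lib.Helper18.ONM.TCOT55
import Cfsg.Agent.Lib.Helper18.ONM.TCOT56
import Cfsg.Agent.Lib.Helper18.ONM.TCOT57
import Cfsg.Agent.Lib.Helper18.ONM.TCOT58
import Cfsg.Agent.Lib.Helper18.ONM.TCOT59
import Cfsg.Agent.Lib.Helper18.ONM.TCOT60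
import Cfsg.Agent.Lib.Helper18.ONM.TCOT61
import Cfsg.Agent.Lib.Helper18.ONM.TCOT62
import Cfsg.Agent.Lib.Helper18.ONM.TCOT63
import Cfsg.Agent.Lib.Helper18.ONM.TCOT64
import Cfsg.Agent.Lib.Helper18.ONM.TCOT65
import Cfsg.Agent.Lib.Helper18.ONM.TCOT66
import Cfsg.Agent.Lib.Helper18.ONM.TCOT67
import Cfsg.Agent.Lib.Helper18.ONM.TCOT68
import Cfsg.Agent.Lib.Helper18.ONM.TCOT69
import Cfsg.Agent.Lib.Helper18.ONM.TCOT70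
import Cfsg.Agent.Lib.Helper18.ONM.TCOT71
import Cfsg.Agent.Lib.Helper18.ONM.TCOT72
import Cfsg.Agent.Lib.Helper18.ONM.TCOT73
import Cfsg.Agent.Lib.Helper18.ONM.TCOT74
import Cfsg.Agent.Lib.Helper18.ONM.TCOT75
import Cfsg.Agent.Lib.Helper18.ONM.TCOT76
import Cfsg.Agent.Lib.Helper18.ONM.TCOT77
import Cfsg.Agent.Lib.Helper18.ONM.TCOT78
import Cfsg.Agent.Lib.Helper18.ONM.TCOT79
import Cfsg.Agent.Lib.Helper18.ONM.TCOT80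
import Cfsg.Agent.Lib.Helper18.ONM.TCOT81
import Cfsg.Agent.Lib.Helper18.ONM.TCOT82
import Cfsg.Agent.Lib.Helper18.ONM.TCOT83
import Cfsg.Agent.Lib.Helper18.ONM.TCOT84
import Cfsg.Agent.Lib.Helper18.ONM.TCOT85
import Cfsg.Agent.Lib.Helper18.ONM.TCOT86
import Cfsg.Agent.Lib.Helper18.ONM.TCOT87
import Cfsg.Agent.Lib.Helper18.ONM.TCOT88
import Cfsg.Agent.Lib.Helper18.ONM.TCOT89
import Cfsg.Agent.Lib.Helper18.ONM.TCOT90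
import Cfsg.Agent.Lib.Helper18.ONM.TCOT91
import Cfsg.Agent.Lib.Helper18.ONM.TCOT92
import Cfsg.Agent.Lib.Helper18.ONM.TCOT93
import Cfsg.Agent.Lib.Helper18.ONM.TCOT94
import Cfsg.Agent.Lib.Helper18.ONM.TCOT95
import Cfsg.Agent.Lib.Helper18.ONM.TCOT96
import Cfsg.Agent.Lib.Helper18.ONM.TCOT97
import Cfsg.Agent.Lib.Helper18.ONM.TCOT98
import Cfsg.Agent.Lib.Helper18.ONM.TCOT99
import Cfsg.Agent.Lib.Helper18.ONM.TCOT100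
import Cfsg.Agent.Lib.Helper18.ONM.TCOT101
import Cfsg.Agent.Lib.Helper18.ONM.TCOT102
import Cfsg.Agent.Lib.Helper18.ONM.TCOT103
import Cfsg.Agent.Lib.Helper18.ONM.TCOT104
import Cfsg.Agent.Lib.Helper18.ONM.TCOT105
import Cfsg.Agent.Lib.Helper18.ONM.TCOT106
import Cfsg.Agent.Lib.Helper18.ONM.TCOT107
import Cfsg.Agent.Lib.Helper18.ONM.TCOT108
import Cfsg.Agent.Lib.Helper18.ONM.TCOT109
import Cfsg.Agent.Lib.Helper18.ONM.TCOT110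
import Cfsg.Agent.Lib.Helper18.ONM.TCOT111
import Cfsg.Agent.Lib.Helper18.ONM.TCOT112
import Cfsg.Agent.Lib.Helper18.ONM.TCOT113
import Cfsg.Agent.Lib.Helper18.ONM.TCOT114
import Cfsg.Agent.Lib.Helper18.ONM.TCOT115
import Cfsg.Agent.Lib.Helper18.ONM.TCOT116
import Cfsg.Agent.Lib.Helper18.ONM.TCOT117
import Cfsg.Agent.Lib.Helper18.ONM.TCOT118
import Cfsg.Agent.Lib.Helper18.ONM.TCOT119
import Cfsg.Agent.Lib.Helper18.ONM.TCOT120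
import Cfsg.Agent.Lib.Helper18.ONM.TCOT121
import Cfsg.Agent.Lib.Helper18.ONM.TCOT122
import Cfsg.Agent.Lib.Helper18.ONM.TCOT123
import Cfsg.Agent.Lib.Helper18.ONM.TCOT124
import Cfsg.Agent.Lib.Helper18.ONM.TCOT125
import Cfsg.Agent.Lib.Helper18.ONM.TCOT126
import Cfsg.Agent.Lib.Helper18.ONM.TCOT127
import Cfsg.Agent.Lib.Helper18.ONM.TCOT128
import Cfsg.Agent.Lib.Helper18.ONM.TCOT129
import Cfsg.Agent.Lib.Helper18.ONM.TCOT130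
import Cfsg.Agent.Lib.Helper18.ONM.TCOT131
import Cfsg.Agent.Lib.Helper18.ONM.TCOT132
import Cfsg.Agent.Lib.Helper18.ONM.TCOT133
import Cfsg.Agent.Lib.Helper18.ONM.TCOT134
import Cfsg.Agent.Lib.Helper18.ONM.TCOT135
import Cfsg.Agent.Lib.Helper18.ONM.TCOT136
import Cfsg.Agent.Lib.Helper18.ONM.TCOT137
import Cfsg.Agent.Lib.Helper18.ONM.TCOT138
import Cfsg.Agent.Lib.Helper18.ONM.TCOT139
import Cfsg.Agent.Lib.Helper18.ONM.TCOT140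
import Cfsg.Agent.Lib.Helper18.ONM.TCOT141
import Cfsg.Agent.Lib.Helper18.ONM.TCOT142
import Cfsg.Agent.Lib.Helper18.ONM.TCOT143
import Cfsg.Agent.Lib.Helper18.ONM.TCOT144
import Cfsg.Agent.Lib.Helper18.ONM.TCOT145
import Cfsg.Agent.Lib.Helper18.ONM.TCOT146
import Cfsg.Agent.Lib.Helper18.ONM.TCOT147
import Cfsg.Agent.Lib.Helper18.ONM.TCOT148
import Cfsg.Agent.Lib.Helper18.ONM.TCOT149
import Cfsg.Agent.Lib.Helper18.ONM.TCOT150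
import Cfsg.Agent.Lib.Helper18.ONM.TCOT151
import Cfsg.Agent.Lib.Helper18.ONM.TCOT152
import Cfsg.Agent.Lib.Helper18.ONM.TCOT153
import Cfsg.Agent.Lib.Helper18.ONM.TCOT154
import Cfsg.Agent.Lib.Helper18.ONM.TCOT155
import Cfsg.Agent.Lib.Helper18.ONM.TCOT156
import Cfsg.Agent.Lib.Helper18.ONM.TCOT157
import Cfsg.Agent.Lib.Helper18.ONM.TCOT158
import Cfsg.Agent.Lib.Helper18.ONM.TCOT159
import Cfsg.Agent.Lib.Helper18.ONM.TCOT160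
import Cfsg.Agent.Lib.Helper18.ONM.TCOT161
import Cfsg.Agent.Lib.Helper18.ONM.TCOT162
import Cfsg.Agent.Lib.Helper18.ONM.TCOT163
import Cfsg.Agent.Lib.Helper18.ONM.TCOT164
import Cfsg.Agent.Lib.Helper18.ONM.TCOT165
import Cfsg.Agent.Lib.Helper18.ONM.TCOT166
import Cfsg.Agent.Lib.Helper18.ONM.TCOT167
import Cfsg.Agent.Lib.Helper18.ONM.TCOT168
import Cfsg.Agent.Lib.Helper18.ONM.TCOT169
import Cfsg.Agent.Lib.Helper18.ONM.TCOT170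
import Cfsg.Agent.Lib.Helper18.ONM.TCOT171
import Cfsg.Agent.Lib.Helper18.ONM.TCOT172
import Cfsg.Agent.Lib.Helper18.ONM.TCOT173
import Cfsg.Agent.Lib.Helper18.ONM.TCOT174
import Cfsg.Agent.Lib.Helper18.ONM.TCOT175
import Cfsg.Agent.Lib.Helper18.ONM.TCOT176
import Cfsg.Agent.Lib.Helper18.ONM.TCOT177
import Cfsg.Agent.Lib.Helper18.ONM.TCOT178
import Cfsg.Agent.Lib.Helper18.ONM.TCOT179
import Cfsg.Agent.Lib.Helper18.ONM.TCOT180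
import Cfsg.Agent.Lib.Helper18.ONM.TCOT181
import Cfsg.Agent.Lib.Helper18.ONM.TCOT182
import Cfsg.Agent.Lib.Helper18.ONM.TCOT183
import Cfsg.Agent.Lib.Helper18.ONM.TCOT184
import Cfsg.Agent.Lib.Helper18.ONM.TCOT185
import Cfsg.Agent.Lib.Helper18.ONM.TCOT186
import Cfsg.Agent.Lib.Helper18.ONM.TCOT187
import Cfsg.Agent.Lib.Helper18.ONM.TCOT188
import Cfsg.Agent.Lib.Helper18.ONM.TCOT189
import Cfsg.Agent.Lib.Helper18.ONM.TCOT190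
import Cfsg.Agent.Lib.Helper18.ONM.TCOT191
import Cfsg.Agent.Lib.Helper18.ONM.TCOT192
import Cfsg.Agent.Lib.Helper18.ONM.TCOT193
import Cfsg.Agent.Lib.Helper18.ONM.TCOT194
import Cfsg.Agent.Lib.Helper18.ONM.TCOT195
import Cfsg.Agent.Lib.Helper18.ONM.TCOT196
import Cfsg.Agent.Lib.Helper18.ONM.TCOT197
import Cfsg.Agent.Lib.Helper18.ONM.TCOT198
import Cfsg.Agent.Lib.Helper18.ONM.TCOT199
import Cfsg.Agent.Lib.Helper18.ONM.TCOT200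
import Cfsg.Agent.Lib.Helper18.ONM.TCOT201
import Cfsg.Agent.Lib.Helper18.ONM.TCOT202
import Cfsg.Agent.Lib.Helper18.ONM.TCOT203
import Cfsg.Agent.Lib.Helper18.ONM.TCOT204
import Cfsg.Agent.Lib.Helper18.ONM.TCOT205
import Cfsg.Agent.Lib.Helper18.ONM.TCOT206
import Cfsg.Agent.Lib.Helper18.ONM.TCOT207
import Cfsg.Agent.Lib.Helper18.ONM.TCOT208
import Cfsg.Agent.Lib.Helper18.ONM.TCOT209

set_option autoImplicit false
set_option maxRecDepth 100000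
set_option linter.unusedVariables false

namespace Cfsg.Agent.Lib.Helper18.ONM.TCO

open Cfsg.Agent.Helper4.TC

noncomputable def ecol0 (b : ℕ) : ℕ := (Bool.rec (motive := fun _ => ℕ) (Bool.rec (motive := fun _ => ℕ) (Bool.rec (motive := fun _ => ℕ) (Bool.rec (motive := fun _ => ℕ) (Bool.rec (motive := fun _ => ℕ) (Bool.rec (motive := fun _ => ℕ) (Bool.rec (motive := fun _ => ℕ) (Bool.rec (motive := fun _ => ℕ) (Bool.rec (motive := fun _ => ℕ) (e0_0) (e0_1) (Nat.ble 1 b)) (Bool.rec (motive := fun _ => ℕ) (e0_2) (e0_3) (Nat.ble 3 b)) (Nat.ble 2 b)) (Bool.rec (motive := fun _ => ℕ) (Bool.rec (motive := fun _ => ℕ) (e0_4) (e0_5) (Nat.ble 5 b)) (Bool.rec (motive := fun _ => ℕ) (e0_6) (e0_7) (Nat.ble 7 b)) (Nat.ble 6 b)) (Nat.ble 4 b)) (Bool.rec (motive := fun _ => ℕ) (Bool.rec (motive := fun _ => ℕ) (Bool.rec (motive := fun _ =>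 ℕ) (e0_8) (e0_9) (Nat.ble 9 b)) (Bool.rec (motive := fun _ => ℕ) (e0_10) (e0_11) (Nat.ble 11 b)) (Nat.ble 10 b)) (Bool.rec (motive := fun _ => ℕ) (Bool.rec (motive := fun _ => ℕ) (e0_12) (e0_13) (Nat.ble 13 b)) (Bool.rec (motive := fun _ => ℕ) (e0_14) (e0_15) (Nat.ble 15 b)) (Nat.ble 14 b)) (Nat.ble 12 b)) (Nat.ble 8 b)) (Bool.rec (motive := fun _ => ℕ) (Bool.rec (motive := fun _ => ℕ) (Bool.rec (motive := fun _ => ℕ) (Bool.rec (motive := fun _ => ℕ) (e0_16) (e0_17) (Nat.ble 17 b)) (Bool.rec (motive := fun _ => ℕ) (e0_18) (e0_19) (Nat.ble 19 b)) (Nat.ble 18 b)) (Bool.rec (motive := fun _ => ℕ) (Bool.rec (motive := fun _ => ℕ) (e0_20) (e0_21) (Nat.ble 21 b)) (Bool.rec (motive := fun _ => ℕ) (e0_22) (e0_23) (Nat.ble 23 b)) (Nat.ble 22 b)) (Nat.ble 20 b)) (Bool.rec (motive := fun _ => ℕ) (Bool.rec (motive := fun _ => ℕ) (Bool.rec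 (motive := fun _ => ℕ) (e0_24) (e0_25) (Nat.ble 25 b)) (Bool.rec (motive := fun _ => ℕ) (e0_26) (e0_27) (Nat.ble 27 b)) (Nat.ble 26 b)) (Bool.rec (motive := fun _ => ℕ) (Bool.rec (motive := fun _ => ℕ) (e0_28) (e0_29) (Nat.ble 29 b)) (Bool.rec (motive := fun _ => ℕ) (e0_30) (e0_31) (Nat.ble 31 b)) (Nat.ble 30 b)) (Nat.ble 28 b)) (Nat.ble 24 b)) (Nat.ble 16 b)) (Bool.rec (motive := fun _ => ℕ) (Bool.rec (motive := fun _ => ℕ) (Bool.rec (motive := fun _ => ℕ) (Bool.rec (motive := fun _ => ℕ) (Bool.rec (motive := fun _ => ℕ) (e0_32) (e0_33) (Nat.ble 33 b)) (Bool.rec (motive := fun _ => ℕ) (e0_34) (e0_35) (Nat.ble 35 b)) (Nat.ble 34 b)) (Bool.rec (motive := fun _ => ℕ) (Bool.rec (motive := fun _ => ℕ) (e0_36) (e0_37) (Nat.ble 37 b)) (Bool.rec (motive := fun _ => ℕ) (e0_38) (e0_39) (Nat.ble 39 b)) (Nat.ble 38 b)) (Nat.ble 36 b)) (Bool.rec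 (motive := fun _ => ℕ) (Bool.rec (motive := fun _ => ℕ) (Bool.rec (motive := fun _ => ℕ) (e0_40) (e0_41) (Nat.ble 41 b)) (Bool.rec (motive := fun _ => ℕ) (e0_42) (e0_43) (Nat.ble 43 b)) (Nat.ble 42 b)) (Bool.rec (motive := fun _ => ℕ) (Bool.rec (motive := fun _ => ℕ) (e0_44) (e0_45) (Nat.ble 45 b)) (Bool.rec (motive := fun _ => ℕ) (e0_46) (e0_47) (Nat.ble 47 b)) (Nat.ble 46 b)) (Nat.ble 44 b)) (Nat.ble 40 b)) (Bool.rec (motive := fun _ => ℕ) (Bool.rec (motive := fun _ => ℕ) (Bool.rec (motive := fun _ => ℕ) (Bool.rec (motive := fun _ => ℕ) (e0_48) (e0_49) (Nat.ble 49 b)) (Bool.rec (motive := fun _ => ℕ) (e0_50) (e0_51) (Nat.ble 51 b)) (Nat.ble 50 b)) (Bool.rec (motive := fun _ => ℕ) (Bool.rec (motive := fun _ => ℕ) (e0_52) (e0_53) (Nat.ble 53 b)) (Bool.rec (motive := fun _ => ℕ) (e0_54) (e0_55) (Nat.ble 55 b)) (Nat.ble 54 b))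 (Nat.ble 52 b)) (Bool.rec (motive := fun _ => ℕ) (Bool.rec (motive := fun _ => ℕ) (Bool.rec (motive := fun _ => ℕ) (e0_56) (e0_57) (Nat.ble 57 b)) (Bool.rec (motive := fun _ => ℕ) (e0_58) (e0_59) (Nat.ble 59 b)) (Nat.ble 58 b)) (Bool.rec (motive := fun _ => ℕ) (Bool.rec (motive := fun _ => ℕ) (e0_60) (e0_61) (Nat.ble 61 b)) (Bool.rec (motive := fun _ => ℕ) (e0_62) (e0_63) (Nat.ble 63 b)) (Nat.ble 62 b)) (Nat.ble 60 b)) (Nat.ble 56 b)) (Nat.ble 48 b)) (Nat.ble 32 b)) (Bool.rec (motive := fun _ => ℕ) (Bool.rec (motive := fun _ => ℕ) (Bool.rec (motive := fun _ => ℕ) (Bool.rec (motive := fun _ => ℕ) (Bool.rec (motive := fun _ => ℕ) (Bool.rec (motive := fun _ => ℕ) (e0_64) (e0_65) (Nat.ble 65 b)) (Bool.rec (motive := fun _ => ℕ) (e0_66) (e0_67) (Nat.ble 67 b)) (Nat.ble 66 b)) (Bool.rec (motive := fun _ => ℕ) (Bool.rec (motive := fun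 _ => ℕ) (e0_68) (e0_69) (Nat.ble 69 b)) (Bool.rec (motive := fun _ => ℕ) (e0_70) (e0_71) (Nat.ble 71 b)) (Nat.ble 70 b)) (Nat.ble 68 b)) (Bool.rec (motive := fun _ => ℕ) (Bool.rec (motive := fun _ => ℕ) (Bool.rec (motive := fun _ => ℕ) (e0_72) (e0_73) (Nat.ble 73 b)) (Bool.rec (motive := fun _ => ℕ) (e0_74) (e0_75) (Nat.ble 75 b)) (Nat.ble 74 b)) (Bool.rec (motive := fun _ => ℕ) (Bool.rec (motive := fun _ => ℕ) (e0_76) (e0_77) (Nat.ble 77 b)) (Bool.rec (motive := fun _ => ℕ) (e0_78) (e0_79) (Nat.ble 79 b)) (Nat.ble 78 b)) (Nat.ble 76 b)) (Nat.ble 72 b)) (Bool.rec (motive := fun _ => ℕ) (Bool.rec (motive := fun _ => ℕ) (Bool.rec (motive := fun _ => ℕ) (Bool.rec (motive := fun _ => ℕ) (e0_80) (e0_81) (Nat.ble 81 b)) (Bool.rec (motive := fun _ => ℕ) (e0_82) (e0_83) (Nat.ble 83 b)) (Nat.ble 82 b)) (Bool.rec (motive := fun _ => ℕ)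 (Bool.rec (motive := fun _ => ℕ) (e0_84) (e0_85) (Nat.ble 85 b)) (Bool.rec (motive := fun _ => ℕ) (e0_86) (e0_87) (Nat.ble 87 b)) (Nat.ble 86 b)) (Nat.ble 84 b)) (Bool.rec (motive := fun _ => ℕ) (Bool.rec (motive := fun _ => ℕ) (Bool.rec (motive := fun _ => ℕ) (e0_88) (e0_89) (Nat.ble 89 b)) (Bool.rec (motive := fun _ => ℕ) (e0_90) (e0_91) (Nat.ble 91 b)) (Nat.ble 90 b)) (Bool.rec (motive := fun _ => ℕ) (Bool.rec (motive := fun _ => ℕ) (e0_92) (e0_93) (Nat.ble 93 b)) (Bool.rec (motive := fun _ => ℕ) (e0_94) (e0_95) (Nat.ble 95 b)) (Nat.ble 94 b)) (Nat.ble 92 b)) (Nat.ble 88 b)) (Nat.ble 80 b)) (Bool.rec (motive := fun _ => ℕ) (Bool.rec (motive := fun _ => ℕ) (Bool.rec (motive := fun _ => ℕ) (Bool.rec (motive := fun _ => ℕ) (Bool.rec (motive := fun _ => ℕ) (e0_96) (e0_97) (Nat.ble 97 b)) (Bool.rec (motive := fun _ => ℕ) (e0_98)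 (e0_99) (Nat.ble 99 b)) (Nat.ble 98 b)) (Bool.rec (motive := fun _ => ℕ) (Bool.rec (motive := fun _ => ℕ) (e0_100) (e0_101) (Nat.ble 101 b)) (Bool.rec (motive := fun _ => ℕ) (e0_102) (e0_103) (Nat.ble 103 b)) (Nat.ble 102 b)) (Nat.ble 100 b)) (Bool.rec (motive := fun _ => ℕ) (Bool.rec (motive := fun _ => ℕ) (Bool.rec (motive := fun _ => ℕ) (e0_104) (e0_105) (Nat.ble 105 b)) (Bool.rec (motive := fun _ => ℕ) (e0_106) (e0_107) (Nat.ble 107 b)) (Nat.ble 106 b)) (Bool.rec (motive := fun _ => ℕ) (Bool.rec (motive := fun _ => ℕ) (e0_108) (e0_109) (Nat.ble 109 b)) (Bool.rec (motive := fun _ => ℕ) (e0_110) (e0_111) (Nat.ble 111 b)) (Nat.ble 110 b)) (Nat.ble 108 b)) (Nat.ble 104 b)) (Bool.rec (motive := fun _ => ℕ) (Bool.rec (motive := fun _ => ℕ) (Bool.rec (motive := fun _ => ℕ) (Bool.rec (motive := fun _ => ℕ) (e0_112) (e0_113) (Nat.ble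 113 b)) (Bool.rec (motive := fun _ => ℕ) (e0_114) (e0_115) (Nat.ble 115 b)) (Nat.ble 114 b)) (Bool.rec (motive := fun _ => ℕ) (Bool.rec (motive := fun _ => ℕ) (e0_116) (e0_117) (Nat.ble 117 b)) (Bool.rec (motive := fun _ => ℕ) (e0_118) (e0_119) (Nat.ble 119 b)) (Nat.ble 118 b)) (Nat.ble 116 b)) (Bool.rec (motive := fun _ => ℕ) (Bool.rec (motive := fun _ => ℕ) (Bool.rec (motive := fun _ => ℕ) (e0_120) (e0_121) (Nat.ble 121 b)) (Bool.rec (motive := fun _ => ℕ) (e0_122) (e0_123) (Nat.ble 123 b)) (Nat.ble 122 b)) (Bool.rec (motive := fun _ => ℕ) (Bool.rec (motive := fun _ => ℕ) (e0_124) (e0_125) (Nat.ble 125 b)) (Bool.rec (motive := fun _ => ℕ) (e0_126) (e0_127) (Nat.ble 127 b)) (Nat.ble 126 b)) (Nat.ble 124 b)) (Nat.ble 120 b)) (Nat.ble 112 b)) (Nat.ble 96 b)) (Nat.ble 64 b)) (Bool.rec (motive := fun _ => ℕ) (Bool.rec (motive :=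 fun _ => ℕ) (Bool.rec (motive := fun _ => ℕ) (Bool.rec (motive := fun _ => ℕ) (Bool.rec (motive := fun _ => ℕ) (Bool.rec (motive := fun _ => ℕ) (Bool.rec (motive := fun _ => ℕ) (e0_128) (e0_129) (Nat.ble 129 b)) (Bool.rec (motive := fun _ => ℕ) (e0_130) (e0_131) (Nat.ble 131 b)) (Nat.ble 130 b)) (Bool.rec (motive := fun _ => ℕ) (Bool.rec (motive := fun _ => ℕ) (e0_132) (e0_133) (Nat.ble 133 b)) (Bool.rec (motive := fun _ => ℕ) (e0_134) (e0_135) (Nat.ble 135 b)) (Nat.ble 134 b)) (Nat.ble 132 b)) (Bool.rec (motive := fun _ => ℕ) (Bool.rec (motive := fun _ => ℕ) (Bool.rec (motive := fun _ => ℕ) (e0_136) (e0_137) (Nat.ble 137 b)) (Bool.rec (motive := fun _ => ℕ) (e0_138) (e0_139) (Nat.ble 139 b)) (Nat.ble 138 b)) (Bool.rec (motive := fun _ => ℕ) (Bool.rec (motive := fun _ => ℕ) (e0_140) (e0_141) (Nat.ble 141 b)) (Bool.rec (motive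 := fun _ => ℕ) (e0_142) (e0_143) (Nat.ble 143 b)) (Nat.ble 142 b)) (Nat.ble 140 b)) (Nat.ble 136 b)) (Bool.rec (motive := fun _ => ℕ) (Bool.rec (motive := fun _ => ℕ) (Bool.rec (motive := fun _ => ℕ) (Bool.rec (motive := fun _ => ℕ) (e0_144) (e0_145) (Nat.ble 145 b)) (Bool.rec (motive := fun _ => ℕ) (e0_146) (e0_147) (Nat.ble 147 b)) (Nat.ble 146 b)) (Bool.rec (motive := fun _ => ℕ) (Bool.rec (motive := fun _ => ℕ) (e0_148) (e0_149) (Nat.ble 149 b)) (Bool.rec (motive := fun _ => ℕ) (e0_150) (e0_151) (Nat.ble 151 b)) (Nat.ble 150 b)) (Nat.ble 148 b)) (Bool.rec (motive := fun _ => ℕ) (Bool.rec (motive := fun _ => ℕ) (Bool.rec (motive := fun _ => ℕ) (e0_152) (e0_153) (Nat.ble 153 b)) (Bool.rec (motive := fun _ => ℕ) (e0_154) (e0_155) (Nat.ble 155 b)) (Nat.ble 154 b)) (Bool.rec (motive := fun _ => ℕ) (Bool.rec (motive := fun _ =>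 ℕ) (e0_156) (e0_157) (Nat.ble 157 b)) (Bool.rec (motive := fun _ => ℕ) (e0_158) (e0_159) (Nat.ble 159 b)) (Nat.ble 158 b)) (Nat.ble 156 b)) (Nat.ble 152 b)) (Nat.ble 144 b)) (Bool.rec (motive := fun _ => ℕ) (Bool.rec (motive := fun _ => ℕ) (Bool.rec (motive := fun _ => ℕ) (Bool.rec (motive := fun _ => ℕ) (Bool.rec (motive := fun _ => ℕ) (e0_160) (e0_161) (Nat.ble 161 b)) (Bool.rec (motive := fun _ => ℕ) (e0_162) (e0_163) (Nat.ble 163 b)) (Nat.ble 162 b)) (Bool.rec (motive := fun _ => ℕ) (Bool.rec (motive := fun _ => ℕ) (e0_164) (e0_165) (Nat.ble 165 b)) (Bool.rec (motive := fun _ => ℕ) (e0_166) (e0_167) (Nat.ble 167 b)) (Nat.ble 166 b)) (Nat.ble 164 b)) (Bool.rec (motive := fun _ => ℕ) (Bool.rec (motive := fun _ => ℕ) (Bool.rec (motive := fun _ => ℕ) (e0_168) (e0_169) (Nat.ble 169 b)) (Bool.rec (motive := fun _ => ℕ) (e0_170)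 (e0_171) (Nat.ble 171 b)) (Nat.ble 170 b)) (Bool.rec (motive := fun _ => ℕ) (Bool.rec (motive := fun _ => ℕ) (e0_172) (e0_173) (Nat.ble 173 b)) (Bool.rec (motive := fun _ => ℕ) (e0_174) (e0_175) (Nat.ble 175 b)) (Nat.ble 174 b)) (Nat.ble 172 b)) (Nat.ble 168 b)) (Bool.rec (motive := fun _ => ℕ) (Bool.rec (motive := fun _ => ℕ) (Bool.rec (motive := fun _ => ℕ) (Bool.rec (motive := fun _ => ℕ) (e0_176) (e0_177) (Nat.ble 177 b)) (Bool.rec (motive := fun _ => ℕ) (e0_178) (e0_179) (Nat.ble 179 b)) (Nat.ble 178 b)) (Bool.rec (motive := fun _ => ℕ) (Bool.rec (motive := fun _ => ℕ) (e0_180) (e0_181) (Nat.ble 181 b)) (Bool.rec (motive := fun _ => ℕ) (e0_182) (e0_183) (Nat.ble 183 b)) (Nat.ble 182 b)) (Nat.ble 180 b)) (Bool.rec (motive := fun _ => ℕ) (Bool.rec (motive := fun _ => ℕ) (Bool.rec (motive := fun _ => ℕ) (e0_184) (e0_185) (Nat.ble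 185 b)) (Bool.rec (motive := fun _ => ℕ) (e0_186) (e0_187) (Nat.ble 187 b)) (Nat.ble 186 b)) (Bool.rec (motive := fun _ => ℕ) (Bool.rec (motive := fun _ => ℕ) (e0_188) (e0_189) (Nat.ble 189 b)) (Bool.rec (motive := fun _ => ℕ) (e0_190) (e0_191) (Nat.ble 191 b)) (Nat.ble 190 b)) (Nat.ble 188 b)) (Nat.ble 184 b)) (Nat.ble 176 b)) (Nat.ble 160 b)) (Bool.rec (motive := fun _ => ℕ) (Bool.rec (motive := fun _ => ℕ) (Bool.rec (motive := fun _ => ℕ) (Bool.rec (motive := fun _ => ℕ) (Bool.rec (motive := fun _ => ℕ) (Bool.rec (motive := fun _ => ℕ) (e0_192) (e0_193) (Nat.ble 193 b)) (Bool.rec (motive := fun _ => ℕ) (e0_194) (e0_195) (Nat.ble 195 b)) (Nat.ble 194 b)) (Bool.rec (motive := fun _ => ℕ) (Bool.rec (motive := fun _ => ℕ) (e0_196) (e0_197) (Nat.ble 197 b)) (Bool.rec (motive := fun _ => ℕ) (e0_198) (e0_199) (Nat.ble 199 b)) (Nat.ble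 198 b)) (Nat.ble 196 b)) (Bool.rec (motive := fun _ => ℕ) (Bool.rec (motive := fun _ => ℕ) (Bool.rec (motive := fun _ => ℕ) (e0_200) (e0_201) (Nat.ble 201 b)) (Bool.rec (motive := fun _ => ℕ) (e0_202) (e0_203) (Nat.ble 203 b)) (Nat.ble 202 b)) (Bool.rec (motive := fun _ => ℕ) (Bool.rec (motive := fun _ => ℕ) (e0_204) (e0_205) (Nat.ble 205 b)) (Bool.rec (motive := fun _ => ℕ) (e0_206) (e0_207) (Nat.ble 207 b)) (Nat.ble 206 b)) (Nat.ble 204 b)) (Nat.ble 200 b)) (Bool.rec (motive := fun _ => ℕ) (Bool.rec (motive := fun _ => ℕ) (Bool.rec (motive := fun _ => ℕ) (Bool.rec (motive := fun _ => ℕ) (e0_208) (e0_209) (Nat.ble 209 b)) (Bool.rec (motive := fun _ => ℕ) (e0_210) (e0_211) (Nat.ble 211 b)) (Nat.ble 210 b)) (Bool.rec (motive := fun _ => ℕ) (Bool.rec (motive := fun _ => ℕ) (e0_212) (e0_213) (Nat.ble 213 b)) (Bool.rec (motive :=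 fun _ => ℕ) (e0_214) (e0_215) (Nat.ble 215 b)) (Nat.ble 214 b)) (Nat.ble 212 b)) (Bool.rec (motive := fun _ => ℕ) (Bool.rec (motive := fun _ => ℕ) (Bool.rec (motive := fun _ => ℕ) (e0_216) (e0_217) (Nat.ble 217 b)) (Bool.rec (motive := fun _ => ℕ) (e0_218) (e0_219) (Nat.ble 219 b)) (Nat.ble 218 b)) (Bool.rec (motive := fun _ => ℕ) (Bool.rec (motive := fun _ => ℕ) (e0_220) (e0_221) (Nat.ble 221 b)) (Bool.rec (motive := fun _ => ℕ) (e0_222) (e0_223) (Nat.ble 223 b)) (Nat.ble 222 b)) (Nat.ble 220 b)) (Nat.ble 216 b)) (Nat.ble 208 b)) (Bool.rec (motive := fun _ => ℕ) (Bool.rec (motive := fun _ => ℕ) (Bool.rec (motive := fun _ => ℕ) (Bool.rec (motive := fun _ => ℕ) (Bool.rec (motive := fun _ => ℕ) (e0_224) (e0_225) (Nat.ble 225 b)) (Bool.rec (motive := fun _ => ℕ) (e0_226) (e0_227) (Nat.ble 227 b)) (Nat.ble 226 b)) (Bool.rec (motive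 := fun _ => ℕ) (Bool.rec (motive := fun _ => ℕ) (e0_228) (e0_229) (Nat.ble 229 b)) (Bool.rec (motive := fun _ => ℕ) (e0_230) (e0_231) (Nat.ble 231 b)) (Nat.ble 230 b)) (Nat.ble 228 b)) (Bool.rec (motive := fun _ => ℕ) (Bool.rec (motive := fun _ => ℕ) (Bool.rec (motive := fun _ => ℕ) (e0_232) (e0_233) (Nat.ble 233 b)) (Bool.rec (motive := fun _ => ℕ) (e0_234) (e0_235) (Nat.ble 235 b)) (Nat.ble 234 b)) (Bool.rec (motive := fun _ => ℕ) (Bool.rec (motive := fun _ => ℕ) (e0_236) (e0_237) (Nat.ble 237 b)) (Bool.rec (motive := fun _ => ℕ) (e0_238) (e0_239) (Nat.ble 239 b)) (Nat.ble 238 b)) (Nat.ble 236 b)) (Nat.ble 232 b)) (Bool.rec (motive := fun _ => ℕ) (Bool.rec (motive := fun _ => ℕ) (Bool.rec (motive := fun _ => ℕ) (Bool.rec (motive := fun _ => ℕ) (e0_240) (e0_241) (Nat.ble 241 b)) (Bool.rec (motive := fun _ => ℕ) (e0_242) (e0_243)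 (Nat.ble 243 b)) (Nat.ble 242 b)) (Bool.rec (motive := fun _ => ℕ) (Bool.rec (motive := fun _ => ℕ) (e0_244) (e0_245) (Nat.ble 245 b)) (Bool.rec (motive := fun _ => ℕ) (e0_246) (e0_247) (Nat.ble 247 b)) (Nat.ble 246 b)) (Nat.ble 244 b)) (Bool.rec (motive := fun _ => ℕ) (Bool.rec (motive := fun _ => ℕ) (Bool.rec (motive := fun _ => ℕ) (e0_248) (e0_249) (Nat.ble 249 b)) (Bool.rec (motive := fun _ => ℕ) (e0_250) (e0_251) (Nat.ble 251 b)) (Nat.ble 250 b)) (Bool.rec (motive := fun _ => ℕ) (Bool.rec (motive := fun _ => ℕ) (e0_252) (e0_253) (Nat.ble 253 b)) (Bool.rec (motive := fun _ => ℕ) (e0_254) (e0_255) (Nat.ble 255 b)) (Nat.ble 254 b)) (Nat.ble 252 b)) (Nat.ble 248 b)) (Nat.ble 240 b)) (Nat.ble 224 b)) (Nat.ble 192 b)) (Nat.ble 128 b)) (Bool.rec (motive := fun _ => ℕ) (Bool.rec (motive := fun _ => ℕ) (Bool.rec (motive := fun _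 => ℕ) (Bool.rec (motive := fun _ => ℕ) (Bool.rec (motive := fun _ => ℕ) (Bool.rec (motive := fun _ => ℕ) (Bool.rec (motive := fun _ => ℕ) (Bool.rec (motive := fun _ => ℕ) (e0_256) (e0_257) (Nat.ble 257 b)) (Bool.rec (motive := fun _ => ℕ) (e0_258) (e0_259) (Nat.ble 259 b)) (Nat.ble 258 b)) (Bool.rec (motive := fun _ => ℕ) (Bool.rec (motive := fun _ => ℕ) (e0_260) (e0_261) (Nat.ble 261 b)) (Bool.rec (motive := fun _ => ℕ) (e0_262) (e0_263) (Nat.ble 263 b)) (Nat.ble 262 b)) (Nat.ble 260 b)) (Bool.rec (motive := fun _ => ℕ) (Bool.rec (motive := fun _ => ℕ) (Bool.rec (motive := fun _ => ℕ) (e0_264) (e0_265) (Nat.ble 265 b)) (Bool.rec (motive := fun _ => ℕ) (e0_266) (0) (Nat.ble 267 b)) (Nat.ble 266 b)) (0) (Nat.ble 268 b)) (Nat.ble 264 b)) (0) (Nat.ble 272 b)) (0) (Nat.ble 288 b)) (0) (Nat.ble 320 b)) (0) (Nat.ble 384 b)) (Nat.ble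 256 b))
noncomputable def jcol0 (b : ℕ) : ℕ := (Bool.rec (motive := fun _ => ℕ) (Bool.rec (motive := fun _ => ℕ) (Bool.rec (motive := fun _ => ℕ) (Bool.rec (motive := fun _ => ℕ) (Bool.rec (motive := fun _ => ℕ) (Bool.rec (motive := fun _ => ℕ) (Bool.rec (motive := fun _ => ℕ) (Bool.rec (motive := fun _ => ℕ) (Bool.rec (motive := fun _ => ℕ) (j0_0) (j0_1) (Nat.ble 1 b)) (Bool.rec (motive := fun _ => ℕ) (j0_2) (j0_3) (Nat.ble 3 b)) (Nat.ble 2 b)) (Bool.rec (motive := fun _ => ℕ) (Bool.rec (motive := fun _ => ℕ) (j0_4) (j0_5) (Nat.ble 5 b)) (Bool.rec (motive := fun _ => ℕ) (j0_6) (j0_7) (Nat.ble 7 b)) (Nat.ble 6 b)) (Nat.ble 4 b)) (Bool.rec (motive := fun _ => ℕ) (Bool.rec (motive := fun _ => ℕ) (Bool.rec (motive := fun _ => ℕ) (j0_8) (j0_9) (Nat.ble 9 b)) (Bool.rec (motive := fun _ => ℕ) (j0_10) (j0_11) (Nat.ble 11 b)) (Nat.ble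 10 b)) (Bool.rec (motive := fun _ => ℕ) (Bool.rec (motive := fun _ => ℕ) (j0_12) (j0_13) (Nat.ble 13 b)) (Bool.rec (motive := fun _ => ℕ) (j0_14) (j0_15) (Nat.ble 15 b)) (Nat.ble 14 b)) (Nat.ble 12 b)) (Nat.ble 8 b)) (Bool.rec (motive := fun _ => ℕ) (Bool.rec (motive := fun _ => ℕ) (Bool.rec (motive := fun _ => ℕ) (Bool.rec (motive := fun _ => ℕ) (j0_16) (j0_17) (Nat.ble 17 b)) (Bool.rec (motive := fun _ => ℕ) (j0_18) (j0_19) (Nat.ble 19 b)) (Nat.ble 18 b)) (Bool.rec (motive := fun _ => ℕ) (Bool.rec (motive := fun _ => ℕ) (j0_20) (j0_21) (Nat.ble 21 b)) (Bool.rec (motive := fun _ => ℕ) (j0_22) (j0_23) (Nat.ble 23 b)) (Nat.ble 22 b)) (Nat.ble 20 b)) (Bool.rec (motive := fun _ => ℕ) (Bool.rec (motive := fun _ => ℕ) (Bool.rec (motive := fun _ => ℕ) (j0_24) (j0_25) (Nat.ble 25 b)) (Bool.rec (motive := fun _ => ℕ) (j0_26) (j0_27)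 (Nat.ble 27 b)) (Nat.ble 26 b)) (Bool.rec (motive := fun _ => ℕ) (Bool.rec (motive := fun _ => ℕ) (j0_28) (j0_29) (Nat.ble 29 b)) (Bool.rec (motive := fun _ => ℕ) (j0_30) (j0_31) (Nat.ble 31 b)) (Nat.ble 30 b)) (Nat.ble 28 b)) (Nat.ble 24 b)) (Nat.ble 16 b)) (Bool.rec (motive := fun _ => ℕ) (Bool.rec (motive := fun _ => ℕ) (Bool.rec (motive := fun _ => ℕ) (Bool.rec (motive := fun _ => ℕ) (Bool.rec (motive := fun _ => ℕ) (j0_32) (j0_33) (Nat.ble 33 b)) (Bool.rec (motive := fun _ => ℕ) (j0_34) (j0_35) (Nat.ble 35 b)) (Nat.ble 34 b)) (Bool.rec (motive := fun _ => ℕ) (Bool.rec (motive := fun _ => ℕ) (j0_36) (j0_37) (Nat.ble 37 b)) (Bool.rec (motive := fun _ => ℕ) (j0_38) (j0_39) (Nat.ble 39 b)) (Nat.ble 38 b)) (Nat.ble 36 b)) (Bool.rec (motive := fun _ => ℕ) (Bool.rec (motive := fun _ => ℕ) (Bool.rec (motive := fun _ => ℕ) (j0_40)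 (j0_41) (Nat.ble 41 b)) (Bool.rec (motive := fun _ => ℕ) (j0_42) (j0_43) (Nat.ble 43 b)) (Nat.ble 42 b)) (Bool.rec (motive := fun _ => ℕ) (Bool.rec (motive := fun _ => ℕ) (j0_44) (j0_45) (Nat.ble 45 b)) (Bool.rec (motive := fun _ => ℕ) (j0_46) (j0_47) (Nat.ble 47 b)) (Nat.ble 46 b)) (Nat.ble 44 b)) (Nat.ble 40 b)) (Bool.rec (motive := fun _ => ℕ) (Bool.rec (motive := fun _ => ℕ) (Bool.rec (motive := fun _ => ℕ) (Bool.rec (motive := fun _ => ℕ) (j0_48) (j0_49) (Nat.ble 49 b)) (Bool.rec (motive := fun _ => ℕ) (j0_50) (j0_51) (Nat.ble 51 b)) (Nat.ble 50 b)) (Bool.rec (motive := fun _ => ℕ) (Bool.rec (motive := fun _ => ℕ) (j0_52) (j0_53) (Nat.ble 53 b)) (Bool.rec (motive := fun _ => ℕ) (j0_54) (j0_55) (Nat.ble 55 b)) (Nat.ble 54 b)) (Nat.ble 52 b)) (Bool.rec (motive := fun _ => ℕ) (Bool.rec (motive := fun _ => ℕ) (Bool.rec (motive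 := fun _ => ℕ) (j0_56) (j0_57) (Nat.ble 57 b)) (Bool.rec (motive := fun _ => ℕ) (j0_58) (j0_59) (Nat.ble 59 b)) (Nat.ble 58 b)) (Bool.rec (motive := fun _ => ℕ) (Bool.rec (motive := fun _ => ℕ) (j0_60) (j0_61) (Nat.ble 61 b)) (Bool.rec (motive := fun _ => ℕ) (j0_62) (j0_63) (Nat.ble 63 b)) (Nat.ble 62 b)) (Nat.ble 60 b)) (Nat.ble 56 b)) (Nat.ble 48 b)) (Nat.ble 32 b)) (Bool.rec (motive := fun _ => ℕ) (Bool.rec (motive := fun _ => ℕ) (Bool.rec (motive := fun _ => ℕ) (Bool.rec (motive := fun _ => ℕ) (Bool.rec (motive := fun _ => ℕ) (Bool.rec (motive := fun _ => ℕ) (j0_64) (j0_65) (Nat.ble 65 b)) (Bool.rec (motive := fun _ => ℕ) (j0_66) (j0_67) (Nat.ble 67 b)) (Nat.ble 66 b)) (Bool.rec (motive := fun _ => ℕ) (Bool.rec (motive := fun _ => ℕ) (j0_68) (j0_69) (Nat.ble 69 b)) (Bool.rec (motive := fun _ => ℕ) (j0_70) (j0_71) (Nat.ble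 71 b)) (Nat.ble 70 b)) (Nat.ble 68 b)) (Bool.rec (motive := fun _ => ℕ) (Bool.rec (motive := fun _ => ℕ) (Bool.rec (motive := fun _ => ℕ) (j0_72) (j0_73) (Nat.ble 73 b)) (Bool.rec (motive := fun _ => ℕ) (j0_74) (j0_75) (Nat.ble 75 b)) (Nat.ble 74 b)) (Bool.rec (motive := fun _ => ℕ) (Bool.rec (motive := fun _ => ℕ) (j0_76) (j0_77) (Nat.ble 77 b)) (Bool.rec (motive := fun _ => ℕ) (j0_78) (j0_79) (Nat.ble 79 b)) (Nat.ble 78 b)) (Nat.ble 76 b)) (Nat.ble 72 b)) (Bool.rec (motive := fun _ => ℕ) (Bool.rec (motive := fun _ => ℕ) (Bool.rec (motive := fun _ => ℕ) (Bool.rec (motive := fun _ => ℕ) (j0_80) (j0_81) (Nat.ble 81 b)) (Bool.rec (motive := fun _ => ℕ) (j0_82) (j0_83) (Nat.ble 83 b)) (Nat.ble 82 b)) (Bool.rec (motive := fun _ => ℕ) (Bool.rec (motive := fun _ => ℕ) (j0_84) (j0_85) (Nat.ble 85 b)) (Bool.rec (motive := fun _ => ℕ)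 (j0_86) (j0_87) (Nat.ble 87 b)) (Nat.ble 86 b)) (Nat.ble 84 b)) (Bool.rec (motive := fun _ => ℕ) (Bool.rec (motive := fun _ => ℕ) (Bool.rec (motive := fun _ => ℕ) (j0_88) (j0_89) (Nat.ble 89 b)) (Bool.rec (motive := fun _ => ℕ) (j0_90) (j0_91) (Nat.ble 91 b)) (Nat.ble 90 b)) (Bool.rec (motive := fun _ => ℕ) (Bool.rec (motive := fun _ => ℕ) (j0_92) (j0_93) (Nat.ble 93 b)) (Bool.rec (motive := fun _ => ℕ) (j0_94) (j0_95) (Nat.ble 95 b)) (Nat.ble 94 b)) (Nat.ble 92 b)) (Nat.ble 88 b)) (Nat.ble 80 b)) (Bool.rec (motive := fun _ => ℕ) (Bool.rec (motive := fun _ => ℕ) (Bool.rec (motive := fun _ => ℕ) (Bool.rec (motive := fun _ => ℕ) (Bool.rec (motive := fun _ => ℕ) (j0_96) (j0_97) (Nat.ble 97 b)) (Bool.rec (motive := fun _ => ℕ) (j0_98) (j0_99) (Nat.ble 99 b)) (Nat.ble 98 b)) (Bool.rec (motive := fun _ => ℕ) (Bool.rec (motive := fun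 _ => ℕ) (j0_100) (j0_101) (Nat.ble 101 b)) (Bool.rec (motive := fun _ => ℕ) (j0_102) (j0_103) (Nat.ble 103 b)) (Nat.ble 102 b)) (Nat.ble 100 b)) (Bool.rec (motive := fun _ => ℕ) (Bool.rec (motive := fun _ => ℕ) (Bool.rec (motive := fun _ => ℕ) (j0_104) (j0_105) (Nat.ble 105 b)) (Bool.rec (motive := fun _ => ℕ) (j0_106) (j0_107) (Nat.ble 107 b)) (Nat.ble 106 b)) (Bool.rec (motive := fun _ => ℕ) (Bool.rec (motive := fun _ => ℕ) (j0_108) (j0_109) (Nat.ble 109 b)) (Bool.rec (motive := fun _ => ℕ) (j0_110) (j0_111) (Nat.ble 111 b)) (Nat.ble 110 b)) (Nat.ble 108 b)) (Nat.ble 104 b)) (Bool.rec (motive := fun _ => ℕ) (Bool.rec (motive := fun _ => ℕ) (Bool.rec (motive := fun _ => ℕ) (Bool.rec (motive := fun _ => ℕ) (j0_112) (j0_113) (Nat.ble 113 b)) (Bool.rec (motive := fun _ => ℕ) (j0_114) (j0_115) (Nat.ble 115 b)) (Nat.ble 114 b)) (Bool.rec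 (motive := fun _ => ℕ) (Bool.rec (motive := fun _ => ℕ) (j0_116) (j0_117) (Nat.ble 117 b)) (Bool.rec (motive := fun _ => ℕ) (j0_118) (j0_119) (Nat.ble 119 b)) (Nat.ble 118 b)) (Nat.ble 116 b)) (Bool.rec (motive := fun _ => ℕ) (Bool.rec (motive := fun _ => ℕ) (Bool.rec (motive := fun _ => ℕ) (j0_120) (j0_121) (Nat.ble 121 b)) (Bool.rec (motive := fun _ => ℕ) (j0_122) (j0_123) (Nat.ble 123 b)) (Nat.ble 122 b)) (Bool.rec (motive := fun _ => ℕ) (Bool.rec (motive := fun _ => ℕ) (j0_124) (j0_125) (Nat.ble 125 b)) (Bool.rec (motive := fun _ => ℕ) (j0_126) (j0_127) (Nat.ble 127 b)) (Nat.ble 126 b)) (Nat.ble 124 b)) (Nat.ble 120 b)) (Nat.ble 112 b)) (Nat.ble 96 b)) (Nat.ble 64 b)) (Bool.rec (motive := fun _ => ℕ) (Bool.rec (motive := fun _ => ℕ) (Bool.rec (motive := fun _ => ℕ) (Bool.rec (motive := fun _ => ℕ) (Bool.rec (motive := fun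 _ => ℕ) (Bool.rec (motive := fun _ => ℕ) (Bool.rec (motive := fun _ => ℕ) (j0_128) (j0_129) (Nat.ble 129 b)) (Bool.rec (motive := fun _ => ℕ) (j0_130) (j0_131) (Nat.ble 131 b)) (Nat.ble 130 b)) (Bool.rec (motive := fun _ => ℕ) (Bool.rec (motive := fun _ => ℕ) (j0_132) (j0_133) (Nat.ble 133 b)) (Bool.rec (motive := fun _ => ℕ) (j0_134) (j0_135) (Nat.ble 135 b)) (Nat.ble 134 b)) (Nat.ble 132 b)) (Bool.rec (motive := fun _ => ℕ) (Bool.rec (motive := fun _ => ℕ) (Bool.rec (motive := fun _ => ℕ) (j0_136) (j0_137) (Nat.ble 137 b)) (Bool.rec (motive := fun _ => ℕ) (j0_138) (j0_139) (Nat.ble 139 b)) (Nat.ble 138 b)) (Bool.rec (motive := fun _ => ℕ) (Bool.rec (motive := fun _ => ℕ) (j0_140) (j0_141) (Nat.ble 141 b)) (Bool.rec (motive := fun _ => ℕ) (j0_142) (j0_143) (Nat.ble 143 b)) (Nat.ble 142 b)) (Nat.ble 140 b)) (Nat.ble 136 b)) (Bool.rec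 (motive := fun _ => ℕ) (Bool.rec (motive := fun _ => ℕ) (Bool.rec (motive := fun _ => ℕ) (Bool.rec (motive := fun _ => ℕ) (j0_144) (j0_145) (Nat.ble 145 b)) (Bool.rec (motive := fun _ => ℕ) (j0_146) (j0_147) (Nat.ble 147 b)) (Nat.ble 146 b)) (Bool.rec (motive := fun _ => ℕ) (Bool.rec (motive := fun _ => ℕ) (j0_148) (j0_149) (Nat.ble 149 b)) (Bool.rec (motive := fun _ => ℕ) (j0_150) (j0_151) (Nat.ble 151 b)) (Nat.ble 150 b)) (Nat.ble 148 b)) (Bool.rec (motive := fun _ => ℕ) (Bool.rec (motive := fun _ => ℕ) (Bool.rec (motive := fun _ => ℕ) (j0_152) (j0_153) (Nat.ble 153 b)) (Bool.rec (motive := fun _ => ℕ) (j0_154) (j0_155) (Nat.ble 155 b)) (Nat.ble 154 b)) (Bool.rec (motive := fun _ => ℕ) (Bool.rec (motive := fun _ => ℕ) (j0_156) (j0_157) (Nat.ble 157 b)) (Bool.rec (motive := fun _ => ℕ) (j0_158) (j0_159) (Nat.ble 159 b)) (Nat.ble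 158 b)) (Nat.ble 156 b)) (Nat.ble 152 b)) (Nat.ble 144 b)) (Bool.rec (motive := fun _ => ℕ) (Bool.rec (motive := fun _ => ℕ) (Bool.rec (motive := fun _ => ℕ) (Bool.rec (motive := fun _ => ℕ) (Bool.rec (motive := fun _ => ℕ) (j0_160) (j0_161) (Nat.ble 161 b)) (Bool.rec (motive := fun _ => ℕ) (j0_162) (j0_163) (Nat.ble 163 b)) (Nat.ble 162 b)) (Bool.rec (motive := fun _ => ℕ) (Bool.rec (motive := fun _ => ℕ) (j0_164) (j0_165) (Nat.ble 165 b)) (Bool.rec (motive := fun _ => ℕ) (j0_166) (j0_167) (Nat.ble 167 b)) (Nat.ble 166 b)) (Nat.ble 164 b)) (Bool.rec (motive := fun _ => ℕ) (Bool.rec (motive := fun _ => ℕ) (Bool.rec (motive := fun _ => ℕ) (j0_168) (j0_169) (Nat.ble 169 b)) (Bool.rec (motive := fun _ => ℕ) (j0_170) (j0_171) (Nat.ble 171 b)) (Nat.ble 170 b)) (Bool.rec (motive := fun _ => ℕ) (Bool.rec (motive := fun _ => ℕ) (j0_172)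 (j0_173) (Nat.ble 173 b)) (Bool.rec (motive := fun _ => ℕ) (j0_174) (j0_175) (Nat.ble 175 b)) (Nat.ble 174 b)) (Nat.ble 172 b)) (Nat.ble 168 b)) (Bool.rec (motive := fun _ => ℕ) (Bool.rec (motive := fun _ => ℕ) (Bool.rec (motive := fun _ => ℕ) (Bool.rec (motive := fun _ => ℕ) (j0_176) (j0_177) (Nat.ble 177 b)) (Bool.rec (motive := fun _ => ℕ) (j0_178) (j0_179) (Nat.ble 179 b)) (Nat.ble 178 b)) (Bool.rec (motive := fun _ => ℕ) (Bool.rec (motive := fun _ => ℕ) (j0_180) (j0_181) (Nat.ble 181 b)) (Bool.rec (motive := fun _ => ℕ) (j0_182) (j0_183) (Nat.ble 183 b)) (Nat.ble 182 b)) (Nat.ble 180 b)) (Bool.rec (motive := fun _ => ℕ) (Bool.rec (motive := fun _ => ℕ) (Bool.rec (motive := fun _ => ℕ) (j0_184) (j0_185) (Nat.ble 185 b)) (Bool.rec (motive := fun _ => ℕ) (j0_186) (j0_187) (Nat.ble 187 b)) (Nat.ble 186 b)) (Bool.rec (motive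 := fun _ => ℕ) (Bool.rec (motive := fun _ => ℕ) (j0_188) (j0_189) (Nat.ble 189 b)) (Bool.rec (motive := fun _ => ℕ) (j0_190) (j0_191) (Nat.ble 191 b)) (Nat.ble 190 b)) (Nat.ble 188 b)) (Nat.ble 184 b)) (Nat.ble 176 b)) (Nat.ble 160 b)) (Bool.rec (motive := fun _ => ℕ) (Bool.rec (motive := fun _ => ℕ) (Bool.rec (motive := fun _ => ℕ) (Bool.rec (motive := fun _ => ℕ) (Bool.rec (motive := fun _ => ℕ) (Bool.rec (motive := fun _ => ℕ) (j0_192) (j0_193) (Nat.ble 193 b)) (Bool.rec (motive := fun _ => ℕ) (j0_194) (j0_195) (Nat.ble 195 b)) (Nat.ble 194 b)) (Bool.rec (motive := fun _ => ℕ) (Bool.rec (motive := fun _ => ℕ) (j0_196) (j0_197) (Nat.ble 197 b)) (Bool.rec (motive := fun _ => ℕ) (j0_198) (j0_199) (Nat.ble 199 b)) (Nat.ble 198 b)) (Nat.ble 196 b)) (Bool.rec (motive := fun _ => ℕ) (Bool.rec (motive := fun _ => ℕ) (Bool.rec (motive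 := fun _ => ℕ) (j0_200) (j0_201) (Nat.ble 201 b)) (Bool.rec (motive := fun _ => ℕ) (j0_202) (j0_203) (Nat.ble 203 b)) (Nat.ble 202 b)) (Bool.rec (motive := fun _ => ℕ) (Bool.rec (motive := fun _ => ℕ) (j0_204) (j0_205) (Nat.ble 205 b)) (Bool.rec (motive := fun _ => ℕ) (j0_206) (j0_207) (Nat.ble 207 b)) (Nat.ble 206 b)) (Nat.ble 204 b)) (Nat.ble 200 b)) (Bool.rec (motive := fun _ => ℕ) (Bool.rec (motive := fun _ => ℕ) (Bool.rec (motive := fun _ => ℕ) (Bool.rec (motive := fun _ => ℕ) (j0_208) (j0_209) (Nat.ble 209 b)) (Bool.rec (motive := fun _ => ℕ) (j0_210) (j0_211) (Nat.ble 211 b)) (Nat.ble 210 b)) (Bool.rec (motive := fun _ => ℕ) (Bool.rec (motive := fun _ => ℕ) (j0_212) (j0_213) (Nat.ble 213 b)) (Bool.rec (motive := fun _ => ℕ) (j0_214) (j0_215) (Nat.ble 215 b)) (Nat.ble 214 b)) (Nat.ble 212 b)) (Bool.rec (motive := fun _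 => ℕ) (Bool.rec (motive := fun _ => ℕ) (Bool.rec (motive := fun _ => ℕ) (j0_216) (j0_217) (Nat.ble 217 b)) (Bool.rec (motive := fun _ => ℕ) (j0_218) (j0_219) (Nat.ble 219 b)) (Nat.ble 218 b)) (Bool.rec (motive := fun _ => ℕ) (Bool.rec (motive := fun _ => ℕ) (j0_220) (j0_221) (Nat.ble 221 b)) (Bool.rec (motive := fun _ => ℕ) (j0_222) (j0_223) (Nat.ble 223 b)) (Nat.ble 222 b)) (Nat.ble 220 b)) (Nat.ble 216 b)) (Nat.ble 208 b)) (Bool.rec (motive := fun _ => ℕ) (Bool.rec (motive := fun _ => ℕ) (Bool.rec (motive := fun _ => ℕ) (Bool.rec (motive := fun _ => ℕ) (Bool.rec (motive := fun _ => ℕ) (j0_224) (j0_225) (Nat.ble 225 b)) (Bool.rec (motive := fun _ => ℕ) (j0_226) (j0_227) (Nat.ble 227 b)) (Nat.ble 226 b)) (Bool.rec (motive := fun _ => ℕ) (Bool.rec (motive := fun _ => ℕ) (j0_228) (j0_229) (Nat.ble 229 b)) (Bool.rec (motive := fun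 _ => ℕ) (j0_230) (j0_231) (Nat.ble 231 b)) (Nat.ble 230 b)) (Nat.ble 228 b)) (Bool.rec (motive := fun _ => ℕ) (Bool.rec (motive := fun _ => ℕ) (Bool.rec (motive := fun _ => ℕ) (j0_232) (j0_233) (Nat.ble 233 b)) (Bool.rec (motive := fun _ => ℕ) (j0_234) (j0_235) (Nat.ble 235 b)) (Nat.ble 234 b)) (Bool.rec (motive := fun _ => ℕ) (Bool.rec (motive := fun _ => ℕ) (j0_236) (j0_237) (Nat.ble 237 b)) (Bool.rec (motive := fun _ => ℕ) (j0_238) (j0_239) (Nat.ble 239 b)) (Nat.ble 238 b)) (Nat.ble 236 b)) (Nat.ble 232 b)) (Bool.rec (motive := fun _ => ℕ) (Bool.rec (motive := fun _ => ℕ) (Bool.rec (motive := fun _ => ℕ) (Bool.rec (motive := fun _ => ℕ) (j0_240) (j0_241) (Nat.ble 241 b)) (Bool.rec (motive := fun _ => ℕ) (j0_242) (j0_243) (Nat.ble 243 b)) (Nat.ble 242 b)) (Bool.rec (motive := fun _ => ℕ) (Bool.rec (motive := fun _ => ℕ) (j0_244)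 (j0_245) (Nat.ble 245 b)) (Bool.rec (motive := fun _ => ℕ) (j0_246) (j0_247) (Nat.ble 247 b)) (Nat.ble 246 b)) (Nat.ble 244 b)) (Bool.rec (motive := fun _ => ℕ) (Bool.rec (motive := fun _ => ℕ) (Bool.rec (motive := fun _ => ℕ) (j0_248) (j0_249) (Nat.ble 249 b)) (Bool.rec (motive := fun _ => ℕ) (j0_250) (j0_251) (Nat.ble 251 b)) (Nat.ble 250 b)) (Bool.rec (motive := fun _ => ℕ) (Bool.rec (motive := fun _ => ℕ) (j0_252) (j0_253) (Nat.ble 253 b)) (Bool.rec (motive := fun _ => ℕ) (j0_254) (j0_255) (Nat.ble 255 b)) (Nat.ble 254 b)) (Nat.ble 252 b)) (Nat.ble 248 b)) (Nat.ble 240 b)) (Nat.ble 224 b)) (Nat.ble 192 b)) (Nat.ble 128 b)) (Bool.rec (motive := fun _ => ℕ) (Bool.rec (motive := fun _ => ℕ) (Bool.rec (motive := fun _ => ℕ) (Bool.rec (motive := fun _ => ℕ) (Bool.rec (motive := fun _ => ℕ) (Bool.rec (motive := fun _ => ℕ) (Bool.rec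 (motive := fun _ => ℕ) (Bool.rec (motive := fun _ => ℕ) (j0_256) (j0_257) (Nat.ble 257 b)) (Bool.rec (motive := fun _ => ℕ) (j0_258) (j0_259) (Nat.ble 259 b)) (Nat.ble 258 b)) (Bool.rec (motive := fun _ => ℕ) (Bool.rec (motive := fun _ => ℕ) (j0_260) (j0_261) (Nat.ble 261 b)) (Bool.rec (motive := fun _ => ℕ) (j0_262) (j0_263) (Nat.ble 263 b)) (Nat.ble 262 b)) (Nat.ble 260 b)) (Bool.rec (motive := fun _ => ℕ) (Bool.rec (motive := fun _ => ℕ) (Bool.rec (motive := fun _ => ℕ) (j0_264) (j0_265) (Nat.ble 265 b)) (Bool.rec (motive := fun _ => ℕ) (j0_266) (0) (Nat.ble 267 b)) (Nat.ble 266 b)) (0) (Nat.ble 268 b)) (Nat.ble 264 b)) (0) (Nat.ble 272 b)) (0) (Nat.ble 288 b)) (0) (Nat.ble 320 b)) (0) (Nat.ble 384 b)) (Nat.ble 256 b))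
noncomputable def ecol1 (b : ℕ) : ℕ := (Bool.rec (motive := fun _ => ℕ) (Bool.rec (motive := fun _ => ℕ) (Bool.rec (motive := fun _ => ℕ) (Bool.rec (motive := fun _ => ℕ) (Bool.rec (motive := fun _ => ℕ) (Bool.rec (motive := fun _ => ℕ) (Bool.rec (motive := fun _ => ℕ) (Bool.rec (motive := fun _ => ℕ) (Bool.rec (motive := fun _ => ℕ) (e1_0) (e1_1) (Nat.ble 1 b)) (Bool.rec (motive := fun _ => ℕ) (e1_2) (e1_3) (Nat.ble 3 b)) (Nat.ble 2 b)) (Bool.rec (motive := fun _ => ℕ) (Bool.rec (motive := fun _ => ℕ) (e1_4) (e1_5) (Nat.ble 5 b)) (Bool.rec (motive := fun _ => ℕ) (e1_6) (e1_7) (Nat.ble 7 b)) (Nat.ble 6 b)) (Nat.ble 4 b)) (Bool.rec (motive := fun _ => ℕ) (Bool.rec (motive := fun _ => ℕ) (Bool.rec (motive := fun _ => ℕ) (e1_8) (e1_9) (Nat.ble 9 b)) (Bool.rec (motive := fun _ => ℕ) (e1_10) (e1_11) (Nat.ble 11 b)) (Nat.ble 10 b))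 (Bool.rec (motive := fun _ => ℕ) (Bool.rec (motive := fun _ => ℕ) (e1_12) (e1_13) (Nat.ble 13 b)) (Bool.rec (motive := fun _ => ℕ) (e1_14) (e1_15) (Nat.ble 15 b)) (Nat.ble 14 b)) (Nat.ble 12 b)) (Nat.ble 8 b)) (Bool.rec (motive := fun _ => ℕ) (Bool.rec (motive := fun _ => ℕ) (Bool.rec (motive := fun _ => ℕ) (Bool.rec (motive := fun _ => ℕ) (e1_16) (e1_17) (Nat.ble 17 b)) (Bool.rec (motive := fun _ => ℕ) (e1_18) (e1_19) (Nat.ble 19 b)) (Nat.ble 18 b)) (Bool.rec (motive := fun _ => ℕ) (Bool.rec (motive := fun _ => ℕ) (e1_20) (e1_21) (Nat.ble 21 b)) (Bool.rec (motive := fun _ => ℕ) (e1_22) (e1_23) (Nat.ble 23 b)) (Nat.ble 22 b)) (Nat.ble 20 b)) (Bool.rec (motive := fun _ => ℕ) (Bool.rec (motive := fun _ => ℕ) (Bool.rec (motive := fun _ => ℕ) (e1_24) (e1_25) (Nat.ble 25 b)) (Bool.rec (motive := fun _ => ℕ) (e1_26) (e1_27) (Nat.ble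 27 b)) (Nat.ble 26 b)) (Bool.rec (motive := fun _ => ℕ) (Bool.rec (motive := fun _ => ℕ) (e1_28) (e1_29) (Nat.ble 29 b)) (Bool.rec (motive := fun _ => ℕ) (e1_30) (e1_31) (Nat.ble 31 b)) (Nat.ble 30 b)) (Nat.ble 28 b)) (Nat.ble 24 b)) (Nat.ble 16 b)) (Bool.rec (motive := fun _ => ℕ) (Bool.rec (motive := fun _ => ℕ) (Bool.rec (motive := fun _ => ℕ) (Bool.rec (motive := fun _ => ℕ) (Bool.rec (motive := fun _ => ℕ) (e1_32) (e1_33) (Nat.ble 33 b)) (Bool.rec (motive := fun _ => ℕ) (e1_34) (e1_35) (Nat.ble 35 b)) (Nat.ble 34 b)) (Bool.rec (motive := fun _ => ℕ) (Bool.rec (motive := fun _ => ℕ) (e1_36) (e1_37) (Nat.ble 37 b)) (Bool.rec (motive := fun _ => ℕ) (e1_38) (e1_39) (Nat.ble 39 b)) (Nat.ble 38 b)) (Nat.ble 36 b)) (Bool.rec (motive := fun _ => ℕ) (Bool.rec (motive := fun _ => ℕ) (Bool.rec (motive := fun _ => ℕ) (e1_40) (e1_41)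 (Nat.ble 41 b)) (Bool.rec (motive := fun _ => ℕ) (e1_42) (e1_43) (Nat.ble 43 b)) (Nat.ble 42 b)) (Bool.rec (motive := fun _ => ℕ) (Bool.rec (motive := fun _ => ℕ) (e1_44) (e1_45) (Nat.ble 45 b)) (Bool.rec (motive := fun _ => ℕ) (e1_46) (e1_47) (Nat.ble 47 b)) (Nat.ble 46 b)) (Nat.ble 44 b)) (Nat.ble 40 b)) (Bool.rec (motive := fun _ => ℕ) (Bool.rec (motive := fun _ => ℕ) (Bool.rec (motive := fun _ => ℕ) (Bool.rec (motive := fun _ => ℕ) (e1_48) (e1_49) (Nat.ble 49 b)) (Bool.rec (motive := fun _ => ℕ) (e1_50) (e1_51) (Nat.ble 51 b)) (Nat.ble 50 b)) (Bool.rec (motive := fun _ => ℕ) (Bool.rec (motive := fun _ => ℕ) (e1_52) (e1_53) (Nat.ble 53 b)) (Bool.rec (motive := fun _ => ℕ) (e1_54) (e1_55) (Nat.ble 55 b)) (Nat.ble 54 b)) (Nat.ble 52 b)) (Bool.rec (motive := fun _ => ℕ) (Bool.rec (motive := fun _ => ℕ) (Bool.rec (motive := fun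 _ => ℕ) (e1_56) (e1_57) (Nat.ble 57 b)) (Bool.rec (motive := fun _ => ℕ) (e1_58) (e1_59) (Nat.ble 59 b)) (Nat.ble 58 b)) (Bool.rec (motive := fun _ => ℕ) (Bool.rec (motive := fun _ => ℕ) (e1_60) (e1_61) (Nat.ble 61 b)) (Bool.rec (motive := fun _ => ℕ) (e1_62) (e1_63) (Nat.ble 63 b)) (Nat.ble 62 b)) (Nat.ble 60 b)) (Nat.ble 56 b)) (Nat.ble 48 b)) (Nat.ble 32 b)) (Bool.rec (motive := fun _ => ℕ) (Bool.rec (motive := fun _ => ℕ) (Bool.rec (motive := fun _ => ℕ) (Bool.rec (motive := fun _ => ℕ) (Bool.rec (motive := fun _ => ℕ) (Bool.rec (motive := fun _ => ℕ) (e1_64) (e1_65) (Nat.ble 65 b)) (Bool.rec (motive := fun _ => ℕ) (e1_66) (e1_67) (Nat.ble 67 b)) (Nat.ble 66 b)) (Bool.rec (motive := fun _ => ℕ) (Bool.rec (motive := fun _ => ℕ) (e1_68) (e1_69) (Nat.ble 69 b)) (Bool.rec (motive := fun _ => ℕ) (e1_70) (e1_71) (Nat.ble 71 b))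 (Nat.ble 70 b)) (Nat.ble 68 b)) (Bool.rec (motive := fun _ => ℕ) (Bool.rec (motive := fun _ => ℕ) (Bool.rec (motive := fun _ => ℕ) (e1_72) (e1_73) (Nat.ble 73 b)) (Bool.rec (motive := fun _ => ℕ) (e1_74) (e1_75) (Nat.ble 75 b)) (Nat.ble 74 b)) (Bool.rec (motive := fun _ => ℕ) (Bool.rec (motive := fun _ => ℕ) (e1_76) (e1_77) (Nat.ble 77 b)) (Bool.rec (motive := fun _ => ℕ) (e1_78) (e1_79) (Nat.ble 79 b)) (Nat.ble 78 b)) (Nat.ble 76 b)) (Nat.ble 72 b)) (Bool.rec (motive := fun _ => ℕ) (Bool.rec (motive := fun _ => ℕ) (Bool.rec (motive := fun _ => ℕ) (Bool.rec (motive := fun _ => ℕ) (e1_80) (e1_81) (Nat.ble 81 b)) (Bool.rec (motive := fun _ => ℕ) (e1_82) (e1_83) (Nat.ble 83 b)) (Nat.ble 82 b)) (Bool.rec (motive := fun _ => ℕ) (Bool.rec (motive := fun _ => ℕ) (e1_84) (e1_85) (Nat.ble 85 b)) (Bool.rec (motive := fun _ => ℕ) (e1_86)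 (e1_87) (Nat.ble 87 b)) (Nat.ble 86 b)) (Nat.ble 84 b)) (Bool.rec (motive := fun _ => ℕ) (Bool.rec (motive := fun _ => ℕ) (Bool.rec (motive := fun _ => ℕ) (e1_88) (e1_89) (Nat.ble 89 b)) (Bool.rec (motive := fun _ => ℕ) (e1_90) (e1_91) (Nat.ble 91 b)) (Nat.ble 90 b)) (Bool.rec (motive := fun _ => ℕ) (Bool.rec (motive := fun _ => ℕ) (e1_92) (e1_93) (Nat.ble 93 b)) (Bool.rec (motive := fun _ => ℕ) (e1_94) (e1_95) (Nat.ble 95 b)) (Nat.ble 94 b)) (Nat.ble 92 b)) (Nat.ble 88 b)) (Nat.ble 80 b)) (Bool.rec (motive := fun _ => ℕ) (Bool.rec (motive := fun _ => ℕ) (Bool.rec (motive := fun _ => ℕ) (Bool.rec (motive := fun _ => ℕ) (Bool.rec (motive := fun _ => ℕ) (e1_96) (e1_97) (Nat.ble 97 b)) (Bool.rec (motive := fun _ => ℕ) (e1_98) (e1_99) (Nat.ble 99 b)) (Nat.ble 98 b)) (Bool.rec (motive := fun _ => ℕ) (Bool.rec (motive := fun _ => ℕ)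 (e1_100) (e1_101) (Nat.ble 101 b)) (Bool.rec (motive := fun _ => ℕ) (e1_102) (e1_103) (Nat.ble 103 b)) (Nat.ble 102 b)) (Nat.ble 100 b)) (Bool.rec (motive := fun _ => ℕ) (Bool.rec (motive := fun _ => ℕ) (Bool.rec (motive := fun _ => ℕ) (e1_104) (e1_105) (Nat.ble 105 b)) (Bool.rec (motive := fun _ => ℕ) (e1_106) (e1_107) (Nat.ble 107 b)) (Nat.ble 106 b)) (Bool.rec (motive := fun _ => ℕ) (Bool.rec (motive := fun _ => ℕ) (e1_108) (e1_109) (Nat.ble 109 b)) (Bool.rec (motive := fun _ => ℕ) (e1_110) (e1_111) (Nat.ble 111 b)) (Nat.ble 110 b)) (Nat.ble 108 b)) (Nat.ble 104 b)) (Bool.rec (motive := fun _ => ℕ) (Bool.rec (motive := fun _ => ℕ) (Bool.rec (motive := fun _ => ℕ) (Bool.rec (motive := fun _ => ℕ) (e1_112) (e1_113) (Nat.ble 113 b)) (Bool.rec (motive := fun _ => ℕ) (e1_114) (e1_115) (Nat.ble 115 b)) (Nat.ble 114 b)) (Bool.rec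 (motive := fun _ => ℕ) (Bool.rec (motive := fun _ => ℕ) (e1_116) (e1_117) (Nat.ble 117 b)) (Bool.rec (motive := fun _ => ℕ) (e1_118) (e1_119) (Nat.ble 119 b)) (Nat.ble 118 b)) (Nat.ble 116 b)) (Bool.rec (motive := fun _ => ℕ) (Bool.rec (motive := fun _ => ℕ) (Bool.rec (motive := fun _ => ℕ) (e1_120) (e1_121) (Nat.ble 121 b)) (Bool.rec (motive := fun _ => ℕ) (e1_122) (e1_123) (Nat.ble 123 b)) (Nat.ble 122 b)) (Bool.rec (motive := fun _ => ℕ) (Bool.rec (motive := fun _ => ℕ) (e1_124) (e1_125) (Nat.ble 125 b)) (Bool.rec (motive := fun _ => ℕ) (e1_126) (e1_127) (Nat.ble 127 b)) (Nat.ble 126 b)) (Nat.ble 124 b)) (Nat.ble 120 b)) (Nat.ble 112 b)) (Nat.ble 96 b)) (Nat.ble 64 b)) (Bool.rec (motive := fun _ => ℕ) (Bool.rec (motive := fun _ => ℕ) (Bool.rec (motive := fun _ => ℕ) (Bool.rec (motive := fun _ => ℕ) (Bool.rec (motive := fun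 _ => ℕ) (Bool.rec (motive := fun _ => ℕ) (Bool.rec (motive := fun _ => ℕ) (e1_128) (e1_129) (Nat.ble 129 b)) (Bool.rec (motive := fun _ => ℕ) (e1_130) (e1_131) (Nat.ble 131 b)) (Nat.ble 130 b)) (Bool.rec (motive := fun _ => ℕ) (Bool.rec (motive := fun _ => ℕ) (e1_132) (e1_133) (Nat.ble 133 b)) (Bool.rec (motive := fun _ => ℕ) (e1_134) (e1_135) (Nat.ble 135 b)) (Nat.ble 134 b)) (Nat.ble 132 b)) (Bool.rec (motive := fun _ => ℕ) (Bool.rec (motive := fun _ => ℕ) (Bool.rec (motive := fun _ => ℕ) (e1_136) (e1_137) (Nat.ble 137 b)) (Bool.rec (motive := fun _ => ℕ) (e1_138) (e1_139) (Nat.ble 139 b)) (Nat.ble 138 b)) (Bool.rec (motive := fun _ => ℕ) (Bool.rec (motive := fun _ => ℕ) (e1_140) (e1_141) (Nat.ble 141 b)) (Bool.rec (motive := fun _ => ℕ) (e1_142) (e1_143) (Nat.ble 143 b)) (Nat.ble 142 b)) (Nat.ble 140 b)) (Nat.ble 136 b)) (Bool.rec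 (motive := fun _ => ℕ) (Bool.rec (motive := fun _ => ℕ) (Bool.rec (motive := fun _ => ℕ) (Bool.rec (motive := fun _ => ℕ) (e1_144) (e1_145) (Nat.ble 145 b)) (Bool.rec (motive := fun _ => ℕ) (e1_146) (e1_147) (Nat.ble 147 b)) (Nat.ble 146 b)) (Bool.rec (motive := fun _ => ℕ) (Bool.rec (motive := fun _ => ℕ) (e1_148) (e1_149) (Nat.ble 149 b)) (Bool.rec (motive := fun _ => ℕ) (e1_150) (e1_151) (Nat.ble 151 b)) (Nat.ble 150 b)) (Nat.ble 148 b)) (Bool.rec (motive := fun _ => ℕ) (Bool.rec (motive := fun _ => ℕ) (Bool.rec (motive := fun _ => ℕ) (e1_152) (e1_153) (Nat.ble 153 b)) (Bool.rec (motive := fun _ => ℕ) (e1_154) (e1_155) (Nat.ble 155 b)) (Nat.ble 154 b)) (Bool.rec (motive := fun _ => ℕ) (Bool.rec (motive := fun _ => ℕ) (e1_156) (e1_157) (Nat.ble 157 b)) (Bool.rec (motive := fun _ => ℕ) (e1_158) (e1_159) (Nat.ble 159 b)) (Nat.ble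 158 b)) (Nat.ble 156 b)) (Nat.ble 152 b)) (Nat.ble 144 b)) (Bool.rec (motive := fun _ => ℕ) (Bool.rec (motive := fun _ => ℕ) (Bool.rec (motive := fun _ => ℕ) (Bool.rec (motive := fun _ => ℕ) (Bool.rec (motive := fun _ => ℕ) (e1_160) (e1_161) (Nat.ble 161 b)) (Bool.rec (motive := fun _ => ℕ) (e1_162) (e1_163) (Nat.ble 163 b)) (Nat.ble 162 b)) (Bool.rec (motive := fun _ => ℕ) (Bool.rec (motive := fun _ => ℕ) (e1_164) (e1_165) (Nat.ble 165 b)) (Bool.rec (motive := fun _ => ℕ) (e1_166) (e1_167) (Nat.ble 167 b)) (Nat.ble 166 b)) (Nat.ble 164 b)) (Bool.rec (motive := fun _ => ℕ) (Bool.rec (motive := fun _ => ℕ) (Bool.rec (motive := fun _ => ℕ) (e1_168) (e1_169) (Nat.ble 169 b)) (Bool.rec (motive := fun _ => ℕ) (e1_170) (e1_171) (Nat.ble 171 b)) (Nat.ble 170 b)) (Bool.rec (motive := fun _ => ℕ) (Bool.rec (motive := fun _ => ℕ) (e1_172)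 (e1_173) (Nat.ble 173 b)) (Bool.rec (motive := fun _ => ℕ) (e1_174) (e1_175) (Nat.ble 175 b)) (Nat.ble 174 b)) (Nat.ble 172 b)) (Nat.ble 168 b)) (Bool.rec (motive := fun _ => ℕ) (Bool.rec (motive := fun _ => ℕ) (Bool.rec (motive := fun _ => ℕ) (Bool.rec (motive := fun _ => ℕ) (e1_176) (e1_177) (Nat.ble 177 b)) (Bool.rec (motive := fun _ => ℕ) (e1_178) (e1_179) (Nat.ble 179 b)) (Nat.ble 178 b)) (Bool.rec (motive := fun _ => ℕ) (Bool.rec (motive := fun _ => ℕ) (e1_180) (e1_181) (Nat.ble 181 b)) (Bool.rec (motive := fun _ => ℕ) (e1_182) (e1_183) (Nat.ble 183 b)) (Nat.ble 182 b)) (Nat.ble 180 b)) (Bool.rec (motive := fun _ => ℕ) (Bool.rec (motive := fun _ => ℕ) (Bool.rec (motive := fun _ => ℕ) (e1_184) (e1_185) (Nat.ble 185 b)) (Bool.rec (motive := fun _ => ℕ) (e1_186) (e1_187) (Nat.ble 187 b)) (Nat.ble 186 b)) (Bool.rec (motive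 := fun _ => ℕ) (Bool.rec (motive := fun _ => ℕ) (e1_188) (e1_189) (Nat.ble 189 b)) (Bool.rec (motive := fun _ => ℕ) (e1_190) (e1_191) (Nat.ble 191 b)) (Nat.ble 190 b)) (Nat.ble 188 b)) (Nat.ble 184 b)) (Nat.ble 176 b)) (Nat.ble 160 b)) (Bool.rec (motive := fun _ => ℕ) (Bool.rec (motive := fun _ => ℕ) (Bool.rec (motive := fun _ => ℕ) (Bool.rec (motive := fun _ => ℕ) (Bool.rec (motive := fun _ => ℕ) (Bool.rec (motive := fun _ => ℕ) (e1_192) (e1_193) (Nat.ble 193 b)) (Bool.rec (motive := fun _ => ℕ) (e1_194) (e1_195) (Nat.ble 195 b)) (Nat.ble 194 b)) (Bool.rec (motive := fun _ => ℕ) (Bool.rec (motive := fun _ => ℕ) (e1_196) (e1_197) (Nat.ble 197 b)) (Bool.rec (motive := fun _ => ℕ) (e1_198) (e1_199) (Nat.ble 199 b)) (Nat.ble 198 b)) (Nat.ble 196 b)) (Bool.rec (motive := fun _ => ℕ) (Bool.rec (motive := fun _ => ℕ) (Bool.rec (motive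 := fun _ => ℕ) (e1_200) (e1_201) (Nat.ble 201 b)) (Bool.rec (motive := fun _ => ℕ) (e1_202) (e1_203) (Nat.ble 203 b)) (Nat.ble 202 b)) (Bool.rec (motive := fun _ => ℕ) (Bool.rec (motive := fun _ => ℕ) (e1_204) (e1_205) (Nat.ble 205 b)) (Bool.rec (motive := fun _ => ℕ) (e1_206) (e1_207) (Nat.ble 207 b)) (Nat.ble 206 b)) (Nat.ble 204 b)) (Nat.ble 200 b)) (Bool.rec (motive := fun _ => ℕ) (Bool.rec (motive := fun _ => ℕ) (Bool.rec (motive := fun _ => ℕ) (Bool.rec (motive := fun _ => ℕ) (e1_208) (e1_209) (Nat.ble 209 b)) (Bool.rec (motive := fun _ => ℕ) (e1_210) (e1_211) (Nat.ble 211 b)) (Nat.ble 210 b)) (Bool.rec (motive := fun _ => ℕ) (Bool.rec (motive := fun _ => ℕ) (e1_212) (e1_213) (Nat.ble 213 b)) (Bool.rec (motive := fun _ => ℕ) (e1_214) (e1_215) (Nat.ble 215 b)) (Nat.ble 214 b)) (Nat.ble 212 b)) (Bool.rec (motive := fun _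 => ℕ) (Bool.rec (motive := fun _ => ℕ) (Bool.rec (motive := fun _ => ℕ) (e1_216) (e1_217) (Nat.ble 217 b)) (Bool.rec (motive := fun _ => ℕ) (e1_218) (e1_219) (Nat.ble 219 b)) (Nat.ble 218 b)) (Bool.rec (motive := fun _ => ℕ) (Bool.rec (motive := fun _ => ℕ) (e1_220) (e1_221) (Nat.ble 221 b)) (Bool.rec (motive := fun _ => ℕ) (e1_222) (e1_223) (Nat.ble 223 b)) (Nat.ble 222 b)) (Nat.ble 220 b)) (Nat.ble 216 b)) (Nat.ble 208 b)) (Bool.rec (motive := fun _ => ℕ) (Bool.rec (motive := fun _ => ℕ) (Bool.rec (motive := fun _ => ℕ) (Bool.rec (motive := fun _ => ℕ) (Bool.rec (motive := fun _ => ℕ) (e1_224) (e1_225) (Nat.ble 225 b)) (Bool.rec (motive := fun _ => ℕ) (e1_226) (e1_227) (Nat.ble 227 b)) (Nat.ble 226 b)) (Bool.rec (motive := fun _ => ℕ) (Bool.rec (motive := fun _ => ℕ) (e1_228) (e1_229) (Nat.ble 229 b)) (Bool.rec (motive := fun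 _ => ℕ) (e1_230) (e1_231) (Nat.ble 231 b)) (Nat.ble 230 b)) (Nat.ble 228 b)) (Bool.rec (motive := fun _ => ℕ) (Bool.rec (motive := fun _ => ℕ) (Bool.rec (motive := fun _ => ℕ) (e1_232) (e1_233) (Nat.ble 233 b)) (Bool.rec (motive := fun _ => ℕ) (e1_234) (e1_235) (Nat.ble 235 b)) (Nat.ble 234 b)) (Bool.rec (motive := fun _ => ℕ) (Bool.rec (motive := fun _ => ℕ) (e1_236) (e1_237) (Nat.ble 237 b)) (Bool.rec (motive := fun _ => ℕ) (e1_238) (e1_239) (Nat.ble 239 b)) (Nat.ble 238 b)) (Nat.ble 236 b)) (Nat.ble 232 b)) (Bool.rec (motive := fun _ => ℕ) (Bool.rec (motive := fun _ => ℕ) (Bool.rec (motive := fun _ => ℕ) (Bool.rec (motive := fun _ => ℕ) (e1_240) (e1_241) (Nat.ble 241 b)) (Bool.rec (motive := fun _ => ℕ) (e1_242) (e1_243) (Nat.ble 243 b)) (Nat.ble 242 b)) (Bool.rec (motive := fun _ => ℕ) (Bool.rec (motive := fun _ => ℕ) (e1_244)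 (e1_245) (Nat.ble 245 b)) (Bool.rec (motive := fun _ => ℕ) (e1_246) (e1_247) (Nat.ble 247 b)) (Nat.ble 246 b)) (Nat.ble 244 b)) (Bool.rec (motive := fun _ => ℕ) (Bool.rec (motive := fun _ => ℕ) (Bool.rec (motive := fun _ => ℕ) (e1_248) (e1_249) (Nat.ble 249 b)) (Bool.rec (motive := fun _ => ℕ) (e1_250) (e1_251) (Nat.ble 251 b)) (Nat.ble 250 b)) (Bool.rec (motive := fun _ => ℕ) (Bool.rec (motive := fun _ => ℕ) (e1_252) (e1_253) (Nat.ble 253 b)) (Bool.rec (motive := fun _ => ℕ) (e1_254) (e1_255) (Nat.ble 255 b)) (Nat.ble 254 b)) (Nat.ble 252 b)) (Nat.ble 248 b)) (Nat.ble 240 b)) (Nat.ble 224 b)) (Nat.ble 192 b)) (Nat.ble 128 b)) (Bool.rec (motive := fun _ => ℕ) (Bool.rec (motive := fun _ => ℕ) (Bool.rec (motive := fun _ => ℕ) (Bool.rec (motive := fun _ => ℕ) (Bool.rec (motive := fun _ => ℕ) (Bool.rec (motive := fun _ => ℕ) (Bool.rec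 (motive := fun _ => ℕ) (Bool.rec (motive := fun _ => ℕ) (e1_256) (e1_257) (Nat.ble 257 b)) (Bool.rec (motive := fun _ => ℕ) (e1_258) (e1_259) (Nat.ble 259 b)) (Nat.ble 258 b)) (Bool.rec (motive := fun _ => ℕ) (Bool.rec (motive := fun _ => ℕ) (e1_260) (e1_261) (Nat.ble 261 b)) (Bool.rec (motive := fun _ => ℕ) (e1_262) (e1_263) (Nat.ble 263 b)) (Nat.ble 262 b)) (Nat.ble 260 b)) (Bool.rec (motive := fun _ => ℕ) (Bool.rec (motive := fun _ => ℕ) (Bool.rec (motive := fun _ => ℕ) (e1_264) (e1_265) (Nat.ble 265 b)) (Bool.rec (motive := fun _ => ℕ) (e1_266) (0) (Nat.ble 267 b)) (Nat.ble 266 b)) (0) (Nat.ble 268 b)) (Nat.ble 264 b)) (0) (Nat.ble 272 b)) (0) (Nat.ble 288 b)) (0) (Nat.ble 320 b)) (0) (Nat.ble 384 b)) (Nat.ble 256 b))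
noncomputable def jcol1 (b : ℕ) : ℕ := (Bool.rec (motive := fun _ => ℕ) (Bool.rec (motive := fun _ => ℕ) (Bool.rec (motive := fun _ => ℕ) (Bool.rec (motive := fun _ => ℕ) (Bool.rec (motive := fun _ => ℕ) (Bool.rec (motive := fun _ => ℕ) (Bool.rec (motive := fun _ => ℕ) (Bool.rec (motive := fun _ => ℕ) (Bool.rec (motive := fun _ => ℕ) (j1_0) (j1_1) (Nat.ble 1 b)) (Bool.rec (motive := fun _ => ℕ) (j1_2) (j1_3) (Nat.ble 3 b)) (Nat.ble 2 b)) (Bool.rec (motive := fun _ => ℕ) (Bool.rec (motive := fun _ => ℕ) (j1_4) (j1_5) (Nat.ble 5 b)) (Bool.rec (motive := fun _ => ℕ) (j1_6) (j1_7) (Nat.ble 7 b)) (Nat.ble 6 b)) (Nat.ble 4 b)) (Bool.rec (motive := fun _ => ℕ) (Bool.rec (motive := fun _ => ℕ) (Bool.rec (motive := fun _ => ℕ) (j1_8) (j1_9) (Nat.ble 9 b)) (Bool.rec (motive := fun _ => ℕ) (j1_10) (j1_11) (Nat.ble 11 b)) (Nat.ble 10 b))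 (Bool.rec (motive := fun _ => ℕ) (Bool.rec (motive := fun _ => ℕ) (j1_12) (j1_13) (Nat.ble 13 b)) (Bool.rec (motive := fun _ => ℕ) (j1_14) (j1_15) (Nat.ble 15 b)) (Nat.ble 14 b)) (Nat.ble 12 b)) (Nat.ble 8 b)) (Bool.rec (motive := fun _ => ℕ) (Bool.rec (motive := fun _ => ℕ) (Bool.rec (motive := fun _ => ℕ) (Bool.rec (motive := fun _ => ℕ) (j1_16) (j1_17) (Nat.ble 17 b)) (Bool.rec (motive := fun _ => ℕ) (j1_18) (j1_19) (Nat.ble 19 b)) (Nat.ble 18 b)) (Bool.rec (motive := fun _ => ℕ) (Bool.rec (motive := fun _ => ℕ) (j1_20) (j1_21) (Nat.ble 21 b)) (Bool.rec (motive := fun _ => ℕ) (j1_22) (j1_23) (Nat.ble 23 b)) (Nat.ble 22 b)) (Nat.ble 20 b)) (Bool.rec (motive := fun _ => ℕ) (Bool.rec (motive := fun _ => ℕ) (Bool.rec (motive := fun _ => ℕ) (j1_24) (j1_25) (Nat.ble 25 b)) (Bool.rec (motive := fun _ => ℕ) (j1_26) (j1_27) (Nat.ble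 27 b)) (Nat.ble 26 b)) (Bool.rec (motive := fun _ => ℕ) (Bool.rec (motive := fun _ => ℕ) (j1_28) (j1_29) (Nat.ble 29 b)) (Bool.rec (motive := fun _ => ℕ) (j1_30) (j1_31) (Nat.ble 31 b)) (Nat.ble 30 b)) (Nat.ble 28 b)) (Nat.ble 24 b)) (Nat.ble 16 b)) (Bool.rec (motive := fun _ => ℕ) (Bool.rec (motive := fun _ => ℕ) (Bool.rec (motive := fun _ => ℕ) (Bool.rec (motive := fun _ => ℕ) (Bool.rec (motive := fun _ => ℕ) (j1_32) (j1_33) (Nat.ble 33 b)) (Bool.rec (motive := fun _ => ℕ) (j1_34) (j1_35) (Nat.ble 35 b)) (Nat.ble 34 b)) (Bool.rec (motive := fun _ => ℕ) (Bool.rec (motive := fun _ => ℕ) (j1_36) (j1_37) (Nat.ble 37 b)) (Bool.rec (motive := fun _ => ℕ) (j1_38) (j1_39) (Nat.ble 39 b)) (Nat.ble 38 b)) (Nat.ble 36 b)) (Bool.rec (motive := fun _ => ℕ) (Bool.rec (motive := fun _ => ℕ) (Bool.rec (motive := fun _ => ℕ) (j1_40) (j1_41)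 (Nat.ble 41 b)) (Bool.rec (motive := fun _ => ℕ) (j1_42) (j1_43) (Nat.ble 43 b)) (Nat.ble 42 b)) (Bool.rec (motive := fun _ => ℕ) (Bool.rec (motive := fun _ => ℕ) (j1_44) (j1_45) (Nat.ble 45 b)) (Bool.rec (motive := fun _ => ℕ) (j1_46) (j1_47) (Nat.ble 47 b)) (Nat.ble 46 b)) (Nat.ble 44 b)) (Nat.ble 40 b)) (Bool.rec (motive := fun _ => ℕ) (Bool.rec (motive := fun _ => ℕ) (Bool.rec (motive := fun _ => ℕ) (Bool.rec (motive := fun _ => ℕ) (j1_48) (j1_49) (Nat.ble 49 b)) (Bool.rec (motive := fun _ => ℕ) (j1_50) (j1_51) (Nat.ble 51 b)) (Nat.ble 50 b)) (Bool.rec (motive := fun _ => ℕ) (Bool.rec (motive := fun _ => ℕ) (j1_52) (j1_53) (Nat.ble 53 b)) (Bool.rec (motive := fun _ => ℕ) (j1_54) (j1_55) (Nat.ble 55 b)) (Nat.ble 54 b)) (Nat.ble 52 b)) (Bool.rec (motive := fun _ => ℕ) (Bool.rec (motive := fun _ => ℕ) (Bool.rec (motive := fun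 _ => ℕ) (j1_56) (j1_57) (Nat.ble 57 b)) (Bool.rec (motive := fun _ => ℕ) (j1_58) (j1_59) (Nat.ble 59 b)) (Nat.ble 58 b)) (Bool.rec (motive := fun _ => ℕ) (Bool.rec (motive := fun _ => ℕ) (j1_60) (j1_61) (Nat.ble 61 b)) (Bool.rec (motive := fun _ => ℕ) (j1_62) (j1_63) (Nat.ble 63 b)) (Nat.ble 62 b)) (Nat.ble 60 b)) (Nat.ble 56 b)) (Nat.ble 48 b)) (Nat.ble 32 b)) (Bool.rec (motive := fun _ => ℕ) (Bool.rec (motive := fun _ => ℕ) (Bool.rec (motive := fun _ => ℕ) (Bool.rec (motive := fun _ => ℕ) (Bool.rec (motive := fun _ => ℕ) (Bool.rec (motive := fun _ => ℕ) (j1_64) (j1_65) (Nat.ble 65 b)) (Bool.rec (motive := fun _ => ℕ) (j1_66) (j1_67) (Nat.ble 67 b)) (Nat.ble 66 b)) (Bool.rec (motive := fun _ => ℕ) (Bool.rec (motive := fun _ => ℕ) (j1_68) (j1_69) (Nat.ble 69 b)) (Bool.rec (motive := fun _ => ℕ) (j1_70) (j1_71) (Nat.ble 71 b))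 (Nat.ble 70 b)) (Nat.ble 68 b)) (Bool.rec (motive := fun _ => ℕ) (Bool.rec (motive := fun _ => ℕ) (Bool.rec (motive := fun _ => ℕ) (j1_72) (j1_73) (Nat.ble 73 b)) (Bool.rec (motive := fun _ => ℕ) (j1_74) (j1_75) (Nat.ble 75 b)) (Nat.ble 74 b)) (Bool.rec (motive := fun _ => ℕ) (Bool.rec (motive := fun _ => ℕ) (j1_76) (j1_77) (Nat.ble 77 b)) (Bool.rec (motive := fun _ => ℕ) (j1_78) (j1_79) (Nat.ble 79 b)) (Nat.ble 78 b)) (Nat.ble 76 b)) (Nat.ble 72 b)) (Bool.rec (motive := fun _ => ℕ) (Bool.rec (motive := fun _ => ℕ) (Bool.rec (motive := fun _ => ℕ) (Bool.rec (motive := fun _ => ℕ) (j1_80) (j1_81) (Nat.ble 81 b)) (Bool.rec (motive := fun _ => ℕ) (j1_82) (j1_83) (Nat.ble 83 b)) (Nat.ble 82 b)) (Bool.rec (motive := fun _ => ℕ) (Bool.rec (motive := fun _ => ℕ) (j1_84) (j1_85) (Nat.ble 85 b)) (Bool.rec (motive := fun _ => ℕ) (j1_86)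 (j1_87) (Nat.ble 87 b)) (Nat.ble 86 b)) (Nat.ble 84 b)) (Bool.rec (motive := fun _ => ℕ) (Bool.rec (motive := fun _ => ℕ) (Bool.rec (motive := fun _ => ℕ) (j1_88) (j1_89) (Nat.ble 89 b)) (Bool.rec (motive := fun _ => ℕ) (j1_90) (j1_91) (Nat.ble 91 b)) (Nat.ble 90 b)) (Bool.rec (motive := fun _ => ℕ) (Bool.rec (motive := fun _ => ℕ) (j1_92) (j1_93) (Nat.ble 93 b)) (Bool.rec (motive := fun _ => ℕ) (j1_94) (j1_95) (Nat.ble 95 b)) (Nat.ble 94 b)) (Nat.ble 92 b)) (Nat.ble 88 b)) (Nat.ble 80 b)) (Bool.rec (motive := fun _ => ℕ) (Bool.rec (motive := fun _ => ℕ) (Bool.rec (motive := fun _ => ℕ) (Bool.rec (motive := fun _ => ℕ) (Bool.rec (motive := fun _ => ℕ) (j1_96) (j1_97) (Nat.ble 97 b)) (Bool.rec (motive := fun _ => ℕ) (j1_98) (j1_99) (Nat.ble 99 b)) (Nat.ble 98 b)) (Bool.rec (motive := fun _ => ℕ) (Bool.rec (motive := fun _ => ℕ)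 (j1_100) (j1_101) (Nat.ble 101 b)) (Bool.rec (motive := fun _ => ℕ) (j1_102) (j1_103) (Nat.ble 103 b)) (Nat.ble 102 b)) (Nat.ble 100 b)) (Bool.rec (motive := fun _ => ℕ) (Bool.rec (motive := fun _ => ℕ) (Bool.rec (motive := fun _ => ℕ) (j1_104) (j1_105) (Nat.ble 105 b)) (Bool.rec (motive := fun _ => ℕ) (j1_106) (j1_107) (Nat.ble 107 b)) (Nat.ble 106 b)) (Bool.rec (motive := fun _ => ℕ) (Bool.rec (motive := fun _ => ℕ) (j1_108) (j1_109) (Nat.ble 109 b)) (Bool.rec (motive := fun _ => ℕ) (j1_110) (j1_111) (Nat.ble 111 b)) (Nat.ble 110 b)) (Nat.ble 108 b)) (Nat.ble 104 b)) (Bool.rec (motive := fun _ => ℕ) (Bool.rec (motive := fun _ => ℕ) (Bool.rec (motive := fun _ => ℕ) (Bool.rec (motive := fun _ => ℕ) (j1_112) (j1_113) (Nat.ble 113 b)) (Bool.rec (motive := fun _ => ℕ) (j1_114) (j1_115) (Nat.ble 115 b)) (Nat.ble 114 b)) (Bool.rec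 (motive := fun _ => ℕ) (Bool.rec (motive := fun _ => ℕ) (j1_116) (j1_117) (Nat.ble 117 b)) (Bool.rec (motive := fun _ => ℕ) (j1_118) (j1_119) (Nat.ble 119 b)) (Nat.ble 118 b)) (Nat.ble 116 b)) (Bool.rec (motive := fun _ => ℕ) (Bool.rec (motive := fun _ => ℕ) (Bool.rec (motive := fun _ => ℕ) (j1_120) (j1_121) (Nat.ble 121 b)) (Bool.rec (motive := fun _ => ℕ) (j1_122) (j1_123) (Nat.ble 123 b)) (Nat.ble 122 b)) (Bool.rec (motive := fun _ => ℕ) (Bool.rec (motive := fun _ => ℕ) (j1_124) (j1_125) (Nat.ble 125 b)) (Bool.rec (motive := fun _ => ℕ) (j1_126) (j1_127) (Nat.ble 127 b)) (Nat.ble 126 b)) (Nat.ble 124 b)) (Nat.ble 120 b)) (Nat.ble 112 b)) (Nat.ble 96 b)) (Nat.ble 64 b)) (Bool.rec (motive := fun _ => ℕ) (Bool.rec (motive := fun _ => ℕ) (Bool.rec (motive := fun _ => ℕ) (Bool.rec (motive := fun _ => ℕ) (Bool.rec (motive := fun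 _ => ℕ) (Bool.rec (motive := fun _ => ℕ) (Bool.rec (motive := fun _ => ℕ) (j1_128) (j1_129) (Nat.ble 129 b)) (Bool.rec (motive := fun _ => ℕ) (j1_130) (j1_131) (Nat.ble 131 b)) (Nat.ble 130 b)) (Bool.rec (motive := fun _ => ℕ) (Bool.rec (motive := fun _ => ℕ) (j1_132) (j1_133) (Nat.ble 133 b)) (Bool.rec (motive := fun _ => ℕ) (j1_134) (j1_135) (Nat.ble 135 b)) (Nat.ble 134 b)) (Nat.ble 132 b)) (Bool.rec (motive := fun _ => ℕ) (Bool.rec (motive := fun _ => ℕ) (Bool.rec (motive := fun _ => ℕ) (j1_136) (j1_137) (Nat.ble 137 b)) (Bool.rec (motive := fun _ => ℕ) (j1_138) (j1_139) (Nat.ble 139 b)) (Nat.ble 138 b)) (Bool.rec (motive := fun _ => ℕ) (Bool.rec (motive := fun _ => ℕ) (j1_140) (j1_141) (Nat.ble 141 b)) (Bool.rec (motive := fun _ => ℕ) (j1_142) (j1_143) (Nat.ble 143 b)) (Nat.ble 142 b)) (Nat.ble 140 b)) (Nat.ble 136 b)) (Bool.rec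 (motive := fun _ => ℕ) (Bool.rec (motive := fun _ => ℕ) (Bool.rec (motive := fun _ => ℕ) (Bool.rec (motive := fun _ => ℕ) (j1_144) (j1_145) (Nat.ble 145 b)) (Bool.rec (motive := fun _ => ℕ) (j1_146) (j1_147) (Nat.ble 147 b)) (Nat.ble 146 b)) (Bool.rec (motive := fun _ => ℕ) (Bool.rec (motive := fun _ => ℕ) (j1_148) (j1_149) (Nat.ble 149 b)) (Bool.rec (motive := fun _ => ℕ) (j1_150) (j1_151) (Nat.ble 151 b)) (Nat.ble 150 b)) (Nat.ble 148 b)) (Bool.rec (motive := fun _ => ℕ) (Bool.rec (motive := fun _ => ℕ) (Bool.rec (motive := fun _ => ℕ) (j1_152) (j1_153) (Nat.ble 153 b)) (Bool.rec (motive := fun _ => ℕ) (j1_154) (j1_155) (Nat.ble 155 b)) (Nat.ble 154 b)) (Bool.rec (motive := fun _ => ℕ) (Bool.rec (motive := fun _ => ℕ) (j1_156) (j1_157) (Nat.ble 157 b)) (Bool.rec (motive := fun _ => ℕ) (j1_158) (j1_159) (Nat.ble 159 b)) (Nat.ble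 158 b)) (Nat.ble 156 b)) (Nat.ble 152 b)) (Nat.ble 144 b)) (Bool.rec (motive := fun _ => ℕ) (Bool.rec (motive := fun _ => ℕ) (Bool.rec (motive := fun _ => ℕ) (Bool.rec (motive := fun _ => ℕ) (Bool.rec (motive := fun _ => ℕ) (j1_160) (j1_161) (Nat.ble 161 b)) (Bool.rec (motive := fun _ => ℕ) (j1_162) (j1_163) (Nat.ble 163 b)) (Nat.ble 162 b)) (Bool.rec (motive := fun _ => ℕ) (Bool.rec (motive := fun _ => ℕ) (j1_164) (j1_165) (Nat.ble 165 b)) (Bool.rec (motive := fun _ => ℕ) (j1_166) (j1_167) (Nat.ble 167 b)) (Nat.ble 166 b)) (Nat.ble 164 b)) (Bool.rec (motive := fun _ => ℕ) (Bool.rec (motive := fun _ => ℕ) (Bool.rec (motive := fun _ => ℕ) (j1_168) (j1_169) (Nat.ble 169 b)) (Bool.rec (motive := fun _ => ℕ) (j1_170) (j1_171) (Nat.ble 171 b)) (Nat.ble 170 b)) (Bool.rec (motive := fun _ => ℕ) (Bool.rec (motive := fun _ => ℕ) (j1_172)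 (j1_173) (Nat.ble 173 b)) (Bool.rec (motive := fun _ => ℕ) (j1_174) (j1_175) (Nat.ble 175 b)) (Nat.ble 174 b)) (Nat.ble 172 b)) (Nat.ble 168 b)) (Bool.rec (motive := fun _ => ℕ) (Bool.rec (motive := fun _ => ℕ) (Bool.rec (motive := fun _ => ℕ) (Bool.rec (motive := fun _ => ℕ) (j1_176) (j1_177) (Nat.ble 177 b)) (Bool.rec (motive := fun _ => ℕ) (j1_178) (j1_179) (Nat.ble 179 b)) (Nat.ble 178 b)) (Bool.rec (motive := fun _ => ℕ) (Bool.rec (motive := fun _ => ℕ) (j1_180) (j1_181) (Nat.ble 181 b)) (Bool.rec (motive := fun _ => ℕ) (j1_182) (j1_183) (Nat.ble 183 b)) (Nat.ble 182 b)) (Nat.ble 180 b)) (Bool.rec (motive := fun _ => ℕ) (Bool.rec (motive := fun _ => ℕ) (Bool.rec (motive := fun _ => ℕ) (j1_184) (j1_185) (Nat.ble 185 b)) (Bool.rec (motive := fun _ => ℕ) (j1_186) (j1_187) (Nat.ble 187 b)) (Nat.ble 186 b)) (Bool.rec (motive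 := fun _ => ℕ) (Bool.rec (motive := fun _ => ℕ) (j1_188) (j1_189) (Nat.ble 189 b)) (Bool.rec (motive := fun _ => ℕ) (j1_190) (j1_191) (Nat.ble 191 b)) (Nat.ble 190 b)) (Nat.ble 188 b)) (Nat.ble 184 b)) (Nat.ble 176 b)) (Nat.ble 160 b)) (Bool.rec (motive := fun _ => ℕ) (Bool.rec (motive := fun _ => ℕ) (Bool.rec (motive := fun _ => ℕ) (Bool.rec (motive := fun _ => ℕ) (Bool.rec (motive := fun _ => ℕ) (Bool.rec (motive := fun _ => ℕ) (j1_192) (j1_193) (Nat.ble 193 b)) (Bool.rec (motive := fun _ => ℕ) (j1_194) (j1_195) (Nat.ble 195 b)) (Nat.ble 194 b)) (Bool.rec (motive := fun _ => ℕ) (Bool.rec (motive := fun _ => ℕ) (j1_196) (j1_197) (Nat.ble 197 b)) (Bool.rec (motive := fun _ => ℕ) (j1_198) (j1_199) (Nat.ble 199 b)) (Nat.ble 198 b)) (Nat.ble 196 b)) (Bool.rec (motive := fun _ => ℕ) (Bool.rec (motive := fun _ => ℕ) (Bool.rec (motive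 := fun _ => ℕ) (j1_200) (j1_201) (Nat.ble 201 b)) (Bool.rec (motive := fun _ => ℕ) (j1_202) (j1_203) (Nat.ble 203 b)) (Nat.ble 202 b)) (Bool.rec (motive := fun _ => ℕ) (Bool.rec (motive := fun _ => ℕ) (j1_204) (j1_205) (Nat.ble 205 b)) (Bool.rec (motive := fun _ => ℕ) (j1_206) (j1_207) (Nat.ble 207 b)) (Nat.ble 206 b)) (Nat.ble 204 b)) (Nat.ble 200 b)) (Bool.rec (motive := fun _ => ℕ) (Bool.rec (motive := fun _ => ℕ) (Bool.rec (motive := fun _ => ℕ) (Bool.rec (motive := fun _ => ℕ) (j1_208) (j1_209) (Nat.ble 209 b)) (Bool.rec (motive := fun _ => ℕ) (j1_210) (j1_211) (Nat.ble 211 b)) (Nat.ble 210 b)) (Bool.rec (motive := fun _ => ℕ) (Bool.rec (motive := fun _ => ℕ) (j1_212) (j1_213) (Nat.ble 213 b)) (Bool.rec (motive := fun _ => ℕ) (j1_214) (j1_215) (Nat.ble 215 b)) (Nat.ble 214 b)) (Nat.ble 212 b)) (Bool.rec (motive := fun _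 => ℕ) (Bool.rec (motive := fun _ => ℕ) (Bool.rec (motive := fun _ => ℕ) (j1_216) (j1_217) (Nat.ble 217 b)) (Bool.rec (motive := fun _ => ℕ) (j1_218) (j1_219) (Nat.ble 219 b)) (Nat.ble 218 b)) (Bool.rec (motive := fun _ => ℕ) (Bool.rec (motive := fun _ => ℕ) (j1_220) (j1_221) (Nat.ble 221 b)) (Bool.rec (motive := fun _ => ℕ) (j1_222) (j1_223) (Nat.ble 223 b)) (Nat.ble 222 b)) (Nat.ble 220 b)) (Nat.ble 216 b)) (Nat.ble 208 b)) (Bool.rec (motive := fun _ => ℕ) (Bool.rec (motive := fun _ => ℕ) (Bool.rec (motive := fun _ => ℕ) (Bool.rec (motive := fun _ => ℕ) (Bool.rec (motive := fun _ => ℕ) (j1_224) (j1_225) (Nat.ble 225 b)) (Bool.rec (motive := fun _ => ℕ) (j1_226) (j1_227) (Nat.ble 227 b)) (Nat.ble 226 b)) (Bool.rec (motive := fun _ => ℕ) (Bool.rec (motive := fun _ => ℕ) (j1_228) (j1_229) (Nat.ble 229 b)) (Bool.rec (motive := fun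 _ => ℕ) (j1_230) (j1_231) (Nat.ble 231 b)) (Nat.ble 230 b)) (Nat.ble 228 b)) (Bool.rec (motive := fun _ => ℕ) (Bool.rec (motive := fun _ => ℕ) (Bool.rec (motive := fun _ => ℕ) (j1_232) (j1_233) (Nat.ble 233 b)) (Bool.rec (motive := fun _ => ℕ) (j1_234) (j1_235) (Nat.ble 235 b)) (Nat.ble 234 b)) (Bool.rec (motive := fun _ => ℕ) (Bool.rec (motive := fun _ => ℕ) (j1_236) (j1_237) (Nat.ble 237 b)) (Bool.rec (motive := fun _ => ℕ) (j1_238) (j1_239) (Nat.ble 239 b)) (Nat.ble 238 b)) (Nat.ble 236 b)) (Nat.ble 232 b)) (Bool.rec (motive := fun _ => ℕ) (Bool.rec (motive := fun _ => ℕ) (Bool.rec (motive := fun _ => ℕ) (Bool.rec (motive := fun _ => ℕ) (j1_240) (j1_241) (Nat.ble 241 b)) (Bool.rec (motive := fun _ => ℕ) (j1_242) (j1_243) (Nat.ble 243 b)) (Nat.ble 242 b)) (Bool.rec (motive := fun _ => ℕ) (Bool.rec (motive := fun _ => ℕ) (j1_244)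 (j1_245) (Nat.ble 245 b)) (Bool.rec (motive := fun _ => ℕ) (j1_246) (j1_247) (Nat.ble 247 b)) (Nat.ble 246 b)) (Nat.ble 244 b)) (Bool.rec (motive := fun _ => ℕ) (Bool.rec (motive := fun _ => ℕ) (Bool.rec (motive := fun _ => ℕ) (j1_248) (j1_249) (Nat.ble 249 b)) (Bool.rec (motive := fun _ => ℕ) (j1_250) (j1_251) (Nat.ble 251 b)) (Nat.ble 250 b)) (Bool.rec (motive := fun _ => ℕ) (Bool.rec (motive := fun _ => ℕ) (j1_252) (j1_253) (Nat.ble 253 b)) (Bool.rec (motive := fun _ => ℕ) (j1_254) (j1_255) (Nat.ble 255 b)) (Nat.ble 254 b)) (Nat.ble 252 b)) (Nat.ble 248 b)) (Nat.ble 240 b)) (Nat.ble 224 b)) (Nat.ble 192 b)) (Nat.ble 128 b)) (Bool.rec (motive := fun _ => ℕ) (Bool.rec (motive := fun _ => ℕ) (Bool.rec (motive := fun _ => ℕ) (Bool.rec (motive := fun _ => ℕ) (Bool.rec (motive := fun _ => ℕ) (Bool.rec (motive := fun _ => ℕ) (Bool.rec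 (motive := fun _ => ℕ) (Bool.rec (motive := fun _ => ℕ) (j1_256) (j1_257) (Nat.ble 257 b)) (Bool.rec (motive := fun _ => ℕ) (j1_258) (j1_259) (Nat.ble 259 b)) (Nat.ble 258 b)) (Bool.rec (motive := fun _ => ℕ) (Bool.rec (motive := fun _ => ℕ) (j1_260) (j1_261) (Nat.ble 261 b)) (Bool.rec (motive := fun _ => ℕ) (j1_262) (j1_263) (Nat.ble 263 b)) (Nat.ble 262 b)) (Nat.ble 260 b)) (Bool.rec (motive := fun _ => ℕ) (Bool.rec (motive := fun _ => ℕ) (Bool.rec (motive := fun _ => ℕ) (j1_264) (j1_265) (Nat.ble 265 b)) (Bool.rec (motive := fun _ => ℕ) (j1_266) (0) (Nat.ble 267 b)) (Nat.ble 266 b)) (0) (Nat.ble 268 b)) (Nat.ble 264 b)) (0) (Nat.ble 272 b)) (0) (Nat.ble 288 b)) (0) (Nat.ble 320 b)) (0) (Nat.ble 384 b)) (Nat.ble 256 b))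
noncomputable def ecol2 (b : ℕ) : ℕ := (Bool.rec (motive := fun _ => ℕ) (Bool.rec (motive := fun _ => ℕ) (Bool.rec (motive := fun _ => ℕ) (Bool.rec (motive := fun _ => ℕ) (Bool.rec (motive := fun _ => ℕ) (Bool.rec (motive := fun _ => ℕ) (Bool.rec (motive := fun _ => ℕ) (Bool.rec (motive := fun _ => ℕ) (Bool.rec (motive := fun _ => ℕ) (e2_0) (e2_1) (Nat.ble 1 b)) (Bool.rec (motive := fun _ => ℕ) (e2_2) (e2_3) (Nat.ble 3 b)) (Nat.ble 2 b)) (Bool.rec (motive := fun _ => ℕ) (Bool.rec (motive := fun _ => ℕ) (e2_4) (e2_5) (Nat.ble 5 b)) (Bool.rec (motive := fun _ => ℕ) (e2_6) (e2_7) (Nat.ble 7 b)) (Nat.ble 6 b)) (Nat.ble 4 b)) (Bool.rec (motive := fun _ => ℕ) (Bool.rec (motive := fun _ => ℕ) (Bool.rec (motive := fun _ => ℕ) (e2_8) (e2_9) (Nat.ble 9 b)) (Bool.rec (motive := fun _ => ℕ) (e2_10) (e2_11) (Nat.ble 11 b)) (Nat.ble 10 b))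 (Bool.rec (motive := fun _ => ℕ) (Bool.rec (motive := fun _ => ℕ) (e2_12) (e2_13) (Nat.ble 13 b)) (Bool.rec (motive := fun _ => ℕ) (e2_14) (e2_15) (Nat.ble 15 b)) (Nat.ble 14 b)) (Nat.ble 12 b)) (Nat.ble 8 b)) (Bool.rec (motive := fun _ => ℕ) (Bool.rec (motive := fun _ => ℕ) (Bool.rec (motive := fun _ => ℕ) (Bool.rec (motive := fun _ => ℕ) (e2_16) (e2_17) (Nat.ble 17 b)) (Bool.rec (motive := fun _ => ℕ) (e2_18) (e2_19) (Nat.ble 19 b)) (Nat.ble 18 b)) (Bool.rec (motive := fun _ => ℕ) (Bool.rec (motive := fun _ => ℕ) (e2_20) (e2_21) (Nat.ble 21 b)) (Bool.rec (motive := fun _ => ℕ) (e2_22) (e2_23) (Nat.ble 23 b)) (Nat.ble 22 b)) (Nat.ble 20 b)) (Bool.rec (motive := fun _ => ℕ) (Bool.rec (motive := fun _ => ℕ) (Bool.rec (motive := fun _ => ℕ) (e2_24) (e2_25) (Nat.ble 25 b)) (Bool.rec (motive := fun _ => ℕ) (e2_26) (e2_27) (Nat.ble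 27 b)) (Nat.ble 26 b)) (Bool.rec (motive := fun _ => ℕ) (Bool.rec (motive := fun _ => ℕ) (e2_28) (e2_29) (Nat.ble 29 b)) (Bool.rec (motive := fun _ => ℕ) (e2_30) (e2_31) (Nat.ble 31 b)) (Nat.ble 30 b)) (Nat.ble 28 b)) (Nat.ble 24 b)) (Nat.ble 16 b)) (Bool.rec (motive := fun _ => ℕ) (Bool.rec (motive := fun _ => ℕ) (Bool.rec (motive := fun _ => ℕ) (Bool.rec (motive := fun _ => ℕ) (Bool.rec (motive := fun _ => ℕ) (e2_32) (e2_33) (Nat.ble 33 b)) (Bool.rec (motive := fun _ => ℕ) (e2_34) (e2_35) (Nat.ble 35 b)) (Nat.ble 34 b)) (Bool.rec (motive := fun _ => ℕ) (Bool.rec (motive := fun _ => ℕ) (e2_36) (e2_37) (Nat.ble 37 b)) (Bool.rec (motive := fun _ => ℕ) (e2_38) (e2_39) (Nat.ble 39 b)) (Nat.ble 38 b)) (Nat.ble 36 b)) (Bool.rec (motive := fun _ => ℕ) (Bool.rec (motive := fun _ => ℕ) (Bool.rec (motive := fun _ => ℕ) (e2_40) (e2_41)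 (Nat.ble 41 b)) (Bool.rec (motive := fun _ => ℕ) (e2_42) (e2_43) (Nat.ble 43 b)) (Nat.ble 42 b)) (Bool.rec (motive := fun _ => ℕ) (Bool.rec (motive := fun _ => ℕ) (e2_44) (e2_45) (Nat.ble 45 b)) (Bool.rec (motive := fun _ => ℕ) (e2_46) (e2_47) (Nat.ble 47 b)) (Nat.ble 46 b)) (Nat.ble 44 b)) (Nat.ble 40 b)) (Bool.rec (motive := fun _ => ℕ) (Bool.rec (motive := fun _ => ℕ) (Bool.rec (motive := fun _ => ℕ) (Bool.rec (motive := fun _ => ℕ) (e2_48) (e2_49) (Nat.ble 49 b)) (Bool.rec (motive := fun _ => ℕ) (e2_50) (e2_51) (Nat.ble 51 b)) (Nat.ble 50 b)) (Bool.rec (motive := fun _ => ℕ) (Bool.rec (motive := fun _ => ℕ) (e2_52) (e2_53) (Nat.ble 53 b)) (Bool.rec (motive := fun _ => ℕ) (e2_54) (e2_55) (Nat.ble 55 b)) (Nat.ble 54 b)) (Nat.ble 52 b)) (Bool.rec (motive := fun _ => ℕ) (Bool.rec (motive := fun _ => ℕ) (Bool.rec (motive := fun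 _ => ℕ) (e2_56) (e2_57) (Nat.ble 57 b)) (Bool.rec (motive := fun _ => ℕ) (e2_58) (e2_59) (Nat.ble 59 b)) (Nat.ble 58 b)) (Bool.rec (motive := fun _ => ℕ) (Bool.rec (motive := fun _ => ℕ) (e2_60) (e2_61) (Nat.ble 61 b)) (Bool.rec (motive := fun _ => ℕ) (e2_62) (e2_63) (Nat.ble 63 b)) (Nat.ble 62 b)) (Nat.ble 60 b)) (Nat.ble 56 b)) (Nat.ble 48 b)) (Nat.ble 32 b)) (Bool.rec (motive := fun _ => ℕ) (Bool.rec (motive := fun _ => ℕ) (Bool.rec (motive := fun _ => ℕ) (Bool.rec (motive := fun _ => ℕ) (Bool.rec (motive := fun _ => ℕ) (Bool.rec (motive := fun _ => ℕ) (e2_64) (e2_65) (Nat.ble 65 b)) (Bool.rec (motive := fun _ => ℕ) (e2_66) (e2_67) (Nat.ble 67 b)) (Nat.ble 66 b)) (Bool.rec (motive := fun _ => ℕ) (Bool.rec (motive := fun _ => ℕ) (e2_68) (e2_69) (Nat.ble 69 b)) (Bool.rec (motive := fun _ => ℕ) (e2_70) (e2_71) (Nat.ble 71 b))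 (Nat.ble 70 b)) (Nat.ble 68 b)) (Bool.rec (motive := fun _ => ℕ) (Bool.rec (motive := fun _ => ℕ) (Bool.rec (motive := fun _ => ℕ) (e2_72) (e2_73) (Nat.ble 73 b)) (Bool.rec (motive := fun _ => ℕ) (e2_74) (e2_75) (Nat.ble 75 b)) (Nat.ble 74 b)) (Bool.rec (motive := fun _ => ℕ) (Bool.rec (motive := fun _ => ℕ) (e2_76) (e2_77) (Nat.ble 77 b)) (Bool.rec (motive := fun _ => ℕ) (e2_78) (e2_79) (Nat.ble 79 b)) (Nat.ble 78 b)) (Nat.ble 76 b)) (Nat.ble 72 b)) (Bool.rec (motive := fun _ => ℕ) (Bool.rec (motive := fun _ => ℕ) (Bool.rec (motive := fun _ => ℕ) (Bool.rec (motive := fun _ => ℕ) (e2_80) (e2_81) (Nat.ble 81 b)) (Bool.rec (motive := fun _ => ℕ) (e2_82) (e2_83) (Nat.ble 83 b)) (Nat.ble 82 b)) (Bool.rec (motive := fun _ => ℕ) (Bool.rec (motive := fun _ => ℕ) (e2_84) (e2_85) (Nat.ble 85 b)) (Bool.rec (motive := fun _ => ℕ) (e2_86)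 (e2_87) (Nat.ble 87 b)) (Nat.ble 86 b)) (Nat.ble 84 b)) (Bool.rec (motive := fun _ => ℕ) (Bool.rec (motive := fun _ => ℕ) (Bool.rec (motive := fun _ => ℕ) (e2_88) (e2_89) (Nat.ble 89 b)) (Bool.rec (motive := fun _ => ℕ) (e2_90) (e2_91) (Nat.ble 91 b)) (Nat.ble 90 b)) (Bool.rec (motive := fun _ => ℕ) (Bool.rec (motive := fun _ => ℕ) (e2_92) (e2_93) (Nat.ble 93 b)) (Bool.rec (motive := fun _ => ℕ) (e2_94) (e2_95) (Nat.ble 95 b)) (Nat.ble 94 b)) (Nat.ble 92 b)) (Nat.ble 88 b)) (Nat.ble 80 b)) (Bool.rec (motive := fun _ => ℕ) (Bool.rec (motive := fun _ => ℕ) (Bool.rec (motive := fun _ => ℕ) (Bool.rec (motive := fun _ => ℕ) (Bool.rec (motive := fun _ => ℕ) (e2_96) (e2_97) (Nat.ble 97 b)) (Bool.rec (motive := fun _ => ℕ) (e2_98) (e2_99) (Nat.ble 99 b)) (Nat.ble 98 b)) (Bool.rec (motive := fun _ => ℕ) (Bool.rec (motive := fun _ => ℕ)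 (e2_100) (e2_101) (Nat.ble 101 b)) (Bool.rec (motive := fun _ => ℕ) (e2_102) (e2_103) (Nat.ble 103 b)) (Nat.ble 102 b)) (Nat.ble 100 b)) (Bool.rec (motive := fun _ => ℕ) (Bool.rec (motive := fun _ => ℕ) (Bool.rec (motive := fun _ => ℕ) (e2_104) (e2_105) (Nat.ble 105 b)) (Bool.rec (motive := fun _ => ℕ) (e2_106) (e2_107) (Nat.ble 107 b)) (Nat.ble 106 b)) (Bool.rec (motive := fun _ => ℕ) (Bool.rec (motive := fun _ => ℕ) (e2_108) (e2_109) (Nat.ble 109 b)) (Bool.rec (motive := fun _ => ℕ) (e2_110) (e2_111) (Nat.ble 111 b)) (Nat.ble 110 b)) (Nat.ble 108 b)) (Nat.ble 104 b)) (Bool.rec (motive := fun _ => ℕ) (Bool.rec (motive := fun _ => ℕ) (Bool.rec (motive := fun _ => ℕ) (Bool.rec (motive := fun _ => ℕ) (e2_112) (e2_113) (Nat.ble 113 b)) (Bool.rec (motive := fun _ => ℕ) (e2_114) (e2_115) (Nat.ble 115 b)) (Nat.ble 114 b)) (Bool.rec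 (motive := fun _ => ℕ) (Bool.rec (motive := fun _ => ℕ) (e2_116) (e2_117) (Nat.ble 117 b)) (Bool.rec (motive := fun _ => ℕ) (e2_118) (e2_119) (Nat.ble 119 b)) (Nat.ble 118 b)) (Nat.ble 116 b)) (Bool.rec (motive := fun _ => ℕ) (Bool.rec (motive := fun _ => ℕ) (Bool.rec (motive := fun _ => ℕ) (e2_120) (e2_121) (Nat.ble 121 b)) (Bool.rec (motive := fun _ => ℕ) (e2_122) (e2_123) (Nat.ble 123 b)) (Nat.ble 122 b)) (Bool.rec (motive := fun _ => ℕ) (Bool.rec (motive := fun _ => ℕ) (e2_124) (e2_125) (Nat.ble 125 b)) (Bool.rec (motive := fun _ => ℕ) (e2_126) (e2_127) (Nat.ble 127 b)) (Nat.ble 126 b)) (Nat.ble 124 b)) (Nat.ble 120 b)) (Nat.ble 112 b)) (Nat.ble 96 b)) (Nat.ble 64 b)) (Bool.rec (motive := fun _ => ℕ) (Bool.rec (motive := fun _ => ℕ) (Bool.rec (motive := fun _ => ℕ) (Bool.rec (motive := fun _ => ℕ) (Bool.rec (motive := fun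 _ => ℕ) (Bool.rec (motive := fun _ => ℕ) (Bool.rec (motive := fun _ => ℕ) (e2_128) (e2_129) (Nat.ble 129 b)) (Bool.rec (motive := fun _ => ℕ) (e2_130) (e2_131) (Nat.ble 131 b)) (Nat.ble 130 b)) (Bool.rec (motive := fun _ => ℕ) (Bool.rec (motive := fun _ => ℕ) (e2_132) (e2_133) (Nat.ble 133 b)) (Bool.rec (motive := fun _ => ℕ) (e2_134) (e2_135) (Nat.ble 135 b)) (Nat.ble 134 b)) (Nat.ble 132 b)) (Bool.rec (motive := fun _ => ℕ) (Bool.rec (motive := fun _ => ℕ) (Bool.rec (motive := fun _ => ℕ) (e2_136) (e2_137) (Nat.ble 137 b)) (Bool.rec (motive := fun _ => ℕ) (e2_138) (e2_139) (Nat.ble 139 b)) (Nat.ble 138 b)) (Bool.rec (motive := fun _ => ℕ) (Bool.rec (motive := fun _ => ℕ) (e2_140) (e2_141) (Nat.ble 141 b)) (Bool.rec (motive := fun _ => ℕ) (e2_142) (e2_143) (Nat.ble 143 b)) (Nat.ble 142 b)) (Nat.ble 140 b)) (Nat.ble 136 b)) (Bool.rec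 (motive := fun _ => ℕ) (Bool.rec (motive := fun _ => ℕ) (Bool.rec (motive := fun _ => ℕ) (Bool.rec (motive := fun _ => ℕ) (e2_144) (e2_145) (Nat.ble 145 b)) (Bool.rec (motive := fun _ => ℕ) (e2_146) (e2_147) (Nat.ble 147 b)) (Nat.ble 146 b)) (Bool.rec (motive := fun _ => ℕ) (Bool.rec (motive := fun _ => ℕ) (e2_148) (e2_149) (Nat.ble 149 b)) (Bool.rec (motive := fun _ => ℕ) (e2_150) (e2_151) (Nat.ble 151 b)) (Nat.ble 150 b)) (Nat.ble 148 b)) (Bool.rec (motive := fun _ => ℕ) (Bool.rec (motive := fun _ => ℕ) (Bool.rec (motive := fun _ => ℕ) (e2_152) (e2_153) (Nat.ble 153 b)) (Bool.rec (motive := fun _ => ℕ) (e2_154) (e2_155) (Nat.ble 155 b)) (Nat.ble 154 b)) (Bool.rec (motive := fun _ => ℕ) (Bool.rec (motive := fun _ => ℕ) (e2_156) (e2_157) (Nat.ble 157 b)) (Bool.rec (motive := fun _ => ℕ) (e2_158) (e2_159) (Nat.ble 159 b)) (Nat.ble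 158 b)) (Nat.ble 156 b)) (Nat.ble 152 b)) (Nat.ble 144 b)) (Bool.rec (motive := fun _ => ℕ) (Bool.rec (motive := fun _ => ℕ) (Bool.rec (motive := fun _ => ℕ) (Bool.rec (motive := fun _ => ℕ) (Bool.rec (motive := fun _ => ℕ) (e2_160) (e2_161) (Nat.ble 161 b)) (Bool.rec (motive := fun _ => ℕ) (e2_162) (e2_163) (Nat.ble 163 b)) (Nat.ble 162 b)) (Bool.rec (motive := fun _ => ℕ) (Bool.rec (motive := fun _ => ℕ) (e2_164) (e2_165) (Nat.ble 165 b)) (Bool.rec (motive := fun _ => ℕ) (e2_166) (e2_167) (Nat.ble 167 b)) (Nat.ble 166 b)) (Nat.ble 164 b)) (Bool.rec (motive := fun _ => ℕ) (Bool.rec (motive := fun _ => ℕ) (Bool.rec (motive := fun _ => ℕ) (e2_168) (e2_169) (Nat.ble 169 b)) (Bool.rec (motive := fun _ => ℕ) (e2_170) (e2_171) (Nat.ble 171 b)) (Nat.ble 170 b)) (Bool.rec (motive := fun _ => ℕ) (Bool.rec (motive := fun _ => ℕ) (e2_172)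 (e2_173) (Nat.ble 173 b)) (Bool.rec (motive := fun _ => ℕ) (e2_174) (e2_175) (Nat.ble 175 b)) (Nat.ble 174 b)) (Nat.ble 172 b)) (Nat.ble 168 b)) (Bool.rec (motive := fun _ => ℕ) (Bool.rec (motive := fun _ => ℕ) (Bool.rec (motive := fun _ => ℕ) (Bool.rec (motive := fun _ => ℕ) (e2_176) (e2_177) (Nat.ble 177 b)) (Bool.rec (motive := fun _ => ℕ) (e2_178) (e2_179) (Nat.ble 179 b)) (Nat.ble 178 b)) (Bool.rec (motive := fun _ => ℕ) (Bool.rec (motive := fun _ => ℕ) (e2_180) (e2_181) (Nat.ble 181 b)) (Bool.rec (motive := fun _ => ℕ) (e2_182) (e2_183) (Nat.ble 183 b)) (Nat.ble 182 b)) (Nat.ble 180 b)) (Bool.rec (motive := fun _ => ℕ) (Bool.rec (motive := fun _ => ℕ) (Bool.rec (motive := fun _ => ℕ) (e2_184) (e2_185) (Nat.ble 185 b)) (Bool.rec (motive := fun _ => ℕ) (e2_186) (e2_187) (Nat.ble 187 b)) (Nat.ble 186 b)) (Bool.rec (motive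 := fun _ => ℕ) (Bool.rec (motive := fun _ => ℕ) (e2_188) (e2_189) (Nat.ble 189 b)) (Bool.rec (motive := fun _ => ℕ) (e2_190) (e2_191) (Nat.ble 191 b)) (Nat.ble 190 b)) (Nat.ble 188 b)) (Nat.ble 184 b)) (Nat.ble 176 b)) (Nat.ble 160 b)) (Bool.rec (motive := fun _ => ℕ) (Bool.rec (motive := fun _ => ℕ) (Bool.rec (motive := fun _ => ℕ) (Bool.rec (motive := fun _ => ℕ) (Bool.rec (motive := fun _ => ℕ) (Bool.rec (motive := fun _ => ℕ) (e2_192) (e2_193) (Nat.ble 193 b)) (Bool.rec (motive := fun _ => ℕ) (e2_194) (e2_195) (Nat.ble 195 b)) (Nat.ble 194 b)) (Bool.rec (motive := fun _ => ℕ) (Bool.rec (motive := fun _ => ℕ) (e2_196) (e2_197) (Nat.ble 197 b)) (Bool.rec (motive := fun _ => ℕ) (e2_198) (e2_199) (Nat.ble 199 b)) (Nat.ble 198 b)) (Nat.ble 196 b)) (Bool.rec (motive := fun _ => ℕ) (Bool.rec (motive := fun _ => ℕ) (Bool.rec (motive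 := fun _ => ℕ) (e2_200) (e2_201) (Nat.ble 201 b)) (Bool.rec (motive := fun _ => ℕ) (e2_202) (e2_203) (Nat.ble 203 b)) (Nat.ble 202 b)) (Bool.rec (motive := fun _ => ℕ) (Bool.rec (motive := fun _ => ℕ) (e2_204) (e2_205) (Nat.ble 205 b)) (Bool.rec (motive := fun _ => ℕ) (e2_206) (e2_207) (Nat.ble 207 b)) (Nat.ble 206 b)) (Nat.ble 204 b)) (Nat.ble 200 b)) (Bool.rec (motive := fun _ => ℕ) (Bool.rec (motive := fun _ => ℕ) (Bool.rec (motive := fun _ => ℕ) (Bool.rec (motive := fun _ => ℕ) (e2_208) (e2_209) (Nat.ble 209 b)) (Bool.rec (motive := fun _ => ℕ) (e2_210) (e2_211) (Nat.ble 211 b)) (Nat.ble 210 b)) (Bool.rec (motive := fun _ => ℕ) (Bool.rec (motive := fun _ => ℕ) (e2_212) (e2_213) (Nat.ble 213 b)) (Bool.rec (motive := fun _ => ℕ) (e2_214) (e2_215) (Nat.ble 215 b)) (Nat.ble 214 b)) (Nat.ble 212 b)) (Bool.rec (motive := fun _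 => ℕ) (Bool.rec (motive := fun _ => ℕ) (Bool.rec (motive := fun _ => ℕ) (e2_216) (e2_217) (Nat.ble 217 b)) (Bool.rec (motive := fun _ => ℕ) (e2_218) (e2_219) (Nat.ble 219 b)) (Nat.ble 218 b)) (Bool.rec (motive := fun _ => ℕ) (Bool.rec (motive := fun _ => ℕ) (e2_220) (e2_221) (Nat.ble 221 b)) (Bool.rec (motive := fun _ => ℕ) (e2_222) (e2_223) (Nat.ble 223 b)) (Nat.ble 222 b)) (Nat.ble 220 b)) (Nat.ble 216 b)) (Nat.ble 208 b)) (Bool.rec (motive := fun _ => ℕ) (Bool.rec (motive := fun _ => ℕ) (Bool.rec (motive := fun _ => ℕ) (Bool.rec (motive := fun _ => ℕ) (Bool.rec (motive := fun _ => ℕ) (e2_224) (e2_225) (Nat.ble 225 b)) (Bool.rec (motive := fun _ => ℕ) (e2_226) (e2_227) (Nat.ble 227 b)) (Nat.ble 226 b)) (Bool.rec (motive := fun _ => ℕ) (Bool.rec (motive := fun _ => ℕ) (e2_228) (e2_229) (Nat.ble 229 b)) (Bool.rec (motive := fun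 _ => ℕ) (e2_230) (e2_231) (Nat.ble 231 b)) (Nat.ble 230 b)) (Nat.ble 228 b)) (Bool.rec (motive := fun _ => ℕ) (Bool.rec (motive := fun _ => ℕ) (Bool.rec (motive := fun _ => ℕ) (e2_232) (e2_233) (Nat.ble 233 b)) (Bool.rec (motive := fun _ => ℕ) (e2_234) (e2_235) (Nat.ble 235 b)) (Nat.ble 234 b)) (Bool.rec (motive := fun _ => ℕ) (Bool.rec (motive := fun _ => ℕ) (e2_236) (e2_237) (Nat.ble 237 b)) (Bool.rec (motive := fun _ => ℕ) (e2_238) (e2_239) (Nat.ble 239 b)) (Nat.ble 238 b)) (Nat.ble 236 b)) (Nat.ble 232 b)) (Bool.rec (motive := fun _ => ℕ) (Bool.rec (motive := fun _ => ℕ) (Bool.rec (motive := fun _ => ℕ) (Bool.rec (motive := fun _ => ℕ) (e2_240) (e2_241) (Nat.ble 241 b)) (Bool.rec (motive := fun _ => ℕ) (e2_242) (e2_243) (Nat.ble 243 b)) (Nat.ble 242 b)) (Bool.rec (motive := fun _ => ℕ) (Bool.rec (motive := fun _ => ℕ) (e2_244)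 (e2_245) (Nat.ble 245 b)) (Bool.rec (motive := fun _ => ℕ) (e2_246) (e2_247) (Nat.ble 247 b)) (Nat.ble 246 b)) (Nat.ble 244 b)) (Bool.rec (motive := fun _ => ℕ) (Bool.rec (motive := fun _ => ℕ) (Bool.rec (motive := fun _ => ℕ) (e2_248) (e2_249) (Nat.ble 249 b)) (Bool.rec (motive := fun _ => ℕ) (e2_250) (e2_251) (Nat.ble 251 b)) (Nat.ble 250 b)) (Bool.rec (motive := fun _ => ℕ) (Bool.rec (motive := fun _ => ℕ) (e2_252) (e2_253) (Nat.ble 253 b)) (Bool.rec (motive := fun _ => ℕ) (e2_254) (e2_255) (Nat.ble 255 b)) (Nat.ble 254 b)) (Nat.ble 252 b)) (Nat.ble 248 b)) (Nat.ble 240 b)) (Nat.ble 224 b)) (Nat.ble 192 b)) (Nat.ble 128 b)) (Bool.rec (motive := fun _ => ℕ) (Bool.rec (motive := fun _ => ℕ) (Bool.rec (motive := fun _ => ℕ) (Bool.rec (motive := fun _ => ℕ) (Bool.rec (motive := fun _ => ℕ) (Bool.rec (motive := fun _ => ℕ) (Bool.rec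 (motive := fun _ => ℕ) (Bool.rec (motive := fun _ => ℕ) (e2_256) (e2_257) (Nat.ble 257 b)) (Bool.rec (motive := fun _ => ℕ) (e2_258) (e2_259) (Nat.ble 259 b)) (Nat.ble 258 b)) (Bool.rec (motive := fun _ => ℕ) (Bool.rec (motive := fun _ => ℕ) (e2_260) (e2_261) (Nat.ble 261 b)) (Bool.rec (motive := fun _ => ℕ) (e2_262) (e2_263) (Nat.ble 263 b)) (Nat.ble 262 b)) (Nat.ble 260 b)) (Bool.rec (motive := fun _ => ℕ) (Bool.rec (motive := fun _ => ℕ) (Bool.rec (motive := fun _ => ℕ) (e2_264) (e2_265) (Nat.ble 265 b)) (Bool.rec (motive := fun _ => ℕ) (e2_266) (0) (Nat.ble 267 b)) (Nat.ble 266 b)) (0) (Nat.ble 268 b)) (Nat.ble 264 b)) (0) (Nat.ble 272 b)) (0) (Nat.ble 288 b)) (0) (Nat.ble 320 b)) (0) (Nat.ble 384 b)) (Nat.ble 256 b))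
noncomputable def jcol2 (b : ℕ) : ℕ := (Bool.rec (motive := fun _ => ℕ) (Bool.rec (motive := fun _ => ℕ) (Bool.rec (motive := fun _ => ℕ) (Bool.rec (motive := fun _ => ℕ) (Bool.rec (motive := fun _ => ℕ) (Bool.rec (motive := fun _ => ℕ) (Bool.rec (motive := fun _ => ℕ) (Bool.rec (motive := fun _ => ℕ) (Bool.rec (motive := fun _ => ℕ) (j2_0) (j2_1) (Nat.ble 1 b)) (Bool.rec (motive := fun _ => ℕ) (j2_2) (j2_3) (Nat.ble 3 b)) (Nat.ble 2 b)) (Bool.rec (motive := fun _ => ℕ) (Bool.rec (motive := fun _ => ℕ) (j2_4) (j2_5) (Nat.ble 5 b)) (Bool.rec (motive := fun _ => ℕ) (j2_6) (j2_7) (Nat.ble 7 b)) (Nat.ble 6 b)) (Nat.ble 4 b)) (Bool.rec (motive := fun _ => ℕ) (Bool.rec (motive := fun _ => ℕ) (Bool.rec (motive := fun _ => ℕ) (j2_8) (j2_9) (Nat.ble 9 b)) (Bool.rec (motive := fun _ => ℕ) (j2_10) (j2_11) (Nat.ble 11 b)) (Nat.ble 10 b))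 (Bool.rec (motive := fun _ => ℕ) (Bool.rec (motive := fun _ => ℕ) (j2_12) (j2_13) (Nat.ble 13 b)) (Bool.rec (motive := fun _ => ℕ) (j2_14) (j2_15) (Nat.ble 15 b)) (Nat.ble 14 b)) (Nat.ble 12 b)) (Nat.ble 8 b)) (Bool.rec (motive := fun _ => ℕ) (Bool.rec (motive := fun _ => ℕ) (Bool.rec (motive := fun _ => ℕ) (Bool.rec (motive := fun _ => ℕ) (j2_16) (j2_17) (Nat.ble 17 b)) (Bool.rec (motive := fun _ => ℕ) (j2_18) (j2_19) (Nat.ble 19 b)) (Nat.ble 18 b)) (Bool.rec (motive := fun _ => ℕ) (Bool.rec (motive := fun _ => ℕ) (j2_20) (j2_21) (Nat.ble 21 b)) (Bool.rec (motive := fun _ => ℕ) (j2_22) (j2_23) (Nat.ble 23 b)) (Nat.ble 22 b)) (Nat.ble 20 b)) (Bool.rec (motive := fun _ => ℕ) (Bool.rec (motive := fun _ => ℕ) (Bool.rec (motive := fun _ => ℕ) (j2_24) (j2_25) (Nat.ble 25 b)) (Bool.rec (motive := fun _ => ℕ) (j2_26) (j2_27) (Nat.ble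 27 b)) (Nat.ble 26 b)) (Bool.rec (motive := fun _ => ℕ) (Bool.rec (motive := fun _ => ℕ) (j2_28) (j2_29) (Nat.ble 29 b)) (Bool.rec (motive := fun _ => ℕ) (j2_30) (j2_31) (Nat.ble 31 b)) (Nat.ble 30 b)) (Nat.ble 28 b)) (Nat.ble 24 b)) (Nat.ble 16 b)) (Bool.rec (motive := fun _ => ℕ) (Bool.rec (motive := fun _ => ℕ) (Bool.rec (motive := fun _ => ℕ) (Bool.rec (motive := fun _ => ℕ) (Bool.rec (motive := fun _ => ℕ) (j2_32) (j2_33) (Nat.ble 33 b)) (Bool.rec (motive := fun _ => ℕ) (j2_34) (j2_35) (Nat.ble 35 b)) (Nat.ble 34 b)) (Bool.rec (motive := fun _ => ℕ) (Bool.rec (motive := fun _ => ℕ) (j2_36) (j2_37) (Nat.ble 37 b)) (Bool.rec (motive := fun _ => ℕ) (j2_38) (j2_39) (Nat.ble 39 b)) (Nat.ble 38 b)) (Nat.ble 36 b)) (Bool.rec (motive := fun _ => ℕ) (Bool.rec (motive := fun _ => ℕ) (Bool.rec (motive := fun _ => ℕ) (j2_40) (j2_41)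 (Nat.ble 41 b)) (Bool.rec (motive := fun _ => ℕ) (j2_42) (j2_43) (Nat.ble 43 b)) (Nat.ble 42 b)) (Bool.rec (motive := fun _ => ℕ) (Bool.rec (motive := fun _ => ℕ) (j2_44) (j2_45) (Nat.ble 45 b)) (Bool.rec (motive := fun _ => ℕ) (j2_46) (j2_47) (Nat.ble 47 b)) (Nat.ble 46 b)) (Nat.ble 44 b)) (Nat.ble 40 b)) (Bool.rec (motive := fun _ => ℕ) (Bool.rec (motive := fun _ => ℕ) (Bool.rec (motive := fun _ => ℕ) (Bool.rec (motive := fun _ => ℕ) (j2_48) (j2_49) (Nat.ble 49 b)) (Bool.rec (motive := fun _ => ℕ) (j2_50) (j2_51) (Nat.ble 51 b)) (Nat.ble 50 b)) (Bool.rec (motive := fun _ => ℕ) (Bool.rec (motive := fun _ => ℕ) (j2_52) (j2_53) (Nat.ble 53 b)) (Bool.rec (motive := fun _ => ℕ) (j2_54) (j2_55) (Nat.ble 55 b)) (Nat.ble 54 b)) (Nat.ble 52 b)) (Bool.rec (motive := fun _ => ℕ) (Bool.rec (motive := fun _ => ℕ) (Bool.rec (motive := fun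 _ => ℕ) (j2_56) (j2_57) (Nat.ble 57 b)) (Bool.rec (motive := fun _ => ℕ) (j2_58) (j2_59) (Nat.ble 59 b)) (Nat.ble 58 b)) (Bool.rec (motive := fun _ => ℕ) (Bool.rec (motive := fun _ => ℕ) (j2_60) (j2_61) (Nat.ble 61 b)) (Bool.rec (motive := fun _ => ℕ) (j2_62) (j2_63) (Nat.ble 63 b)) (Nat.ble 62 b)) (Nat.ble 60 b)) (Nat.ble 56 b)) (Nat.ble 48 b)) (Nat.ble 32 b)) (Bool.rec (motive := fun _ => ℕ) (Bool.rec (motive := fun _ => ℕ) (Bool.rec (motive := fun _ => ℕ) (Bool.rec (motive := fun _ => ℕ) (Bool.rec (motive := fun _ => ℕ) (Bool.rec (motive := fun _ => ℕ) (j2_64) (j2_65) (Nat.ble 65 b)) (Bool.rec (motive := fun _ => ℕ) (j2_66) (j2_67) (Nat.ble 67 b)) (Nat.ble 66 b)) (Bool.rec (motive := fun _ => ℕ) (Bool.rec (motive := fun _ => ℕ) (j2_68) (j2_69) (Nat.ble 69 b)) (Bool.rec (motive := fun _ => ℕ) (j2_70) (j2_71) (Nat.ble 71 b))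 (Nat.ble 70 b)) (Nat.ble 68 b)) (Bool.rec (motive := fun _ => ℕ) (Bool.rec (motive := fun _ => ℕ) (Bool.rec (motive := fun _ => ℕ) (j2_72) (j2_73) (Nat.ble 73 b)) (Bool.rec (motive := fun _ => ℕ) (j2_74) (j2_75) (Nat.ble 75 b)) (Nat.ble 74 b)) (Bool.rec (motive := fun _ => ℕ) (Bool.rec (motive := fun _ => ℕ) (j2_76) (j2_77) (Nat.ble 77 b)) (Bool.rec (motive := fun _ => ℕ) (j2_78) (j2_79) (Nat.ble 79 b)) (Nat.ble 78 b)) (Nat.ble 76 b)) (Nat.ble 72 b)) (Bool.rec (motive := fun _ => ℕ) (Bool.rec (motive := fun _ => ℕ) (Bool.rec (motive := fun _ => ℕ) (Bool.rec (motive := fun _ => ℕ) (j2_80) (j2_81) (Nat.ble 81 b)) (Bool.rec (motive := fun _ => ℕ) (j2_82) (j2_83) (Nat.ble 83 b)) (Nat.ble 82 b)) (Bool.rec (motive := fun _ => ℕ) (Bool.rec (motive := fun _ => ℕ) (j2_84) (j2_85) (Nat.ble 85 b)) (Bool.rec (motive := fun _ => ℕ) (j2_86)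 (j2_87) (Nat.ble 87 b)) (Nat.ble 86 b)) (Nat.ble 84 b)) (Bool.rec (motive := fun _ => ℕ) (Bool.rec (motive := fun _ => ℕ) (Bool.rec (motive := fun _ => ℕ) (j2_88) (j2_89) (Nat.ble 89 b)) (Bool.rec (motive := fun _ => ℕ) (j2_90) (j2_91) (Nat.ble 91 b)) (Nat.ble 90 b)) (Bool.rec (motive := fun _ => ℕ) (Bool.rec (motive := fun _ => ℕ) (j2_92) (j2_93) (Nat.ble 93 b)) (Bool.rec (motive := fun _ => ℕ) (j2_94) (j2_95) (Nat.ble 95 b)) (Nat.ble 94 b)) (Nat.ble 92 b)) (Nat.ble 88 b)) (Nat.ble 80 b)) (Bool.rec (motive := fun _ => ℕ) (Bool.rec (motive := fun _ => ℕ) (Bool.rec (motive := fun _ => ℕ) (Bool.rec (motive := fun _ => ℕ) (Bool.rec (motive := fun _ => ℕ) (j2_96) (j2_97) (Nat.ble 97 b)) (Bool.rec (motive := fun _ => ℕ) (j2_98) (j2_99) (Nat.ble 99 b)) (Nat.ble 98 b)) (Bool.rec (motive := fun _ => ℕ) (Bool.rec (motive := fun _ => ℕ)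 (j2_100) (j2_101) (Nat.ble 101 b)) (Bool.rec (motive := fun _ => ℕ) (j2_102) (j2_103) (Nat.ble 103 b)) (Nat.ble 102 b)) (Nat.ble 100 b)) (Bool.rec (motive := fun _ => ℕ) (Bool.rec (motive := fun _ => ℕ) (Bool.rec (motive := fun _ => ℕ) (j2_104) (j2_105) (Nat.ble 105 b)) (Bool.rec (motive := fun _ => ℕ) (j2_106) (j2_107) (Nat.ble 107 b)) (Nat.ble 106 b)) (Bool.rec (motive := fun _ => ℕ) (Bool.rec (motive := fun _ => ℕ) (j2_108) (j2_109) (Nat.ble 109 b)) (Bool.rec (motive := fun _ => ℕ) (j2_110) (j2_111) (Nat.ble 111 b)) (Nat.ble 110 b)) (Nat.ble 108 b)) (Nat.ble 104 b)) (Bool.rec (motive := fun _ => ℕ) (Bool.rec (motive := fun _ => ℕ) (Bool.rec (motive := fun _ => ℕ) (Bool.rec (motive := fun _ => ℕ) (j2_112) (j2_113) (Nat.ble 113 b)) (Bool.rec (motive := fun _ => ℕ) (j2_114) (j2_115) (Nat.ble 115 b)) (Nat.ble 114 b)) (Bool.rec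 (motive := fun _ => ℕ) (Bool.rec (motive := fun _ => ℕ) (j2_116) (j2_117) (Nat.ble 117 b)) (Bool.rec (motive := fun _ => ℕ) (j2_118) (j2_119) (Nat.ble 119 b)) (Nat.ble 118 b)) (Nat.ble 116 b)) (Bool.rec (motive := fun _ => ℕ) (Bool.rec (motive := fun _ => ℕ) (Bool.rec (motive := fun _ => ℕ) (j2_120) (j2_121) (Nat.ble 121 b)) (Bool.rec (motive := fun _ => ℕ) (j2_122) (j2_123) (Nat.ble 123 b)) (Nat.ble 122 b)) (Bool.rec (motive := fun _ => ℕ) (Bool.rec (motive := fun _ => ℕ) (j2_124) (j2_125) (Nat.ble 125 b)) (Bool.rec (motive := fun _ => ℕ) (j2_126) (j2_127) (Nat.ble 127 b)) (Nat.ble 126 b)) (Nat.ble 124 b)) (Nat.ble 120 b)) (Nat.ble 112 b)) (Nat.ble 96 b)) (Nat.ble 64 b)) (Bool.rec (motive := fun _ => ℕ) (Bool.rec (motive := fun _ => ℕ) (Bool.rec (motive := fun _ => ℕ) (Bool.rec (motive := fun _ => ℕ) (Bool.rec (motive := fun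 _ => ℕ) (Bool.rec (motive := fun _ => ℕ) (Bool.rec (motive := fun _ => ℕ) (j2_128) (j2_129) (Nat.ble 129 b)) (Bool.rec (motive := fun _ => ℕ) (j2_130) (j2_131) (Nat.ble 131 b)) (Nat.ble 130 b)) (Bool.rec (motive := fun _ => ℕ) (Bool.rec (motive := fun _ => ℕ) (j2_132) (j2_133) (Nat.ble 133 b)) (Bool.rec (motive := fun _ => ℕ) (j2_134) (j2_135) (Nat.ble 135 b)) (Nat.ble 134 b)) (Nat.ble 132 b)) (Bool.rec (motive := fun _ => ℕ) (Bool.rec (motive := fun _ => ℕ) (Bool.rec (motive := fun _ => ℕ) (j2_136) (j2_137) (Nat.ble 137 b)) (Bool.rec (motive := fun _ => ℕ) (j2_138) (j2_139) (Nat.ble 139 b)) (Nat.ble 138 b)) (Bool.rec (motive := fun _ => ℕ) (Bool.rec (motive := fun _ => ℕ) (j2_140) (j2_141) (Nat.ble 141 b)) (Bool.rec (motive := fun _ => ℕ) (j2_142) (j2_143) (Nat.ble 143 b)) (Nat.ble 142 b)) (Nat.ble 140 b)) (Nat.ble 136 b)) (Bool.rec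 (motive := fun _ => ℕ) (Bool.rec (motive := fun _ => ℕ) (Bool.rec (motive := fun _ => ℕ) (Bool.rec (motive := fun _ => ℕ) (j2_144) (j2_145) (Nat.ble 145 b)) (Bool.rec (motive := fun _ => ℕ) (j2_146) (j2_147) (Nat.ble 147 b)) (Nat.ble 146 b)) (Bool.rec (motive := fun _ => ℕ) (Bool.rec (motive := fun _ => ℕ) (j2_148) (j2_149) (Nat.ble 149 b)) (Bool.rec (motive := fun _ => ℕ) (j2_150) (j2_151) (Nat.ble 151 b)) (Nat.ble 150 b)) (Nat.ble 148 b)) (Bool.rec (motive := fun _ => ℕ) (Bool.rec (motive := fun _ => ℕ) (Bool.rec (motive := fun _ => ℕ) (j2_152) (j2_153) (Nat.ble 153 b)) (Bool.rec (motive := fun _ => ℕ) (j2_154) (j2_155) (Nat.ble 155 b)) (Nat.ble 154 b)) (Bool.rec (motive := fun _ => ℕ) (Bool.rec (motive := fun _ => ℕ) (j2_156) (j2_157) (Nat.ble 157 b)) (Bool.rec (motive := fun _ => ℕ) (j2_158) (j2_159) (Nat.ble 159 b)) (Nat.ble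 158 b)) (Nat.ble 156 b)) (Nat.ble 152 b)) (Nat.ble 144 b)) (Bool.rec (motive := fun _ => ℕ) (Bool.rec (motive := fun _ => ℕ) (Bool.rec (motive := fun _ => ℕ) (Bool.rec (motive := fun _ => ℕ) (Bool.rec (motive := fun _ => ℕ) (j2_160) (j2_161) (Nat.ble 161 b)) (Bool.rec (motive := fun _ => ℕ) (j2_162) (j2_163) (Nat.ble 163 b)) (Nat.ble 162 b)) (Bool.rec (motive := fun _ => ℕ) (Bool.rec (motive := fun _ => ℕ) (j2_164) (j2_165) (Nat.ble 165 b)) (Bool.rec (motive := fun _ => ℕ) (j2_166) (j2_167) (Nat.ble 167 b)) (Nat.ble 166 b)) (Nat.ble 164 b)) (Bool.rec (motive := fun _ => ℕ) (Bool.rec (motive := fun _ => ℕ) (Bool.rec (motive := fun _ => ℕ) (j2_168) (j2_169) (Nat.ble 169 b)) (Bool.rec (motive := fun _ => ℕ) (j2_170) (j2_171) (Nat.ble 171 b)) (Nat.ble 170 b)) (Bool.rec (motive := fun _ => ℕ) (Bool.rec (motive := fun _ => ℕ) (j2_172)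 (j2_173) (Nat.ble 173 b)) (Bool.rec (motive := fun _ => ℕ) (j2_174) (j2_175) (Nat.ble 175 b)) (Nat.ble 174 b)) (Nat.ble 172 b)) (Nat.ble 168 b)) (Bool.rec (motive := fun _ => ℕ) (Bool.rec (motive := fun _ => ℕ) (Bool.rec (motive := fun _ => ℕ) (Bool.rec (motive := fun _ => ℕ) (j2_176) (j2_177) (Nat.ble 177 b)) (Bool.rec (motive := fun _ => ℕ) (j2_178) (j2_179) (Nat.ble 179 b)) (Nat.ble 178 b)) (Bool.rec (motive := fun _ => ℕ) (Bool.rec (motive := fun _ => ℕ) (j2_180) (j2_181) (Nat.ble 181 b)) (Bool.rec (motive := fun _ => ℕ) (j2_182) (j2_183) (Nat.ble 183 b)) (Nat.ble 182 b)) (Nat.ble 180 b)) (Bool.rec (motive := fun _ => ℕ) (Bool.rec (motive := fun _ => ℕ) (Bool.rec (motive := fun _ => ℕ) (j2_184) (j2_185) (Nat.ble 185 b)) (Bool.rec (motive := fun _ => ℕ) (j2_186) (j2_187) (Nat.ble 187 b)) (Nat.ble 186 b)) (Bool.rec (motive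 := fun _ => ℕ) (Bool.rec (motive := fun _ => ℕ) (j2_188) (j2_189) (Nat.ble 189 b)) (Bool.rec (motive := fun _ => ℕ) (j2_190) (j2_191) (Nat.ble 191 b)) (Nat.ble 190 b)) (Nat.ble 188 b)) (Nat.ble 184 b)) (Nat.ble 176 b)) (Nat.ble 160 b)) (Bool.rec (motive := fun _ => ℕ) (Bool.rec (motive := fun _ => ℕ) (Bool.rec (motive := fun _ => ℕ) (Bool.rec (motive := fun _ => ℕ) (Bool.rec (motive := fun _ => ℕ) (Bool.rec (motive := fun _ => ℕ) (j2_192) (j2_193) (Nat.ble 193 b)) (Bool.rec (motive := fun _ => ℕ) (j2_194) (j2_195) (Nat.ble 195 b)) (Nat.ble 194 b)) (Bool.rec (motive := fun _ => ℕ) (Bool.rec (motive := fun _ => ℕ) (j2_196) (j2_197) (Nat.ble 197 b)) (Bool.rec (motive := fun _ => ℕ) (j2_198) (j2_199) (Nat.ble 199 b)) (Nat.ble 198 b)) (Nat.ble 196 b)) (Bool.rec (motive := fun _ => ℕ) (Bool.rec (motive := fun _ => ℕ) (Bool.rec (motive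 := fun _ => ℕ) (j2_200) (j2_201) (Nat.ble 201 b)) (Bool.rec (motive := fun _ => ℕ) (j2_202) (j2_203) (Nat.ble 203 b)) (Nat.ble 202 b)) (Bool.rec (motive := fun _ => ℕ) (Bool.rec (motive := fun _ => ℕ) (j2_204) (j2_205) (Nat.ble 205 b)) (Bool.rec (motive := fun _ => ℕ) (j2_206) (j2_207) (Nat.ble 207 b)) (Nat.ble 206 b)) (Nat.ble 204 b)) (Nat.ble 200 b)) (Bool.rec (motive := fun _ => ℕ) (Bool.rec (motive := fun _ => ℕ) (Bool.rec (motive := fun _ => ℕ) (Bool.rec (motive := fun _ => ℕ) (j2_208) (j2_209) (Nat.ble 209 b)) (Bool.rec (motive := fun _ => ℕ) (j2_210) (j2_211) (Nat.ble 211 b)) (Nat.ble 210 b)) (Bool.rec (motive := fun _ => ℕ) (Bool.rec (motive := fun _ => ℕ) (j2_212) (j2_213) (Nat.ble 213 b)) (Bool.rec (motive := fun _ => ℕ) (j2_214) (j2_215) (Nat.ble 215 b)) (Nat.ble 214 b)) (Nat.ble 212 b)) (Bool.rec (motive := fun _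 => ℕ) (Bool.rec (motive := fun _ => ℕ) (Bool.rec (motive := fun _ => ℕ) (j2_216) (j2_217) (Nat.ble 217 b)) (Bool.rec (motive := fun _ => ℕ) (j2_218) (j2_219) (Nat.ble 219 b)) (Nat.ble 218 b)) (Bool.rec (motive := fun _ => ℕ) (Bool.rec (motive := fun _ => ℕ) (j2_220) (j2_221) (Nat.ble 221 b)) (Bool.rec (motive := fun _ => ℕ) (j2_222) (j2_223) (Nat.ble 223 b)) (Nat.ble 222 b)) (Nat.ble 220 b)) (Nat.ble 216 b)) (Nat.ble 208 b)) (Bool.rec (motive := fun _ => ℕ) (Bool.rec (motive := fun _ => ℕ) (Bool.rec (motive := fun _ => ℕ) (Bool.rec (motive := fun _ => ℕ) (Bool.rec (motive := fun _ => ℕ) (j2_224) (j2_225) (Nat.ble 225 b)) (Bool.rec (motive := fun _ => ℕ) (j2_226) (j2_227) (Nat.ble 227 b)) (Nat.ble 226 b)) (Bool.rec (motive := fun _ => ℕ) (Bool.rec (motive := fun _ => ℕ) (j2_228) (j2_229) (Nat.ble 229 b)) (Bool.rec (motive := fun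 _ => ℕ) (j2_230) (j2_231) (Nat.ble 231 b)) (Nat.ble 230 b)) (Nat.ble 228 b)) (Bool.rec (motive := fun _ => ℕ) (Bool.rec (motive := fun _ => ℕ) (Bool.rec (motive := fun _ => ℕ) (j2_232) (j2_233) (Nat.ble 233 b)) (Bool.rec (motive := fun _ => ℕ) (j2_234) (j2_235) (Nat.ble 235 b)) (Nat.ble 234 b)) (Bool.rec (motive := fun _ => ℕ) (Bool.rec (motive := fun _ => ℕ) (j2_236) (j2_237) (Nat.ble 237 b)) (Bool.rec (motive := fun _ => ℕ) (j2_238) (j2_239) (Nat.ble 239 b)) (Nat.ble 238 b)) (Nat.ble 236 b)) (Nat.ble 232 b)) (Bool.rec (motive := fun _ => ℕ) (Bool.rec (motive := fun _ => ℕ) (Bool.rec (motive := fun _ => ℕ) (Bool.rec (motive := fun _ => ℕ) (j2_240) (j2_241) (Nat.ble 241 b)) (Bool.rec (motive := fun _ => ℕ) (j2_242) (j2_243) (Nat.ble 243 b)) (Nat.ble 242 b)) (Bool.rec (motive := fun _ => ℕ) (Bool.rec (motive := fun _ => ℕ) (j2_244)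 (j2_245) (Nat.ble 245 b)) (Bool.rec (motive := fun _ => ℕ) (j2_246) (j2_247) (Nat.ble 247 b)) (Nat.ble 246 b)) (Nat.ble 244 b)) (Bool.rec (motive := fun _ => ℕ) (Bool.rec (motive := fun _ => ℕ) (Bool.rec (motive := fun _ => ℕ) (j2_248) (j2_249) (Nat.ble 249 b)) (Bool.rec (motive := fun _ => ℕ) (j2_250) (j2_251) (Nat.ble 251 b)) (Nat.ble 250 b)) (Bool.rec (motive := fun _ => ℕ) (Bool.rec (motive := fun _ => ℕ) (j2_252) (j2_253) (Nat.ble 253 b)) (Bool.rec (motive := fun _ => ℕ) (j2_254) (j2_255) (Nat.ble 255 b)) (Nat.ble 254 b)) (Nat.ble 252 b)) (Nat.ble 248 b)) (Nat.ble 240 b)) (Nat.ble 224 b)) (Nat.ble 192 b)) (Nat.ble 128 b)) (Bool.rec (motive := fun _ => ℕ) (Bool.rec (motive := fun _ => ℕ) (Bool.rec (motive := fun _ => ℕ) (Bool.rec (motive := fun _ => ℕ) (Bool.rec (motive := fun _ => ℕ) (Bool.rec (motive := fun _ => ℕ) (Bool.rec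 (motive := fun _ => ℕ) (Bool.rec (motive := fun _ => ℕ) (j2_256) (j2_257) (Nat.ble 257 b)) (Bool.rec (motive := fun _ => ℕ) (j2_258) (j2_259) (Nat.ble 259 b)) (Nat.ble 258 b)) (Bool.rec (motive := fun _ => ℕ) (Bool.rec (motive := fun _ => ℕ) (j2_260) (j2_261) (Nat.ble 261 b)) (Bool.rec (motive := fun _ => ℕ) (j2_262) (j2_263) (Nat.ble 263 b)) (Nat.ble 262 b)) (Nat.ble 260 b)) (Bool.rec (motive := fun _ => ℕ) (Bool.rec (motive := fun _ => ℕ) (Bool.rec (motive := fun _ => ℕ) (j2_264) (j2_265) (Nat.ble 265 b)) (Bool.rec (motive := fun _ => ℕ) (j2_266) (0) (Nat.ble 267 b)) (Nat.ble 266 b)) (0) (Nat.ble 268 b)) (Nat.ble 264 b)) (0) (Nat.ble 272 b)) (0) (Nat.ble 288 b)) (0) (Nat.ble 320 b)) (0) (Nat.ble 384 b)) (Nat.ble 256 b))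
noncomputable def ecol3 (b : ℕ) : ℕ := (Bool.rec (motive := fun _ => ℕ) (Bool.rec (motive := fun _ => ℕ) (Bool.rec (motive := fun _ => ℕ) (Bool.rec (motive := fun _ => ℕ) (Bool.rec (motive := fun _ => ℕ) (Bool.rec (motive := fun _ => ℕ) (Bool.rec (motive := fun _ => ℕ) (Bool.rec (motive := fun _ => ℕ) (Bool.rec (motive := fun _ => ℕ) (e3_0) (e3_1) (Nat.ble 1 b)) (Bool.rec (motive := fun _ => ℕ) (e3_2) (e3_3) (Nat.ble 3 b)) (Nat.ble 2 b)) (Bool.rec (motive := fun _ => ℕ) (Bool.rec (motive := fun _ => ℕ) (e3_4) (e3_5) (Nat.ble 5 b)) (Bool.rec (motive := fun _ => ℕ) (e3_6) (e3_7) (Nat.ble 7 b)) (Nat.ble 6 b)) (Nat.ble 4 b)) (Bool.rec (motive := fun _ => ℕ) (Bool.rec (motive := fun _ => ℕ) (Bool.rec (motive := fun _ => ℕ) (e3_8) (e3_9) (Nat.ble 9 b)) (Bool.rec (motive := fun _ => ℕ) (e3_10) (e3_11) (Nat.ble 11 b)) (Nat.ble 10 b))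 (Bool.rec (motive := fun _ => ℕ) (Bool.rec (motive := fun _ => ℕ) (e3_12) (e3_13) (Nat.ble 13 b)) (Bool.rec (motive := fun _ => ℕ) (e3_14) (e3_15) (Nat.ble 15 b)) (Nat.ble 14 b)) (Nat.ble 12 b)) (Nat.ble 8 b)) (Bool.rec (motive := fun _ => ℕ) (Bool.rec (motive := fun _ => ℕ) (Bool.rec (motive := fun _ => ℕ) (Bool.rec (motive := fun _ => ℕ) (e3_16) (e3_17) (Nat.ble 17 b)) (Bool.rec (motive := fun _ => ℕ) (e3_18) (e3_19) (Nat.ble 19 b)) (Nat.ble 18 b)) (Bool.rec (motive := fun _ => ℕ) (Bool.rec (motive := fun _ => ℕ) (e3_20) (e3_21) (Nat.ble 21 b)) (Bool.rec (motive := fun _ => ℕ) (e3_22) (e3_23) (Nat.ble 23 b)) (Nat.ble 22 b)) (Nat.ble 20 b)) (Bool.rec (motive := fun _ => ℕ) (Bool.rec (motive := fun _ => ℕ) (Bool.rec (motive := fun _ => ℕ) (e3_24) (e3_25) (Nat.ble 25 b)) (Bool.rec (motive := fun _ => ℕ) (e3_26) (e3_27) (Nat.ble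 27 b)) (Nat.ble 26 b)) (Bool.rec (motive := fun _ => ℕ) (Bool.rec (motive := fun _ => ℕ) (e3_28) (e3_29) (Nat.ble 29 b)) (Bool.rec (motive := fun _ => ℕ) (e3_30) (e3_31) (Nat.ble 31 b)) (Nat.ble 30 b)) (Nat.ble 28 b)) (Nat.ble 24 b)) (Nat.ble 16 b)) (Bool.rec (motive := fun _ => ℕ) (Bool.rec (motive := fun _ => ℕ) (Bool.rec (motive := fun _ => ℕ) (Bool.rec (motive := fun _ => ℕ) (Bool.rec (motive := fun _ => ℕ) (e3_32) (e3_33) (Nat.ble 33 b)) (Bool.rec (motive := fun _ => ℕ) (e3_34) (e3_35) (Nat.ble 35 b)) (Nat.ble 34 b)) (Bool.rec (motive := fun _ => ℕ) (Bool.rec (motive := fun _ => ℕ) (e3_36) (e3_37) (Nat.ble 37 b)) (Bool.rec (motive := fun _ => ℕ) (e3_38) (e3_39) (Nat.ble 39 b)) (Nat.ble 38 b)) (Nat.ble 36 b)) (Bool.rec (motive := fun _ => ℕ) (Bool.rec (motive := fun _ => ℕ) (Bool.rec (motive := fun _ => ℕ) (e3_40) (e3_41)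 (Nat.ble 41 b)) (Bool.rec (motive := fun _ => ℕ) (e3_42) (e3_43) (Nat.ble 43 b)) (Nat.ble 42 b)) (Bool.rec (motive := fun _ => ℕ) (Bool.rec (motive := fun _ => ℕ) (e3_44) (e3_45) (Nat.ble 45 b)) (Bool.rec (motive := fun _ => ℕ) (e3_46) (e3_47) (Nat.ble 47 b)) (Nat.ble 46 b)) (Nat.ble 44 b)) (Nat.ble 40 b)) (Bool.rec (motive := fun _ => ℕ) (Bool.rec (motive := fun _ => ℕ) (Bool.rec (motive := fun _ => ℕ) (Bool.rec (motive := fun _ => ℕ) (e3_48) (e3_49) (Nat.ble 49 b)) (Bool.rec (motive := fun _ => ℕ) (e3_50) (e3_51) (Nat.ble 51 b)) (Nat.ble 50 b)) (Bool.rec (motive := fun _ => ℕ) (Bool.rec (motive := fun _ => ℕ) (e3_52) (e3_53) (Nat.ble 53 b)) (Bool.rec (motive := fun _ => ℕ) (e3_54) (e3_55) (Nat.ble 55 b)) (Nat.ble 54 b)) (Nat.ble 52 b)) (Bool.rec (motive := fun _ => ℕ) (Bool.rec (motive := fun _ => ℕ) (Bool.rec (motive := fun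 _ => ℕ) (e3_56) (e3_57) (Nat.ble 57 b)) (Bool.rec (motive := fun _ => ℕ) (e3_58) (e3_59) (Nat.ble 59 b)) (Nat.ble 58 b)) (Bool.rec (motive := fun _ => ℕ) (Bool.rec (motive := fun _ => ℕ) (e3_60) (e3_61) (Nat.ble 61 b)) (Bool.rec (motive := fun _ => ℕ) (e3_62) (e3_63) (Nat.ble 63 b)) (Nat.ble 62 b)) (Nat.ble 60 b)) (Nat.ble 56 b)) (Nat.ble 48 b)) (Nat.ble 32 b)) (Bool.rec (motive := fun _ => ℕ) (Bool.rec (motive := fun _ => ℕ) (Bool.rec (motive := fun _ => ℕ) (Bool.rec (motive := fun _ => ℕ) (Bool.rec (motive := fun _ => ℕ) (Bool.rec (motive := fun _ => ℕ) (e3_64) (e3_65) (Nat.ble 65 b)) (Bool.rec (motive := fun _ => ℕ) (e3_66) (e3_67) (Nat.ble 67 b)) (Nat.ble 66 b)) (Bool.rec (motive := fun _ => ℕ) (Bool.rec (motive := fun _ => ℕ) (e3_68) (e3_69) (Nat.ble 69 b)) (Bool.rec (motive := fun _ => ℕ) (e3_70) (e3_71) (Nat.ble 71 b))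 (Nat.ble 70 b)) (Nat.ble 68 b)) (Bool.rec (motive := fun _ => ℕ) (Bool.rec (motive := fun _ => ℕ) (Bool.rec (motive := fun _ => ℕ) (e3_72) (e3_73) (Nat.ble 73 b)) (Bool.rec (motive := fun _ => ℕ) (e3_74) (e3_75) (Nat.ble 75 b)) (Nat.ble 74 b)) (Bool.rec (motive := fun _ => ℕ) (Bool.rec (motive := fun _ => ℕ) (e3_76) (e3_77) (Nat.ble 77 b)) (Bool.rec (motive := fun _ => ℕ) (e3_78) (e3_79) (Nat.ble 79 b)) (Nat.ble 78 b)) (Nat.ble 76 b)) (Nat.ble 72 b)) (Bool.rec (motive := fun _ => ℕ) (Bool.rec (motive := fun _ => ℕ) (Bool.rec (motive := fun _ => ℕ) (Bool.rec (motive := fun _ => ℕ) (e3_80) (e3_81) (Nat.ble 81 b)) (Bool.rec (motive := fun _ => ℕ) (e3_82) (e3_83) (Nat.ble 83 b)) (Nat.ble 82 b)) (Bool.rec (motive := fun _ => ℕ) (Bool.rec (motive := fun _ => ℕ) (e3_84) (e3_85) (Nat.ble 85 b)) (Bool.rec (motive := fun _ => ℕ) (e3_86)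 (e3_87) (Nat.ble 87 b)) (Nat.ble 86 b)) (Nat.ble 84 b)) (Bool.rec (motive := fun _ => ℕ) (Bool.rec (motive := fun _ => ℕ) (Bool.rec (motive := fun _ => ℕ) (e3_88) (e3_89) (Nat.ble 89 b)) (Bool.rec (motive := fun _ => ℕ) (e3_90) (e3_91) (Nat.ble 91 b)) (Nat.ble 90 b)) (Bool.rec (motive := fun _ => ℕ) (Bool.rec (motive := fun _ => ℕ) (e3_92) (e3_93) (Nat.ble 93 b)) (Bool.rec (motive := fun _ => ℕ) (e3_94) (e3_95) (Nat.ble 95 b)) (Nat.ble 94 b)) (Nat.ble 92 b)) (Nat.ble 88 b)) (Nat.ble 80 b)) (Bool.rec (motive := fun _ => ℕ) (Bool.rec (motive := fun _ => ℕ) (Bool.rec (motive := fun _ => ℕ) (Bool.rec (motive := fun _ => ℕ) (Bool.rec (motive := fun _ => ℕ) (e3_96) (e3_97) (Nat.ble 97 b)) (Bool.rec (motive := fun _ => ℕ) (e3_98) (e3_99) (Nat.ble 99 b)) (Nat.ble 98 b)) (Bool.rec (motive := fun _ => ℕ) (Bool.rec (motive := fun _ => ℕ)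 (e3_100) (e3_101) (Nat.ble 101 b)) (Bool.rec (motive := fun _ => ℕ) (e3_102) (e3_103) (Nat.ble 103 b)) (Nat.ble 102 b)) (Nat.ble 100 b)) (Bool.rec (motive := fun _ => ℕ) (Bool.rec (motive := fun _ => ℕ) (Bool.rec (motive := fun _ => ℕ) (e3_104) (e3_105) (Nat.ble 105 b)) (Bool.rec (motive := fun _ => ℕ) (e3_106) (e3_107) (Nat.ble 107 b)) (Nat.ble 106 b)) (Bool.rec (motive := fun _ => ℕ) (Bool.rec (motive := fun _ => ℕ) (e3_108) (e3_109) (Nat.ble 109 b)) (Bool.rec (motive := fun _ => ℕ) (e3_110) (e3_111) (Nat.ble 111 b)) (Nat.ble 110 b)) (Nat.ble 108 b)) (Nat.ble 104 b)) (Bool.rec (motive := fun _ => ℕ) (Bool.rec (motive := fun _ => ℕ) (Bool.rec (motive := fun _ => ℕ) (Bool.rec (motive := fun _ => ℕ) (e3_112) (e3_113) (Nat.ble 113 b)) (Bool.rec (motive := fun _ => ℕ) (e3_114) (e3_115) (Nat.ble 115 b)) (Nat.ble 114 b)) (Bool.rec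 (motive := fun _ => ℕ) (Bool.rec (motive := fun _ => ℕ) (e3_116) (e3_117) (Nat.ble 117 b)) (Bool.rec (motive := fun _ => ℕ) (e3_118) (e3_119) (Nat.ble 119 b)) (Nat.ble 118 b)) (Nat.ble 116 b)) (Bool.rec (motive := fun _ => ℕ) (Bool.rec (motive := fun _ => ℕ) (Bool.rec (motive := fun _ => ℕ) (e3_120) (e3_121) (Nat.ble 121 b)) (Bool.rec (motive := fun _ => ℕ) (e3_122) (e3_123) (Nat.ble 123 b)) (Nat.ble 122 b)) (Bool.rec (motive := fun _ => ℕ) (Bool.rec (motive := fun _ => ℕ) (e3_124) (e3_125) (Nat.ble 125 b)) (Bool.rec (motive := fun _ => ℕ) (e3_126) (e3_127) (Nat.ble 127 b)) (Nat.ble 126 b)) (Nat.ble 124 b)) (Nat.ble 120 b)) (Nat.ble 112 b)) (Nat.ble 96 b)) (Nat.ble 64 b)) (Bool.rec (motive := fun _ => ℕ) (Bool.rec (motive := fun _ => ℕ) (Bool.rec (motive := fun _ => ℕ) (Bool.rec (motive := fun _ => ℕ) (Bool.rec (motive := fun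 _ => ℕ) (Bool.rec (motive := fun _ => ℕ) (Bool.rec (motive := fun _ => ℕ) (e3_128) (e3_129) (Nat.ble 129 b)) (Bool.rec (motive := fun _ => ℕ) (e3_130) (e3_131) (Nat.ble 131 b)) (Nat.ble 130 b)) (Bool.rec (motive := fun _ => ℕ) (Bool.rec (motive := fun _ => ℕ) (e3_132) (e3_133) (Nat.ble 133 b)) (Bool.rec (motive := fun _ => ℕ) (e3_134) (e3_135) (Nat.ble 135 b)) (Nat.ble 134 b)) (Nat.ble 132 b)) (Bool.rec (motive := fun _ => ℕ) (Bool.rec (motive := fun _ => ℕ) (Bool.rec (motive := fun _ => ℕ) (e3_136) (e3_137) (Nat.ble 137 b)) (Bool.rec (motive := fun _ => ℕ) (e3_138) (e3_139) (Nat.ble 139 b)) (Nat.ble 138 b)) (Bool.rec (motive := fun _ => ℕ) (Bool.rec (motive := fun _ => ℕ) (e3_140) (e3_141) (Nat.ble 141 b)) (Bool.rec (motive := fun _ => ℕ) (e3_142) (e3_143) (Nat.ble 143 b)) (Nat.ble 142 b)) (Nat.ble 140 b)) (Nat.ble 136 b)) (Bool.rec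 (motive := fun _ => ℕ) (Bool.rec (motive := fun _ => ℕ) (Bool.rec (motive := fun _ => ℕ) (Bool.rec (motive := fun _ => ℕ) (e3_144) (e3_145) (Nat.ble 145 b)) (Bool.rec (motive := fun _ => ℕ) (e3_146) (e3_147) (Nat.ble 147 b)) (Nat.ble 146 b)) (Bool.rec (motive := fun _ => ℕ) (Bool.rec (motive := fun _ => ℕ) (e3_148) (e3_149) (Nat.ble 149 b)) (Bool.rec (motive := fun _ => ℕ) (e3_150) (e3_151) (Nat.ble 151 b)) (Nat.ble 150 b)) (Nat.ble 148 b)) (Bool.rec (motive := fun _ => ℕ) (Bool.rec (motive := fun _ => ℕ) (Bool.rec (motive := fun _ => ℕ) (e3_152) (e3_153) (Nat.ble 153 b)) (Bool.rec (motive := fun _ => ℕ) (e3_154) (e3_155) (Nat.ble 155 b)) (Nat.ble 154 b)) (Bool.rec (motive := fun _ => ℕ) (Bool.rec (motive := fun _ => ℕ) (e3_156) (e3_157) (Nat.ble 157 b)) (Bool.rec (motive := fun _ => ℕ) (e3_158) (e3_159) (Nat.ble 159 b)) (Nat.ble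 158 b)) (Nat.ble 156 b)) (Nat.ble 152 b)) (Nat.ble 144 b)) (Bool.rec (motive := fun _ => ℕ) (Bool.rec (motive := fun _ => ℕ) (Bool.rec (motive := fun _ => ℕ) (Bool.rec (motive := fun _ => ℕ) (Bool.rec (motive := fun _ => ℕ) (e3_160) (e3_161) (Nat.ble 161 b)) (Bool.rec (motive := fun _ => ℕ) (e3_162) (e3_163) (Nat.ble 163 b)) (Nat.ble 162 b)) (Bool.rec (motive := fun _ => ℕ) (Bool.rec (motive := fun _ => ℕ) (e3_164) (e3_165) (Nat.ble 165 b)) (Bool.rec (motive := fun _ => ℕ) (e3_166) (e3_167) (Nat.ble 167 b)) (Nat.ble 166 b)) (Nat.ble 164 b)) (Bool.rec (motive := fun _ => ℕ) (Bool.rec (motive := fun _ => ℕ) (Bool.rec (motive := fun _ => ℕ) (e3_168) (e3_169) (Nat.ble 169 b)) (Bool.rec (motive := fun _ => ℕ) (e3_170) (e3_171) (Nat.ble 171 b)) (Nat.ble 170 b)) (Bool.rec (motive := fun _ => ℕ) (Bool.rec (motive := fun _ => ℕ) (e3_172)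 (e3_173) (Nat.ble 173 b)) (Bool.rec (motive := fun _ => ℕ) (e3_174) (e3_175) (Nat.ble 175 b)) (Nat.ble 174 b)) (Nat.ble 172 b)) (Nat.ble 168 b)) (Bool.rec (motive := fun _ => ℕ) (Bool.rec (motive := fun _ => ℕ) (Bool.rec (motive := fun _ => ℕ) (Bool.rec (motive := fun _ => ℕ) (e3_176) (e3_177) (Nat.ble 177 b)) (Bool.rec (motive := fun _ => ℕ) (e3_178) (e3_179) (Nat.ble 179 b)) (Nat.ble 178 b)) (Bool.rec (motive := fun _ => ℕ) (Bool.rec (motive := fun _ => ℕ) (e3_180) (e3_181) (Nat.ble 181 b)) (Bool.rec (motive := fun _ => ℕ) (e3_182) (e3_183) (Nat.ble 183 b)) (Nat.ble 182 b)) (Nat.ble 180 b)) (Bool.rec (motive := fun _ => ℕ) (Bool.rec (motive := fun _ => ℕ) (Bool.rec (motive := fun _ => ℕ) (e3_184) (e3_185) (Nat.ble 185 b)) (Bool.rec (motive := fun _ => ℕ) (e3_186) (e3_187) (Nat.ble 187 b)) (Nat.ble 186 b)) (Bool.rec (motive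 := fun _ => ℕ) (Bool.rec (motive := fun _ => ℕ) (e3_188) (e3_189) (Nat.ble 189 b)) (Bool.rec (motive := fun _ => ℕ) (e3_190) (e3_191) (Nat.ble 191 b)) (Nat.ble 190 b)) (Nat.ble 188 b)) (Nat.ble 184 b)) (Nat.ble 176 b)) (Nat.ble 160 b)) (Bool.rec (motive := fun _ => ℕ) (Bool.rec (motive := fun _ => ℕ) (Bool.rec (motive := fun _ => ℕ) (Bool.rec (motive := fun _ => ℕ) (Bool.rec (motive := fun _ => ℕ) (Bool.rec (motive := fun _ => ℕ) (e3_192) (e3_193) (Nat.ble 193 b)) (Bool.rec (motive := fun _ => ℕ) (e3_194) (e3_195) (Nat.ble 195 b)) (Nat.ble 194 b)) (Bool.rec (motive := fun _ => ℕ) (Bool.rec (motive := fun _ => ℕ) (e3_196) (e3_197) (Nat.ble 197 b)) (Bool.rec (motive := fun _ => ℕ) (e3_198) (e3_199) (Nat.ble 199 b)) (Nat.ble 198 b)) (Nat.ble 196 b)) (Bool.rec (motive := fun _ => ℕ) (Bool.rec (motive := fun _ => ℕ) (Bool.rec (motive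 := fun _ => ℕ) (e3_200) (e3_201) (Nat.ble 201 b)) (Bool.rec (motive := fun _ => ℕ) (e3_202) (e3_203) (Nat.ble 203 b)) (Nat.ble 202 b)) (Bool.rec (motive := fun _ => ℕ) (Bool.rec (motive := fun _ => ℕ) (e3_204) (e3_205) (Nat.ble 205 b)) (Bool.rec (motive := fun _ => ℕ) (e3_206) (e3_207) (Nat.ble 207 b)) (Nat.ble 206 b)) (Nat.ble 204 b)) (Nat.ble 200 b)) (Bool.rec (motive := fun _ => ℕ) (Bool.rec (motive := fun _ => ℕ) (Bool.rec (motive := fun _ => ℕ) (Bool.rec (motive := fun _ => ℕ) (e3_208) (e3_209) (Nat.ble 209 b)) (Bool.rec (motive := fun _ => ℕ) (e3_210) (e3_211) (Nat.ble 211 b)) (Nat.ble 210 b)) (Bool.rec (motive := fun _ => ℕ) (Bool.rec (motive := fun _ => ℕ) (e3_212) (e3_213) (Nat.ble 213 b)) (Bool.rec (motive := fun _ => ℕ) (e3_214) (e3_215) (Nat.ble 215 b)) (Nat.ble 214 b)) (Nat.ble 212 b)) (Bool.rec (motive := fun _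 => ℕ) (Bool.rec (motive := fun _ => ℕ) (Bool.rec (motive := fun _ => ℕ) (e3_216) (e3_217) (Nat.ble 217 b)) (Bool.rec (motive := fun _ => ℕ) (e3_218) (e3_219) (Nat.ble 219 b)) (Nat.ble 218 b)) (Bool.rec (motive := fun _ => ℕ) (Bool.rec (motive := fun _ => ℕ) (e3_220) (e3_221) (Nat.ble 221 b)) (Bool.rec (motive := fun _ => ℕ) (e3_222) (e3_223) (Nat.ble 223 b)) (Nat.ble 222 b)) (Nat.ble 220 b)) (Nat.ble 216 b)) (Nat.ble 208 b)) (Bool.rec (motive := fun _ => ℕ) (Bool.rec (motive := fun _ => ℕ) (Bool.rec (motive := fun _ => ℕ) (Bool.rec (motive := fun _ => ℕ) (Bool.rec (motive := fun _ => ℕ) (e3_224) (e3_225) (Nat.ble 225 b)) (Bool.rec (motive := fun _ => ℕ) (e3_226) (e3_227) (Nat.ble 227 b)) (Nat.ble 226 b)) (Bool.rec (motive := fun _ => ℕ) (Bool.rec (motive := fun _ => ℕ) (e3_228) (e3_229) (Nat.ble 229 b)) (Bool.rec (motive := fun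 _ => ℕ) (e3_230) (e3_231) (Nat.ble 231 b)) (Nat.ble 230 b)) (Nat.ble 228 b)) (Bool.rec (motive := fun _ => ℕ) (Bool.rec (motive := fun _ => ℕ) (Bool.rec (motive := fun _ => ℕ) (e3_232) (e3_233) (Nat.ble 233 b)) (Bool.rec (motive := fun _ => ℕ) (e3_234) (e3_235) (Nat.ble 235 b)) (Nat.ble 234 b)) (Bool.rec (motive := fun _ => ℕ) (Bool.rec (motive := fun _ => ℕ) (e3_236) (e3_237) (Nat.ble 237 b)) (Bool.rec (motive := fun _ => ℕ) (e3_238) (e3_239) (Nat.ble 239 b)) (Nat.ble 238 b)) (Nat.ble 236 b)) (Nat.ble 232 b)) (Bool.rec (motive := fun _ => ℕ) (Bool.rec (motive := fun _ => ℕ) (Bool.rec (motive := fun _ => ℕ) (Bool.rec (motive := fun _ => ℕ) (e3_240) (e3_241) (Nat.ble 241 b)) (Bool.rec (motive := fun _ => ℕ) (e3_242) (e3_243) (Nat.ble 243 b)) (Nat.ble 242 b)) (Bool.rec (motive := fun _ => ℕ) (Bool.rec (motive := fun _ => ℕ) (e3_244)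 (e3_245) (Nat.ble 245 b)) (Bool.rec (motive := fun _ => ℕ) (e3_246) (e3_247) (Nat.ble 247 b)) (Nat.ble 246 b)) (Nat.ble 244 b)) (Bool.rec (motive := fun _ => ℕ) (Bool.rec (motive := fun _ => ℕ) (Bool.rec (motive := fun _ => ℕ) (e3_248) (e3_249) (Nat.ble 249 b)) (Bool.rec (motive := fun _ => ℕ) (e3_250) (e3_251) (Nat.ble 251 b)) (Nat.ble 250 b)) (Bool.rec (motive := fun _ => ℕ) (Bool.rec (motive := fun _ => ℕ) (e3_252) (e3_253) (Nat.ble 253 b)) (Bool.rec (motive := fun _ => ℕ) (e3_254) (e3_255) (Nat.ble 255 b)) (Nat.ble 254 b)) (Nat.ble 252 b)) (Nat.ble 248 b)) (Nat.ble 240 b)) (Nat.ble 224 b)) (Nat.ble 192 b)) (Nat.ble 128 b)) (Bool.rec (motive := fun _ => ℕ) (Bool.rec (motive := fun _ => ℕ) (Bool.rec (motive := fun _ => ℕ) (Bool.rec (motive := fun _ => ℕ) (Bool.rec (motive := fun _ => ℕ) (Bool.rec (motive := fun _ => ℕ) (Bool.rec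 (motive := fun _ => ℕ) (Bool.rec (motive := fun _ => ℕ) (e3_256) (e3_257) (Nat.ble 257 b)) (Bool.rec (motive := fun _ => ℕ) (e3_258) (e3_259) (Nat.ble 259 b)) (Nat.ble 258 b)) (Bool.rec (motive := fun _ => ℕ) (Bool.rec (motive := fun _ => ℕ) (e3_260) (e3_261) (Nat.ble 261 b)) (Bool.rec (motive := fun _ => ℕ) (e3_262) (e3_263) (Nat.ble 263 b)) (Nat.ble 262 b)) (Nat.ble 260 b)) (Bool.rec (motive := fun _ => ℕ) (Bool.rec (motive := fun _ => ℕ) (Bool.rec (motive := fun _ => ℕ) (e3_264) (e3_265) (Nat.ble 265 b)) (Bool.rec (motive := fun _ => ℕ) (e3_266) (0) (Nat.ble 267 b)) (Nat.ble 266 b)) (0) (Nat.ble 268 b)) (Nat.ble 264 b)) (0) (Nat.ble 272 b)) (0) (Nat.ble 288 b)) (0) (Nat.ble 320 b)) (0) (Nat.ble 384 b)) (Nat.ble 256 b))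
noncomputable def jcol3 (b : ℕ) : ℕ := (Bool.rec (motive := fun _ => ℕ) (Bool.rec (motive := fun _ => ℕ) (Bool.rec (motive := fun _ => ℕ) (Bool.rec (motive := fun _ => ℕ) (Bool.rec (motive := fun _ => ℕ) (Bool.rec (motive := fun _ => ℕ) (Bool.rec (motive := fun _ => ℕ) (Bool.rec (motive := fun _ => ℕ) (Bool.rec (motive := fun _ => ℕ) (j3_0) (j3_1) (Nat.ble 1 b)) (Bool.rec (motive := fun _ => ℕ) (j3_2) (j3_3) (Nat.ble 3 b)) (Nat.ble 2 b)) (Bool.rec (motive := fun _ => ℕ) (Bool.rec (motive := fun _ => ℕ) (j3_4) (j3_5) (Nat.ble 5 b)) (Bool.rec (motive := fun _ => ℕ) (j3_6) (j3_7) (Nat.ble 7 b)) (Nat.ble 6 b)) (Nat.ble 4 b)) (Bool.rec (motive := fun _ => ℕ) (Bool.rec (motive := fun _ => ℕ) (Bool.rec (motive := fun _ => ℕ) (j3_8) (j3_9) (Nat.ble 9 b)) (Bool.rec (motive := fun _ => ℕ) (j3_10) (j3_11) (Nat.ble 11 b)) (Nat.ble 10 b))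 (Bool.rec (motive := fun _ => ℕ) (Bool.rec (motive := fun _ => ℕ) (j3_12) (j3_13) (Nat.ble 13 b)) (Bool.rec (motive := fun _ => ℕ) (j3_14) (j3_15) (Nat.ble 15 b)) (Nat.ble 14 b)) (Nat.ble 12 b)) (Nat.ble 8 b)) (Bool.rec (motive := fun _ => ℕ) (Bool.rec (motive := fun _ => ℕ) (Bool.rec (motive := fun _ => ℕ) (Bool.rec (motive := fun _ => ℕ) (j3_16) (j3_17) (Nat.ble 17 b)) (Bool.rec (motive := fun _ => ℕ) (j3_18) (j3_19) (Nat.ble 19 b)) (Nat.ble 18 b)) (Bool.rec (motive := fun _ => ℕ) (Bool.rec (motive := fun _ => ℕ) (j3_20) (j3_21) (Nat.ble 21 b)) (Bool.rec (motive := fun _ => ℕ) (j3_22) (j3_23) (Nat.ble 23 b)) (Nat.ble 22 b)) (Nat.ble 20 b)) (Bool.rec (motive := fun _ => ℕ) (Bool.rec (motive := fun _ => ℕ) (Bool.rec (motive := fun _ => ℕ) (j3_24) (j3_25) (Nat.ble 25 b)) (Bool.rec (motive := fun _ => ℕ) (j3_26) (j3_27) (Nat.ble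 27 b)) (Nat.ble 26 b)) (Bool.rec (motive := fun _ => ℕ) (Bool.rec (motive := fun _ => ℕ) (j3_28) (j3_29) (Nat.ble 29 b)) (Bool.rec (motive := fun _ => ℕ) (j3_30) (j3_31) (Nat.ble 31 b)) (Nat.ble 30 b)) (Nat.ble 28 b)) (Nat.ble 24 b)) (Nat.ble 16 b)) (Bool.rec (motive := fun _ => ℕ) (Bool.rec (motive := fun _ => ℕ) (Bool.rec (motive := fun _ => ℕ) (Bool.rec (motive := fun _ => ℕ) (Bool.rec (motive := fun _ => ℕ) (j3_32) (j3_33) (Nat.ble 33 b)) (Bool.rec (motive := fun _ => ℕ) (j3_34) (j3_35) (Nat.ble 35 b)) (Nat.ble 34 b)) (Bool.rec (motive := fun _ => ℕ) (Bool.rec (motive := fun _ => ℕ) (j3_36) (j3_37) (Nat.ble 37 b)) (Bool.rec (motive := fun _ => ℕ) (j3_38) (j3_39) (Nat.ble 39 b)) (Nat.ble 38 b)) (Nat.ble 36 b)) (Bool.rec (motive := fun _ => ℕ) (Bool.rec (motive := fun _ => ℕ) (Bool.rec (motive := fun _ => ℕ) (j3_40) (j3_41)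 (Nat.ble 41 b)) (Bool.rec (motive := fun _ => ℕ) (j3_42) (j3_43) (Nat.ble 43 b)) (Nat.ble 42 b)) (Bool.rec (motive := fun _ => ℕ) (Bool.rec (motive := fun _ => ℕ) (j3_44) (j3_45) (Nat.ble 45 b)) (Bool.rec (motive := fun _ => ℕ) (j3_46) (j3_47) (Nat.ble 47 b)) (Nat.ble 46 b)) (Nat.ble 44 b)) (Nat.ble 40 b)) (Bool.rec (motive := fun _ => ℕ) (Bool.rec (motive := fun _ => ℕ) (Bool.rec (motive := fun _ => ℕ) (Bool.rec (motive := fun _ => ℕ) (j3_48) (j3_49) (Nat.ble 49 b)) (Bool.rec (motive := fun _ => ℕ) (j3_50) (j3_51) (Nat.ble 51 b)) (Nat.ble 50 b)) (Bool.rec (motive := fun _ => ℕ) (Bool.rec (motive := fun _ => ℕ) (j3_52) (j3_53) (Nat.ble 53 b)) (Bool.rec (motive := fun _ => ℕ) (j3_54) (j3_55) (Nat.ble 55 b)) (Nat.ble 54 b)) (Nat.ble 52 b)) (Bool.rec (motive := fun _ => ℕ) (Bool.rec (motive := fun _ => ℕ) (Bool.rec (motive := fun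 _ => ℕ) (j3_56) (j3_57) (Nat.ble 57 b)) (Bool.rec (motive := fun _ => ℕ) (j3_58) (j3_59) (Nat.ble 59 b)) (Nat.ble 58 b)) (Bool.rec (motive := fun _ => ℕ) (Bool.rec (motive := fun _ => ℕ) (j3_60) (j3_61) (Nat.ble 61 b)) (Bool.rec (motive := fun _ => ℕ) (j3_62) (j3_63) (Nat.ble 63 b)) (Nat.ble 62 b)) (Nat.ble 60 b)) (Nat.ble 56 b)) (Nat.ble 48 b)) (Nat.ble 32 b)) (Bool.rec (motive := fun _ => ℕ) (Bool.rec (motive := fun _ => ℕ) (Bool.rec (motive := fun _ => ℕ) (Bool.rec (motive := fun _ => ℕ) (Bool.rec (motive := fun _ => ℕ) (Bool.rec (motive := fun _ => ℕ) (j3_64) (j3_65) (Nat.ble 65 b)) (Bool.rec (motive := fun _ => ℕ) (j3_66) (j3_67) (Nat.ble 67 b)) (Nat.ble 66 b)) (Bool.rec (motive := fun _ => ℕ) (Bool.rec (motive := fun _ => ℕ) (j3_68) (j3_69) (Nat.ble 69 b)) (Bool.rec (motive := fun _ => ℕ) (j3_70) (j3_71) (Nat.ble 71 b))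 (Nat.ble 70 b)) (Nat.ble 68 b)) (Bool.rec (motive := fun _ => ℕ) (Bool.rec (motive := fun _ => ℕ) (Bool.rec (motive := fun _ => ℕ) (j3_72) (j3_73) (Nat.ble 73 b)) (Bool.rec (motive := fun _ => ℕ) (j3_74) (j3_75) (Nat.ble 75 b)) (Nat.ble 74 b)) (Bool.rec (motive := fun _ => ℕ) (Bool.rec (motive := fun _ => ℕ) (j3_76) (j3_77) (Nat.ble 77 b)) (Bool.rec (motive := fun _ => ℕ) (j3_78) (j3_79) (Nat.ble 79 b)) (Nat.ble 78 b)) (Nat.ble 76 b)) (Nat.ble 72 b)) (Bool.rec (motive := fun _ => ℕ) (Bool.rec (motive := fun _ => ℕ) (Bool.rec (motive := fun _ => ℕ) (Bool.rec (motive := fun _ => ℕ) (j3_80) (j3_81) (Nat.ble 81 b)) (Bool.rec (motive := fun _ => ℕ) (j3_82) (j3_83) (Nat.ble 83 b)) (Nat.ble 82 b)) (Bool.rec (motive := fun _ => ℕ) (Bool.rec (motive := fun _ => ℕ) (j3_84) (j3_85) (Nat.ble 85 b)) (Bool.rec (motive := fun _ => ℕ) (j3_86)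 (j3_87) (Nat.ble 87 b)) (Nat.ble 86 b)) (Nat.ble 84 b)) (Bool.rec (motive := fun _ => ℕ) (Bool.rec (motive := fun _ => ℕ) (Bool.rec (motive := fun _ => ℕ) (j3_88) (j3_89) (Nat.ble 89 b)) (Bool.rec (motive := fun _ => ℕ) (j3_90) (j3_91) (Nat.ble 91 b)) (Nat.ble 90 b)) (Bool.rec (motive := fun _ => ℕ) (Bool.rec (motive := fun _ => ℕ) (j3_92) (j3_93) (Nat.ble 93 b)) (Bool.rec (motive := fun _ => ℕ) (j3_94) (j3_95) (Nat.ble 95 b)) (Nat.ble 94 b)) (Nat.ble 92 b)) (Nat.ble 88 b)) (Nat.ble 80 b)) (Bool.rec (motive := fun _ => ℕ) (Bool.rec (motive := fun _ => ℕ) (Bool.rec (motive := fun _ => ℕ) (Bool.rec (motive := fun _ => ℕ) (Bool.rec (motive := fun _ => ℕ) (j3_96) (j3_97) (Nat.ble 97 b)) (Bool.rec (motive := fun _ => ℕ) (j3_98) (j3_99) (Nat.ble 99 b)) (Nat.ble 98 b)) (Bool.rec (motive := fun _ => ℕ) (Bool.rec (motive := fun _ => ℕ)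 (j3_100) (j3_101) (Nat.ble 101 b)) (Bool.rec (motive := fun _ => ℕ) (j3_102) (j3_103) (Nat.ble 103 b)) (Nat.ble 102 b)) (Nat.ble 100 b)) (Bool.rec (motive := fun _ => ℕ) (Bool.rec (motive := fun _ => ℕ) (Bool.rec (motive := fun _ => ℕ) (j3_104) (j3_105) (Nat.ble 105 b)) (Bool.rec (motive := fun _ => ℕ) (j3_106) (j3_107) (Nat.ble 107 b)) (Nat.ble 106 b)) (Bool.rec (motive := fun _ => ℕ) (Bool.rec (motive := fun _ => ℕ) (j3_108) (j3_109) (Nat.ble 109 b)) (Bool.rec (motive := fun _ => ℕ) (j3_110) (j3_111) (Nat.ble 111 b)) (Nat.ble 110 b)) (Nat.ble 108 b)) (Nat.ble 104 b)) (Bool.rec (motive := fun _ => ℕ) (Bool.rec (motive := fun _ => ℕ) (Bool.rec (motive := fun _ => ℕ) (Bool.rec (motive := fun _ => ℕ) (j3_112) (j3_113) (Nat.ble 113 b)) (Bool.rec (motive := fun _ => ℕ) (j3_114) (j3_115) (Nat.ble 115 b)) (Nat.ble 114 b)) (Bool.rec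 (motive := fun _ => ℕ) (Bool.rec (motive := fun _ => ℕ) (j3_116) (j3_117) (Nat.ble 117 b)) (Bool.rec (motive := fun _ => ℕ) (j3_118) (j3_119) (Nat.ble 119 b)) (Nat.ble 118 b)) (Nat.ble 116 b)) (Bool.rec (motive := fun _ => ℕ) (Bool.rec (motive := fun _ => ℕ) (Bool.rec (motive := fun _ => ℕ) (j3_120) (j3_121) (Nat.ble 121 b)) (Bool.rec (motive := fun _ => ℕ) (j3_122) (j3_123) (Nat.ble 123 b)) (Nat.ble 122 b)) (Bool.rec (motive := fun _ => ℕ) (Bool.rec (motive := fun _ => ℕ) (j3_124) (j3_125) (Nat.ble 125 b)) (Bool.rec (motive := fun _ => ℕ) (j3_126) (j3_127) (Nat.ble 127 b)) (Nat.ble 126 b)) (Nat.ble 124 b)) (Nat.ble 120 b)) (Nat.ble 112 b)) (Nat.ble 96 b)) (Nat.ble 64 b)) (Bool.rec (motive := fun _ => ℕ) (Bool.rec (motive := fun _ => ℕ) (Bool.rec (motive := fun _ => ℕ) (Bool.rec (motive := fun _ => ℕ) (Bool.rec (motive := fun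 _ => ℕ) (Bool.rec (motive := fun _ => ℕ) (Bool.rec (motive := fun _ => ℕ) (j3_128) (j3_129) (Nat.ble 129 b)) (Bool.rec (motive := fun _ => ℕ) (j3_130) (j3_131) (Nat.ble 131 b)) (Nat.ble 130 b)) (Bool.rec (motive := fun _ => ℕ) (Bool.rec (motive := fun _ => ℕ) (j3_132) (j3_133) (Nat.ble 133 b)) (Bool.rec (motive := fun _ => ℕ) (j3_134) (j3_135) (Nat.ble 135 b)) (Nat.ble 134 b)) (Nat.ble 132 b)) (Bool.rec (motive := fun _ => ℕ) (Bool.rec (motive := fun _ => ℕ) (Bool.rec (motive := fun _ => ℕ) (j3_136) (j3_137) (Nat.ble 137 b)) (Bool.rec (motive := fun _ => ℕ) (j3_138) (j3_139) (Nat.ble 139 b)) (Nat.ble 138 b)) (Bool.rec (motive := fun _ => ℕ) (Bool.rec (motive := fun _ => ℕ) (j3_140) (j3_141) (Nat.ble 141 b)) (Bool.rec (motive := fun _ => ℕ) (j3_142) (j3_143) (Nat.ble 143 b)) (Nat.ble 142 b)) (Nat.ble 140 b)) (Nat.ble 136 b)) (Bool.rec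 (motive := fun _ => ℕ) (Bool.rec (motive := fun _ => ℕ) (Bool.rec (motive := fun _ => ℕ) (Bool.rec (motive := fun _ => ℕ) (j3_144) (j3_145) (Nat.ble 145 b)) (Bool.rec (motive := fun _ => ℕ) (j3_146) (j3_147) (Nat.ble 147 b)) (Nat.ble 146 b)) (Bool.rec (motive := fun _ => ℕ) (Bool.rec (motive := fun _ => ℕ) (j3_148) (j3_149) (Nat.ble 149 b)) (Bool.rec (motive := fun _ => ℕ) (j3_150) (j3_151) (Nat.ble 151 b)) (Nat.ble 150 b)) (Nat.ble 148 b)) (Bool.rec (motive := fun _ => ℕ) (Bool.rec (motive := fun _ => ℕ) (Bool.rec (motive := fun _ => ℕ) (j3_152) (j3_153) (Nat.ble 153 b)) (Bool.rec (motive := fun _ => ℕ) (j3_154) (j3_155) (Nat.ble 155 b)) (Nat.ble 154 b)) (Bool.rec (motive := fun _ => ℕ) (Bool.rec (motive := fun _ => ℕ) (j3_156) (j3_157) (Nat.ble 157 b)) (Bool.rec (motive := fun _ => ℕ) (j3_158) (j3_159) (Nat.ble 159 b)) (Nat.ble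 158 b)) (Nat.ble 156 b)) (Nat.ble 152 b)) (Nat.ble 144 b)) (Bool.rec (motive := fun _ => ℕ) (Bool.rec (motive := fun _ => ℕ) (Bool.rec (motive := fun _ => ℕ) (Bool.rec (motive := fun _ => ℕ) (Bool.rec (motive := fun _ => ℕ) (j3_160) (j3_161) (Nat.ble 161 b)) (Bool.rec (motive := fun _ => ℕ) (j3_162) (j3_163) (Nat.ble 163 b)) (Nat.ble 162 b)) (Bool.rec (motive := fun _ => ℕ) (Bool.rec (motive := fun _ => ℕ) (j3_164) (j3_165) (Nat.ble 165 b)) (Bool.rec (motive := fun _ => ℕ) (j3_166) (j3_167) (Nat.ble 167 b)) (Nat.ble 166 b)) (Nat.ble 164 b)) (Bool.rec (motive := fun _ => ℕ) (Bool.rec (motive := fun _ => ℕ) (Bool.rec (motive := fun _ => ℕ) (j3_168) (j3_169) (Nat.ble 169 b)) (Bool.rec (motive := fun _ => ℕ) (j3_170) (j3_171) (Nat.ble 171 b)) (Nat.ble 170 b)) (Bool.rec (motive := fun _ => ℕ) (Bool.rec (motive := fun _ => ℕ) (j3_172)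 (j3_173) (Nat.ble 173 b)) (Bool.rec (motive := fun _ => ℕ) (j3_174) (j3_175) (Nat.ble 175 b)) (Nat.ble 174 b)) (Nat.ble 172 b)) (Nat.ble 168 b)) (Bool.rec (motive := fun _ => ℕ) (Bool.rec (motive := fun _ => ℕ) (Bool.rec (motive := fun _ => ℕ) (Bool.rec (motive := fun _ => ℕ) (j3_176) (j3_177) (Nat.ble 177 b)) (Bool.rec (motive := fun _ => ℕ) (j3_178) (j3_179) (Nat.ble 179 b)) (Nat.ble 178 b)) (Bool.rec (motive := fun _ => ℕ) (Bool.rec (motive := fun _ => ℕ) (j3_180) (j3_181) (Nat.ble 181 b)) (Bool.rec (motive := fun _ => ℕ) (j3_182) (j3_183) (Nat.ble 183 b)) (Nat.ble 182 b)) (Nat.ble 180 b)) (Bool.rec (motive := fun _ => ℕ) (Bool.rec (motive := fun _ => ℕ) (Bool.rec (motive := fun _ => ℕ) (j3_184) (j3_185) (Nat.ble 185 b)) (Bool.rec (motive := fun _ => ℕ) (j3_186) (j3_187) (Nat.ble 187 b)) (Nat.ble 186 b)) (Bool.rec (motive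 := fun _ => ℕ) (Bool.rec (motive := fun _ => ℕ) (j3_188) (j3_189) (Nat.ble 189 b)) (Bool.rec (motive := fun _ => ℕ) (j3_190) (j3_191) (Nat.ble 191 b)) (Nat.ble 190 b)) (Nat.ble 188 b)) (Nat.ble 184 b)) (Nat.ble 176 b)) (Nat.ble 160 b)) (Bool.rec (motive := fun _ => ℕ) (Bool.rec (motive := fun _ => ℕ) (Bool.rec (motive := fun _ => ℕ) (Bool.rec (motive := fun _ => ℕ) (Bool.rec (motive := fun _ => ℕ) (Bool.rec (motive := fun _ => ℕ) (j3_192) (j3_193) (Nat.ble 193 b)) (Bool.rec (motive := fun _ => ℕ) (j3_194) (j3_195) (Nat.ble 195 b)) (Nat.ble 194 b)) (Bool.rec (motive := fun _ => ℕ) (Bool.rec (motive := fun _ => ℕ) (j3_196) (j3_197) (Nat.ble 197 b)) (Bool.rec (motive := fun _ => ℕ) (j3_198) (j3_199) (Nat.ble 199 b)) (Nat.ble 198 b)) (Nat.ble 196 b)) (Bool.rec (motive := fun _ => ℕ) (Bool.rec (motive := fun _ => ℕ) (Bool.rec (motive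 := fun _ => ℕ) (j3_200) (j3_201) (Nat.ble 201 b)) (Bool.rec (motive := fun _ => ℕ) (j3_202) (j3_203) (Nat.ble 203 b)) (Nat.ble 202 b)) (Bool.rec (motive := fun _ => ℕ) (Bool.rec (motive := fun _ => ℕ) (j3_204) (j3_205) (Nat.ble 205 b)) (Bool.rec (motive := fun _ => ℕ) (j3_206) (j3_207) (Nat.ble 207 b)) (Nat.ble 206 b)) (Nat.ble 204 b)) (Nat.ble 200 b)) (Bool.rec (motive := fun _ => ℕ) (Bool.rec (motive := fun _ => ℕ) (Bool.rec (motive := fun _ => ℕ) (Bool.rec (motive := fun _ => ℕ) (j3_208) (j3_209) (Nat.ble 209 b)) (Bool.rec (motive := fun _ => ℕ) (j3_210) (j3_211) (Nat.ble 211 b)) (Nat.ble 210 b)) (Bool.rec (motive := fun _ => ℕ) (Bool.rec (motive := fun _ => ℕ) (j3_212) (j3_213) (Nat.ble 213 b)) (Bool.rec (motive := fun _ => ℕ) (j3_214) (j3_215) (Nat.ble 215 b)) (Nat.ble 214 b)) (Nat.ble 212 b)) (Bool.rec (motive := fun _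 => ℕ) (Bool.rec (motive := fun _ => ℕ) (Bool.rec (motive := fun _ => ℕ) (j3_216) (j3_217) (Nat.ble 217 b)) (Bool.rec (motive := fun _ => ℕ) (j3_218) (j3_219) (Nat.ble 219 b)) (Nat.ble 218 b)) (Bool.rec (motive := fun _ => ℕ) (Bool.rec (motive := fun _ => ℕ) (j3_220) (j3_221) (Nat.ble 221 b)) (Bool.rec (motive := fun _ => ℕ) (j3_222) (j3_223) (Nat.ble 223 b)) (Nat.ble 222 b)) (Nat.ble 220 b)) (Nat.ble 216 b)) (Nat.ble 208 b)) (Bool.rec (motive := fun _ => ℕ) (Bool.rec (motive := fun _ => ℕ) (Bool.rec (motive := fun _ => ℕ) (Bool.rec (motive := fun _ => ℕ) (Bool.rec (motive := fun _ => ℕ) (j3_224) (j3_225) (Nat.ble 225 b)) (Bool.rec (motive := fun _ => ℕ) (j3_226) (j3_227) (Nat.ble 227 b)) (Nat.ble 226 b)) (Bool.rec (motive := fun _ => ℕ) (Bool.rec (motive := fun _ => ℕ) (j3_228) (j3_229) (Nat.ble 229 b)) (Bool.rec (motive := fun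 _ => ℕ) (j3_230) (j3_231) (Nat.ble 231 b)) (Nat.ble 230 b)) (Nat.ble 228 b)) (Bool.rec (motive := fun _ => ℕ) (Bool.rec (motive := fun _ => ℕ) (Bool.rec (motive := fun _ => ℕ) (j3_232) (j3_233) (Nat.ble 233 b)) (Bool.rec (motive := fun _ => ℕ) (j3_234) (j3_235) (Nat.ble 235 b)) (Nat.ble 234 b)) (Bool.rec (motive := fun _ => ℕ) (Bool.rec (motive := fun _ => ℕ) (j3_236) (j3_237) (Nat.ble 237 b)) (Bool.rec (motive := fun _ => ℕ) (j3_238) (j3_239) (Nat.ble 239 b)) (Nat.ble 238 b)) (Nat.ble 236 b)) (Nat.ble 232 b)) (Bool.rec (motive := fun _ => ℕ) (Bool.rec (motive := fun _ => ℕ) (Bool.rec (motive := fun _ => ℕ) (Bool.rec (motive := fun _ => ℕ) (j3_240) (j3_241) (Nat.ble 241 b)) (Bool.rec (motive := fun _ => ℕ) (j3_242) (j3_243) (Nat.ble 243 b)) (Nat.ble 242 b)) (Bool.rec (motive := fun _ => ℕ) (Bool.rec (motive := fun _ => ℕ) (j3_244)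 (j3_245) (Nat.ble 245 b)) (Bool.rec (motive := fun _ => ℕ) (j3_246) (j3_247) (Nat.ble 247 b)) (Nat.ble 246 b)) (Nat.ble 244 b)) (Bool.rec (motive := fun _ => ℕ) (Bool.rec (motive := fun _ => ℕ) (Bool.rec (motive := fun _ => ℕ) (j3_248) (j3_249) (Nat.ble 249 b)) (Bool.rec (motive := fun _ => ℕ) (j3_250) (j3_251) (Nat.ble 251 b)) (Nat.ble 250 b)) (Bool.rec (motive := fun _ => ℕ) (Bool.rec (motive := fun _ => ℕ) (j3_252) (j3_253) (Nat.ble 253 b)) (Bool.rec (motive := fun _ => ℕ) (j3_254) (j3_255) (Nat.ble 255 b)) (Nat.ble 254 b)) (Nat.ble 252 b)) (Nat.ble 248 b)) (Nat.ble 240 b)) (Nat.ble 224 b)) (Nat.ble 192 b)) (Nat.ble 128 b)) (Bool.rec (motive := fun _ => ℕ) (Bool.rec (motive := fun _ => ℕ) (Bool.rec (motive := fun _ => ℕ) (Bool.rec (motive := fun _ => ℕ) (Bool.rec (motive := fun _ => ℕ) (Bool.rec (motive := fun _ => ℕ) (Bool.rec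 (motive := fun _ => ℕ) (Bool.rec (motive := fun _ => ℕ) (j3_256) (j3_257) (Nat.ble 257 b)) (Bool.rec (motive := fun _ => ℕ) (j3_258) (j3_259) (Nat.ble 259 b)) (Nat.ble 258 b)) (Bool.rec (motive := fun _ => ℕ) (Bool.rec (motive := fun _ => ℕ) (j3_260) (j3_261) (Nat.ble 261 b)) (Bool.rec (motive := fun _ => ℕ) (j3_262) (j3_263) (Nat.ble 263 b)) (Nat.ble 262 b)) (Nat.ble 260 b)) (Bool.rec (motive := fun _ => ℕ) (Bool.rec (motive := fun _ => ℕ) (Bool.rec (motive := fun _ => ℕ) (j3_264) (j3_265) (Nat.ble 265 b)) (Bool.rec (motive := fun _ => ℕ) (j3_266) (0) (Nat.ble 267 b)) (Nat.ble 266 b)) (0) (Nat.ble 268 b)) (Nat.ble 264 b)) (0) (Nat.ble 272 b)) (0) (Nat.ble 288 b)) (0) (Nat.ble 320 b)) (0) (Nat.ble 384 b)) (Nat.ble 256 b))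
noncomputable def ecol4 (b : ℕ) : ℕ := (Bool.rec (motive := fun _ => ℕ) (Bool.rec (motive := fun _ => ℕ) (Bool.rec (motive := fun _ => ℕ) (Bool.rec (motive := fun _ => ℕ) (Bool.rec (motive := fun _ => ℕ) (Bool.rec (motive := fun _ => ℕ) (Bool.rec (motive := fun _ => ℕ) (Bool.rec (motive := fun _ => ℕ) (Bool.rec (motive := fun _ => ℕ) (e4_0) (e4_1) (Nat.ble 1 b)) (Bool.rec (motive := fun _ => ℕ) (e4_2) (e4_3) (Nat.ble 3 b)) (Nat.ble 2 b)) (Bool.rec (motive := fun _ => ℕ) (Bool.rec (motive := fun _ => ℕ) (e4_4) (e4_5) (Nat.ble 5 b)) (Bool.rec (motive := fun _ => ℕ) (e4_6) (e4_7) (Nat.ble 7 b)) (Nat.ble 6 b)) (Nat.ble 4 b)) (Bool.rec (motive := fun _ => ℕ) (Bool.rec (motive := fun _ => ℕ) (Bool.rec (motive := fun _ => ℕ) (e4_8) (e4_9) (Nat.ble 9 b)) (Bool.rec (motive := fun _ => ℕ) (e4_10) (e4_11) (Nat.ble 11 b)) (Nat.ble 10 b))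 (Bool.rec (motive := fun _ => ℕ) (Bool.rec (motive := fun _ => ℕ) (e4_12) (e4_13) (Nat.ble 13 b)) (Bool.rec (motive := fun _ => ℕ) (e4_14) (e4_15) (Nat.ble 15 b)) (Nat.ble 14 b)) (Nat.ble 12 b)) (Nat.ble 8 b)) (Bool.rec (motive := fun _ => ℕ) (Bool.rec (motive := fun _ => ℕ) (Bool.rec (motive := fun _ => ℕ) (Bool.rec (motive := fun _ => ℕ) (e4_16) (e4_17) (Nat.ble 17 b)) (Bool.rec (motive := fun _ => ℕ) (e4_18) (e4_19) (Nat.ble 19 b)) (Nat.ble 18 b)) (Bool.rec (motive := fun _ => ℕ) (Bool.rec (motive := fun _ => ℕ) (e4_20) (e4_21) (Nat.ble 21 b)) (Bool.rec (motive := fun _ => ℕ) (e4_22) (e4_23) (Nat.ble 23 b)) (Nat.ble 22 b)) (Nat.ble 20 b)) (Bool.rec (motive := fun _ => ℕ) (Bool.rec (motive := fun _ => ℕ) (Bool.rec (motive := fun _ => ℕ) (e4_24) (e4_25) (Nat.ble 25 b)) (Bool.rec (motive := fun _ => ℕ) (e4_26) (e4_27) (Nat.ble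 27 b)) (Nat.ble 26 b)) (Bool.rec (motive := fun _ => ℕ) (Bool.rec (motive := fun _ => ℕ) (e4_28) (e4_29) (Nat.ble 29 b)) (Bool.rec (motive := fun _ => ℕ) (e4_30) (e4_31) (Nat.ble 31 b)) (Nat.ble 30 b)) (Nat.ble 28 b)) (Nat.ble 24 b)) (Nat.ble 16 b)) (Bool.rec (motive := fun _ => ℕ) (Bool.rec (motive := fun _ => ℕ) (Bool.rec (motive := fun _ => ℕ) (Bool.rec (motive := fun _ => ℕ) (Bool.rec (motive := fun _ => ℕ) (e4_32) (e4_33) (Nat.ble 33 b)) (Bool.rec (motive := fun _ => ℕ) (e4_34) (e4_35) (Nat.ble 35 b)) (Nat.ble 34 b)) (Bool.rec (motive := fun _ => ℕ) (Bool.rec (motive := fun _ => ℕ) (e4_36) (e4_37) (Nat.ble 37 b)) (Bool.rec (motive := fun _ => ℕ) (e4_38) (e4_39) (Nat.ble 39 b)) (Nat.ble 38 b)) (Nat.ble 36 b)) (Bool.rec (motive := fun _ => ℕ) (Bool.rec (motive := fun _ => ℕ) (Bool.rec (motive := fun _ => ℕ) (e4_40) (e4_41)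 (Nat.ble 41 b)) (Bool.rec (motive := fun _ => ℕ) (e4_42) (e4_43) (Nat.ble 43 b)) (Nat.ble 42 b)) (Bool.rec (motive := fun _ => ℕ) (Bool.rec (motive := fun _ => ℕ) (e4_44) (e4_45) (Nat.ble 45 b)) (Bool.rec (motive := fun _ => ℕ) (e4_46) (e4_47) (Nat.ble 47 b)) (Nat.ble 46 b)) (Nat.ble 44 b)) (Nat.ble 40 b)) (Bool.rec (motive := fun _ => ℕ) (Bool.rec (motive := fun _ => ℕ) (Bool.rec (motive := fun _ => ℕ) (Bool.rec (motive := fun _ => ℕ) (e4_48) (e4_49) (Nat.ble 49 b)) (Bool.rec (motive := fun _ => ℕ) (e4_50) (e4_51) (Nat.ble 51 b)) (Nat.ble 50 b)) (Bool.rec (motive := fun _ => ℕ) (Bool.rec (motive := fun _ => ℕ) (e4_52) (e4_53) (Nat.ble 53 b)) (Bool.rec (motive := fun _ => ℕ) (e4_54) (e4_55) (Nat.ble 55 b)) (Nat.ble 54 b)) (Nat.ble 52 b)) (Bool.rec (motive := fun _ => ℕ) (Bool.rec (motive := fun _ => ℕ) (Bool.rec (motive := fun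 _ => ℕ) (e4_56) (e4_57) (Nat.ble 57 b)) (Bool.rec (motive := fun _ => ℕ) (e4_58) (e4_59) (Nat.ble 59 b)) (Nat.ble 58 b)) (Bool.rec (motive := fun _ => ℕ) (Bool.rec (motive := fun _ => ℕ) (e4_60) (e4_61) (Nat.ble 61 b)) (Bool.rec (motive := fun _ => ℕ) (e4_62) (e4_63) (Nat.ble 63 b)) (Nat.ble 62 b)) (Nat.ble 60 b)) (Nat.ble 56 b)) (Nat.ble 48 b)) (Nat.ble 32 b)) (Bool.rec (motive := fun _ => ℕ) (Bool.rec (motive := fun _ => ℕ) (Bool.rec (motive := fun _ => ℕ) (Bool.rec (motive := fun _ => ℕ) (Bool.rec (motive := fun _ => ℕ) (Bool.rec (motive := fun _ => ℕ) (e4_64) (e4_65) (Nat.ble 65 b)) (Bool.rec (motive := fun _ => ℕ) (e4_66) (e4_67) (Nat.ble 67 b)) (Nat.ble 66 b)) (Bool.rec (motive := fun _ => ℕ) (Bool.rec (motive := fun _ => ℕ) (e4_68) (e4_69) (Nat.ble 69 b)) (Bool.rec (motive := fun _ => ℕ) (e4_70) (e4_71) (Nat.ble 71 b))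 (Nat.ble 70 b)) (Nat.ble 68 b)) (Bool.rec (motive := fun _ => ℕ) (Bool.rec (motive := fun _ => ℕ) (Bool.rec (motive := fun _ => ℕ) (e4_72) (e4_73) (Nat.ble 73 b)) (Bool.rec (motive := fun _ => ℕ) (e4_74) (e4_75) (Nat.ble 75 b)) (Nat.ble 74 b)) (Bool.rec (motive := fun _ => ℕ) (Bool.rec (motive := fun _ => ℕ) (e4_76) (e4_77) (Nat.ble 77 b)) (Bool.rec (motive := fun _ => ℕ) (e4_78) (e4_79) (Nat.ble 79 b)) (Nat.ble 78 b)) (Nat.ble 76 b)) (Nat.ble 72 b)) (Bool.rec (motive := fun _ => ℕ) (Bool.rec (motive := fun _ => ℕ) (Bool.rec (motive := fun _ => ℕ) (Bool.rec (motive := fun _ => ℕ) (e4_80) (e4_81) (Nat.ble 81 b)) (Bool.rec (motive := fun _ => ℕ) (e4_82) (e4_83) (Nat.ble 83 b)) (Nat.ble 82 b)) (Bool.rec (motive := fun _ => ℕ) (Bool.rec (motive := fun _ => ℕ) (e4_84) (e4_85) (Nat.ble 85 b)) (Bool.rec (motive := fun _ => ℕ) (e4_86)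 (e4_87) (Nat.ble 87 b)) (Nat.ble 86 b)) (Nat.ble 84 b)) (Bool.rec (motive := fun _ => ℕ) (Bool.rec (motive := fun _ => ℕ) (Bool.rec (motive := fun _ => ℕ) (e4_88) (e4_89) (Nat.ble 89 b)) (Bool.rec (motive := fun _ => ℕ) (e4_90) (e4_91) (Nat.ble 91 b)) (Nat.ble 90 b)) (Bool.rec (motive := fun _ => ℕ) (Bool.rec (motive := fun _ => ℕ) (e4_92) (e4_93) (Nat.ble 93 b)) (Bool.rec (motive := fun _ => ℕ) (e4_94) (e4_95) (Nat.ble 95 b)) (Nat.ble 94 b)) (Nat.ble 92 b)) (Nat.ble 88 b)) (Nat.ble 80 b)) (Bool.rec (motive := fun _ => ℕ) (Bool.rec (motive := fun _ => ℕ) (Bool.rec (motive := fun _ => ℕ) (Bool.rec (motive := fun _ => ℕ) (Bool.rec (motive := fun _ => ℕ) (e4_96) (e4_97) (Nat.ble 97 b)) (Bool.rec (motive := fun _ => ℕ) (e4_98) (e4_99) (Nat.ble 99 b)) (Nat.ble 98 b)) (Bool.rec (motive := fun _ => ℕ) (Bool.rec (motive := fun _ => ℕ)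 (e4_100) (e4_101) (Nat.ble 101 b)) (Bool.rec (motive := fun _ => ℕ) (e4_102) (e4_103) (Nat.ble 103 b)) (Nat.ble 102 b)) (Nat.ble 100 b)) (Bool.rec (motive := fun _ => ℕ) (Bool.rec (motive := fun _ => ℕ) (Bool.rec (motive := fun _ => ℕ) (e4_104) (e4_105) (Nat.ble 105 b)) (Bool.rec (motive := fun _ => ℕ) (e4_106) (e4_107) (Nat.ble 107 b)) (Nat.ble 106 b)) (Bool.rec (motive := fun _ => ℕ) (Bool.rec (motive := fun _ => ℕ) (e4_108) (e4_109) (Nat.ble 109 b)) (Bool.rec (motive := fun _ => ℕ) (e4_110) (e4_111) (Nat.ble 111 b)) (Nat.ble 110 b)) (Nat.ble 108 b)) (Nat.ble 104 b)) (Bool.rec (motive := fun _ => ℕ) (Bool.rec (motive := fun _ => ℕ) (Bool.rec (motive := fun _ => ℕ) (Bool.rec (motive := fun _ => ℕ) (e4_112) (e4_113) (Nat.ble 113 b)) (Bool.rec (motive := fun _ => ℕ) (e4_114) (e4_115) (Nat.ble 115 b)) (Nat.ble 114 b)) (Bool.rec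 (motive := fun _ => ℕ) (Bool.rec (motive := fun _ => ℕ) (e4_116) (e4_117) (Nat.ble 117 b)) (Bool.rec (motive := fun _ => ℕ) (e4_118) (e4_119) (Nat.ble 119 b)) (Nat.ble 118 b)) (Nat.ble 116 b)) (Bool.rec (motive := fun _ => ℕ) (Bool.rec (motive := fun _ => ℕ) (Bool.rec (motive := fun _ => ℕ) (e4_120) (e4_121) (Nat.ble 121 b)) (Bool.rec (motive := fun _ => ℕ) (e4_122) (e4_123) (Nat.ble 123 b)) (Nat.ble 122 b)) (Bool.rec (motive := fun _ => ℕ) (Bool.rec (motive := fun _ => ℕ) (e4_124) (e4_125) (Nat.ble 125 b)) (Bool.rec (motive := fun _ => ℕ) (e4_126) (e4_127) (Nat.ble 127 b)) (Nat.ble 126 b)) (Nat.ble 124 b)) (Nat.ble 120 b)) (Nat.ble 112 b)) (Nat.ble 96 b)) (Nat.ble 64 b)) (Bool.rec (motive := fun _ => ℕ) (Bool.rec (motive := fun _ => ℕ) (Bool.rec (motive := fun _ => ℕ) (Bool.rec (motive := fun _ => ℕ) (Bool.rec (motive := fun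 _ => ℕ) (Bool.rec (motive := fun _ => ℕ) (Bool.rec (motive := fun _ => ℕ) (e4_128) (e4_129) (Nat.ble 129 b)) (Bool.rec (motive := fun _ => ℕ) (e4_130) (e4_131) (Nat.ble 131 b)) (Nat.ble 130 b)) (Bool.rec (motive := fun _ => ℕ) (Bool.rec (motive := fun _ => ℕ) (e4_132) (e4_133) (Nat.ble 133 b)) (Bool.rec (motive := fun _ => ℕ) (e4_134) (e4_135) (Nat.ble 135 b)) (Nat.ble 134 b)) (Nat.ble 132 b)) (Bool.rec (motive := fun _ => ℕ) (Bool.rec (motive := fun _ => ℕ) (Bool.rec (motive := fun _ => ℕ) (e4_136) (e4_137) (Nat.ble 137 b)) (Bool.rec (motive := fun _ => ℕ) (e4_138) (e4_139) (Nat.ble 139 b)) (Nat.ble 138 b)) (Bool.rec (motive := fun _ => ℕ) (Bool.rec (motive := fun _ => ℕ) (e4_140) (e4_141) (Nat.ble 141 b)) (Bool.rec (motive := fun _ => ℕ) (e4_142) (e4_143) (Nat.ble 143 b)) (Nat.ble 142 b)) (Nat.ble 140 b)) (Nat.ble 136 b)) (Bool.rec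 (motive := fun _ => ℕ) (Bool.rec (motive := fun _ => ℕ) (Bool.rec (motive := fun _ => ℕ) (Bool.rec (motive := fun _ => ℕ) (e4_144) (e4_145) (Nat.ble 145 b)) (Bool.rec (motive := fun _ => ℕ) (e4_146) (e4_147) (Nat.ble 147 b)) (Nat.ble 146 b)) (Bool.rec (motive := fun _ => ℕ) (Bool.rec (motive := fun _ => ℕ) (e4_148) (e4_149) (Nat.ble 149 b)) (Bool.rec (motive := fun _ => ℕ) (e4_150) (e4_151) (Nat.ble 151 b)) (Nat.ble 150 b)) (Nat.ble 148 b)) (Bool.rec (motive := fun _ => ℕ) (Bool.rec (motive := fun _ => ℕ) (Bool.rec (motive := fun _ => ℕ) (e4_152) (e4_153) (Nat.ble 153 b)) (Bool.rec (motive := fun _ => ℕ) (e4_154) (e4_155) (Nat.ble 155 b)) (Nat.ble 154 b)) (Bool.rec (motive := fun _ => ℕ) (Bool.rec (motive := fun _ => ℕ) (e4_156) (e4_157) (Nat.ble 157 b)) (Bool.rec (motive := fun _ => ℕ) (e4_158) (e4_159) (Nat.ble 159 b)) (Nat.ble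 158 b)) (Nat.ble 156 b)) (Nat.ble 152 b)) (Nat.ble 144 b)) (Bool.rec (motive := fun _ => ℕ) (Bool.rec (motive := fun _ => ℕ) (Bool.rec (motive := fun _ => ℕ) (Bool.rec (motive := fun _ => ℕ) (Bool.rec (motive := fun _ => ℕ) (e4_160) (e4_161) (Nat.ble 161 b)) (Bool.rec (motive := fun _ => ℕ) (e4_162) (e4_163) (Nat.ble 163 b)) (Nat.ble 162 b)) (Bool.rec (motive := fun _ => ℕ) (Bool.rec (motive := fun _ => ℕ) (e4_164) (e4_165) (Nat.ble 165 b)) (Bool.rec (motive := fun _ => ℕ) (e4_166) (e4_167) (Nat.ble 167 b)) (Nat.ble 166 b)) (Nat.ble 164 b)) (Bool.rec (motive := fun _ => ℕ) (Bool.rec (motive := fun _ => ℕ) (Bool.rec (motive := fun _ => ℕ) (e4_168) (e4_169) (Nat.ble 169 b)) (Bool.rec (motive := fun _ => ℕ) (e4_170) (e4_171) (Nat.ble 171 b)) (Nat.ble 170 b)) (Bool.rec (motive := fun _ => ℕ) (Bool.rec (motive := fun _ => ℕ) (e4_172)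 (e4_173) (Nat.ble 173 b)) (Bool.rec (motive := fun _ => ℕ) (e4_174) (e4_175) (Nat.ble 175 b)) (Nat.ble 174 b)) (Nat.ble 172 b)) (Nat.ble 168 b)) (Bool.rec (motive := fun _ => ℕ) (Bool.rec (motive := fun _ => ℕ) (Bool.rec (motive := fun _ => ℕ) (Bool.rec (motive := fun _ => ℕ) (e4_176) (e4_177) (Nat.ble 177 b)) (Bool.rec (motive := fun _ => ℕ) (e4_178) (e4_179) (Nat.ble 179 b)) (Nat.ble 178 b)) (Bool.rec (motive := fun _ => ℕ) (Bool.rec (motive := fun _ => ℕ) (e4_180) (e4_181) (Nat.ble 181 b)) (Bool.rec (motive := fun _ => ℕ) (e4_182) (e4_183) (Nat.ble 183 b)) (Nat.ble 182 b)) (Nat.ble 180 b)) (Bool.rec (motive := fun _ => ℕ) (Bool.rec (motive := fun _ => ℕ) (Bool.rec (motive := fun _ => ℕ) (e4_184) (e4_185) (Nat.ble 185 b)) (Bool.rec (motive := fun _ => ℕ) (e4_186) (e4_187) (Nat.ble 187 b)) (Nat.ble 186 b)) (Bool.rec (motive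 := fun _ => ℕ) (Bool.rec (motive := fun _ => ℕ) (e4_188) (e4_189) (Nat.ble 189 b)) (Bool.rec (motive := fun _ => ℕ) (e4_190) (e4_191) (Nat.ble 191 b)) (Nat.ble 190 b)) (Nat.ble 188 b)) (Nat.ble 184 b)) (Nat.ble 176 b)) (Nat.ble 160 b)) (Bool.rec (motive := fun _ => ℕ) (Bool.rec (motive := fun _ => ℕ) (Bool.rec (motive := fun _ => ℕ) (Bool.rec (motive := fun _ => ℕ) (Bool.rec (motive := fun _ => ℕ) (Bool.rec (motive := fun _ => ℕ) (e4_192) (e4_193) (Nat.ble 193 b)) (Bool.rec (motive := fun _ => ℕ) (e4_194) (e4_195) (Nat.ble 195 b)) (Nat.ble 194 b)) (Bool.rec (motive := fun _ => ℕ) (Bool.rec (motive := fun _ => ℕ) (e4_196) (e4_197) (Nat.ble 197 b)) (Bool.rec (motive := fun _ => ℕ) (e4_198) (e4_199) (Nat.ble 199 b)) (Nat.ble 198 b)) (Nat.ble 196 b)) (Bool.rec (motive := fun _ => ℕ) (Bool.rec (motive := fun _ => ℕ) (Bool.rec (motive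 := fun _ => ℕ) (e4_200) (e4_201) (Nat.ble 201 b)) (Bool.rec (motive := fun _ => ℕ) (e4_202) (e4_203) (Nat.ble 203 b)) (Nat.ble 202 b)) (Bool.rec (motive := fun _ => ℕ) (Bool.rec (motive := fun _ => ℕ) (e4_204) (e4_205) (Nat.ble 205 b)) (Bool.rec (motive := fun _ => ℕ) (e4_206) (e4_207) (Nat.ble 207 b)) (Nat.ble 206 b)) (Nat.ble 204 b)) (Nat.ble 200 b)) (Bool.rec (motive := fun _ => ℕ) (Bool.rec (motive := fun _ => ℕ) (Bool.rec (motive := fun _ => ℕ) (Bool.rec (motive := fun _ => ℕ) (e4_208) (e4_209) (Nat.ble 209 b)) (Bool.rec (motive := fun _ => ℕ) (e4_210) (e4_211) (Nat.ble 211 b)) (Nat.ble 210 b)) (Bool.rec (motive := fun _ => ℕ) (Bool.rec (motive := fun _ => ℕ) (e4_212) (e4_213) (Nat.ble 213 b)) (Bool.rec (motive := fun _ => ℕ) (e4_214) (e4_215) (Nat.ble 215 b)) (Nat.ble 214 b)) (Nat.ble 212 b)) (Bool.rec (motive := fun _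 => ℕ) (Bool.rec (motive := fun _ => ℕ) (Bool.rec (motive := fun _ => ℕ) (e4_216) (e4_217) (Nat.ble 217 b)) (Bool.rec (motive := fun _ => ℕ) (e4_218) (e4_219) (Nat.ble 219 b)) (Nat.ble 218 b)) (Bool.rec (motive := fun _ => ℕ) (Bool.rec (motive := fun _ => ℕ) (e4_220) (e4_221) (Nat.ble 221 b)) (Bool.rec (motive := fun _ => ℕ) (e4_222) (e4_223) (Nat.ble 223 b)) (Nat.ble 222 b)) (Nat.ble 220 b)) (Nat.ble 216 b)) (Nat.ble 208 b)) (Bool.rec (motive := fun _ => ℕ) (Bool.rec (motive := fun _ => ℕ) (Bool.rec (motive := fun _ => ℕ) (Bool.rec (motive := fun _ => ℕ) (Bool.rec (motive := fun _ => ℕ) (e4_224) (e4_225) (Nat.ble 225 b)) (Bool.rec (motive := fun _ => ℕ) (e4_226) (e4_227) (Nat.ble 227 b)) (Nat.ble 226 b)) (Bool.rec (motive := fun _ => ℕ) (Bool.rec (motive := fun _ => ℕ) (e4_228) (e4_229) (Nat.ble 229 b)) (Bool.rec (motive := fun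 _ => ℕ) (e4_230) (e4_231) (Nat.ble 231 b)) (Nat.ble 230 b)) (Nat.ble 228 b)) (Bool.rec (motive := fun _ => ℕ) (Bool.rec (motive := fun _ => ℕ) (Bool.rec (motive := fun _ => ℕ) (e4_232) (e4_233) (Nat.ble 233 b)) (Bool.rec (motive := fun _ => ℕ) (e4_234) (e4_235) (Nat.ble 235 b)) (Nat.ble 234 b)) (Bool.rec (motive := fun _ => ℕ) (Bool.rec (motive := fun _ => ℕ) (e4_236) (e4_237) (Nat.ble 237 b)) (Bool.rec (motive := fun _ => ℕ) (e4_238) (e4_239) (Nat.ble 239 b)) (Nat.ble 238 b)) (Nat.ble 236 b)) (Nat.ble 232 b)) (Bool.rec (motive := fun _ => ℕ) (Bool.rec (motive := fun _ => ℕ) (Bool.rec (motive := fun _ => ℕ) (Bool.rec (motive := fun _ => ℕ) (e4_240) (e4_241) (Nat.ble 241 b)) (Bool.rec (motive := fun _ => ℕ) (e4_242) (e4_243) (Nat.ble 243 b)) (Nat.ble 242 b)) (Bool.rec (motive := fun _ => ℕ) (Bool.rec (motive := fun _ => ℕ) (e4_244)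 (e4_245) (Nat.ble 245 b)) (Bool.rec (motive := fun _ => ℕ) (e4_246) (e4_247) (Nat.ble 247 b)) (Nat.ble 246 b)) (Nat.ble 244 b)) (Bool.rec (motive := fun _ => ℕ) (Bool.rec (motive := fun _ => ℕ) (Bool.rec (motive := fun _ => ℕ) (e4_248) (e4_249) (Nat.ble 249 b)) (Bool.rec (motive := fun _ => ℕ) (e4_250) (e4_251) (Nat.ble 251 b)) (Nat.ble 250 b)) (Bool.rec (motive := fun _ => ℕ) (Bool.rec (motive := fun _ => ℕ) (e4_252) (e4_253) (Nat.ble 253 b)) (Bool.rec (motive := fun _ => ℕ) (e4_254) (e4_255) (Nat.ble 255 b)) (Nat.ble 254 b)) (Nat.ble 252 b)) (Nat.ble 248 b)) (Nat.ble 240 b)) (Nat.ble 224 b)) (Nat.ble 192 b)) (Nat.ble 128 b)) (Bool.rec (motive := fun _ => ℕ) (Bool.rec (motive := fun _ => ℕ) (Bool.rec (motive := fun _ => ℕ) (Bool.rec (motive := fun _ => ℕ) (Bool.rec (motive := fun _ => ℕ) (Bool.rec (motive := fun _ => ℕ) (Bool.rec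 (motive := fun _ => ℕ) (Bool.rec (motive := fun _ => ℕ) (e4_256) (e4_257) (Nat.ble 257 b)) (Bool.rec (motive := fun _ => ℕ) (e4_258) (e4_259) (Nat.ble 259 b)) (Nat.ble 258 b)) (Bool.rec (motive := fun _ => ℕ) (Bool.rec (motive := fun _ => ℕ) (e4_260) (e4_261) (Nat.ble 261 b)) (Bool.rec (motive := fun _ => ℕ) (e4_262) (e4_263) (Nat.ble 263 b)) (Nat.ble 262 b)) (Nat.ble 260 b)) (Bool.rec (motive := fun _ => ℕ) (Bool.rec (motive := fun _ => ℕ) (Bool.rec (motive := fun _ => ℕ) (e4_264) (e4_265) (Nat.ble 265 b)) (Bool.rec (motive := fun _ => ℕ) (e4_266) (0) (Nat.ble 267 b)) (Nat.ble 266 b)) (0) (Nat.ble 268 b)) (Nat.ble 264 b)) (0) (Nat.ble 272 b)) (0) (Nat.ble 288 b)) (0) (Nat.ble 320 b)) (0) (Nat.ble 384 b)) (Nat.ble 256 b))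
noncomputable def jcol4 (b : ℕ) : ℕ := (Bool.rec (motive := fun _ => ℕ) (Bool.rec (motive := fun _ => ℕ) (Bool.rec (motive := fun _ => ℕ) (Bool.rec (motive := fun _ => ℕ) (Bool.rec (motive := fun _ => ℕ) (Bool.rec (motive := fun _ => ℕ) (Bool.rec (motive := fun _ => ℕ) (Bool.rec (motive := fun _ => ℕ) (Bool.rec (motive := fun _ => ℕ) (j4_0) (j4_1) (Nat.ble 1 b)) (Bool.rec (motive := fun _ => ℕ) (j4_2) (j4_3) (Nat.ble 3 b)) (Nat.ble 2 b)) (Bool.rec (motive := fun _ => ℕ) (Bool.rec (motive := fun _ => ℕ) (j4_4) (j4_5) (Nat.ble 5 b)) (Bool.rec (motive := fun _ => ℕ) (j4_6) (j4_7) (Nat.ble 7 b)) (Nat.ble 6 b)) (Nat.ble 4 b)) (Bool.rec (motive := fun _ => ℕ) (Bool.rec (motive := fun _ => ℕ) (Bool.rec (motive := fun _ => ℕ) (j4_8) (j4_9) (Nat.ble 9 b)) (Bool.rec (motive := fun _ => ℕ) (j4_10) (j4_11) (Nat.ble 11 b)) (Nat.ble 10 b))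 (Bool.rec (motive := fun _ => ℕ) (Bool.rec (motive := fun _ => ℕ) (j4_12) (j4_13) (Nat.ble 13 b)) (Bool.rec (motive := fun _ => ℕ) (j4_14) (j4_15) (Nat.ble 15 b)) (Nat.ble 14 b)) (Nat.ble 12 b)) (Nat.ble 8 b)) (Bool.rec (motive := fun _ => ℕ) (Bool.rec (motive := fun _ => ℕ) (Bool.rec (motive := fun _ => ℕ) (Bool.rec (motive := fun _ => ℕ) (j4_16) (j4_17) (Nat.ble 17 b)) (Bool.rec (motive := fun _ => ℕ) (j4_18) (j4_19) (Nat.ble 19 b)) (Nat.ble 18 b)) (Bool.rec (motive := fun _ => ℕ) (Bool.rec (motive := fun _ => ℕ) (j4_20) (j4_21) (Nat.ble 21 b)) (Bool.rec (motive := fun _ => ℕ) (j4_22) (j4_23) (Nat.ble 23 b)) (Nat.ble 22 b)) (Nat.ble 20 b)) (Bool.rec (motive := fun _ => ℕ) (Bool.rec (motive := fun _ => ℕ) (Bool.rec (motive := fun _ => ℕ) (j4_24) (j4_25) (Nat.ble 25 b)) (Bool.rec (motive := fun _ => ℕ) (j4_26) (j4_27) (Nat.ble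 27 b)) (Nat.ble 26 b)) (Bool.rec (motive := fun _ => ℕ) (Bool.rec (motive := fun _ => ℕ) (j4_28) (j4_29) (Nat.ble 29 b)) (Bool.rec (motive := fun _ => ℕ) (j4_30) (j4_31) (Nat.ble 31 b)) (Nat.ble 30 b)) (Nat.ble 28 b)) (Nat.ble 24 b)) (Nat.ble 16 b)) (Bool.rec (motive := fun _ => ℕ) (Bool.rec (motive := fun _ => ℕ) (Bool.rec (motive := fun _ => ℕ) (Bool.rec (motive := fun _ => ℕ) (Bool.rec (motive := fun _ => ℕ) (j4_32) (j4_33) (Nat.ble 33 b)) (Bool.rec (motive := fun _ => ℕ) (j4_34) (j4_35) (Nat.ble 35 b)) (Nat.ble 34 b)) (Bool.rec (motive := fun _ => ℕ) (Bool.rec (motive := fun _ => ℕ) (j4_36) (j4_37) (Nat.ble 37 b)) (Bool.rec (motive := fun _ => ℕ) (j4_38) (j4_39) (Nat.ble 39 b)) (Nat.ble 38 b)) (Nat.ble 36 b)) (Bool.rec (motive := fun _ => ℕ) (Bool.rec (motive := fun _ => ℕ) (Bool.rec (motive := fun _ => ℕ) (j4_40) (j4_41)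 (Nat.ble 41 b)) (Bool.rec (motive := fun _ => ℕ) (j4_42) (j4_43) (Nat.ble 43 b)) (Nat.ble 42 b)) (Bool.rec (motive := fun _ => ℕ) (Bool.rec (motive := fun _ => ℕ) (j4_44) (j4_45) (Nat.ble 45 b)) (Bool.rec (motive := fun _ => ℕ) (j4_46) (j4_47) (Nat.ble 47 b)) (Nat.ble 46 b)) (Nat.ble 44 b)) (Nat.ble 40 b)) (Bool.rec (motive := fun _ => ℕ) (Bool.rec (motive := fun _ => ℕ) (Bool.rec (motive := fun _ => ℕ) (Bool.rec (motive := fun _ => ℕ) (j4_48) (j4_49) (Nat.ble 49 b)) (Bool.rec (motive := fun _ => ℕ) (j4_50) (j4_51) (Nat.ble 51 b)) (Nat.ble 50 b)) (Bool.rec (motive := fun _ => ℕ) (Bool.rec (motive := fun _ => ℕ) (j4_52) (j4_53) (Nat.ble 53 b)) (Bool.rec (motive := fun _ => ℕ) (j4_54) (j4_55) (Nat.ble 55 b)) (Nat.ble 54 b)) (Nat.ble 52 b)) (Bool.rec (motive := fun _ => ℕ) (Bool.rec (motive := fun _ => ℕ) (Bool.rec (motive := fun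 _ => ℕ) (j4_56) (j4_57) (Nat.ble 57 b)) (Bool.rec (motive := fun _ => ℕ) (j4_58) (j4_59) (Nat.ble 59 b)) (Nat.ble 58 b)) (Bool.rec (motive := fun _ => ℕ) (Bool.rec (motive := fun _ => ℕ) (j4_60) (j4_61) (Nat.ble 61 b)) (Bool.rec (motive := fun _ => ℕ) (j4_62) (j4_63) (Nat.ble 63 b)) (Nat.ble 62 b)) (Nat.ble 60 b)) (Nat.ble 56 b)) (Nat.ble 48 b)) (Nat.ble 32 b)) (Bool.rec (motive := fun _ => ℕ) (Bool.rec (motive := fun _ => ℕ) (Bool.rec (motive := fun _ => ℕ) (Bool.rec (motive := fun _ => ℕ) (Bool.rec (motive := fun _ => ℕ) (Bool.rec (motive := fun _ => ℕ) (j4_64) (j4_65) (Nat.ble 65 b)) (Bool.rec (motive := fun _ => ℕ) (j4_66) (j4_67) (Nat.ble 67 b)) (Nat.ble 66 b)) (Bool.rec (motive := fun _ => ℕ) (Bool.rec (motive := fun _ => ℕ) (j4_68) (j4_69) (Nat.ble 69 b)) (Bool.rec (motive := fun _ => ℕ) (j4_70) (j4_71) (Nat.ble 71 b))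 (Nat.ble 70 b)) (Nat.ble 68 b)) (Bool.rec (motive := fun _ => ℕ) (Bool.rec (motive := fun _ => ℕ) (Bool.rec (motive := fun _ => ℕ) (j4_72) (j4_73) (Nat.ble 73 b)) (Bool.rec (motive := fun _ => ℕ) (j4_74) (j4_75) (Nat.ble 75 b)) (Nat.ble 74 b)) (Bool.rec (motive := fun _ => ℕ) (Bool.rec (motive := fun _ => ℕ) (j4_76) (j4_77) (Nat.ble 77 b)) (Bool.rec (motive := fun _ => ℕ) (j4_78) (j4_79) (Nat.ble 79 b)) (Nat.ble 78 b)) (Nat.ble 76 b)) (Nat.ble 72 b)) (Bool.rec (motive := fun _ => ℕ) (Bool.rec (motive := fun _ => ℕ) (Bool.rec (motive := fun _ => ℕ) (Bool.rec (motive := fun _ => ℕ) (j4_80) (j4_81) (Nat.ble 81 b)) (Bool.rec (motive := fun _ => ℕ) (j4_82) (j4_83) (Nat.ble 83 b)) (Nat.ble 82 b)) (Bool.rec (motive := fun _ => ℕ) (Bool.rec (motive := fun _ => ℕ) (j4_84) (j4_85) (Nat.ble 85 b)) (Bool.rec (motive := fun _ => ℕ) (j4_86)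 (j4_87) (Nat.ble 87 b)) (Nat.ble 86 b)) (Nat.ble 84 b)) (Bool.rec (motive := fun _ => ℕ) (Bool.rec (motive := fun _ => ℕ) (Bool.rec (motive := fun _ => ℕ) (j4_88) (j4_89) (Nat.ble 89 b)) (Bool.rec (motive := fun _ => ℕ) (j4_90) (j4_91) (Nat.ble 91 b)) (Nat.ble 90 b)) (Bool.rec (motive := fun _ => ℕ) (Bool.rec (motive := fun _ => ℕ) (j4_92) (j4_93) (Nat.ble 93 b)) (Bool.rec (motive := fun _ => ℕ) (j4_94) (j4_95) (Nat.ble 95 b)) (Nat.ble 94 b)) (Nat.ble 92 b)) (Nat.ble 88 b)) (Nat.ble 80 b)) (Bool.rec (motive := fun _ => ℕ) (Bool.rec (motive := fun _ => ℕ) (Bool.rec (motive := fun _ => ℕ) (Bool.rec (motive := fun _ => ℕ) (Bool.rec (motive := fun _ => ℕ) (j4_96) (j4_97) (Nat.ble 97 b)) (Bool.rec (motive := fun _ => ℕ) (j4_98) (j4_99) (Nat.ble 99 b)) (Nat.ble 98 b)) (Bool.rec (motive := fun _ => ℕ) (Bool.rec (motive := fun _ => ℕ)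 (j4_100) (j4_101) (Nat.ble 101 b)) (Bool.rec (motive := fun _ => ℕ) (j4_102) (j4_103) (Nat.ble 103 b)) (Nat.ble 102 b)) (Nat.ble 100 b)) (Bool.rec (motive := fun _ => ℕ) (Bool.rec (motive := fun _ => ℕ) (Bool.rec (motive := fun _ => ℕ) (j4_104) (j4_105) (Nat.ble 105 b)) (Bool.rec (motive := fun _ => ℕ) (j4_106) (j4_107) (Nat.ble 107 b)) (Nat.ble 106 b)) (Bool.rec (motive := fun _ => ℕ) (Bool.rec (motive := fun _ => ℕ) (j4_108) (j4_109) (Nat.ble 109 b)) (Bool.rec (motive := fun _ => ℕ) (j4_110) (j4_111) (Nat.ble 111 b)) (Nat.ble 110 b)) (Nat.ble 108 b)) (Nat.ble 104 b)) (Bool.rec (motive := fun _ => ℕ) (Bool.rec (motive := fun _ => ℕ) (Bool.rec (motive := fun _ => ℕ) (Bool.rec (motive := fun _ => ℕ) (j4_112) (j4_113) (Nat.ble 113 b)) (Bool.rec (motive := fun _ => ℕ) (j4_114) (j4_115) (Nat.ble 115 b)) (Nat.ble 114 b)) (Bool.rec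 (motive := fun _ => ℕ) (Bool.rec (motive := fun _ => ℕ) (j4_116) (j4_117) (Nat.ble 117 b)) (Bool.rec (motive := fun _ => ℕ) (j4_118) (j4_119) (Nat.ble 119 b)) (Nat.ble 118 b)) (Nat.ble 116 b)) (Bool.rec (motive := fun _ => ℕ) (Bool.rec (motive := fun _ => ℕ) (Bool.rec (motive := fun _ => ℕ) (j4_120) (j4_121) (Nat.ble 121 b)) (Bool.rec (motive := fun _ => ℕ) (j4_122) (j4_123) (Nat.ble 123 b)) (Nat.ble 122 b)) (Bool.rec (motive := fun _ => ℕ) (Bool.rec (motive := fun _ => ℕ) (j4_124) (j4_125) (Nat.ble 125 b)) (Bool.rec (motive := fun _ => ℕ) (j4_126) (j4_127) (Nat.ble 127 b)) (Nat.ble 126 b)) (Nat.ble 124 b)) (Nat.ble 120 b)) (Nat.ble 112 b)) (Nat.ble 96 b)) (Nat.ble 64 b)) (Bool.rec (motive := fun _ => ℕ) (Bool.rec (motive := fun _ => ℕ) (Bool.rec (motive := fun _ => ℕ) (Bool.rec (motive := fun _ => ℕ) (Bool.rec (motive := fun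 _ => ℕ) (Bool.rec (motive := fun _ => ℕ) (Bool.rec (motive := fun _ => ℕ) (j4_128) (j4_129) (Nat.ble 129 b)) (Bool.rec (motive := fun _ => ℕ) (j4_130) (j4_131) (Nat.ble 131 b)) (Nat.ble 130 b)) (Bool.rec (motive := fun _ => ℕ) (Bool.rec (motive := fun _ => ℕ) (j4_132) (j4_133) (Nat.ble 133 b)) (Bool.rec (motive := fun _ => ℕ) (j4_134) (j4_135) (Nat.ble 135 b)) (Nat.ble 134 b)) (Nat.ble 132 b)) (Bool.rec (motive := fun _ => ℕ) (Bool.rec (motive := fun _ => ℕ) (Bool.rec (motive := fun _ => ℕ) (j4_136) (j4_137) (Nat.ble 137 b)) (Bool.rec (motive := fun _ => ℕ) (j4_138) (j4_139) (Nat.ble 139 b)) (Nat.ble 138 b)) (Bool.rec (motive := fun _ => ℕ) (Bool.rec (motive := fun _ => ℕ) (j4_140) (j4_141) (Nat.ble 141 b)) (Bool.rec (motive := fun _ => ℕ) (j4_142) (j4_143) (Nat.ble 143 b)) (Nat.ble 142 b)) (Nat.ble 140 b)) (Nat.ble 136 b)) (Bool.rec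 (motive := fun _ => ℕ) (Bool.rec (motive := fun _ => ℕ) (Bool.rec (motive := fun _ => ℕ) (Bool.rec (motive := fun _ => ℕ) (j4_144) (j4_145) (Nat.ble 145 b)) (Bool.rec (motive := fun _ => ℕ) (j4_146) (j4_147) (Nat.ble 147 b)) (Nat.ble 146 b)) (Bool.rec (motive := fun _ => ℕ) (Bool.rec (motive := fun _ => ℕ) (j4_148) (j4_149) (Nat.ble 149 b)) (Bool.rec (motive := fun _ => ℕ) (j4_150) (j4_151) (Nat.ble 151 b)) (Nat.ble 150 b)) (Nat.ble 148 b)) (Bool.rec (motive := fun _ => ℕ) (Bool.rec (motive := fun _ => ℕ) (Bool.rec (motive := fun _ => ℕ) (j4_152) (j4_153) (Nat.ble 153 b)) (Bool.rec (motive := fun _ => ℕ) (j4_154) (j4_155) (Nat.ble 155 b)) (Nat.ble 154 b)) (Bool.rec (motive := fun _ => ℕ) (Bool.rec (motive := fun _ => ℕ) (j4_156) (j4_157) (Nat.ble 157 b)) (Bool.rec (motive := fun _ => ℕ) (j4_158) (j4_159) (Nat.ble 159 b)) (Nat.ble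 158 b)) (Nat.ble 156 b)) (Nat.ble 152 b)) (Nat.ble 144 b)) (Bool.rec (motive := fun _ => ℕ) (Bool.rec (motive := fun _ => ℕ) (Bool.rec (motive := fun _ => ℕ) (Bool.rec (motive := fun _ => ℕ) (Bool.rec (motive := fun _ => ℕ) (j4_160) (j4_161) (Nat.ble 161 b)) (Bool.rec (motive := fun _ => ℕ) (j4_162) (j4_163) (Nat.ble 163 b)) (Nat.ble 162 b)) (Bool.rec (motive := fun _ => ℕ) (Bool.rec (motive := fun _ => ℕ) (j4_164) (j4_165) (Nat.ble 165 b)) (Bool.rec (motive := fun _ => ℕ) (j4_166) (j4_167) (Nat.ble 167 b)) (Nat.ble 166 b)) (Nat.ble 164 b)) (Bool.rec (motive := fun _ => ℕ) (Bool.rec (motive := fun _ => ℕ) (Bool.rec (motive := fun _ => ℕ) (j4_168) (j4_169) (Nat.ble 169 b)) (Bool.rec (motive := fun _ => ℕ) (j4_170) (j4_171) (Nat.ble 171 b)) (Nat.ble 170 b)) (Bool.rec (motive := fun _ => ℕ) (Bool.rec (motive := fun _ => ℕ) (j4_172)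 (j4_173) (Nat.ble 173 b)) (Bool.rec (motive := fun _ => ℕ) (j4_174) (j4_175) (Nat.ble 175 b)) (Nat.ble 174 b)) (Nat.ble 172 b)) (Nat.ble 168 b)) (Bool.rec (motive := fun _ => ℕ) (Bool.rec (motive := fun _ => ℕ) (Bool.rec (motive := fun _ => ℕ) (Bool.rec (motive := fun _ => ℕ) (j4_176) (j4_177) (Nat.ble 177 b)) (Bool.rec (motive := fun _ => ℕ) (j4_178) (j4_179) (Nat.ble 179 b)) (Nat.ble 178 b)) (Bool.rec (motive := fun _ => ℕ) (Bool.rec (motive := fun _ => ℕ) (j4_180) (j4_181) (Nat.ble 181 b)) (Bool.rec (motive := fun _ => ℕ) (j4_182) (j4_183) (Nat.ble 183 b)) (Nat.ble 182 b)) (Nat.ble 180 b)) (Bool.rec (motive := fun _ => ℕ) (Bool.rec (motive := fun _ => ℕ) (Bool.rec (motive := fun _ => ℕ) (j4_184) (j4_185) (Nat.ble 185 b)) (Bool.rec (motive := fun _ => ℕ) (j4_186) (j4_187) (Nat.ble 187 b)) (Nat.ble 186 b)) (Bool.rec (motive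 := fun _ => ℕ) (Bool.rec (motive := fun _ => ℕ) (j4_188) (j4_189) (Nat.ble 189 b)) (Bool.rec (motive := fun _ => ℕ) (j4_190) (j4_191) (Nat.ble 191 b)) (Nat.ble 190 b)) (Nat.ble 188 b)) (Nat.ble 184 b)) (Nat.ble 176 b)) (Nat.ble 160 b)) (Bool.rec (motive := fun _ => ℕ) (Bool.rec (motive := fun _ => ℕ) (Bool.rec (motive := fun _ => ℕ) (Bool.rec (motive := fun _ => ℕ) (Bool.rec (motive := fun _ => ℕ) (Bool.rec (motive := fun _ => ℕ) (j4_192) (j4_193) (Nat.ble 193 b)) (Bool.rec (motive := fun _ => ℕ) (j4_194) (j4_195) (Nat.ble 195 b)) (Nat.ble 194 b)) (Bool.rec (motive := fun _ => ℕ) (Bool.rec (motive := fun _ => ℕ) (j4_196) (j4_197) (Nat.ble 197 b)) (Bool.rec (motive := fun _ => ℕ) (j4_198) (j4_199) (Nat.ble 199 b)) (Nat.ble 198 b)) (Nat.ble 196 b)) (Bool.rec (motive := fun _ => ℕ) (Bool.rec (motive := fun _ => ℕ) (Bool.rec (motive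 := fun _ => ℕ) (j4_200) (j4_201) (Nat.ble 201 b)) (Bool.rec (motive := fun _ => ℕ) (j4_202) (j4_203) (Nat.ble 203 b)) (Nat.ble 202 b)) (Bool.rec (motive := fun _ => ℕ) (Bool.rec (motive := fun _ => ℕ) (j4_204) (j4_205) (Nat.ble 205 b)) (Bool.rec (motive := fun _ => ℕ) (j4_206) (j4_207) (Nat.ble 207 b)) (Nat.ble 206 b)) (Nat.ble 204 b)) (Nat.ble 200 b)) (Bool.rec (motive := fun _ => ℕ) (Bool.rec (motive := fun _ => ℕ) (Bool.rec (motive := fun _ => ℕ) (Bool.rec (motive := fun _ => ℕ) (j4_208) (j4_209) (Nat.ble 209 b)) (Bool.rec (motive := fun _ => ℕ) (j4_210) (j4_211) (Nat.ble 211 b)) (Nat.ble 210 b)) (Bool.rec (motive := fun _ => ℕ) (Bool.rec (motive := fun _ => ℕ) (j4_212) (j4_213) (Nat.ble 213 b)) (Bool.rec (motive := fun _ => ℕ) (j4_214) (j4_215) (Nat.ble 215 b)) (Nat.ble 214 b)) (Nat.ble 212 b)) (Bool.rec (motive := fun _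 => ℕ) (Bool.rec (motive := fun _ => ℕ) (Bool.rec (motive := fun _ => ℕ) (j4_216) (j4_217) (Nat.ble 217 b)) (Bool.rec (motive := fun _ => ℕ) (j4_218) (j4_219) (Nat.ble 219 b)) (Nat.ble 218 b)) (Bool.rec (motive := fun _ => ℕ) (Bool.rec (motive := fun _ => ℕ) (j4_220) (j4_221) (Nat.ble 221 b)) (Bool.rec (motive := fun _ => ℕ) (j4_222) (j4_223) (Nat.ble 223 b)) (Nat.ble 222 b)) (Nat.ble 220 b)) (Nat.ble 216 b)) (Nat.ble 208 b)) (Bool.rec (motive := fun _ => ℕ) (Bool.rec (motive := fun _ => ℕ) (Bool.rec (motive := fun _ => ℕ) (Bool.rec (motive := fun _ => ℕ) (Bool.rec (motive := fun _ => ℕ) (j4_224) (j4_225) (Nat.ble 225 b)) (Bool.rec (motive := fun _ => ℕ) (j4_226) (j4_227) (Nat.ble 227 b)) (Nat.ble 226 b)) (Bool.rec (motive := fun _ => ℕ) (Bool.rec (motive := fun _ => ℕ) (j4_228) (j4_229) (Nat.ble 229 b)) (Bool.rec (motive := fun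 _ => ℕ) (j4_230) (j4_231) (Nat.ble 231 b)) (Nat.ble 230 b)) (Nat.ble 228 b)) (Bool.rec (motive := fun _ => ℕ) (Bool.rec (motive := fun _ => ℕ) (Bool.rec (motive := fun _ => ℕ) (j4_232) (j4_233) (Nat.ble 233 b)) (Bool.rec (motive := fun _ => ℕ) (j4_234) (j4_235) (Nat.ble 235 b)) (Nat.ble 234 b)) (Bool.rec (motive := fun _ => ℕ) (Bool.rec (motive := fun _ => ℕ) (j4_236) (j4_237) (Nat.ble 237 b)) (Bool.rec (motive := fun _ => ℕ) (j4_238) (j4_239) (Nat.ble 239 b)) (Nat.ble 238 b)) (Nat.ble 236 b)) (Nat.ble 232 b)) (Bool.rec (motive := fun _ => ℕ) (Bool.rec (motive := fun _ => ℕ) (Bool.rec (motive := fun _ => ℕ) (Bool.rec (motive := fun _ => ℕ) (j4_240) (j4_241) (Nat.ble 241 b)) (Bool.rec (motive := fun _ => ℕ) (j4_242) (j4_243) (Nat.ble 243 b)) (Nat.ble 242 b)) (Bool.rec (motive := fun _ => ℕ) (Bool.rec (motive := fun _ => ℕ) (j4_244)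 (j4_245) (Nat.ble 245 b)) (Bool.rec (motive := fun _ => ℕ) (j4_246) (j4_247) (Nat.ble 247 b)) (Nat.ble 246 b)) (Nat.ble 244 b)) (Bool.rec (motive := fun _ => ℕ) (Bool.rec (motive := fun _ => ℕ) (Bool.rec (motive := fun _ => ℕ) (j4_248) (j4_249) (Nat.ble 249 b)) (Bool.rec (motive := fun _ => ℕ) (j4_250) (j4_251) (Nat.ble 251 b)) (Nat.ble 250 b)) (Bool.rec (motive := fun _ => ℕ) (Bool.rec (motive := fun _ => ℕ) (j4_252) (j4_253) (Nat.ble 253 b)) (Bool.rec (motive := fun _ => ℕ) (j4_254) (j4_255) (Nat.ble 255 b)) (Nat.ble 254 b)) (Nat.ble 252 b)) (Nat.ble 248 b)) (Nat.ble 240 b)) (Nat.ble 224 b)) (Nat.ble 192 b)) (Nat.ble 128 b)) (Bool.rec (motive := fun _ => ℕ) (Bool.rec (motive := fun _ => ℕ) (Bool.rec (motive := fun _ => ℕ) (Bool.rec (motive := fun _ => ℕ) (Bool.rec (motive := fun _ => ℕ) (Bool.rec (motive := fun _ => ℕ) (Bool.rec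 (motive := fun _ => ℕ) (Bool.rec (motive := fun _ => ℕ) (j4_256) (j4_257) (Nat.ble 257 b)) (Bool.rec (motive := fun _ => ℕ) (j4_258) (j4_259) (Nat.ble 259 b)) (Nat.ble 258 b)) (Bool.rec (motive := fun _ => ℕ) (Bool.rec (motive := fun _ => ℕ) (j4_260) (j4_261) (Nat.ble 261 b)) (Bool.rec (motive := fun _ => ℕ) (j4_262) (j4_263) (Nat.ble 263 b)) (Nat.ble 262 b)) (Nat.ble 260 b)) (Bool.rec (motive := fun _ => ℕ) (Bool.rec (motive := fun _ => ℕ) (Bool.rec (motive := fun _ => ℕ) (j4_264) (j4_265) (Nat.ble 265 b)) (Bool.rec (motive := fun _ => ℕ) (j4_266) (0) (Nat.ble 267 b)) (Nat.ble 266 b)) (0) (Nat.ble 268 b)) (Nat.ble 264 b)) (0) (Nat.ble 272 b)) (0) (Nat.ble 288 b)) (0) (Nat.ble 320 b)) (0) (Nat.ble 384 b)) (Nat.ble 256 b))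
noncomputable def ecol5 (b : ℕ) : ℕ := (Bool.rec (motive := fun _ => ℕ) (Bool.rec (motive := fun _ => ℕ) (Bool.rec (motive := fun _ => ℕ) (Bool.rec (motive := fun _ => ℕ) (Bool.rec (motive := fun _ => ℕ) (Bool.rec (motive := fun _ => ℕ) (Bool.rec (motive := fun _ => ℕ) (Bool.rec (motive := fun _ => ℕ) (Bool.rec (motive := fun _ => ℕ) (e5_0) (e5_1) (Nat.ble 1 b)) (Bool.rec (motive := fun _ => ℕ) (e5_2) (e5_3) (Nat.ble 3 b)) (Nat.ble 2 b)) (Bool.rec (motive := fun _ => ℕ) (Bool.rec (motive := fun _ => ℕ) (e5_4) (e5_5) (Nat.ble 5 b)) (Bool.rec (motive := fun _ => ℕ) (e5_6) (e5_7) (Nat.ble 7 b)) (Nat.ble 6 b)) (Nat.ble 4 b)) (Bool.rec (motive := fun _ => ℕ) (Bool.rec (motive := fun _ => ℕ) (Bool.rec (motive := fun _ => ℕ) (e5_8) (e5_9) (Nat.ble 9 b)) (Bool.rec (motive := fun _ => ℕ) (e5_10) (e5_11) (Nat.ble 11 b)) (Nat.ble 10 b))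 (Bool.rec (motive := fun _ => ℕ) (Bool.rec (motive := fun _ => ℕ) (e5_12) (e5_13) (Nat.ble 13 b)) (Bool.rec (motive := fun _ => ℕ) (e5_14) (e5_15) (Nat.ble 15 b)) (Nat.ble 14 b)) (Nat.ble 12 b)) (Nat.ble 8 b)) (Bool.rec (motive := fun _ => ℕ) (Bool.rec (motive := fun _ => ℕ) (Bool.rec (motive := fun _ => ℕ) (Bool.rec (motive := fun _ => ℕ) (e5_16) (e5_17) (Nat.ble 17 b)) (Bool.rec (motive := fun _ => ℕ) (e5_18) (e5_19) (Nat.ble 19 b)) (Nat.ble 18 b)) (Bool.rec (motive := fun _ => ℕ) (Bool.rec (motive := fun _ => ℕ) (e5_20) (e5_21) (Nat.ble 21 b)) (Bool.rec (motive := fun _ => ℕ) (e5_22) (e5_23) (Nat.ble 23 b)) (Nat.ble 22 b)) (Nat.ble 20 b)) (Bool.rec (motive := fun _ => ℕ) (Bool.rec (motive := fun _ => ℕ) (Bool.rec (motive := fun _ => ℕ) (e5_24) (e5_25) (Nat.ble 25 b)) (Bool.rec (motive := fun _ => ℕ) (e5_26) (e5_27) (Nat.ble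 27 b)) (Nat.ble 26 b)) (Bool.rec (motive := fun _ => ℕ) (Bool.rec (motive := fun _ => ℕ) (e5_28) (e5_29) (Nat.ble 29 b)) (Bool.rec (motive := fun _ => ℕ) (e5_30) (e5_31) (Nat.ble 31 b)) (Nat.ble 30 b)) (Nat.ble 28 b)) (Nat.ble 24 b)) (Nat.ble 16 b)) (Bool.rec (motive := fun _ => ℕ) (Bool.rec (motive := fun _ => ℕ) (Bool.rec (motive := fun _ => ℕ) (Bool.rec (motive := fun _ => ℕ) (Bool.rec (motive := fun _ => ℕ) (e5_32) (e5_33) (Nat.ble 33 b)) (Bool.rec (motive := fun _ => ℕ) (e5_34) (e5_35) (Nat.ble 35 b)) (Nat.ble 34 b)) (Bool.rec (motive := fun _ => ℕ) (Bool.rec (motive := fun _ => ℕ) (e5_36) (e5_37) (Nat.ble 37 b)) (Bool.rec (motive := fun _ => ℕ) (e5_38) (e5_39) (Nat.ble 39 b)) (Nat.ble 38 b)) (Nat.ble 36 b)) (Bool.rec (motive := fun _ => ℕ) (Bool.rec (motive := fun _ => ℕ) (Bool.rec (motive := fun _ => ℕ) (e5_40) (e5_41)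 (Nat.ble 41 b)) (Bool.rec (motive := fun _ => ℕ) (e5_42) (e5_43) (Nat.ble 43 b)) (Nat.ble 42 b)) (Bool.rec (motive := fun _ => ℕ) (Bool.rec (motive := fun _ => ℕ) (e5_44) (e5_45) (Nat.ble 45 b)) (Bool.rec (motive := fun _ => ℕ) (e5_46) (e5_47) (Nat.ble 47 b)) (Nat.ble 46 b)) (Nat.ble 44 b)) (Nat.ble 40 b)) (Bool.rec (motive := fun _ => ℕ) (Bool.rec (motive := fun _ => ℕ) (Bool.rec (motive := fun _ => ℕ) (Bool.rec (motive := fun _ => ℕ) (e5_48) (e5_49) (Nat.ble 49 b)) (Bool.rec (motive := fun _ => ℕ) (e5_50) (e5_51) (Nat.ble 51 b)) (Nat.ble 50 b)) (Bool.rec (motive := fun _ => ℕ) (Bool.rec (motive := fun _ => ℕ) (e5_52) (e5_53) (Nat.ble 53 b)) (Bool.rec (motive := fun _ => ℕ) (e5_54) (e5_55) (Nat.ble 55 b)) (Nat.ble 54 b)) (Nat.ble 52 b)) (Bool.rec (motive := fun _ => ℕ) (Bool.rec (motive := fun _ => ℕ) (Bool.rec (motive := fun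 _ => ℕ) (e5_56) (e5_57) (Nat.ble 57 b)) (Bool.rec (motive := fun _ => ℕ) (e5_58) (e5_59) (Nat.ble 59 b)) (Nat.ble 58 b)) (Bool.rec (motive := fun _ => ℕ) (Bool.rec (motive := fun _ => ℕ) (e5_60) (e5_61) (Nat.ble 61 b)) (Bool.rec (motive := fun _ => ℕ) (e5_62) (e5_63) (Nat.ble 63 b)) (Nat.ble 62 b)) (Nat.ble 60 b)) (Nat.ble 56 b)) (Nat.ble 48 b)) (Nat.ble 32 b)) (Bool.rec (motive := fun _ => ℕ) (Bool.rec (motive := fun _ => ℕ) (Bool.rec (motive := fun _ => ℕ) (Bool.rec (motive := fun _ => ℕ) (Bool.rec (motive := fun _ => ℕ) (Bool.rec (motive := fun _ => ℕ) (e5_64) (e5_65) (Nat.ble 65 b)) (Bool.rec (motive := fun _ => ℕ) (e5_66) (e5_67) (Nat.ble 67 b)) (Nat.ble 66 b)) (Bool.rec (motive := fun _ => ℕ) (Bool.rec (motive := fun _ => ℕ) (e5_68) (e5_69) (Nat.ble 69 b)) (Bool.rec (motive := fun _ => ℕ) (e5_70) (e5_71) (Nat.ble 71 b))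 (Nat.ble 70 b)) (Nat.ble 68 b)) (Bool.rec (motive := fun _ => ℕ) (Bool.rec (motive := fun _ => ℕ) (Bool.rec (motive := fun _ => ℕ) (e5_72) (e5_73) (Nat.ble 73 b)) (Bool.rec (motive := fun _ => ℕ) (e5_74) (e5_75) (Nat.ble 75 b)) (Nat.ble 74 b)) (Bool.rec (motive := fun _ => ℕ) (Bool.rec (motive := fun _ => ℕ) (e5_76) (e5_77) (Nat.ble 77 b)) (Bool.rec (motive := fun _ => ℕ) (e5_78) (e5_79) (Nat.ble 79 b)) (Nat.ble 78 b)) (Nat.ble 76 b)) (Nat.ble 72 b)) (Bool.rec (motive := fun _ => ℕ) (Bool.rec (motive := fun _ => ℕ) (Bool.rec (motive := fun _ => ℕ) (Bool.rec (motive := fun _ => ℕ) (e5_80) (e5_81) (Nat.ble 81 b)) (Bool.rec (motive := fun _ => ℕ) (e5_82) (e5_83) (Nat.ble 83 b)) (Nat.ble 82 b)) (Bool.rec (motive := fun _ => ℕ) (Bool.rec (motive := fun _ => ℕ) (e5_84) (e5_85) (Nat.ble 85 b)) (Bool.rec (motive := fun _ => ℕ) (e5_86)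 (e5_87) (Nat.ble 87 b)) (Nat.ble 86 b)) (Nat.ble 84 b)) (Bool.rec (motive := fun _ => ℕ) (Bool.rec (motive := fun _ => ℕ) (Bool.rec (motive := fun _ => ℕ) (e5_88) (e5_89) (Nat.ble 89 b)) (Bool.rec (motive := fun _ => ℕ) (e5_90) (e5_91) (Nat.ble 91 b)) (Nat.ble 90 b)) (Bool.rec (motive := fun _ => ℕ) (Bool.rec (motive := fun _ => ℕ) (e5_92) (e5_93) (Nat.ble 93 b)) (Bool.rec (motive := fun _ => ℕ) (e5_94) (e5_95) (Nat.ble 95 b)) (Nat.ble 94 b)) (Nat.ble 92 b)) (Nat.ble 88 b)) (Nat.ble 80 b)) (Bool.rec (motive := fun _ => ℕ) (Bool.rec (motive := fun _ => ℕ) (Bool.rec (motive := fun _ => ℕ) (Bool.rec (motive := fun _ => ℕ) (Bool.rec (motive := fun _ => ℕ) (e5_96) (e5_97) (Nat.ble 97 b)) (Bool.rec (motive := fun _ => ℕ) (e5_98) (e5_99) (Nat.ble 99 b)) (Nat.ble 98 b)) (Bool.rec (motive := fun _ => ℕ) (Bool.rec (motive := fun _ => ℕ)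 (e5_100) (e5_101) (Nat.ble 101 b)) (Bool.rec (motive := fun _ => ℕ) (e5_102) (e5_103) (Nat.ble 103 b)) (Nat.ble 102 b)) (Nat.ble 100 b)) (Bool.rec (motive := fun _ => ℕ) (Bool.rec (motive := fun _ => ℕ) (Bool.rec (motive := fun _ => ℕ) (e5_104) (e5_105) (Nat.ble 105 b)) (Bool.rec (motive := fun _ => ℕ) (e5_106) (e5_107) (Nat.ble 107 b)) (Nat.ble 106 b)) (Bool.rec (motive := fun _ => ℕ) (Bool.rec (motive := fun _ => ℕ) (e5_108) (e5_109) (Nat.ble 109 b)) (Bool.rec (motive := fun _ => ℕ) (e5_110) (e5_111) (Nat.ble 111 b)) (Nat.ble 110 b)) (Nat.ble 108 b)) (Nat.ble 104 b)) (Bool.rec (motive := fun _ => ℕ) (Bool.rec (motive := fun _ => ℕ) (Bool.rec (motive := fun _ => ℕ) (Bool.rec (motive := fun _ => ℕ) (e5_112) (e5_113) (Nat.ble 113 b)) (Bool.rec (motive := fun _ => ℕ) (e5_114) (e5_115) (Nat.ble 115 b)) (Nat.ble 114 b)) (Bool.rec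 (motive := fun _ => ℕ) (Bool.rec (motive := fun _ => ℕ) (e5_116) (e5_117) (Nat.ble 117 b)) (Bool.rec (motive := fun _ => ℕ) (e5_118) (e5_119) (Nat.ble 119 b)) (Nat.ble 118 b)) (Nat.ble 116 b)) (Bool.rec (motive := fun _ => ℕ) (Bool.rec (motive := fun _ => ℕ) (Bool.rec (motive := fun _ => ℕ) (e5_120) (e5_121) (Nat.ble 121 b)) (Bool.rec (motive := fun _ => ℕ) (e5_122) (e5_123) (Nat.ble 123 b)) (Nat.ble 122 b)) (Bool.rec (motive := fun _ => ℕ) (Bool.rec (motive := fun _ => ℕ) (e5_124) (e5_125) (Nat.ble 125 b)) (Bool.rec (motive := fun _ => ℕ) (e5_126) (e5_127) (Nat.ble 127 b)) (Nat.ble 126 b)) (Nat.ble 124 b)) (Nat.ble 120 b)) (Nat.ble 112 b)) (Nat.ble 96 b)) (Nat.ble 64 b)) (Bool.rec (motive := fun _ => ℕ) (Bool.rec (motive := fun _ => ℕ) (Bool.rec (motive := fun _ => ℕ) (Bool.rec (motive := fun _ => ℕ) (Bool.rec (motive := fun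 _ => ℕ) (Bool.rec (motive := fun _ => ℕ) (Bool.rec (motive := fun _ => ℕ) (e5_128) (e5_129) (Nat.ble 129 b)) (Bool.rec (motive := fun _ => ℕ) (e5_130) (e5_131) (Nat.ble 131 b)) (Nat.ble 130 b)) (Bool.rec (motive := fun _ => ℕ) (Bool.rec (motive := fun _ => ℕ) (e5_132) (e5_133) (Nat.ble 133 b)) (Bool.rec (motive := fun _ => ℕ) (e5_134) (e5_135) (Nat.ble 135 b)) (Nat.ble 134 b)) (Nat.ble 132 b)) (Bool.rec (motive := fun _ => ℕ) (Bool.rec (motive := fun _ => ℕ) (Bool.rec (motive := fun _ => ℕ) (e5_136) (e5_137) (Nat.ble 137 b)) (Bool.rec (motive := fun _ => ℕ) (e5_138) (e5_139) (Nat.ble 139 b)) (Nat.ble 138 b)) (Bool.rec (motive := fun _ => ℕ) (Bool.rec (motive := fun _ => ℕ) (e5_140) (e5_141) (Nat.ble 141 b)) (Bool.rec (motive := fun _ => ℕ) (e5_142) (e5_143) (Nat.ble 143 b)) (Nat.ble 142 b)) (Nat.ble 140 b)) (Nat.ble 136 b)) (Bool.rec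 (motive := fun _ => ℕ) (Bool.rec (motive := fun _ => ℕ) (Bool.rec (motive := fun _ => ℕ) (Bool.rec (motive := fun _ => ℕ) (e5_144) (e5_145) (Nat.ble 145 b)) (Bool.rec (motive := fun _ => ℕ) (e5_146) (e5_147) (Nat.ble 147 b)) (Nat.ble 146 b)) (Bool.rec (motive := fun _ => ℕ) (Bool.rec (motive := fun _ => ℕ) (e5_148) (e5_149) (Nat.ble 149 b)) (Bool.rec (motive := fun _ => ℕ) (e5_150) (e5_151) (Nat.ble 151 b)) (Nat.ble 150 b)) (Nat.ble 148 b)) (Bool.rec (motive := fun _ => ℕ) (Bool.rec (motive := fun _ => ℕ) (Bool.rec (motive := fun _ => ℕ) (e5_152) (e5_153) (Nat.ble 153 b)) (Bool.rec (motive := fun _ => ℕ) (e5_154) (e5_155) (Nat.ble 155 b)) (Nat.ble 154 b)) (Bool.rec (motive := fun _ => ℕ) (Bool.rec (motive := fun _ => ℕ) (e5_156) (e5_157) (Nat.ble 157 b)) (Bool.rec (motive := fun _ => ℕ) (e5_158) (e5_159) (Nat.ble 159 b)) (Nat.ble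 158 b)) (Nat.ble 156 b)) (Nat.ble 152 b)) (Nat.ble 144 b)) (Bool.rec (motive := fun _ => ℕ) (Bool.rec (motive := fun _ => ℕ) (Bool.rec (motive := fun _ => ℕ) (Bool.rec (motive := fun _ => ℕ) (Bool.rec (motive := fun _ => ℕ) (e5_160) (e5_161) (Nat.ble 161 b)) (Bool.rec (motive := fun _ => ℕ) (e5_162) (e5_163) (Nat.ble 163 b)) (Nat.ble 162 b)) (Bool.rec (motive := fun _ => ℕ) (Bool.rec (motive := fun _ => ℕ) (e5_164) (e5_165) (Nat.ble 165 b)) (Bool.rec (motive := fun _ => ℕ) (e5_166) (e5_167) (Nat.ble 167 b)) (Nat.ble 166 b)) (Nat.ble 164 b)) (Bool.rec (motive := fun _ => ℕ) (Bool.rec (motive := fun _ => ℕ) (Bool.rec (motive := fun _ => ℕ) (e5_168) (e5_169) (Nat.ble 169 b)) (Bool.rec (motive := fun _ => ℕ) (e5_170) (e5_171) (Nat.ble 171 b)) (Nat.ble 170 b)) (Bool.rec (motive := fun _ => ℕ) (Bool.rec (motive := fun _ => ℕ) (e5_172)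 (e5_173) (Nat.ble 173 b)) (Bool.rec (motive := fun _ => ℕ) (e5_174) (e5_175) (Nat.ble 175 b)) (Nat.ble 174 b)) (Nat.ble 172 b)) (Nat.ble 168 b)) (Bool.rec (motive := fun _ => ℕ) (Bool.rec (motive := fun _ => ℕ) (Bool.rec (motive := fun _ => ℕ) (Bool.rec (motive := fun _ => ℕ) (e5_176) (e5_177) (Nat.ble 177 b)) (Bool.rec (motive := fun _ => ℕ) (e5_178) (e5_179) (Nat.ble 179 b)) (Nat.ble 178 b)) (Bool.rec (motive := fun _ => ℕ) (Bool.rec (motive := fun _ => ℕ) (e5_180) (e5_181) (Nat.ble 181 b)) (Bool.rec (motive := fun _ => ℕ) (e5_182) (e5_183) (Nat.ble 183 b)) (Nat.ble 182 b)) (Nat.ble 180 b)) (Bool.rec (motive := fun _ => ℕ) (Bool.rec (motive := fun _ => ℕ) (Bool.rec (motive := fun _ => ℕ) (e5_184) (e5_185) (Nat.ble 185 b)) (Bool.rec (motive := fun _ => ℕ) (e5_186) (e5_187) (Nat.ble 187 b)) (Nat.ble 186 b)) (Bool.rec (motive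 := fun _ => ℕ) (Bool.rec (motive := fun _ => ℕ) (e5_188) (e5_189) (Nat.ble 189 b)) (Bool.rec (motive := fun _ => ℕ) (e5_190) (e5_191) (Nat.ble 191 b)) (Nat.ble 190 b)) (Nat.ble 188 b)) (Nat.ble 184 b)) (Nat.ble 176 b)) (Nat.ble 160 b)) (Bool.rec (motive := fun _ => ℕ) (Bool.rec (motive := fun _ => ℕ) (Bool.rec (motive := fun _ => ℕ) (Bool.rec (motive := fun _ => ℕ) (Bool.rec (motive := fun _ => ℕ) (Bool.rec (motive := fun _ => ℕ) (e5_192) (e5_193) (Nat.ble 193 b)) (Bool.rec (motive := fun _ => ℕ) (e5_194) (e5_195) (Nat.ble 195 b)) (Nat.ble 194 b)) (Bool.rec (motive := fun _ => ℕ) (Bool.rec (motive := fun _ => ℕ) (e5_196) (e5_197) (Nat.ble 197 b)) (Bool.rec (motive := fun _ => ℕ) (e5_198) (e5_199) (Nat.ble 199 b)) (Nat.ble 198 b)) (Nat.ble 196 b)) (Bool.rec (motive := fun _ => ℕ) (Bool.rec (motive := fun _ => ℕ) (Bool.rec (motive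 := fun _ => ℕ) (e5_200) (e5_201) (Nat.ble 201 b)) (Bool.rec (motive := fun _ => ℕ) (e5_202) (e5_203) (Nat.ble 203 b)) (Nat.ble 202 b)) (Bool.rec (motive := fun _ => ℕ) (Bool.rec (motive := fun _ => ℕ) (e5_204) (e5_205) (Nat.ble 205 b)) (Bool.rec (motive := fun _ => ℕ) (e5_206) (e5_207) (Nat.ble 207 b)) (Nat.ble 206 b)) (Nat.ble 204 b)) (Nat.ble 200 b)) (Bool.rec (motive := fun _ => ℕ) (Bool.rec (motive := fun _ => ℕ) (Bool.rec (motive := fun _ => ℕ) (Bool.rec (motive := fun _ => ℕ) (e5_208) (e5_209) (Nat.ble 209 b)) (Bool.rec (motive := fun _ => ℕ) (e5_210) (e5_211) (Nat.ble 211 b)) (Nat.ble 210 b)) (Bool.rec (motive := fun _ => ℕ) (Bool.rec (motive := fun _ => ℕ) (e5_212) (e5_213) (Nat.ble 213 b)) (Bool.rec (motive := fun _ => ℕ) (e5_214) (e5_215) (Nat.ble 215 b)) (Nat.ble 214 b)) (Nat.ble 212 b)) (Bool.rec (motive := fun _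 => ℕ) (Bool.rec (motive := fun _ => ℕ) (Bool.rec (motive := fun _ => ℕ) (e5_216) (e5_217) (Nat.ble 217 b)) (Bool.rec (motive := fun _ => ℕ) (e5_218) (e5_219) (Nat.ble 219 b)) (Nat.ble 218 b)) (Bool.rec (motive := fun _ => ℕ) (Bool.rec (motive := fun _ => ℕ) (e5_220) (e5_221) (Nat.ble 221 b)) (Bool.rec (motive := fun _ => ℕ) (e5_222) (e5_223) (Nat.ble 223 b)) (Nat.ble 222 b)) (Nat.ble 220 b)) (Nat.ble 216 b)) (Nat.ble 208 b)) (Bool.rec (motive := fun _ => ℕ) (Bool.rec (motive := fun _ => ℕ) (Bool.rec (motive := fun _ => ℕ) (Bool.rec (motive := fun _ => ℕ) (Bool.rec (motive := fun _ => ℕ) (e5_224) (e5_225) (Nat.ble 225 b)) (Bool.rec (motive := fun _ => ℕ) (e5_226) (e5_227) (Nat.ble 227 b)) (Nat.ble 226 b)) (Bool.rec (motive := fun _ => ℕ) (Bool.rec (motive := fun _ => ℕ) (e5_228) (e5_229) (Nat.ble 229 b)) (Bool.rec (motive := fun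 _ => ℕ) (e5_230) (e5_231) (Nat.ble 231 b)) (Nat.ble 230 b)) (Nat.ble 228 b)) (Bool.rec (motive := fun _ => ℕ) (Bool.rec (motive := fun _ => ℕ) (Bool.rec (motive := fun _ => ℕ) (e5_232) (e5_233) (Nat.ble 233 b)) (Bool.rec (motive := fun _ => ℕ) (e5_234) (e5_235) (Nat.ble 235 b)) (Nat.ble 234 b)) (Bool.rec (motive := fun _ => ℕ) (Bool.rec (motive := fun _ => ℕ) (e5_236) (e5_237) (Nat.ble 237 b)) (Bool.rec (motive := fun _ => ℕ) (e5_238) (e5_239) (Nat.ble 239 b)) (Nat.ble 238 b)) (Nat.ble 236 b)) (Nat.ble 232 b)) (Bool.rec (motive := fun _ => ℕ) (Bool.rec (motive := fun _ => ℕ) (Bool.rec (motive := fun _ => ℕ) (Bool.rec (motive := fun _ => ℕ) (e5_240) (e5_241) (Nat.ble 241 b)) (Bool.rec (motive := fun _ => ℕ) (e5_242) (e5_243) (Nat.ble 243 b)) (Nat.ble 242 b)) (Bool.rec (motive := fun _ => ℕ) (Bool.rec (motive := fun _ => ℕ) (e5_244)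 (e5_245) (Nat.ble 245 b)) (Bool.rec (motive := fun _ => ℕ) (e5_246) (e5_247) (Nat.ble 247 b)) (Nat.ble 246 b)) (Nat.ble 244 b)) (Bool.rec (motive := fun _ => ℕ) (Bool.rec (motive := fun _ => ℕ) (Bool.rec (motive := fun _ => ℕ) (e5_248) (e5_249) (Nat.ble 249 b)) (Bool.rec (motive := fun _ => ℕ) (e5_250) (e5_251) (Nat.ble 251 b)) (Nat.ble 250 b)) (Bool.rec (motive := fun _ => ℕ) (Bool.rec (motive := fun _ => ℕ) (e5_252) (e5_253) (Nat.ble 253 b)) (Bool.rec (motive := fun _ => ℕ) (e5_254) (e5_255) (Nat.ble 255 b)) (Nat.ble 254 b)) (Nat.ble 252 b)) (Nat.ble 248 b)) (Nat.ble 240 b)) (Nat.ble 224 b)) (Nat.ble 192 b)) (Nat.ble 128 b)) (Bool.rec (motive := fun _ => ℕ) (Bool.rec (motive := fun _ => ℕ) (Bool.rec (motive := fun _ => ℕ) (Bool.rec (motive := fun _ => ℕ) (Bool.rec (motive := fun _ => ℕ) (Bool.rec (motive := fun _ => ℕ) (Bool.rec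 (motive := fun _ => ℕ) (Bool.rec (motive := fun _ => ℕ) (e5_256) (e5_257) (Nat.ble 257 b)) (Bool.rec (motive := fun _ => ℕ) (e5_258) (e5_259) (Nat.ble 259 b)) (Nat.ble 258 b)) (Bool.rec (motive := fun _ => ℕ) (Bool.rec (motive := fun _ => ℕ) (e5_260) (e5_261) (Nat.ble 261 b)) (Bool.rec (motive := fun _ => ℕ) (e5_262) (e5_263) (Nat.ble 263 b)) (Nat.ble 262 b)) (Nat.ble 260 b)) (Bool.rec (motive := fun _ => ℕ) (Bool.rec (motive := fun _ => ℕ) (Bool.rec (motive := fun _ => ℕ) (e5_264) (e5_265) (Nat.ble 265 b)) (Bool.rec (motive := fun _ => ℕ) (e5_266) (0) (Nat.ble 267 b)) (Nat.ble 266 b)) (0) (Nat.ble 268 b)) (Nat.ble 264 b)) (0) (Nat.ble 272 b)) (0) (Nat.ble 288 b)) (0) (Nat.ble 320 b)) (0) (Nat.ble 384 b)) (Nat.ble 256 b))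
noncomputable def jcol5 (b : ℕ) : ℕ := (Bool.rec (motive := fun _ => ℕ) (Bool.rec (motive := fun _ => ℕ) (Bool.rec (motive := fun _ => ℕ) (Bool.rec (motive := fun _ => ℕ) (Bool.rec (motive := fun _ => ℕ) (Bool.rec (motive := fun _ => ℕ) (Bool.rec (motive := fun _ => ℕ) (Bool.rec (motive := fun _ => ℕ) (Bool.rec (motive := fun _ => ℕ) (j5_0) (j5_1) (Nat.ble 1 b)) (Bool.rec (motive := fun _ => ℕ) (j5_2) (j5_3) (Nat.ble 3 b)) (Nat.ble 2 b)) (Bool.rec (motive := fun _ => ℕ) (Bool.rec (motive := fun _ => ℕ) (j5_4) (j5_5) (Nat.ble 5 b)) (Bool.rec (motive := fun _ => ℕ) (j5_6) (j5_7) (Nat.ble 7 b)) (Nat.ble 6 b)) (Nat.ble 4 b)) (Bool.rec (motive := fun _ => ℕ) (Bool.rec (motive := fun _ => ℕ) (Bool.rec (motive := fun _ => ℕ) (j5_8) (j5_9) (Nat.ble 9 b)) (Bool.rec (motive := fun _ => ℕ) (j5_10) (j5_11) (Nat.ble 11 b)) (Nat.ble 10 b))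 (Bool.rec (motive := fun _ => ℕ) (Bool.rec (motive := fun _ => ℕ) (j5_12) (j5_13) (Nat.ble 13 b)) (Bool.rec (motive := fun _ => ℕ) (j5_14) (j5_15) (Nat.ble 15 b)) (Nat.ble 14 b)) (Nat.ble 12 b)) (Nat.ble 8 b)) (Bool.rec (motive := fun _ => ℕ) (Bool.rec (motive := fun _ => ℕ) (Bool.rec (motive := fun _ => ℕ) (Bool.rec (motive := fun _ => ℕ) (j5_16) (j5_17) (Nat.ble 17 b)) (Bool.rec (motive := fun _ => ℕ) (j5_18) (j5_19) (Nat.ble 19 b)) (Nat.ble 18 b)) (Bool.rec (motive := fun _ => ℕ) (Bool.rec (motive := fun _ => ℕ) (j5_20) (j5_21) (Nat.ble 21 b)) (Bool.rec (motive := fun _ => ℕ) (j5_22) (j5_23) (Nat.ble 23 b)) (Nat.ble 22 b)) (Nat.ble 20 b)) (Bool.rec (motive := fun _ => ℕ) (Bool.rec (motive := fun _ => ℕ) (Bool.rec (motive := fun _ => ℕ) (j5_24) (j5_25) (Nat.ble 25 b)) (Bool.rec (motive := fun _ => ℕ) (j5_26) (j5_27) (Nat.ble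 27 b)) (Nat.ble 26 b)) (Bool.rec (motive := fun _ => ℕ) (Bool.rec (motive := fun _ => ℕ) (j5_28) (j5_29) (Nat.ble 29 b)) (Bool.rec (motive := fun _ => ℕ) (j5_30) (j5_31) (Nat.ble 31 b)) (Nat.ble 30 b)) (Nat.ble 28 b)) (Nat.ble 24 b)) (Nat.ble 16 b)) (Bool.rec (motive := fun _ => ℕ) (Bool.rec (motive := fun _ => ℕ) (Bool.rec (motive := fun _ => ℕ) (Bool.rec (motive := fun _ => ℕ) (Bool.rec (motive := fun _ => ℕ) (j5_32) (j5_33) (Nat.ble 33 b)) (Bool.rec (motive := fun _ => ℕ) (j5_34) (j5_35) (Nat.ble 35 b)) (Nat.ble 34 b)) (Bool.rec (motive := fun _ => ℕ) (Bool.rec (motive := fun _ => ℕ) (j5_36) (j5_37) (Nat.ble 37 b)) (Bool.rec (motive := fun _ => ℕ) (j5_38) (j5_39) (Nat.ble 39 b)) (Nat.ble 38 b)) (Nat.ble 36 b)) (Bool.rec (motive := fun _ => ℕ) (Bool.rec (motive := fun _ => ℕ) (Bool.rec (motive := fun _ => ℕ) (j5_40) (j5_41)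 (Nat.ble 41 b)) (Bool.rec (motive := fun _ => ℕ) (j5_42) (j5_43) (Nat.ble 43 b)) (Nat.ble 42 b)) (Bool.rec (motive := fun _ => ℕ) (Bool.rec (motive := fun _ => ℕ) (j5_44) (j5_45) (Nat.ble 45 b)) (Bool.rec (motive := fun _ => ℕ) (j5_46) (j5_47) (Nat.ble 47 b)) (Nat.ble 46 b)) (Nat.ble 44 b)) (Nat.ble 40 b)) (Bool.rec (motive := fun _ => ℕ) (Bool.rec (motive := fun _ => ℕ) (Bool.rec (motive := fun _ => ℕ) (Bool.rec (motive := fun _ => ℕ) (j5_48) (j5_49) (Nat.ble 49 b)) (Bool.rec (motive := fun _ => ℕ) (j5_50) (j5_51) (Nat.ble 51 b)) (Nat.ble 50 b)) (Bool.rec (motive := fun _ => ℕ) (Bool.rec (motive := fun _ => ℕ) (j5_52) (j5_53) (Nat.ble 53 b)) (Bool.rec (motive := fun _ => ℕ) (j5_54) (j5_55) (Nat.ble 55 b)) (Nat.ble 54 b)) (Nat.ble 52 b)) (Bool.rec (motive := fun _ => ℕ) (Bool.rec (motive := fun _ => ℕ) (Bool.rec (motive := fun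 _ => ℕ) (j5_56) (j5_57) (Nat.ble 57 b)) (Bool.rec (motive := fun _ => ℕ) (j5_58) (j5_59) (Nat.ble 59 b)) (Nat.ble 58 b)) (Bool.rec (motive := fun _ => ℕ) (Bool.rec (motive := fun _ => ℕ) (j5_60) (j5_61) (Nat.ble 61 b)) (Bool.rec (motive := fun _ => ℕ) (j5_62) (j5_63) (Nat.ble 63 b)) (Nat.ble 62 b)) (Nat.ble 60 b)) (Nat.ble 56 b)) (Nat.ble 48 b)) (Nat.ble 32 b)) (Bool.rec (motive := fun _ => ℕ) (Bool.rec (motive := fun _ => ℕ) (Bool.rec (motive := fun _ => ℕ) (Bool.rec (motive := fun _ => ℕ) (Bool.rec (motive := fun _ => ℕ) (Bool.rec (motive := fun _ => ℕ) (j5_64) (j5_65) (Nat.ble 65 b)) (Bool.rec (motive := fun _ => ℕ) (j5_66) (j5_67) (Nat.ble 67 b)) (Nat.ble 66 b)) (Bool.rec (motive := fun _ => ℕ) (Bool.rec (motive := fun _ => ℕ) (j5_68) (j5_69) (Nat.ble 69 b)) (Bool.rec (motive := fun _ => ℕ) (j5_70) (j5_71) (Nat.ble 71 b))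 (Nat.ble 70 b)) (Nat.ble 68 b)) (Bool.rec (motive := fun _ => ℕ) (Bool.rec (motive := fun _ => ℕ) (Bool.rec (motive := fun _ => ℕ) (j5_72) (j5_73) (Nat.ble 73 b)) (Bool.rec (motive := fun _ => ℕ) (j5_74) (j5_75) (Nat.ble 75 b)) (Nat.ble 74 b)) (Bool.rec (motive := fun _ => ℕ) (Bool.rec (motive := fun _ => ℕ) (j5_76) (j5_77) (Nat.ble 77 b)) (Bool.rec (motive := fun _ => ℕ) (j5_78) (j5_79) (Nat.ble 79 b)) (Nat.ble 78 b)) (Nat.ble 76 b)) (Nat.ble 72 b)) (Bool.rec (motive := fun _ => ℕ) (Bool.rec (motive := fun _ => ℕ) (Bool.rec (motive := fun _ => ℕ) (Bool.rec (motive := fun _ => ℕ) (j5_80) (j5_81) (Nat.ble 81 b)) (Bool.rec (motive := fun _ => ℕ) (j5_82) (j5_83) (Nat.ble 83 b)) (Nat.ble 82 b)) (Bool.rec (motive := fun _ => ℕ) (Bool.rec (motive := fun _ => ℕ) (j5_84) (j5_85) (Nat.ble 85 b)) (Bool.rec (motive := fun _ => ℕ) (j5_86)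 (j5_87) (Nat.ble 87 b)) (Nat.ble 86 b)) (Nat.ble 84 b)) (Bool.rec (motive := fun _ => ℕ) (Bool.rec (motive := fun _ => ℕ) (Bool.rec (motive := fun _ => ℕ) (j5_88) (j5_89) (Nat.ble 89 b)) (Bool.rec (motive := fun _ => ℕ) (j5_90) (j5_91) (Nat.ble 91 b)) (Nat.ble 90 b)) (Bool.rec (motive := fun _ => ℕ) (Bool.rec (motive := fun _ => ℕ) (j5_92) (j5_93) (Nat.ble 93 b)) (Bool.rec (motive := fun _ => ℕ) (j5_94) (j5_95) (Nat.ble 95 b)) (Nat.ble 94 b)) (Nat.ble 92 b)) (Nat.ble 88 b)) (Nat.ble 80 b)) (Bool.rec (motive := fun _ => ℕ) (Bool.rec (motive := fun _ => ℕ) (Bool.rec (motive := fun _ => ℕ) (Bool.rec (motive := fun _ => ℕ) (Bool.rec (motive := fun _ => ℕ) (j5_96) (j5_97) (Nat.ble 97 b)) (Bool.rec (motive := fun _ => ℕ) (j5_98) (j5_99) (Nat.ble 99 b)) (Nat.ble 98 b)) (Bool.rec (motive := fun _ => ℕ) (Bool.rec (motive := fun _ => ℕ)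 (j5_100) (j5_101) (Nat.ble 101 b)) (Bool.rec (motive := fun _ => ℕ) (j5_102) (j5_103) (Nat.ble 103 b)) (Nat.ble 102 b)) (Nat.ble 100 b)) (Bool.rec (motive := fun _ => ℕ) (Bool.rec (motive := fun _ => ℕ) (Bool.rec (motive := fun _ => ℕ) (j5_104) (j5_105) (Nat.ble 105 b)) (Bool.rec (motive := fun _ => ℕ) (j5_106) (j5_107) (Nat.ble 107 b)) (Nat.ble 106 b)) (Bool.rec (motive := fun _ => ℕ) (Bool.rec (motive := fun _ => ℕ) (j5_108) (j5_109) (Nat.ble 109 b)) (Bool.rec (motive := fun _ => ℕ) (j5_110) (j5_111) (Nat.ble 111 b)) (Nat.ble 110 b)) (Nat.ble 108 b)) (Nat.ble 104 b)) (Bool.rec (motive := fun _ => ℕ) (Bool.rec (motive := fun _ => ℕ) (Bool.rec (motive := fun _ => ℕ) (Bool.rec (motive := fun _ => ℕ) (j5_112) (j5_113) (Nat.ble 113 b)) (Bool.rec (motive := fun _ => ℕ) (j5_114) (j5_115) (Nat.ble 115 b)) (Nat.ble 114 b)) (Bool.rec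 (motive := fun _ => ℕ) (Bool.rec (motive := fun _ => ℕ) (j5_116) (j5_117) (Nat.ble 117 b)) (Bool.rec (motive := fun _ => ℕ) (j5_118) (j5_119) (Nat.ble 119 b)) (Nat.ble 118 b)) (Nat.ble 116 b)) (Bool.rec (motive := fun _ => ℕ) (Bool.rec (motive := fun _ => ℕ) (Bool.rec (motive := fun _ => ℕ) (j5_120) (j5_121) (Nat.ble 121 b)) (Bool.rec (motive := fun _ => ℕ) (j5_122) (j5_123) (Nat.ble 123 b)) (Nat.ble 122 b)) (Bool.rec (motive := fun _ => ℕ) (Bool.rec (motive := fun _ => ℕ) (j5_124) (j5_125) (Nat.ble 125 b)) (Bool.rec (motive := fun _ => ℕ) (j5_126) (j5_127) (Nat.ble 127 b)) (Nat.ble 126 b)) (Nat.ble 124 b)) (Nat.ble 120 b)) (Nat.ble 112 b)) (Nat.ble 96 b)) (Nat.ble 64 b)) (Bool.rec (motive := fun _ => ℕ) (Bool.rec (motive := fun _ => ℕ) (Bool.rec (motive := fun _ => ℕ) (Bool.rec (motive := fun _ => ℕ) (Bool.rec (motive := fun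 _ => ℕ) (Bool.rec (motive := fun _ => ℕ) (Bool.rec (motive := fun _ => ℕ) (j5_128) (j5_129) (Nat.ble 129 b)) (Bool.rec (motive := fun _ => ℕ) (j5_130) (j5_131) (Nat.ble 131 b)) (Nat.ble 130 b)) (Bool.rec (motive := fun _ => ℕ) (Bool.rec (motive := fun _ => ℕ) (j5_132) (j5_133) (Nat.ble 133 b)) (Bool.rec (motive := fun _ => ℕ) (j5_134) (j5_135) (Nat.ble 135 b)) (Nat.ble 134 b)) (Nat.ble 132 b)) (Bool.rec (motive := fun _ => ℕ) (Bool.rec (motive := fun _ => ℕ) (Bool.rec (motive := fun _ => ℕ) (j5_136) (j5_137) (Nat.ble 137 b)) (Bool.rec (motive := fun _ => ℕ) (j5_138) (j5_139) (Nat.ble 139 b)) (Nat.ble 138 b)) (Bool.rec (motive := fun _ => ℕ) (Bool.rec (motive := fun _ => ℕ) (j5_140) (j5_141) (Nat.ble 141 b)) (Bool.rec (motive := fun _ => ℕ) (j5_142) (j5_143) (Nat.ble 143 b)) (Nat.ble 142 b)) (Nat.ble 140 b)) (Nat.ble 136 b)) (Bool.rec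 (motive := fun _ => ℕ) (Bool.rec (motive := fun _ => ℕ) (Bool.rec (motive := fun _ => ℕ) (Bool.rec (motive := fun _ => ℕ) (j5_144) (j5_145) (Nat.ble 145 b)) (Bool.rec (motive := fun _ => ℕ) (j5_146) (j5_147) (Nat.ble 147 b)) (Nat.ble 146 b)) (Bool.rec (motive := fun _ => ℕ) (Bool.rec (motive := fun _ => ℕ) (j5_148) (j5_149) (Nat.ble 149 b)) (Bool.rec (motive := fun _ => ℕ) (j5_150) (j5_151) (Nat.ble 151 b)) (Nat.ble 150 b)) (Nat.ble 148 b)) (Bool.rec (motive := fun _ => ℕ) (Bool.rec (motive := fun _ => ℕ) (Bool.rec (motive := fun _ => ℕ) (j5_152) (j5_153) (Nat.ble 153 b)) (Bool.rec (motive := fun _ => ℕ) (j5_154) (j5_155) (Nat.ble 155 b)) (Nat.ble 154 b)) (Bool.rec (motive := fun _ => ℕ) (Bool.rec (motive := fun _ => ℕ) (j5_156) (j5_157) (Nat.ble 157 b)) (Bool.rec (motive := fun _ => ℕ) (j5_158) (j5_159) (Nat.ble 159 b)) (Nat.ble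 158 b)) (Nat.ble 156 b)) (Nat.ble 152 b)) (Nat.ble 144 b)) (Bool.rec (motive := fun _ => ℕ) (Bool.rec (motive := fun _ => ℕ) (Bool.rec (motive := fun _ => ℕ) (Bool.rec (motive := fun _ => ℕ) (Bool.rec (motive := fun _ => ℕ) (j5_160) (j5_161) (Nat.ble 161 b)) (Bool.rec (motive := fun _ => ℕ) (j5_162) (j5_163) (Nat.ble 163 b)) (Nat.ble 162 b)) (Bool.rec (motive := fun _ => ℕ) (Bool.rec (motive := fun _ => ℕ) (j5_164) (j5_165) (Nat.ble 165 b)) (Bool.rec (motive := fun _ => ℕ) (j5_166) (j5_167) (Nat.ble 167 b)) (Nat.ble 166 b)) (Nat.ble 164 b)) (Bool.rec (motive := fun _ => ℕ) (Bool.rec (motive := fun _ => ℕ) (Bool.rec (motive := fun _ => ℕ) (j5_168) (j5_169) (Nat.ble 169 b)) (Bool.rec (motive := fun _ => ℕ) (j5_170) (j5_171) (Nat.ble 171 b)) (Nat.ble 170 b)) (Bool.rec (motive := fun _ => ℕ) (Bool.rec (motive := fun _ => ℕ) (j5_172)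 (j5_173) (Nat.ble 173 b)) (Bool.rec (motive := fun _ => ℕ) (j5_174) (j5_175) (Nat.ble 175 b)) (Nat.ble 174 b)) (Nat.ble 172 b)) (Nat.ble 168 b)) (Bool.rec (motive := fun _ => ℕ) (Bool.rec (motive := fun _ => ℕ) (Bool.rec (motive := fun _ => ℕ) (Bool.rec (motive := fun _ => ℕ) (j5_176) (j5_177) (Nat.ble 177 b)) (Bool.rec (motive := fun _ => ℕ) (j5_178) (j5_179) (Nat.ble 179 b)) (Nat.ble 178 b)) (Bool.rec (motive := fun _ => ℕ) (Bool.rec (motive := fun _ => ℕ) (j5_180) (j5_181) (Nat.ble 181 b)) (Bool.rec (motive := fun _ => ℕ) (j5_182) (j5_183) (Nat.ble 183 b)) (Nat.ble 182 b)) (Nat.ble 180 b)) (Bool.rec (motive := fun _ => ℕ) (Bool.rec (motive := fun _ => ℕ) (Bool.rec (motive := fun _ => ℕ) (j5_184) (j5_185) (Nat.ble 185 b)) (Bool.rec (motive := fun _ => ℕ) (j5_186) (j5_187) (Nat.ble 187 b)) (Nat.ble 186 b)) (Bool.rec (motive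 := fun _ => ℕ) (Bool.rec (motive := fun _ => ℕ) (j5_188) (j5_189) (Nat.ble 189 b)) (Bool.rec (motive := fun _ => ℕ) (j5_190) (j5_191) (Nat.ble 191 b)) (Nat.ble 190 b)) (Nat.ble 188 b)) (Nat.ble 184 b)) (Nat.ble 176 b)) (Nat.ble 160 b)) (Bool.rec (motive := fun _ => ℕ) (Bool.rec (motive := fun _ => ℕ) (Bool.rec (motive := fun _ => ℕ) (Bool.rec (motive := fun _ => ℕ) (Bool.rec (motive := fun _ => ℕ) (Bool.rec (motive := fun _ => ℕ) (j5_192) (j5_193) (Nat.ble 193 b)) (Bool.rec (motive := fun _ => ℕ) (j5_194) (j5_195) (Nat.ble 195 b)) (Nat.ble 194 b)) (Bool.rec (motive := fun _ => ℕ) (Bool.rec (motive := fun _ => ℕ) (j5_196) (j5_197) (Nat.ble 197 b)) (Bool.rec (motive := fun _ => ℕ) (j5_198) (j5_199) (Nat.ble 199 b)) (Nat.ble 198 b)) (Nat.ble 196 b)) (Bool.rec (motive := fun _ => ℕ) (Bool.rec (motive := fun _ => ℕ) (Bool.rec (motive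 := fun _ => ℕ) (j5_200) (j5_201) (Nat.ble 201 b)) (Bool.rec (motive := fun _ => ℕ) (j5_202) (j5_203) (Nat.ble 203 b)) (Nat.ble 202 b)) (Bool.rec (motive := fun _ => ℕ) (Bool.rec (motive := fun _ => ℕ) (j5_204) (j5_205) (Nat.ble 205 b)) (Bool.rec (motive := fun _ => ℕ) (j5_206) (j5_207) (Nat.ble 207 b)) (Nat.ble 206 b)) (Nat.ble 204 b)) (Nat.ble 200 b)) (Bool.rec (motive := fun _ => ℕ) (Bool.rec (motive := fun _ => ℕ) (Bool.rec (motive := fun _ => ℕ) (Bool.rec (motive := fun _ => ℕ) (j5_208) (j5_209) (Nat.ble 209 b)) (Bool.rec (motive := fun _ => ℕ) (j5_210) (j5_211) (Nat.ble 211 b)) (Nat.ble 210 b)) (Bool.rec (motive := fun _ => ℕ) (Bool.rec (motive := fun _ => ℕ) (j5_212) (j5_213) (Nat.ble 213 b)) (Bool.rec (motive := fun _ => ℕ) (j5_214) (j5_215) (Nat.ble 215 b)) (Nat.ble 214 b)) (Nat.ble 212 b)) (Bool.rec (motive := fun _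 => ℕ) (Bool.rec (motive := fun _ => ℕ) (Bool.rec (motive := fun _ => ℕ) (j5_216) (j5_217) (Nat.ble 217 b)) (Bool.rec (motive := fun _ => ℕ) (j5_218) (j5_219) (Nat.ble 219 b)) (Nat.ble 218 b)) (Bool.rec (motive := fun _ => ℕ) (Bool.rec (motive := fun _ => ℕ) (j5_220) (j5_221) (Nat.ble 221 b)) (Bool.rec (motive := fun _ => ℕ) (j5_222) (j5_223) (Nat.ble 223 b)) (Nat.ble 222 b)) (Nat.ble 220 b)) (Nat.ble 216 b)) (Nat.ble 208 b)) (Bool.rec (motive := fun _ => ℕ) (Bool.rec (motive := fun _ => ℕ) (Bool.rec (motive := fun _ => ℕ) (Bool.rec (motive := fun _ => ℕ) (Bool.rec (motive := fun _ => ℕ) (j5_224) (j5_225) (Nat.ble 225 b)) (Bool.rec (motive := fun _ => ℕ) (j5_226) (j5_227) (Nat.ble 227 b)) (Nat.ble 226 b)) (Bool.rec (motive := fun _ => ℕ) (Bool.rec (motive := fun _ => ℕ) (j5_228) (j5_229) (Nat.ble 229 b)) (Bool.rec (motive := fun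 _ => ℕ) (j5_230) (j5_231) (Nat.ble 231 b)) (Nat.ble 230 b)) (Nat.ble 228 b)) (Bool.rec (motive := fun _ => ℕ) (Bool.rec (motive := fun _ => ℕ) (Bool.rec (motive := fun _ => ℕ) (j5_232) (j5_233) (Nat.ble 233 b)) (Bool.rec (motive := fun _ => ℕ) (j5_234) (j5_235) (Nat.ble 235 b)) (Nat.ble 234 b)) (Bool.rec (motive := fun _ => ℕ) (Bool.rec (motive := fun _ => ℕ) (j5_236) (j5_237) (Nat.ble 237 b)) (Bool.rec (motive := fun _ => ℕ) (j5_238) (j5_239) (Nat.ble 239 b)) (Nat.ble 238 b)) (Nat.ble 236 b)) (Nat.ble 232 b)) (Bool.rec (motive := fun _ => ℕ) (Bool.rec (motive := fun _ => ℕ) (Bool.rec (motive := fun _ => ℕ) (Bool.rec (motive := fun _ => ℕ) (j5_240) (j5_241) (Nat.ble 241 b)) (Bool.rec (motive := fun _ => ℕ) (j5_242) (j5_243) (Nat.ble 243 b)) (Nat.ble 242 b)) (Bool.rec (motive := fun _ => ℕ) (Bool.rec (motive := fun _ => ℕ) (j5_244)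 (j5_245) (Nat.ble 245 b)) (Bool.rec (motive := fun _ => ℕ) (j5_246) (j5_247) (Nat.ble 247 b)) (Nat.ble 246 b)) (Nat.ble 244 b)) (Bool.rec (motive := fun _ => ℕ) (Bool.rec (motive := fun _ => ℕ) (Bool.rec (motive := fun _ => ℕ) (j5_248) (j5_249) (Nat.ble 249 b)) (Bool.rec (motive := fun _ => ℕ) (j5_250) (j5_251) (Nat.ble 251 b)) (Nat.ble 250 b)) (Bool.rec (motive := fun _ => ℕ) (Bool.rec (motive := fun _ => ℕ) (j5_252) (j5_253) (Nat.ble 253 b)) (Bool.rec (motive := fun _ => ℕ) (j5_254) (j5_255) (Nat.ble 255 b)) (Nat.ble 254 b)) (Nat.ble 252 b)) (Nat.ble 248 b)) (Nat.ble 240 b)) (Nat.ble 224 b)) (Nat.ble 192 b)) (Nat.ble 128 b)) (Bool.rec (motive := fun _ => ℕ) (Bool.rec (motive := fun _ => ℕ) (Bool.rec (motive := fun _ => ℕ) (Bool.rec (motive := fun _ => ℕ) (Bool.rec (motive := fun _ => ℕ) (Bool.rec (motive := fun _ => ℕ) (Bool.rec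 (motive := fun _ => ℕ) (Bool.rec (motive := fun _ => ℕ) (j5_256) (j5_257) (Nat.ble 257 b)) (Bool.rec (motive := fun _ => ℕ) (j5_258) (j5_259) (Nat.ble 259 b)) (Nat.ble 258 b)) (Bool.rec (motive := fun _ => ℕ) (Bool.rec (motive := fun _ => ℕ) (j5_260) (j5_261) (Nat.ble 261 b)) (Bool.rec (motive := fun _ => ℕ) (j5_262) (j5_263) (Nat.ble 263 b)) (Nat.ble 262 b)) (Nat.ble 260 b)) (Bool.rec (motive := fun _ => ℕ) (Bool.rec (motive := fun _ => ℕ) (Bool.rec (motive := fun _ => ℕ) (j5_264) (j5_265) (Nat.ble 265 b)) (Bool.rec (motive := fun _ => ℕ) (j5_266) (0) (Nat.ble 267 b)) (Nat.ble 266 b)) (0) (Nat.ble 268 b)) (Nat.ble 264 b)) (0) (Nat.ble 272 b)) (0) (Nat.ble 288 b)) (0) (Nat.ble 320 b)) (0) (Nat.ble 384 b)) (Nat.ble 256 b))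
noncomputable def ecol6 (b : ℕ) : ℕ := (Bool.rec (motive := fun _ => ℕ) (Bool.rec (motive := fun _ => ℕ) (Bool.rec (motive := fun _ => ℕ) (Bool.rec (motive := fun _ => ℕ) (Bool.rec (motive := fun _ => ℕ) (Bool.rec (motive := fun _ => ℕ) (Bool.rec (motive := fun _ => ℕ) (Bool.rec (motive := fun _ => ℕ) (Bool.rec (motive := fun _ => ℕ) (e6_0) (e6_1) (Nat.ble 1 b)) (Bool.rec (motive := fun _ => ℕ) (e6_2) (e6_3) (Nat.ble 3 b)) (Nat.ble 2 b)) (Bool.rec (motive := fun _ => ℕ) (Bool.rec (motive := fun _ => ℕ) (e6_4) (e6_5) (Nat.ble 5 b)) (Bool.rec (motive := fun _ => ℕ) (e6_6) (e6_7) (Nat.ble 7 b)) (Nat.ble 6 b)) (Nat.ble 4 b)) (Bool.rec (motive := fun _ => ℕ) (Bool.rec (motive := fun _ => ℕ) (Bool.rec (motive := fun _ => ℕ) (e6_8) (e6_9) (Nat.ble 9 b)) (Bool.rec (motive := fun _ => ℕ) (e6_10) (e6_11) (Nat.ble 11 b)) (Nat.ble 10 b))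 (Bool.rec (motive := fun _ => ℕ) (Bool.rec (motive := fun _ => ℕ) (e6_12) (e6_13) (Nat.ble 13 b)) (Bool.rec (motive := fun _ => ℕ) (e6_14) (e6_15) (Nat.ble 15 b)) (Nat.ble 14 b)) (Nat.ble 12 b)) (Nat.ble 8 b)) (Bool.rec (motive := fun _ => ℕ) (Bool.rec (motive := fun _ => ℕ) (Bool.rec (motive := fun _ => ℕ) (Bool.rec (motive := fun _ => ℕ) (e6_16) (e6_17) (Nat.ble 17 b)) (Bool.rec (motive := fun _ => ℕ) (e6_18) (e6_19) (Nat.ble 19 b)) (Nat.ble 18 b)) (Bool.rec (motive := fun _ => ℕ) (Bool.rec (motive := fun _ => ℕ) (e6_20) (e6_21) (Nat.ble 21 b)) (Bool.rec (motive := fun _ => ℕ) (e6_22) (e6_23) (Nat.ble 23 b)) (Nat.ble 22 b)) (Nat.ble 20 b)) (Bool.rec (motive := fun _ => ℕ) (Bool.rec (motive := fun _ => ℕ) (Bool.rec (motive := fun _ => ℕ) (e6_24) (e6_25) (Nat.ble 25 b)) (Bool.rec (motive := fun _ => ℕ) (e6_26) (e6_27) (Nat.ble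 27 b)) (Nat.ble 26 b)) (Bool.rec (motive := fun _ => ℕ) (Bool.rec (motive := fun _ => ℕ) (e6_28) (e6_29) (Nat.ble 29 b)) (Bool.rec (motive := fun _ => ℕ) (e6_30) (e6_31) (Nat.ble 31 b)) (Nat.ble 30 b)) (Nat.ble 28 b)) (Nat.ble 24 b)) (Nat.ble 16 b)) (Bool.rec (motive := fun _ => ℕ) (Bool.rec (motive := fun _ => ℕ) (Bool.rec (motive := fun _ => ℕ) (Bool.rec (motive := fun _ => ℕ) (Bool.rec (motive := fun _ => ℕ) (e6_32) (e6_33) (Nat.ble 33 b)) (Bool.rec (motive := fun _ => ℕ) (e6_34) (e6_35) (Nat.ble 35 b)) (Nat.ble 34 b)) (Bool.rec (motive := fun _ => ℕ) (Bool.rec (motive := fun _ => ℕ) (e6_36) (e6_37) (Nat.ble 37 b)) (Bool.rec (motive := fun _ => ℕ) (e6_38) (e6_39) (Nat.ble 39 b)) (Nat.ble 38 b)) (Nat.ble 36 b)) (Bool.rec (motive := fun _ => ℕ) (Bool.rec (motive := fun _ => ℕ) (Bool.rec (motive := fun _ => ℕ) (e6_40) (e6_41)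 (Nat.ble 41 b)) (Bool.rec (motive := fun _ => ℕ) (e6_42) (e6_43) (Nat.ble 43 b)) (Nat.ble 42 b)) (Bool.rec (motive := fun _ => ℕ) (Bool.rec (motive := fun _ => ℕ) (e6_44) (e6_45) (Nat.ble 45 b)) (Bool.rec (motive := fun _ => ℕ) (e6_46) (e6_47) (Nat.ble 47 b)) (Nat.ble 46 b)) (Nat.ble 44 b)) (Nat.ble 40 b)) (Bool.rec (motive := fun _ => ℕ) (Bool.rec (motive := fun _ => ℕ) (Bool.rec (motive := fun _ => ℕ) (Bool.rec (motive := fun _ => ℕ) (e6_48) (e6_49) (Nat.ble 49 b)) (Bool.rec (motive := fun _ => ℕ) (e6_50) (e6_51) (Nat.ble 51 b)) (Nat.ble 50 b)) (Bool.rec (motive := fun _ => ℕ) (Bool.rec (motive := fun _ => ℕ) (e6_52) (e6_53) (Nat.ble 53 b)) (Bool.rec (motive := fun _ => ℕ) (e6_54) (e6_55) (Nat.ble 55 b)) (Nat.ble 54 b)) (Nat.ble 52 b)) (Bool.rec (motive := fun _ => ℕ) (Bool.rec (motive := fun _ => ℕ) (Bool.rec (motive := fun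 _ => ℕ) (e6_56) (e6_57) (Nat.ble 57 b)) (Bool.rec (motive := fun _ => ℕ) (e6_58) (e6_59) (Nat.ble 59 b)) (Nat.ble 58 b)) (Bool.rec (motive := fun _ => ℕ) (Bool.rec (motive := fun _ => ℕ) (e6_60) (e6_61) (Nat.ble 61 b)) (Bool.rec (motive := fun _ => ℕ) (e6_62) (e6_63) (Nat.ble 63 b)) (Nat.ble 62 b)) (Nat.ble 60 b)) (Nat.ble 56 b)) (Nat.ble 48 b)) (Nat.ble 32 b)) (Bool.rec (motive := fun _ => ℕ) (Bool.rec (motive := fun _ => ℕ) (Bool.rec (motive := fun _ => ℕ) (Bool.rec (motive := fun _ => ℕ) (Bool.rec (motive := fun _ => ℕ) (Bool.rec (motive := fun _ => ℕ) (e6_64) (e6_65) (Nat.ble 65 b)) (Bool.rec (motive := fun _ => ℕ) (e6_66) (e6_67) (Nat.ble 67 b)) (Nat.ble 66 b)) (Bool.rec (motive := fun _ => ℕ) (Bool.rec (motive := fun _ => ℕ) (e6_68) (e6_69) (Nat.ble 69 b)) (Bool.rec (motive := fun _ => ℕ) (e6_70) (e6_71) (Nat.ble 71 b))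 (Nat.ble 70 b)) (Nat.ble 68 b)) (Bool.rec (motive := fun _ => ℕ) (Bool.rec (motive := fun _ => ℕ) (Bool.rec (motive := fun _ => ℕ) (e6_72) (e6_73) (Nat.ble 73 b)) (Bool.rec (motive := fun _ => ℕ) (e6_74) (e6_75) (Nat.ble 75 b)) (Nat.ble 74 b)) (Bool.rec (motive := fun _ => ℕ) (Bool.rec (motive := fun _ => ℕ) (e6_76) (e6_77) (Nat.ble 77 b)) (Bool.rec (motive := fun _ => ℕ) (e6_78) (e6_79) (Nat.ble 79 b)) (Nat.ble 78 b)) (Nat.ble 76 b)) (Nat.ble 72 b)) (Bool.rec (motive := fun _ => ℕ) (Bool.rec (motive := fun _ => ℕ) (Bool.rec (motive := fun _ => ℕ) (Bool.rec (motive := fun _ => ℕ) (e6_80) (e6_81) (Nat.ble 81 b)) (Bool.rec (motive := fun _ => ℕ) (e6_82) (e6_83) (Nat.ble 83 b)) (Nat.ble 82 b)) (Bool.rec (motive := fun _ => ℕ) (Bool.rec (motive := fun _ => ℕ) (e6_84) (e6_85) (Nat.ble 85 b)) (Bool.rec (motive := fun _ => ℕ) (e6_86)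 (e6_87) (Nat.ble 87 b)) (Nat.ble 86 b)) (Nat.ble 84 b)) (Bool.rec (motive := fun _ => ℕ) (Bool.rec (motive := fun _ => ℕ) (Bool.rec (motive := fun _ => ℕ) (e6_88) (e6_89) (Nat.ble 89 b)) (Bool.rec (motive := fun _ => ℕ) (e6_90) (e6_91) (Nat.ble 91 b)) (Nat.ble 90 b)) (Bool.rec (motive := fun _ => ℕ) (Bool.rec (motive := fun _ => ℕ) (e6_92) (e6_93) (Nat.ble 93 b)) (Bool.rec (motive := fun _ => ℕ) (e6_94) (e6_95) (Nat.ble 95 b)) (Nat.ble 94 b)) (Nat.ble 92 b)) (Nat.ble 88 b)) (Nat.ble 80 b)) (Bool.rec (motive := fun _ => ℕ) (Bool.rec (motive := fun _ => ℕ) (Bool.rec (motive := fun _ => ℕ) (Bool.rec (motive := fun _ => ℕ) (Bool.rec (motive := fun _ => ℕ) (e6_96) (e6_97) (Nat.ble 97 b)) (Bool.rec (motive := fun _ => ℕ) (e6_98) (e6_99) (Nat.ble 99 b)) (Nat.ble 98 b)) (Bool.rec (motive := fun _ => ℕ) (Bool.rec (motive := fun _ => ℕ)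 (e6_100) (e6_101) (Nat.ble 101 b)) (Bool.rec (motive := fun _ => ℕ) (e6_102) (e6_103) (Nat.ble 103 b)) (Nat.ble 102 b)) (Nat.ble 100 b)) (Bool.rec (motive := fun _ => ℕ) (Bool.rec (motive := fun _ => ℕ) (Bool.rec (motive := fun _ => ℕ) (e6_104) (e6_105) (Nat.ble 105 b)) (Bool.rec (motive := fun _ => ℕ) (e6_106) (e6_107) (Nat.ble 107 b)) (Nat.ble 106 b)) (Bool.rec (motive := fun _ => ℕ) (Bool.rec (motive := fun _ => ℕ) (e6_108) (e6_109) (Nat.ble 109 b)) (Bool.rec (motive := fun _ => ℕ) (e6_110) (e6_111) (Nat.ble 111 b)) (Nat.ble 110 b)) (Nat.ble 108 b)) (Nat.ble 104 b)) (Bool.rec (motive := fun _ => ℕ) (Bool.rec (motive := fun _ => ℕ) (Bool.rec (motive := fun _ => ℕ) (Bool.rec (motive := fun _ => ℕ) (e6_112) (e6_113) (Nat.ble 113 b)) (Bool.rec (motive := fun _ => ℕ) (e6_114) (e6_115) (Nat.ble 115 b)) (Nat.ble 114 b)) (Bool.rec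 (motive := fun _ => ℕ) (Bool.rec (motive := fun _ => ℕ) (e6_116) (e6_117) (Nat.ble 117 b)) (Bool.rec (motive := fun _ => ℕ) (e6_118) (e6_119) (Nat.ble 119 b)) (Nat.ble 118 b)) (Nat.ble 116 b)) (Bool.rec (motive := fun _ => ℕ) (Bool.rec (motive := fun _ => ℕ) (Bool.rec (motive := fun _ => ℕ) (e6_120) (e6_121) (Nat.ble 121 b)) (Bool.rec (motive := fun _ => ℕ) (e6_122) (e6_123) (Nat.ble 123 b)) (Nat.ble 122 b)) (Bool.rec (motive := fun _ => ℕ) (Bool.rec (motive := fun _ => ℕ) (e6_124) (e6_125) (Nat.ble 125 b)) (Bool.rec (motive := fun _ => ℕ) (e6_126) (e6_127) (Nat.ble 127 b)) (Nat.ble 126 b)) (Nat.ble 124 b)) (Nat.ble 120 b)) (Nat.ble 112 b)) (Nat.ble 96 b)) (Nat.ble 64 b)) (Bool.rec (motive := fun _ => ℕ) (Bool.rec (motive := fun _ => ℕ) (Bool.rec (motive := fun _ => ℕ) (Bool.rec (motive := fun _ => ℕ) (Bool.rec (motive := fun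 _ => ℕ) (Bool.rec (motive := fun _ => ℕ) (Bool.rec (motive := fun _ => ℕ) (e6_128) (e6_129) (Nat.ble 129 b)) (Bool.rec (motive := fun _ => ℕ) (e6_130) (e6_131) (Nat.ble 131 b)) (Nat.ble 130 b)) (Bool.rec (motive := fun _ => ℕ) (Bool.rec (motive := fun _ => ℕ) (e6_132) (e6_133) (Nat.ble 133 b)) (Bool.rec (motive := fun _ => ℕ) (e6_134) (e6_135) (Nat.ble 135 b)) (Nat.ble 134 b)) (Nat.ble 132 b)) (Bool.rec (motive := fun _ => ℕ) (Bool.rec (motive := fun _ => ℕ) (Bool.rec (motive := fun _ => ℕ) (e6_136) (e6_137) (Nat.ble 137 b)) (Bool.rec (motive := fun _ => ℕ) (e6_138) (e6_139) (Nat.ble 139 b)) (Nat.ble 138 b)) (Bool.rec (motive := fun _ => ℕ) (Bool.rec (motive := fun _ => ℕ) (e6_140) (e6_141) (Nat.ble 141 b)) (Bool.rec (motive := fun _ => ℕ) (e6_142) (e6_143) (Nat.ble 143 b)) (Nat.ble 142 b)) (Nat.ble 140 b)) (Nat.ble 136 b)) (Bool.rec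 (motive := fun _ => ℕ) (Bool.rec (motive := fun _ => ℕ) (Bool.rec (motive := fun _ => ℕ) (Bool.rec (motive := fun _ => ℕ) (e6_144) (e6_145) (Nat.ble 145 b)) (Bool.rec (motive := fun _ => ℕ) (e6_146) (e6_147) (Nat.ble 147 b)) (Nat.ble 146 b)) (Bool.rec (motive := fun _ => ℕ) (Bool.rec (motive := fun _ => ℕ) (e6_148) (e6_149) (Nat.ble 149 b)) (Bool.rec (motive := fun _ => ℕ) (e6_150) (e6_151) (Nat.ble 151 b)) (Nat.ble 150 b)) (Nat.ble 148 b)) (Bool.rec (motive := fun _ => ℕ) (Bool.rec (motive := fun _ => ℕ) (Bool.rec (motive := fun _ => ℕ) (e6_152) (e6_153) (Nat.ble 153 b)) (Bool.rec (motive := fun _ => ℕ) (e6_154) (e6_155) (Nat.ble 155 b)) (Nat.ble 154 b)) (Bool.rec (motive := fun _ => ℕ) (Bool.rec (motive := fun _ => ℕ) (e6_156) (e6_157) (Nat.ble 157 b)) (Bool.rec (motive := fun _ => ℕ) (e6_158) (e6_159) (Nat.ble 159 b)) (Nat.ble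 158 b)) (Nat.ble 156 b)) (Nat.ble 152 b)) (Nat.ble 144 b)) (Bool.rec (motive := fun _ => ℕ) (Bool.rec (motive := fun _ => ℕ) (Bool.rec (motive := fun _ => ℕ) (Bool.rec (motive := fun _ => ℕ) (Bool.rec (motive := fun _ => ℕ) (e6_160) (e6_161) (Nat.ble 161 b)) (Bool.rec (motive := fun _ => ℕ) (e6_162) (e6_163) (Nat.ble 163 b)) (Nat.ble 162 b)) (Bool.rec (motive := fun _ => ℕ) (Bool.rec (motive := fun _ => ℕ) (e6_164) (e6_165) (Nat.ble 165 b)) (Bool.rec (motive := fun _ => ℕ) (e6_166) (e6_167) (Nat.ble 167 b)) (Nat.ble 166 b)) (Nat.ble 164 b)) (Bool.rec (motive := fun _ => ℕ) (Bool.rec (motive := fun _ => ℕ) (Bool.rec (motive := fun _ => ℕ) (e6_168) (e6_169) (Nat.ble 169 b)) (Bool.rec (motive := fun _ => ℕ) (e6_170) (e6_171) (Nat.ble 171 b)) (Nat.ble 170 b)) (Bool.rec (motive := fun _ => ℕ) (Bool.rec (motive := fun _ => ℕ) (e6_172)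 (e6_173) (Nat.ble 173 b)) (Bool.rec (motive := fun _ => ℕ) (e6_174) (e6_175) (Nat.ble 175 b)) (Nat.ble 174 b)) (Nat.ble 172 b)) (Nat.ble 168 b)) (Bool.rec (motive := fun _ => ℕ) (Bool.rec (motive := fun _ => ℕ) (Bool.rec (motive := fun _ => ℕ) (Bool.rec (motive := fun _ => ℕ) (e6_176) (e6_177) (Nat.ble 177 b)) (Bool.rec (motive := fun _ => ℕ) (e6_178) (e6_179) (Nat.ble 179 b)) (Nat.ble 178 b)) (Bool.rec (motive := fun _ => ℕ) (Bool.rec (motive := fun _ => ℕ) (e6_180) (e6_181) (Nat.ble 181 b)) (Bool.rec (motive := fun _ => ℕ) (e6_182) (e6_183) (Nat.ble 183 b)) (Nat.ble 182 b)) (Nat.ble 180 b)) (Bool.rec (motive := fun _ => ℕ) (Bool.rec (motive := fun _ => ℕ) (Bool.rec (motive := fun _ => ℕ) (e6_184) (e6_185) (Nat.ble 185 b)) (Bool.rec (motive := fun _ => ℕ) (e6_186) (e6_187) (Nat.ble 187 b)) (Nat.ble 186 b)) (Bool.rec (motive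 := fun _ => ℕ) (Bool.rec (motive := fun _ => ℕ) (e6_188) (e6_189) (Nat.ble 189 b)) (Bool.rec (motive := fun _ => ℕ) (e6_190) (e6_191) (Nat.ble 191 b)) (Nat.ble 190 b)) (Nat.ble 188 b)) (Nat.ble 184 b)) (Nat.ble 176 b)) (Nat.ble 160 b)) (Bool.rec (motive := fun _ => ℕ) (Bool.rec (motive := fun _ => ℕ) (Bool.rec (motive := fun _ => ℕ) (Bool.rec (motive := fun _ => ℕ) (Bool.rec (motive := fun _ => ℕ) (Bool.rec (motive := fun _ => ℕ) (e6_192) (e6_193) (Nat.ble 193 b)) (Bool.rec (motive := fun _ => ℕ) (e6_194) (e6_195) (Nat.ble 195 b)) (Nat.ble 194 b)) (Bool.rec (motive := fun _ => ℕ) (Bool.rec (motive := fun _ => ℕ) (e6_196) (e6_197) (Nat.ble 197 b)) (Bool.rec (motive := fun _ => ℕ) (e6_198) (e6_199) (Nat.ble 199 b)) (Nat.ble 198 b)) (Nat.ble 196 b)) (Bool.rec (motive := fun _ => ℕ) (Bool.rec (motive := fun _ => ℕ) (Bool.rec (motive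 := fun _ => ℕ) (e6_200) (e6_201) (Nat.ble 201 b)) (Bool.rec (motive := fun _ => ℕ) (e6_202) (e6_203) (Nat.ble 203 b)) (Nat.ble 202 b)) (Bool.rec (motive := fun _ => ℕ) (Bool.rec (motive := fun _ => ℕ) (e6_204) (e6_205) (Nat.ble 205 b)) (Bool.rec (motive := fun _ => ℕ) (e6_206) (e6_207) (Nat.ble 207 b)) (Nat.ble 206 b)) (Nat.ble 204 b)) (Nat.ble 200 b)) (Bool.rec (motive := fun _ => ℕ) (Bool.rec (motive := fun _ => ℕ) (Bool.rec (motive := fun _ => ℕ) (Bool.rec (motive := fun _ => ℕ) (e6_208) (e6_209) (Nat.ble 209 b)) (Bool.rec (motive := fun _ => ℕ) (e6_210) (e6_211) (Nat.ble 211 b)) (Nat.ble 210 b)) (Bool.rec (motive := fun _ => ℕ) (Bool.rec (motive := fun _ => ℕ) (e6_212) (e6_213) (Nat.ble 213 b)) (Bool.rec (motive := fun _ => ℕ) (e6_214) (e6_215) (Nat.ble 215 b)) (Nat.ble 214 b)) (Nat.ble 212 b)) (Bool.rec (motive := fun _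 => ℕ) (Bool.rec (motive := fun _ => ℕ) (Bool.rec (motive := fun _ => ℕ) (e6_216) (e6_217) (Nat.ble 217 b)) (Bool.rec (motive := fun _ => ℕ) (e6_218) (e6_219) (Nat.ble 219 b)) (Nat.ble 218 b)) (Bool.rec (motive := fun _ => ℕ) (Bool.rec (motive := fun _ => ℕ) (e6_220) (e6_221) (Nat.ble 221 b)) (Bool.rec (motive := fun _ => ℕ) (e6_222) (e6_223) (Nat.ble 223 b)) (Nat.ble 222 b)) (Nat.ble 220 b)) (Nat.ble 216 b)) (Nat.ble 208 b)) (Bool.rec (motive := fun _ => ℕ) (Bool.rec (motive := fun _ => ℕ) (Bool.rec (motive := fun _ => ℕ) (Bool.rec (motive := fun _ => ℕ) (Bool.rec (motive := fun _ => ℕ) (e6_224) (e6_225) (Nat.ble 225 b)) (Bool.rec (motive := fun _ => ℕ) (e6_226) (e6_227) (Nat.ble 227 b)) (Nat.ble 226 b)) (Bool.rec (motive := fun _ => ℕ) (Bool.rec (motive := fun _ => ℕ) (e6_228) (e6_229) (Nat.ble 229 b)) (Bool.rec (motive := fun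 _ => ℕ) (e6_230) (e6_231) (Nat.ble 231 b)) (Nat.ble 230 b)) (Nat.ble 228 b)) (Bool.rec (motive := fun _ => ℕ) (Bool.rec (motive := fun _ => ℕ) (Bool.rec (motive := fun _ => ℕ) (e6_232) (e6_233) (Nat.ble 233 b)) (Bool.rec (motive := fun _ => ℕ) (e6_234) (e6_235) (Nat.ble 235 b)) (Nat.ble 234 b)) (Bool.rec (motive := fun _ => ℕ) (Bool.rec (motive := fun _ => ℕ) (e6_236) (e6_237) (Nat.ble 237 b)) (Bool.rec (motive := fun _ => ℕ) (e6_238) (e6_239) (Nat.ble 239 b)) (Nat.ble 238 b)) (Nat.ble 236 b)) (Nat.ble 232 b)) (Bool.rec (motive := fun _ => ℕ) (Bool.rec (motive := fun _ => ℕ) (Bool.rec (motive := fun _ => ℕ) (Bool.rec (motive := fun _ => ℕ) (e6_240) (e6_241) (Nat.ble 241 b)) (Bool.rec (motive := fun _ => ℕ) (e6_242) (e6_243) (Nat.ble 243 b)) (Nat.ble 242 b)) (Bool.rec (motive := fun _ => ℕ) (Bool.rec (motive := fun _ => ℕ) (e6_244)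 (e6_245) (Nat.ble 245 b)) (Bool.rec (motive := fun _ => ℕ) (e6_246) (e6_247) (Nat.ble 247 b)) (Nat.ble 246 b)) (Nat.ble 244 b)) (Bool.rec (motive := fun _ => ℕ) (Bool.rec (motive := fun _ => ℕ) (Bool.rec (motive := fun _ => ℕ) (e6_248) (e6_249) (Nat.ble 249 b)) (Bool.rec (motive := fun _ => ℕ) (e6_250) (e6_251) (Nat.ble 251 b)) (Nat.ble 250 b)) (Bool.rec (motive := fun _ => ℕ) (Bool.rec (motive := fun _ => ℕ) (e6_252) (e6_253) (Nat.ble 253 b)) (Bool.rec (motive := fun _ => ℕ) (e6_254) (e6_255) (Nat.ble 255 b)) (Nat.ble 254 b)) (Nat.ble 252 b)) (Nat.ble 248 b)) (Nat.ble 240 b)) (Nat.ble 224 b)) (Nat.ble 192 b)) (Nat.ble 128 b)) (Bool.rec (motive := fun _ => ℕ) (Bool.rec (motive := fun _ => ℕ) (Bool.rec (motive := fun _ => ℕ) (Bool.rec (motive := fun _ => ℕ) (Bool.rec (motive := fun _ => ℕ) (Bool.rec (motive := fun _ => ℕ) (Bool.rec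 (motive := fun _ => ℕ) (Bool.rec (motive := fun _ => ℕ) (e6_256) (e6_257) (Nat.ble 257 b)) (Bool.rec (motive := fun _ => ℕ) (e6_258) (e6_259) (Nat.ble 259 b)) (Nat.ble 258 b)) (Bool.rec (motive := fun _ => ℕ) (Bool.rec (motive := fun _ => ℕ) (e6_260) (e6_261) (Nat.ble 261 b)) (Bool.rec (motive := fun _ => ℕ) (e6_262) (e6_263) (Nat.ble 263 b)) (Nat.ble 262 b)) (Nat.ble 260 b)) (Bool.rec (motive := fun _ => ℕ) (Bool.rec (motive := fun _ => ℕ) (Bool.rec (motive := fun _ => ℕ) (e6_264) (e6_265) (Nat.ble 265 b)) (Bool.rec (motive := fun _ => ℕ) (e6_266) (0) (Nat.ble 267 b)) (Nat.ble 266 b)) (0) (Nat.ble 268 b)) (Nat.ble 264 b)) (0) (Nat.ble 272 b)) (0) (Nat.ble 288 b)) (0) (Nat.ble 320 b)) (0) (Nat.ble 384 b)) (Nat.ble 256 b))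
noncomputable def jcol6 (b : ℕ) : ℕ := (Bool.rec (motive := fun _ => ℕ) (Bool.rec (motive := fun _ => ℕ) (Bool.rec (motive := fun _ => ℕ) (Bool.rec (motive := fun _ => ℕ) (Bool.rec (motive := fun _ => ℕ) (Bool.rec (motive := fun _ => ℕ) (Bool.rec (motive := fun _ => ℕ) (Bool.rec (motive := fun _ => ℕ) (Bool.rec (motive := fun _ => ℕ) (j6_0) (j6_1) (Nat.ble 1 b)) (Bool.rec (motive := fun _ => ℕ) (j6_2) (j6_3) (Nat.ble 3 b)) (Nat.ble 2 b)) (Bool.rec (motive := fun _ => ℕ) (Bool.rec (motive := fun _ => ℕ) (j6_4) (j6_5) (Nat.ble 5 b)) (Bool.rec (motive := fun _ => ℕ) (j6_6) (j6_7) (Nat.ble 7 b)) (Nat.ble 6 b)) (Nat.ble 4 b)) (Bool.rec (motive := fun _ => ℕ) (Bool.rec (motive := fun _ => ℕ) (Bool.rec (motive := fun _ => ℕ) (j6_8) (j6_9) (Nat.ble 9 b)) (Bool.rec (motive := fun _ => ℕ) (j6_10) (j6_11) (Nat.ble 11 b)) (Nat.ble 10 b))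 (Bool.rec (motive := fun _ => ℕ) (Bool.rec (motive := fun _ => ℕ) (j6_12) (j6_13) (Nat.ble 13 b)) (Bool.rec (motive := fun _ => ℕ) (j6_14) (j6_15) (Nat.ble 15 b)) (Nat.ble 14 b)) (Nat.ble 12 b)) (Nat.ble 8 b)) (Bool.rec (motive := fun _ => ℕ) (Bool.rec (motive := fun _ => ℕ) (Bool.rec (motive := fun _ => ℕ) (Bool.rec (motive := fun _ => ℕ) (j6_16) (j6_17) (Nat.ble 17 b)) (Bool.rec (motive := fun _ => ℕ) (j6_18) (j6_19) (Nat.ble 19 b)) (Nat.ble 18 b)) (Bool.rec (motive := fun _ => ℕ) (Bool.rec (motive := fun _ => ℕ) (j6_20) (j6_21) (Nat.ble 21 b)) (Bool.rec (motive := fun _ => ℕ) (j6_22) (j6_23) (Nat.ble 23 b)) (Nat.ble 22 b)) (Nat.ble 20 b)) (Bool.rec (motive := fun _ => ℕ) (Bool.rec (motive := fun _ => ℕ) (Bool.rec (motive := fun _ => ℕ) (j6_24) (j6_25) (Nat.ble 25 b)) (Bool.rec (motive := fun _ => ℕ) (j6_26) (j6_27) (Nat.ble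 27 b)) (Nat.ble 26 b)) (Bool.rec (motive := fun _ => ℕ) (Bool.rec (motive := fun _ => ℕ) (j6_28) (j6_29) (Nat.ble 29 b)) (Bool.rec (motive := fun _ => ℕ) (j6_30) (j6_31) (Nat.ble 31 b)) (Nat.ble 30 b)) (Nat.ble 28 b)) (Nat.ble 24 b)) (Nat.ble 16 b)) (Bool.rec (motive := fun _ => ℕ) (Bool.rec (motive := fun _ => ℕ) (Bool.rec (motive := fun _ => ℕ) (Bool.rec (motive := fun _ => ℕ) (Bool.rec (motive := fun _ => ℕ) (j6_32) (j6_33) (Nat.ble 33 b)) (Bool.rec (motive := fun _ => ℕ) (j6_34) (j6_35) (Nat.ble 35 b)) (Nat.ble 34 b)) (Bool.rec (motive := fun _ => ℕ) (Bool.rec (motive := fun _ => ℕ) (j6_36) (j6_37) (Nat.ble 37 b)) (Bool.rec (motive := fun _ => ℕ) (j6_38) (j6_39) (Nat.ble 39 b)) (Nat.ble 38 b)) (Nat.ble 36 b)) (Bool.rec (motive := fun _ => ℕ) (Bool.rec (motive := fun _ => ℕ) (Bool.rec (motive := fun _ => ℕ) (j6_40) (j6_41)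 (Nat.ble 41 b)) (Bool.rec (motive := fun _ => ℕ) (j6_42) (j6_43) (Nat.ble 43 b)) (Nat.ble 42 b)) (Bool.rec (motive := fun _ => ℕ) (Bool.rec (motive := fun _ => ℕ) (j6_44) (j6_45) (Nat.ble 45 b)) (Bool.rec (motive := fun _ => ℕ) (j6_46) (j6_47) (Nat.ble 47 b)) (Nat.ble 46 b)) (Nat.ble 44 b)) (Nat.ble 40 b)) (Bool.rec (motive := fun _ => ℕ) (Bool.rec (motive := fun _ => ℕ) (Bool.rec (motive := fun _ => ℕ) (Bool.rec (motive := fun _ => ℕ) (j6_48) (j6_49) (Nat.ble 49 b)) (Bool.rec (motive := fun _ => ℕ) (j6_50) (j6_51) (Nat.ble 51 b)) (Nat.ble 50 b)) (Bool.rec (motive := fun _ => ℕ) (Bool.rec (motive := fun _ => ℕ) (j6_52) (j6_53) (Nat.ble 53 b)) (Bool.rec (motive := fun _ => ℕ) (j6_54) (j6_55) (Nat.ble 55 b)) (Nat.ble 54 b)) (Nat.ble 52 b)) (Bool.rec (motive := fun _ => ℕ) (Bool.rec (motive := fun _ => ℕ) (Bool.rec (motive := fun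 _ => ℕ) (j6_56) (j6_57) (Nat.ble 57 b)) (Bool.rec (motive := fun _ => ℕ) (j6_58) (j6_59) (Nat.ble 59 b)) (Nat.ble 58 b)) (Bool.rec (motive := fun _ => ℕ) (Bool.rec (motive := fun _ => ℕ) (j6_60) (j6_61) (Nat.ble 61 b)) (Bool.rec (motive := fun _ => ℕ) (j6_62) (j6_63) (Nat.ble 63 b)) (Nat.ble 62 b)) (Nat.ble 60 b)) (Nat.ble 56 b)) (Nat.ble 48 b)) (Nat.ble 32 b)) (Bool.rec (motive := fun _ => ℕ) (Bool.rec (motive := fun _ => ℕ) (Bool.rec (motive := fun _ => ℕ) (Bool.rec (motive := fun _ => ℕ) (Bool.rec (motive := fun _ => ℕ) (Bool.rec (motive := fun _ => ℕ) (j6_64) (j6_65) (Nat.ble 65 b)) (Bool.rec (motive := fun _ => ℕ) (j6_66) (j6_67) (Nat.ble 67 b)) (Nat.ble 66 b)) (Bool.rec (motive := fun _ => ℕ) (Bool.rec (motive := fun _ => ℕ) (j6_68) (j6_69) (Nat.ble 69 b)) (Bool.rec (motive := fun _ => ℕ) (j6_70) (j6_71) (Nat.ble 71 b))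 (Nat.ble 70 b)) (Nat.ble 68 b)) (Bool.rec (motive := fun _ => ℕ) (Bool.rec (motive := fun _ => ℕ) (Bool.rec (motive := fun _ => ℕ) (j6_72) (j6_73) (Nat.ble 73 b)) (Bool.rec (motive := fun _ => ℕ) (j6_74) (j6_75) (Nat.ble 75 b)) (Nat.ble 74 b)) (Bool.rec (motive := fun _ => ℕ) (Bool.rec (motive := fun _ => ℕ) (j6_76) (j6_77) (Nat.ble 77 b)) (Bool.rec (motive := fun _ => ℕ) (j6_78) (j6_79) (Nat.ble 79 b)) (Nat.ble 78 b)) (Nat.ble 76 b)) (Nat.ble 72 b)) (Bool.rec (motive := fun _ => ℕ) (Bool.rec (motive := fun _ => ℕ) (Bool.rec (motive := fun _ => ℕ) (Bool.rec (motive := fun _ => ℕ) (j6_80) (j6_81) (Nat.ble 81 b)) (Bool.rec (motive := fun _ => ℕ) (j6_82) (j6_83) (Nat.ble 83 b)) (Nat.ble 82 b)) (Bool.rec (motive := fun _ => ℕ) (Bool.rec (motive := fun _ => ℕ) (j6_84) (j6_85) (Nat.ble 85 b)) (Bool.rec (motive := fun _ => ℕ) (j6_86)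 (j6_87) (Nat.ble 87 b)) (Nat.ble 86 b)) (Nat.ble 84 b)) (Bool.rec (motive := fun _ => ℕ) (Bool.rec (motive := fun _ => ℕ) (Bool.rec (motive := fun _ => ℕ) (j6_88) (j6_89) (Nat.ble 89 b)) (Bool.rec (motive := fun _ => ℕ) (j6_90) (j6_91) (Nat.ble 91 b)) (Nat.ble 90 b)) (Bool.rec (motive := fun _ => ℕ) (Bool.rec (motive := fun _ => ℕ) (j6_92) (j6_93) (Nat.ble 93 b)) (Bool.rec (motive := fun _ => ℕ) (j6_94) (j6_95) (Nat.ble 95 b)) (Nat.ble 94 b)) (Nat.ble 92 b)) (Nat.ble 88 b)) (Nat.ble 80 b)) (Bool.rec (motive := fun _ => ℕ) (Bool.rec (motive := fun _ => ℕ) (Bool.rec (motive := fun _ => ℕ) (Bool.rec (motive := fun _ => ℕ) (Bool.rec (motive := fun _ => ℕ) (j6_96) (j6_97) (Nat.ble 97 b)) (Bool.rec (motive := fun _ => ℕ) (j6_98) (j6_99) (Nat.ble 99 b)) (Nat.ble 98 b)) (Bool.rec (motive := fun _ => ℕ) (Bool.rec (motive := fun _ => ℕ)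 (j6_100) (j6_101) (Nat.ble 101 b)) (Bool.rec (motive := fun _ => ℕ) (j6_102) (j6_103) (Nat.ble 103 b)) (Nat.ble 102 b)) (Nat.ble 100 b)) (Bool.rec (motive := fun _ => ℕ) (Bool.rec (motive := fun _ => ℕ) (Bool.rec (motive := fun _ => ℕ) (j6_104) (j6_105) (Nat.ble 105 b)) (Bool.rec (motive := fun _ => ℕ) (j6_106) (j6_107) (Nat.ble 107 b)) (Nat.ble 106 b)) (Bool.rec (motive := fun _ => ℕ) (Bool.rec (motive := fun _ => ℕ) (j6_108) (j6_109) (Nat.ble 109 b)) (Bool.rec (motive := fun _ => ℕ) (j6_110) (j6_111) (Nat.ble 111 b)) (Nat.ble 110 b)) (Nat.ble 108 b)) (Nat.ble 104 b)) (Bool.rec (motive := fun _ => ℕ) (Bool.rec (motive := fun _ => ℕ) (Bool.rec (motive := fun _ => ℕ) (Bool.rec (motive := fun _ => ℕ) (j6_112) (j6_113) (Nat.ble 113 b)) (Bool.rec (motive := fun _ => ℕ) (j6_114) (j6_115) (Nat.ble 115 b)) (Nat.ble 114 b)) (Bool.rec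 (motive := fun _ => ℕ) (Bool.rec (motive := fun _ => ℕ) (j6_116) (j6_117) (Nat.ble 117 b)) (Bool.rec (motive := fun _ => ℕ) (j6_118) (j6_119) (Nat.ble 119 b)) (Nat.ble 118 b)) (Nat.ble 116 b)) (Bool.rec (motive := fun _ => ℕ) (Bool.rec (motive := fun _ => ℕ) (Bool.rec (motive := fun _ => ℕ) (j6_120) (j6_121) (Nat.ble 121 b)) (Bool.rec (motive := fun _ => ℕ) (j6_122) (j6_123) (Nat.ble 123 b)) (Nat.ble 122 b)) (Bool.rec (motive := fun _ => ℕ) (Bool.rec (motive := fun _ => ℕ) (j6_124) (j6_125) (Nat.ble 125 b)) (Bool.rec (motive := fun _ => ℕ) (j6_126) (j6_127) (Nat.ble 127 b)) (Nat.ble 126 b)) (Nat.ble 124 b)) (Nat.ble 120 b)) (Nat.ble 112 b)) (Nat.ble 96 b)) (Nat.ble 64 b)) (Bool.rec (motive := fun _ => ℕ) (Bool.rec (motive := fun _ => ℕ) (Bool.rec (motive := fun _ => ℕ) (Bool.rec (motive := fun _ => ℕ) (Bool.rec (motive := fun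 _ => ℕ) (Bool.rec (motive := fun _ => ℕ) (Bool.rec (motive := fun _ => ℕ) (j6_128) (j6_129) (Nat.ble 129 b)) (Bool.rec (motive := fun _ => ℕ) (j6_130) (j6_131) (Nat.ble 131 b)) (Nat.ble 130 b)) (Bool.rec (motive := fun _ => ℕ) (Bool.rec (motive := fun _ => ℕ) (j6_132) (j6_133) (Nat.ble 133 b)) (Bool.rec (motive := fun _ => ℕ) (j6_134) (j6_135) (Nat.ble 135 b)) (Nat.ble 134 b)) (Nat.ble 132 b)) (Bool.rec (motive := fun _ => ℕ) (Bool.rec (motive := fun _ => ℕ) (Bool.rec (motive := fun _ => ℕ) (j6_136) (j6_137) (Nat.ble 137 b)) (Bool.rec (motive := fun _ => ℕ) (j6_138) (j6_139) (Nat.ble 139 b)) (Nat.ble 138 b)) (Bool.rec (motive := fun _ => ℕ) (Bool.rec (motive := fun _ => ℕ) (j6_140) (j6_141) (Nat.ble 141 b)) (Bool.rec (motive := fun _ => ℕ) (j6_142) (j6_143) (Nat.ble 143 b)) (Nat.ble 142 b)) (Nat.ble 140 b)) (Nat.ble 136 b)) (Bool.rec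 (motive := fun _ => ℕ) (Bool.rec (motive := fun _ => ℕ) (Bool.rec (motive := fun _ => ℕ) (Bool.rec (motive := fun _ => ℕ) (j6_144) (j6_145) (Nat.ble 145 b)) (Bool.rec (motive := fun _ => ℕ) (j6_146) (j6_147) (Nat.ble 147 b)) (Nat.ble 146 b)) (Bool.rec (motive := fun _ => ℕ) (Bool.rec (motive := fun _ => ℕ) (j6_148) (j6_149) (Nat.ble 149 b)) (Bool.rec (motive := fun _ => ℕ) (j6_150) (j6_151) (Nat.ble 151 b)) (Nat.ble 150 b)) (Nat.ble 148 b)) (Bool.rec (motive := fun _ => ℕ) (Bool.rec (motive := fun _ => ℕ) (Bool.rec (motive := fun _ => ℕ) (j6_152) (j6_153) (Nat.ble 153 b)) (Bool.rec (motive := fun _ => ℕ) (j6_154) (j6_155) (Nat.ble 155 b)) (Nat.ble 154 b)) (Bool.rec (motive := fun _ => ℕ) (Bool.rec (motive := fun _ => ℕ) (j6_156) (j6_157) (Nat.ble 157 b)) (Bool.rec (motive := fun _ => ℕ) (j6_158) (j6_159) (Nat.ble 159 b)) (Nat.ble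 158 b)) (Nat.ble 156 b)) (Nat.ble 152 b)) (Nat.ble 144 b)) (Bool.rec (motive := fun _ => ℕ) (Bool.rec (motive := fun _ => ℕ) (Bool.rec (motive := fun _ => ℕ) (Bool.rec (motive := fun _ => ℕ) (Bool.rec (motive := fun _ => ℕ) (j6_160) (j6_161) (Nat.ble 161 b)) (Bool.rec (motive := fun _ => ℕ) (j6_162) (j6_163) (Nat.ble 163 b)) (Nat.ble 162 b)) (Bool.rec (motive := fun _ => ℕ) (Bool.rec (motive := fun _ => ℕ) (j6_164) (j6_165) (Nat.ble 165 b)) (Bool.rec (motive := fun _ => ℕ) (j6_166) (j6_167) (Nat.ble 167 b)) (Nat.ble 166 b)) (Nat.ble 164 b)) (Bool.rec (motive := fun _ => ℕ) (Bool.rec (motive := fun _ => ℕ) (Bool.rec (motive := fun _ => ℕ) (j6_168) (j6_169) (Nat.ble 169 b)) (Bool.rec (motive := fun _ => ℕ) (j6_170) (j6_171) (Nat.ble 171 b)) (Nat.ble 170 b)) (Bool.rec (motive := fun _ => ℕ) (Bool.rec (motive := fun _ => ℕ) (j6_172)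 (j6_173) (Nat.ble 173 b)) (Bool.rec (motive := fun _ => ℕ) (j6_174) (j6_175) (Nat.ble 175 b)) (Nat.ble 174 b)) (Nat.ble 172 b)) (Nat.ble 168 b)) (Bool.rec (motive := fun _ => ℕ) (Bool.rec (motive := fun _ => ℕ) (Bool.rec (motive := fun _ => ℕ) (Bool.rec (motive := fun _ => ℕ) (j6_176) (j6_177) (Nat.ble 177 b)) (Bool.rec (motive := fun _ => ℕ) (j6_178) (j6_179) (Nat.ble 179 b)) (Nat.ble 178 b)) (Bool.rec (motive := fun _ => ℕ) (Bool.rec (motive := fun _ => ℕ) (j6_180) (j6_181) (Nat.ble 181 b)) (Bool.rec (motive := fun _ => ℕ) (j6_182) (j6_183) (Nat.ble 183 b)) (Nat.ble 182 b)) (Nat.ble 180 b)) (Bool.rec (motive := fun _ => ℕ) (Bool.rec (motive := fun _ => ℕ) (Bool.rec (motive := fun _ => ℕ) (j6_184) (j6_185) (Nat.ble 185 b)) (Bool.rec (motive := fun _ => ℕ) (j6_186) (j6_187) (Nat.ble 187 b)) (Nat.ble 186 b)) (Bool.rec (motive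 := fun _ => ℕ) (Bool.rec (motive := fun _ => ℕ) (j6_188) (j6_189) (Nat.ble 189 b)) (Bool.rec (motive := fun _ => ℕ) (j6_190) (j6_191) (Nat.ble 191 b)) (Nat.ble 190 b)) (Nat.ble 188 b)) (Nat.ble 184 b)) (Nat.ble 176 b)) (Nat.ble 160 b)) (Bool.rec (motive := fun _ => ℕ) (Bool.rec (motive := fun _ => ℕ) (Bool.rec (motive := fun _ => ℕ) (Bool.rec (motive := fun _ => ℕ) (Bool.rec (motive := fun _ => ℕ) (Bool.rec (motive := fun _ => ℕ) (j6_192) (j6_193) (Nat.ble 193 b)) (Bool.rec (motive := fun _ => ℕ) (j6_194) (j6_195) (Nat.ble 195 b)) (Nat.ble 194 b)) (Bool.rec (motive := fun _ => ℕ) (Bool.rec (motive := fun _ => ℕ) (j6_196) (j6_197) (Nat.ble 197 b)) (Bool.rec (motive := fun _ => ℕ) (j6_198) (j6_199) (Nat.ble 199 b)) (Nat.ble 198 b)) (Nat.ble 196 b)) (Bool.rec (motive := fun _ => ℕ) (Bool.rec (motive := fun _ => ℕ) (Bool.rec (motive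 := fun _ => ℕ) (j6_200) (j6_201) (Nat.ble 201 b)) (Bool.rec (motive := fun _ => ℕ) (j6_202) (j6_203) (Nat.ble 203 b)) (Nat.ble 202 b)) (Bool.rec (motive := fun _ => ℕ) (Bool.rec (motive := fun _ => ℕ) (j6_204) (j6_205) (Nat.ble 205 b)) (Bool.rec (motive := fun _ => ℕ) (j6_206) (j6_207) (Nat.ble 207 b)) (Nat.ble 206 b)) (Nat.ble 204 b)) (Nat.ble 200 b)) (Bool.rec (motive := fun _ => ℕ) (Bool.rec (motive := fun _ => ℕ) (Bool.rec (motive := fun _ => ℕ) (Bool.rec (motive := fun _ => ℕ) (j6_208) (j6_209) (Nat.ble 209 b)) (Bool.rec (motive := fun _ => ℕ) (j6_210) (j6_211) (Nat.ble 211 b)) (Nat.ble 210 b)) (Bool.rec (motive := fun _ => ℕ) (Bool.rec (motive := fun _ => ℕ) (j6_212) (j6_213) (Nat.ble 213 b)) (Bool.rec (motive := fun _ => ℕ) (j6_214) (j6_215) (Nat.ble 215 b)) (Nat.ble 214 b)) (Nat.ble 212 b)) (Bool.rec (motive := fun _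 => ℕ) (Bool.rec (motive := fun _ => ℕ) (Bool.rec (motive := fun _ => ℕ) (j6_216) (j6_217) (Nat.ble 217 b)) (Bool.rec (motive := fun _ => ℕ) (j6_218) (j6_219) (Nat.ble 219 b)) (Nat.ble 218 b)) (Bool.rec (motive := fun _ => ℕ) (Bool.rec (motive := fun _ => ℕ) (j6_220) (j6_221) (Nat.ble 221 b)) (Bool.rec (motive := fun _ => ℕ) (j6_222) (j6_223) (Nat.ble 223 b)) (Nat.ble 222 b)) (Nat.ble 220 b)) (Nat.ble 216 b)) (Nat.ble 208 b)) (Bool.rec (motive := fun _ => ℕ) (Bool.rec (motive := fun _ => ℕ) (Bool.rec (motive := fun _ => ℕ) (Bool.rec (motive := fun _ => ℕ) (Bool.rec (motive := fun _ => ℕ) (j6_224) (j6_225) (Nat.ble 225 b)) (Bool.rec (motive := fun _ => ℕ) (j6_226) (j6_227) (Nat.ble 227 b)) (Nat.ble 226 b)) (Bool.rec (motive := fun _ => ℕ) (Bool.rec (motive := fun _ => ℕ) (j6_228) (j6_229) (Nat.ble 229 b)) (Bool.rec (motive := fun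 _ => ℕ) (j6_230) (j6_231) (Nat.ble 231 b)) (Nat.ble 230 b)) (Nat.ble 228 b)) (Bool.rec (motive := fun _ => ℕ) (Bool.rec (motive := fun _ => ℕ) (Bool.rec (motive := fun _ => ℕ) (j6_232) (j6_233) (Nat.ble 233 b)) (Bool.rec (motive := fun _ => ℕ) (j6_234) (j6_235) (Nat.ble 235 b)) (Nat.ble 234 b)) (Bool.rec (motive := fun _ => ℕ) (Bool.rec (motive := fun _ => ℕ) (j6_236) (j6_237) (Nat.ble 237 b)) (Bool.rec (motive := fun _ => ℕ) (j6_238) (j6_239) (Nat.ble 239 b)) (Nat.ble 238 b)) (Nat.ble 236 b)) (Nat.ble 232 b)) (Bool.rec (motive := fun _ => ℕ) (Bool.rec (motive := fun _ => ℕ) (Bool.rec (motive := fun _ => ℕ) (Bool.rec (motive := fun _ => ℕ) (j6_240) (j6_241) (Nat.ble 241 b)) (Bool.rec (motive := fun _ => ℕ) (j6_242) (j6_243) (Nat.ble 243 b)) (Nat.ble 242 b)) (Bool.rec (motive := fun _ => ℕ) (Bool.rec (motive := fun _ => ℕ) (j6_244)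 (j6_245) (Nat.ble 245 b)) (Bool.rec (motive := fun _ => ℕ) (j6_246) (j6_247) (Nat.ble 247 b)) (Nat.ble 246 b)) (Nat.ble 244 b)) (Bool.rec (motive := fun _ => ℕ) (Bool.rec (motive := fun _ => ℕ) (Bool.rec (motive := fun _ => ℕ) (j6_248) (j6_249) (Nat.ble 249 b)) (Bool.rec (motive := fun _ => ℕ) (j6_250) (j6_251) (Nat.ble 251 b)) (Nat.ble 250 b)) (Bool.rec (motive := fun _ => ℕ) (Bool.rec (motive := fun _ => ℕ) (j6_252) (j6_253) (Nat.ble 253 b)) (Bool.rec (motive := fun _ => ℕ) (j6_254) (j6_255) (Nat.ble 255 b)) (Nat.ble 254 b)) (Nat.ble 252 b)) (Nat.ble 248 b)) (Nat.ble 240 b)) (Nat.ble 224 b)) (Nat.ble 192 b)) (Nat.ble 128 b)) (Bool.rec (motive := fun _ => ℕ) (Bool.rec (motive := fun _ => ℕ) (Bool.rec (motive := fun _ => ℕ) (Bool.rec (motive := fun _ => ℕ) (Bool.rec (motive := fun _ => ℕ) (Bool.rec (motive := fun _ => ℕ) (Bool.rec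 (motive := fun _ => ℕ) (Bool.rec (motive := fun _ => ℕ) (j6_256) (j6_257) (Nat.ble 257 b)) (Bool.rec (motive := fun _ => ℕ) (j6_258) (j6_259) (Nat.ble 259 b)) (Nat.ble 258 b)) (Bool.rec (motive := fun _ => ℕ) (Bool.rec (motive := fun _ => ℕ) (j6_260) (j6_261) (Nat.ble 261 b)) (Bool.rec (motive := fun _ => ℕ) (j6_262) (j6_263) (Nat.ble 263 b)) (Nat.ble 262 b)) (Nat.ble 260 b)) (Bool.rec (motive := fun _ => ℕ) (Bool.rec (motive := fun _ => ℕ) (Bool.rec (motive := fun _ => ℕ) (j6_264) (j6_265) (Nat.ble 265 b)) (Bool.rec (motive := fun _ => ℕ) (j6_266) (0) (Nat.ble 267 b)) (Nat.ble 266 b)) (0) (Nat.ble 268 b)) (Nat.ble 264 b)) (0) (Nat.ble 272 b)) (0) (Nat.ble 288 b)) (0) (Nat.ble 320 b)) (0) (Nat.ble 384 b)) (Nat.ble 256 b))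
noncomputable def ecol7 (b : ℕ) : ℕ := (Bool.rec (motive := fun _ => ℕ) (Bool.rec (motive := fun _ => ℕ) (Bool.rec (motive := fun _ => ℕ) (Bool.rec (motive := fun _ => ℕ) (Bool.rec (motive := fun _ => ℕ) (Bool.rec (motive := fun _ => ℕ) (Bool.rec (motive := fun _ => ℕ) (Bool.rec (motive := fun _ => ℕ) (Bool.rec (motive := fun _ => ℕ) (e7_0) (e7_1) (Nat.ble 1 b)) (Bool.rec (motive := fun _ => ℕ) (e7_2) (e7_3) (Nat.ble 3 b)) (Nat.ble 2 b)) (Bool.rec (motive := fun _ => ℕ) (Bool.rec (motive := fun _ => ℕ) (e7_4) (e7_5) (Nat.ble 5 b)) (Bool.rec (motive := fun _ => ℕ) (e7_6) (e7_7) (Nat.ble 7 b)) (Nat.ble 6 b)) (Nat.ble 4 b)) (Bool.rec (motive := fun _ => ℕ) (Bool.rec (motive := fun _ => ℕ) (Bool.rec (motive := fun _ => ℕ) (e7_8) (e7_9) (Nat.ble 9 b)) (Bool.rec (motive := fun _ => ℕ) (e7_10) (e7_11) (Nat.ble 11 b)) (Nat.ble 10 b))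 (Bool.rec (motive := fun _ => ℕ) (Bool.rec (motive := fun _ => ℕ) (e7_12) (e7_13) (Nat.ble 13 b)) (Bool.rec (motive := fun _ => ℕ) (e7_14) (e7_15) (Nat.ble 15 b)) (Nat.ble 14 b)) (Nat.ble 12 b)) (Nat.ble 8 b)) (Bool.rec (motive := fun _ => ℕ) (Bool.rec (motive := fun _ => ℕ) (Bool.rec (motive := fun _ => ℕ) (Bool.rec (motive := fun _ => ℕ) (e7_16) (e7_17) (Nat.ble 17 b)) (Bool.rec (motive := fun _ => ℕ) (e7_18) (e7_19) (Nat.ble 19 b)) (Nat.ble 18 b)) (Bool.rec (motive := fun _ => ℕ) (Bool.rec (motive := fun _ => ℕ) (e7_20) (e7_21) (Nat.ble 21 b)) (Bool.rec (motive := fun _ => ℕ) (e7_22) (e7_23) (Nat.ble 23 b)) (Nat.ble 22 b)) (Nat.ble 20 b)) (Bool.rec (motive := fun _ => ℕ) (Bool.rec (motive := fun _ => ℕ) (Bool.rec (motive := fun _ => ℕ) (e7_24) (e7_25) (Nat.ble 25 b)) (Bool.rec (motive := fun _ => ℕ) (e7_26) (e7_27) (Nat.ble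 27 b)) (Nat.ble 26 b)) (Bool.rec (motive := fun _ => ℕ) (Bool.rec (motive := fun _ => ℕ) (e7_28) (e7_29) (Nat.ble 29 b)) (Bool.rec (motive := fun _ => ℕ) (e7_30) (e7_31) (Nat.ble 31 b)) (Nat.ble 30 b)) (Nat.ble 28 b)) (Nat.ble 24 b)) (Nat.ble 16 b)) (Bool.rec (motive := fun _ => ℕ) (Bool.rec (motive := fun _ => ℕ) (Bool.rec (motive := fun _ => ℕ) (Bool.rec (motive := fun _ => ℕ) (Bool.rec (motive := fun _ => ℕ) (e7_32) (e7_33) (Nat.ble 33 b)) (Bool.rec (motive := fun _ => ℕ) (e7_34) (e7_35) (Nat.ble 35 b)) (Nat.ble 34 b)) (Bool.rec (motive := fun _ => ℕ) (Bool.rec (motive := fun _ => ℕ) (e7_36) (e7_37) (Nat.ble 37 b)) (Bool.rec (motive := fun _ => ℕ) (e7_38) (e7_39) (Nat.ble 39 b)) (Nat.ble 38 b)) (Nat.ble 36 b)) (Bool.rec (motive := fun _ => ℕ) (Bool.rec (motive := fun _ => ℕ) (Bool.rec (motive := fun _ => ℕ) (e7_40) (e7_41)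 (Nat.ble 41 b)) (Bool.rec (motive := fun _ => ℕ) (e7_42) (e7_43) (Nat.ble 43 b)) (Nat.ble 42 b)) (Bool.rec (motive := fun _ => ℕ) (Bool.rec (motive := fun _ => ℕ) (e7_44) (e7_45) (Nat.ble 45 b)) (Bool.rec (motive := fun _ => ℕ) (e7_46) (e7_47) (Nat.ble 47 b)) (Nat.ble 46 b)) (Nat.ble 44 b)) (Nat.ble 40 b)) (Bool.rec (motive := fun _ => ℕ) (Bool.rec (motive := fun _ => ℕ) (Bool.rec (motive := fun _ => ℕ) (Bool.rec (motive := fun _ => ℕ) (e7_48) (e7_49) (Nat.ble 49 b)) (Bool.rec (motive := fun _ => ℕ) (e7_50) (e7_51) (Nat.ble 51 b)) (Nat.ble 50 b)) (Bool.rec (motive := fun _ => ℕ) (Bool.rec (motive := fun _ => ℕ) (e7_52) (e7_53) (Nat.ble 53 b)) (Bool.rec (motive := fun _ => ℕ) (e7_54) (e7_55) (Nat.ble 55 b)) (Nat.ble 54 b)) (Nat.ble 52 b)) (Bool.rec (motive := fun _ => ℕ) (Bool.rec (motive := fun _ => ℕ) (Bool.rec (motive := fun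 _ => ℕ) (e7_56) (e7_57) (Nat.ble 57 b)) (Bool.rec (motive := fun _ => ℕ) (e7_58) (e7_59) (Nat.ble 59 b)) (Nat.ble 58 b)) (Bool.rec (motive := fun _ => ℕ) (Bool.rec (motive := fun _ => ℕ) (e7_60) (e7_61) (Nat.ble 61 b)) (Bool.rec (motive := fun _ => ℕ) (e7_62) (e7_63) (Nat.ble 63 b)) (Nat.ble 62 b)) (Nat.ble 60 b)) (Nat.ble 56 b)) (Nat.ble 48 b)) (Nat.ble 32 b)) (Bool.rec (motive := fun _ => ℕ) (Bool.rec (motive := fun _ => ℕ) (Bool.rec (motive := fun _ => ℕ) (Bool.rec (motive := fun _ => ℕ) (Bool.rec (motive := fun _ => ℕ) (Bool.rec (motive := fun _ => ℕ) (e7_64) (e7_65) (Nat.ble 65 b)) (Bool.rec (motive := fun _ => ℕ) (e7_66) (e7_67) (Nat.ble 67 b)) (Nat.ble 66 b)) (Bool.rec (motive := fun _ => ℕ) (Bool.rec (motive := fun _ => ℕ) (e7_68) (e7_69) (Nat.ble 69 b)) (Bool.rec (motive := fun _ => ℕ) (e7_70) (e7_71) (Nat.ble 71 b))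 (Nat.ble 70 b)) (Nat.ble 68 b)) (Bool.rec (motive := fun _ => ℕ) (Bool.rec (motive := fun _ => ℕ) (Bool.rec (motive := fun _ => ℕ) (e7_72) (e7_73) (Nat.ble 73 b)) (Bool.rec (motive := fun _ => ℕ) (e7_74) (e7_75) (Nat.ble 75 b)) (Nat.ble 74 b)) (Bool.rec (motive := fun _ => ℕ) (Bool.rec (motive := fun _ => ℕ) (e7_76) (e7_77) (Nat.ble 77 b)) (Bool.rec (motive := fun _ => ℕ) (e7_78) (e7_79) (Nat.ble 79 b)) (Nat.ble 78 b)) (Nat.ble 76 b)) (Nat.ble 72 b)) (Bool.rec (motive := fun _ => ℕ) (Bool.rec (motive := fun _ => ℕ) (Bool.rec (motive := fun _ => ℕ) (Bool.rec (motive := fun _ => ℕ) (e7_80) (e7_81) (Nat.ble 81 b)) (Bool.rec (motive := fun _ => ℕ) (e7_82) (e7_83) (Nat.ble 83 b)) (Nat.ble 82 b)) (Bool.rec (motive := fun _ => ℕ) (Bool.rec (motive := fun _ => ℕ) (e7_84) (e7_85) (Nat.ble 85 b)) (Bool.rec (motive := fun _ => ℕ) (e7_86)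 (e7_87) (Nat.ble 87 b)) (Nat.ble 86 b)) (Nat.ble 84 b)) (Bool.rec (motive := fun _ => ℕ) (Bool.rec (motive := fun _ => ℕ) (Bool.rec (motive := fun _ => ℕ) (e7_88) (e7_89) (Nat.ble 89 b)) (Bool.rec (motive := fun _ => ℕ) (e7_90) (e7_91) (Nat.ble 91 b)) (Nat.ble 90 b)) (Bool.rec (motive := fun _ => ℕ) (Bool.rec (motive := fun _ => ℕ) (e7_92) (e7_93) (Nat.ble 93 b)) (Bool.rec (motive := fun _ => ℕ) (e7_94) (e7_95) (Nat.ble 95 b)) (Nat.ble 94 b)) (Nat.ble 92 b)) (Nat.ble 88 b)) (Nat.ble 80 b)) (Bool.rec (motive := fun _ => ℕ) (Bool.rec (motive := fun _ => ℕ) (Bool.rec (motive := fun _ => ℕ) (Bool.rec (motive := fun _ => ℕ) (Bool.rec (motive := fun _ => ℕ) (e7_96) (e7_97) (Nat.ble 97 b)) (Bool.rec (motive := fun _ => ℕ) (e7_98) (e7_99) (Nat.ble 99 b)) (Nat.ble 98 b)) (Bool.rec (motive := fun _ => ℕ) (Bool.rec (motive := fun _ => ℕ)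 (e7_100) (e7_101) (Nat.ble 101 b)) (Bool.rec (motive := fun _ => ℕ) (e7_102) (e7_103) (Nat.ble 103 b)) (Nat.ble 102 b)) (Nat.ble 100 b)) (Bool.rec (motive := fun _ => ℕ) (Bool.rec (motive := fun _ => ℕ) (Bool.rec (motive := fun _ => ℕ) (e7_104) (e7_105) (Nat.ble 105 b)) (Bool.rec (motive := fun _ => ℕ) (e7_106) (e7_107) (Nat.ble 107 b)) (Nat.ble 106 b)) (Bool.rec (motive := fun _ => ℕ) (Bool.rec (motive := fun _ => ℕ) (e7_108) (e7_109) (Nat.ble 109 b)) (Bool.rec (motive := fun _ => ℕ) (e7_110) (e7_111) (Nat.ble 111 b)) (Nat.ble 110 b)) (Nat.ble 108 b)) (Nat.ble 104 b)) (Bool.rec (motive := fun _ => ℕ) (Bool.rec (motive := fun _ => ℕ) (Bool.rec (motive := fun _ => ℕ) (Bool.rec (motive := fun _ => ℕ) (e7_112) (e7_113) (Nat.ble 113 b)) (Bool.rec (motive := fun _ => ℕ) (e7_114) (e7_115) (Nat.ble 115 b)) (Nat.ble 114 b)) (Bool.rec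 (motive := fun _ => ℕ) (Bool.rec (motive := fun _ => ℕ) (e7_116) (e7_117) (Nat.ble 117 b)) (Bool.rec (motive := fun _ => ℕ) (e7_118) (e7_119) (Nat.ble 119 b)) (Nat.ble 118 b)) (Nat.ble 116 b)) (Bool.rec (motive := fun _ => ℕ) (Bool.rec (motive := fun _ => ℕ) (Bool.rec (motive := fun _ => ℕ) (e7_120) (e7_121) (Nat.ble 121 b)) (Bool.rec (motive := fun _ => ℕ) (e7_122) (e7_123) (Nat.ble 123 b)) (Nat.ble 122 b)) (Bool.rec (motive := fun _ => ℕ) (Bool.rec (motive := fun _ => ℕ) (e7_124) (e7_125) (Nat.ble 125 b)) (Bool.rec (motive := fun _ => ℕ) (e7_126) (e7_127) (Nat.ble 127 b)) (Nat.ble 126 b)) (Nat.ble 124 b)) (Nat.ble 120 b)) (Nat.ble 112 b)) (Nat.ble 96 b)) (Nat.ble 64 b)) (Bool.rec (motive := fun _ => ℕ) (Bool.rec (motive := fun _ => ℕ) (Bool.rec (motive := fun _ => ℕ) (Bool.rec (motive := fun _ => ℕ) (Bool.rec (motive := fun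 _ => ℕ) (Bool.rec (motive := fun _ => ℕ) (Bool.rec (motive := fun _ => ℕ) (e7_128) (e7_129) (Nat.ble 129 b)) (Bool.rec (motive := fun _ => ℕ) (e7_130) (e7_131) (Nat.ble 131 b)) (Nat.ble 130 b)) (Bool.rec (motive := fun _ => ℕ) (Bool.rec (motive := fun _ => ℕ) (e7_132) (e7_133) (Nat.ble 133 b)) (Bool.rec (motive := fun _ => ℕ) (e7_134) (e7_135) (Nat.ble 135 b)) (Nat.ble 134 b)) (Nat.ble 132 b)) (Bool.rec (motive := fun _ => ℕ) (Bool.rec (motive := fun _ => ℕ) (Bool.rec (motive := fun _ => ℕ) (e7_136) (e7_137) (Nat.ble 137 b)) (Bool.rec (motive := fun _ => ℕ) (e7_138) (e7_139) (Nat.ble 139 b)) (Nat.ble 138 b)) (Bool.rec (motive := fun _ => ℕ) (Bool.rec (motive := fun _ => ℕ) (e7_140) (e7_141) (Nat.ble 141 b)) (Bool.rec (motive := fun _ => ℕ) (e7_142) (e7_143) (Nat.ble 143 b)) (Nat.ble 142 b)) (Nat.ble 140 b)) (Nat.ble 136 b)) (Bool.rec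 (motive := fun _ => ℕ) (Bool.rec (motive := fun _ => ℕ) (Bool.rec (motive := fun _ => ℕ) (Bool.rec (motive := fun _ => ℕ) (e7_144) (e7_145) (Nat.ble 145 b)) (Bool.rec (motive := fun _ => ℕ) (e7_146) (e7_147) (Nat.ble 147 b)) (Nat.ble 146 b)) (Bool.rec (motive := fun _ => ℕ) (Bool.rec (motive := fun _ => ℕ) (e7_148) (e7_149) (Nat.ble 149 b)) (Bool.rec (motive := fun _ => ℕ) (e7_150) (e7_151) (Nat.ble 151 b)) (Nat.ble 150 b)) (Nat.ble 148 b)) (Bool.rec (motive := fun _ => ℕ) (Bool.rec (motive := fun _ => ℕ) (Bool.rec (motive := fun _ => ℕ) (e7_152) (e7_153) (Nat.ble 153 b)) (Bool.rec (motive := fun _ => ℕ) (e7_154) (e7_155) (Nat.ble 155 b)) (Nat.ble 154 b)) (Bool.rec (motive := fun _ => ℕ) (Bool.rec (motive := fun _ => ℕ) (e7_156) (e7_157) (Nat.ble 157 b)) (Bool.rec (motive := fun _ => ℕ) (e7_158) (e7_159) (Nat.ble 159 b)) (Nat.ble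 158 b)) (Nat.ble 156 b)) (Nat.ble 152 b)) (Nat.ble 144 b)) (Bool.rec (motive := fun _ => ℕ) (Bool.rec (motive := fun _ => ℕ) (Bool.rec (motive := fun _ => ℕ) (Bool.rec (motive := fun _ => ℕ) (Bool.rec (motive := fun _ => ℕ) (e7_160) (e7_161) (Nat.ble 161 b)) (Bool.rec (motive := fun _ => ℕ) (e7_162) (e7_163) (Nat.ble 163 b)) (Nat.ble 162 b)) (Bool.rec (motive := fun _ => ℕ) (Bool.rec (motive := fun _ => ℕ) (e7_164) (e7_165) (Nat.ble 165 b)) (Bool.rec (motive := fun _ => ℕ) (e7_166) (e7_167) (Nat.ble 167 b)) (Nat.ble 166 b)) (Nat.ble 164 b)) (Bool.rec (motive := fun _ => ℕ) (Bool.rec (motive := fun _ => ℕ) (Bool.rec (motive := fun _ => ℕ) (e7_168) (e7_169) (Nat.ble 169 b)) (Bool.rec (motive := fun _ => ℕ) (e7_170) (e7_171) (Nat.ble 171 b)) (Nat.ble 170 b)) (Bool.rec (motive := fun _ => ℕ) (Bool.rec (motive := fun _ => ℕ) (e7_172)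 (e7_173) (Nat.ble 173 b)) (Bool.rec (motive := fun _ => ℕ) (e7_174) (e7_175) (Nat.ble 175 b)) (Nat.ble 174 b)) (Nat.ble 172 b)) (Nat.ble 168 b)) (Bool.rec (motive := fun _ => ℕ) (Bool.rec (motive := fun _ => ℕ) (Bool.rec (motive := fun _ => ℕ) (Bool.rec (motive := fun _ => ℕ) (e7_176) (e7_177) (Nat.ble 177 b)) (Bool.rec (motive := fun _ => ℕ) (e7_178) (e7_179) (Nat.ble 179 b)) (Nat.ble 178 b)) (Bool.rec (motive := fun _ => ℕ) (Bool.rec (motive := fun _ => ℕ) (e7_180) (e7_181) (Nat.ble 181 b)) (Bool.rec (motive := fun _ => ℕ) (e7_182) (e7_183) (Nat.ble 183 b)) (Nat.ble 182 b)) (Nat.ble 180 b)) (Bool.rec (motive := fun _ => ℕ) (Bool.rec (motive := fun _ => ℕ) (Bool.rec (motive := fun _ => ℕ) (e7_184) (e7_185) (Nat.ble 185 b)) (Bool.rec (motive := fun _ => ℕ) (e7_186) (e7_187) (Nat.ble 187 b)) (Nat.ble 186 b)) (Bool.rec (motive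 := fun _ => ℕ) (Bool.rec (motive := fun _ => ℕ) (e7_188) (e7_189) (Nat.ble 189 b)) (Bool.rec (motive := fun _ => ℕ) (e7_190) (e7_191) (Nat.ble 191 b)) (Nat.ble 190 b)) (Nat.ble 188 b)) (Nat.ble 184 b)) (Nat.ble 176 b)) (Nat.ble 160 b)) (Bool.rec (motive := fun _ => ℕ) (Bool.rec (motive := fun _ => ℕ) (Bool.rec (motive := fun _ => ℕ) (Bool.rec (motive := fun _ => ℕ) (Bool.rec (motive := fun _ => ℕ) (Bool.rec (motive := fun _ => ℕ) (e7_192) (e7_193) (Nat.ble 193 b)) (Bool.rec (motive := fun _ => ℕ) (e7_194) (e7_195) (Nat.ble 195 b)) (Nat.ble 194 b)) (Bool.rec (motive := fun _ => ℕ) (Bool.rec (motive := fun _ => ℕ) (e7_196) (e7_197) (Nat.ble 197 b)) (Bool.rec (motive := fun _ => ℕ) (e7_198) (e7_199) (Nat.ble 199 b)) (Nat.ble 198 b)) (Nat.ble 196 b)) (Bool.rec (motive := fun _ => ℕ) (Bool.rec (motive := fun _ => ℕ) (Bool.rec (motive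 := fun _ => ℕ) (e7_200) (e7_201) (Nat.ble 201 b)) (Bool.rec (motive := fun _ => ℕ) (e7_202) (e7_203) (Nat.ble 203 b)) (Nat.ble 202 b)) (Bool.rec (motive := fun _ => ℕ) (Bool.rec (motive := fun _ => ℕ) (e7_204) (e7_205) (Nat.ble 205 b)) (Bool.rec (motive := fun _ => ℕ) (e7_206) (e7_207) (Nat.ble 207 b)) (Nat.ble 206 b)) (Nat.ble 204 b)) (Nat.ble 200 b)) (Bool.rec (motive := fun _ => ℕ) (Bool.rec (motive := fun _ => ℕ) (Bool.rec (motive := fun _ => ℕ) (Bool.rec (motive := fun _ => ℕ) (e7_208) (e7_209) (Nat.ble 209 b)) (Bool.rec (motive := fun _ => ℕ) (e7_210) (e7_211) (Nat.ble 211 b)) (Nat.ble 210 b)) (Bool.rec (motive := fun _ => ℕ) (Bool.rec (motive := fun _ => ℕ) (e7_212) (e7_213) (Nat.ble 213 b)) (Bool.rec (motive := fun _ => ℕ) (e7_214) (e7_215) (Nat.ble 215 b)) (Nat.ble 214 b)) (Nat.ble 212 b)) (Bool.rec (motive := fun _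 => ℕ) (Bool.rec (motive := fun _ => ℕ) (Bool.rec (motive := fun _ => ℕ) (e7_216) (e7_217) (Nat.ble 217 b)) (Bool.rec (motive := fun _ => ℕ) (e7_218) (e7_219) (Nat.ble 219 b)) (Nat.ble 218 b)) (Bool.rec (motive := fun _ => ℕ) (Bool.rec (motive := fun _ => ℕ) (e7_220) (e7_221) (Nat.ble 221 b)) (Bool.rec (motive := fun _ => ℕ) (e7_222) (e7_223) (Nat.ble 223 b)) (Nat.ble 222 b)) (Nat.ble 220 b)) (Nat.ble 216 b)) (Nat.ble 208 b)) (Bool.rec (motive := fun _ => ℕ) (Bool.rec (motive := fun _ => ℕ) (Bool.rec (motive := fun _ => ℕ) (Bool.rec (motive := fun _ => ℕ) (Bool.rec (motive := fun _ => ℕ) (e7_224) (e7_225) (Nat.ble 225 b)) (Bool.rec (motive := fun _ => ℕ) (e7_226) (e7_227) (Nat.ble 227 b)) (Nat.ble 226 b)) (Bool.rec (motive := fun _ => ℕ) (Bool.rec (motive := fun _ => ℕ) (e7_228) (e7_229) (Nat.ble 229 b)) (Bool.rec (motive := fun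 _ => ℕ) (e7_230) (e7_231) (Nat.ble 231 b)) (Nat.ble 230 b)) (Nat.ble 228 b)) (Bool.rec (motive := fun _ => ℕ) (Bool.rec (motive := fun _ => ℕ) (Bool.rec (motive := fun _ => ℕ) (e7_232) (e7_233) (Nat.ble 233 b)) (Bool.rec (motive := fun _ => ℕ) (e7_234) (e7_235) (Nat.ble 235 b)) (Nat.ble 234 b)) (Bool.rec (motive := fun _ => ℕ) (Bool.rec (motive := fun _ => ℕ) (e7_236) (e7_237) (Nat.ble 237 b)) (Bool.rec (motive := fun _ => ℕ) (e7_238) (e7_239) (Nat.ble 239 b)) (Nat.ble 238 b)) (Nat.ble 236 b)) (Nat.ble 232 b)) (Bool.rec (motive := fun _ => ℕ) (Bool.rec (motive := fun _ => ℕ) (Bool.rec (motive := fun _ => ℕ) (Bool.rec (motive := fun _ => ℕ) (e7_240) (e7_241) (Nat.ble 241 b)) (Bool.rec (motive := fun _ => ℕ) (e7_242) (e7_243) (Nat.ble 243 b)) (Nat.ble 242 b)) (Bool.rec (motive := fun _ => ℕ) (Bool.rec (motive := fun _ => ℕ) (e7_244)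 (e7_245) (Nat.ble 245 b)) (Bool.rec (motive := fun _ => ℕ) (e7_246) (e7_247) (Nat.ble 247 b)) (Nat.ble 246 b)) (Nat.ble 244 b)) (Bool.rec (motive := fun _ => ℕ) (Bool.rec (motive := fun _ => ℕ) (Bool.rec (motive := fun _ => ℕ) (e7_248) (e7_249) (Nat.ble 249 b)) (Bool.rec (motive := fun _ => ℕ) (e7_250) (e7_251) (Nat.ble 251 b)) (Nat.ble 250 b)) (Bool.rec (motive := fun _ => ℕ) (Bool.rec (motive := fun _ => ℕ) (e7_252) (e7_253) (Nat.ble 253 b)) (Bool.rec (motive := fun _ => ℕ) (e7_254) (e7_255) (Nat.ble 255 b)) (Nat.ble 254 b)) (Nat.ble 252 b)) (Nat.ble 248 b)) (Nat.ble 240 b)) (Nat.ble 224 b)) (Nat.ble 192 b)) (Nat.ble 128 b)) (Bool.rec (motive := fun _ => ℕ) (Bool.rec (motive := fun _ => ℕ) (Bool.rec (motive := fun _ => ℕ) (Bool.rec (motive := fun _ => ℕ) (Bool.rec (motive := fun _ => ℕ) (Bool.rec (motive := fun _ => ℕ) (Bool.rec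 (motive := fun _ => ℕ) (Bool.rec (motive := fun _ => ℕ) (e7_256) (e7_257) (Nat.ble 257 b)) (Bool.rec (motive := fun _ => ℕ) (e7_258) (e7_259) (Nat.ble 259 b)) (Nat.ble 258 b)) (Bool.rec (motive := fun _ => ℕ) (Bool.rec (motive := fun _ => ℕ) (e7_260) (e7_261) (Nat.ble 261 b)) (Bool.rec (motive := fun _ => ℕ) (e7_262) (e7_263) (Nat.ble 263 b)) (Nat.ble 262 b)) (Nat.ble 260 b)) (Bool.rec (motive := fun _ => ℕ) (Bool.rec (motive := fun _ => ℕ) (Bool.rec (motive := fun _ => ℕ) (e7_264) (e7_265) (Nat.ble 265 b)) (Bool.rec (motive := fun _ => ℕ) (e7_266) (0) (Nat.ble 267 b)) (Nat.ble 266 b)) (0) (Nat.ble 268 b)) (Nat.ble 264 b)) (0) (Nat.ble 272 b)) (0) (Nat.ble 288 b)) (0) (Nat.ble 320 b)) (0) (Nat.ble 384 b)) (Nat.ble 256 b))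
noncomputable def jcol7 (b : ℕ) : ℕ := (Bool.rec (motive := fun _ => ℕ) (Bool.rec (motive := fun _ => ℕ) (Bool.rec (motive := fun _ => ℕ) (Bool.rec (motive := fun _ => ℕ) (Bool.rec (motive := fun _ => ℕ) (Bool.rec (motive := fun _ => ℕ) (Bool.rec (motive := fun _ => ℕ) (Bool.rec (motive := fun _ => ℕ) (Bool.rec (motive := fun _ => ℕ) (j7_0) (j7_1) (Nat.ble 1 b)) (Bool.rec (motive := fun _ => ℕ) (j7_2) (j7_3) (Nat.ble 3 b)) (Nat.ble 2 b)) (Bool.rec (motive := fun _ => ℕ) (Bool.rec (motive := fun _ => ℕ) (j7_4) (j7_5) (Nat.ble 5 b)) (Bool.rec (motive := fun _ => ℕ) (j7_6) (j7_7) (Nat.ble 7 b)) (Nat.ble 6 b)) (Nat.ble 4 b)) (Bool.rec (motive := fun _ => ℕ) (Bool.rec (motive := fun _ => ℕ) (Bool.rec (motive := fun _ => ℕ) (j7_8) (j7_9) (Nat.ble 9 b)) (Bool.rec (motive := fun _ => ℕ) (j7_10) (j7_11) (Nat.ble 11 b)) (Nat.ble 10 b))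 (Bool.rec (motive := fun _ => ℕ) (Bool.rec (motive := fun _ => ℕ) (j7_12) (j7_13) (Nat.ble 13 b)) (Bool.rec (motive := fun _ => ℕ) (j7_14) (j7_15) (Nat.ble 15 b)) (Nat.ble 14 b)) (Nat.ble 12 b)) (Nat.ble 8 b)) (Bool.rec (motive := fun _ => ℕ) (Bool.rec (motive := fun _ => ℕ) (Bool.rec (motive := fun _ => ℕ) (Bool.rec (motive := fun _ => ℕ) (j7_16) (j7_17) (Nat.ble 17 b)) (Bool.rec (motive := fun _ => ℕ) (j7_18) (j7_19) (Nat.ble 19 b)) (Nat.ble 18 b)) (Bool.rec (motive := fun _ => ℕ) (Bool.rec (motive := fun _ => ℕ) (j7_20) (j7_21) (Nat.ble 21 b)) (Bool.rec (motive := fun _ => ℕ) (j7_22) (j7_23) (Nat.ble 23 b)) (Nat.ble 22 b)) (Nat.ble 20 b)) (Bool.rec (motive := fun _ => ℕ) (Bool.rec (motive := fun _ => ℕ) (Bool.rec (motive := fun _ => ℕ) (j7_24) (j7_25) (Nat.ble 25 b)) (Bool.rec (motive := fun _ => ℕ) (j7_26) (j7_27) (Nat.ble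 27 b)) (Nat.ble 26 b)) (Bool.rec (motive := fun _ => ℕ) (Bool.rec (motive := fun _ => ℕ) (j7_28) (j7_29) (Nat.ble 29 b)) (Bool.rec (motive := fun _ => ℕ) (j7_30) (j7_31) (Nat.ble 31 b)) (Nat.ble 30 b)) (Nat.ble 28 b)) (Nat.ble 24 b)) (Nat.ble 16 b)) (Bool.rec (motive := fun _ => ℕ) (Bool.rec (motive := fun _ => ℕ) (Bool.rec (motive := fun _ => ℕ) (Bool.rec (motive := fun _ => ℕ) (Bool.rec (motive := fun _ => ℕ) (j7_32) (j7_33) (Nat.ble 33 b)) (Bool.rec (motive := fun _ => ℕ) (j7_34) (j7_35) (Nat.ble 35 b)) (Nat.ble 34 b)) (Bool.rec (motive := fun _ => ℕ) (Bool.rec (motive := fun _ => ℕ) (j7_36) (j7_37) (Nat.ble 37 b)) (Bool.rec (motive := fun _ => ℕ) (j7_38) (j7_39) (Nat.ble 39 b)) (Nat.ble 38 b)) (Nat.ble 36 b)) (Bool.rec (motive := fun _ => ℕ) (Bool.rec (motive := fun _ => ℕ) (Bool.rec (motive := fun _ => ℕ) (j7_40) (j7_41)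 (Nat.ble 41 b)) (Bool.rec (motive := fun _ => ℕ) (j7_42) (j7_43) (Nat.ble 43 b)) (Nat.ble 42 b)) (Bool.rec (motive := fun _ => ℕ) (Bool.rec (motive := fun _ => ℕ) (j7_44) (j7_45) (Nat.ble 45 b)) (Bool.rec (motive := fun _ => ℕ) (j7_46) (j7_47) (Nat.ble 47 b)) (Nat.ble 46 b)) (Nat.ble 44 b)) (Nat.ble 40 b)) (Bool.rec (motive := fun _ => ℕ) (Bool.rec (motive := fun _ => ℕ) (Bool.rec (motive := fun _ => ℕ) (Bool.rec (motive := fun _ => ℕ) (j7_48) (j7_49) (Nat.ble 49 b)) (Bool.rec (motive := fun _ => ℕ) (j7_50) (j7_51) (Nat.ble 51 b)) (Nat.ble 50 b)) (Bool.rec (motive := fun _ => ℕ) (Bool.rec (motive := fun _ => ℕ) (j7_52) (j7_53) (Nat.ble 53 b)) (Bool.rec (motive := fun _ => ℕ) (j7_54) (j7_55) (Nat.ble 55 b)) (Nat.ble 54 b)) (Nat.ble 52 b)) (Bool.rec (motive := fun _ => ℕ) (Bool.rec (motive := fun _ => ℕ) (Bool.rec (motive := fun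 _ => ℕ) (j7_56) (j7_57) (Nat.ble 57 b)) (Bool.rec (motive := fun _ => ℕ) (j7_58) (j7_59) (Nat.ble 59 b)) (Nat.ble 58 b)) (Bool.rec (motive := fun _ => ℕ) (Bool.rec (motive := fun _ => ℕ) (j7_60) (j7_61) (Nat.ble 61 b)) (Bool.rec (motive := fun _ => ℕ) (j7_62) (j7_63) (Nat.ble 63 b)) (Nat.ble 62 b)) (Nat.ble 60 b)) (Nat.ble 56 b)) (Nat.ble 48 b)) (Nat.ble 32 b)) (Bool.rec (motive := fun _ => ℕ) (Bool.rec (motive := fun _ => ℕ) (Bool.rec (motive := fun _ => ℕ) (Bool.rec (motive := fun _ => ℕ) (Bool.rec (motive := fun _ => ℕ) (Bool.rec (motive := fun _ => ℕ) (j7_64) (j7_65) (Nat.ble 65 b)) (Bool.rec (motive := fun _ => ℕ) (j7_66) (j7_67) (Nat.ble 67 b)) (Nat.ble 66 b)) (Bool.rec (motive := fun _ => ℕ) (Bool.rec (motive := fun _ => ℕ) (j7_68) (j7_69) (Nat.ble 69 b)) (Bool.rec (motive := fun _ => ℕ) (j7_70) (j7_71) (Nat.ble 71 b))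 (Nat.ble 70 b)) (Nat.ble 68 b)) (Bool.rec (motive := fun _ => ℕ) (Bool.rec (motive := fun _ => ℕ) (Bool.rec (motive := fun _ => ℕ) (j7_72) (j7_73) (Nat.ble 73 b)) (Bool.rec (motive := fun _ => ℕ) (j7_74) (j7_75) (Nat.ble 75 b)) (Nat.ble 74 b)) (Bool.rec (motive := fun _ => ℕ) (Bool.rec (motive := fun _ => ℕ) (j7_76) (j7_77) (Nat.ble 77 b)) (Bool.rec (motive := fun _ => ℕ) (j7_78) (j7_79) (Nat.ble 79 b)) (Nat.ble 78 b)) (Nat.ble 76 b)) (Nat.ble 72 b)) (Bool.rec (motive := fun _ => ℕ) (Bool.rec (motive := fun _ => ℕ) (Bool.rec (motive := fun _ => ℕ) (Bool.rec (motive := fun _ => ℕ) (j7_80) (j7_81) (Nat.ble 81 b)) (Bool.rec (motive := fun _ => ℕ) (j7_82) (j7_83) (Nat.ble 83 b)) (Nat.ble 82 b)) (Bool.rec (motive := fun _ => ℕ) (Bool.rec (motive := fun _ => ℕ) (j7_84) (j7_85) (Nat.ble 85 b)) (Bool.rec (motive := fun _ => ℕ) (j7_86)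 (j7_87) (Nat.ble 87 b)) (Nat.ble 86 b)) (Nat.ble 84 b)) (Bool.rec (motive := fun _ => ℕ) (Bool.rec (motive := fun _ => ℕ) (Bool.rec (motive := fun _ => ℕ) (j7_88) (j7_89) (Nat.ble 89 b)) (Bool.rec (motive := fun _ => ℕ) (j7_90) (j7_91) (Nat.ble 91 b)) (Nat.ble 90 b)) (Bool.rec (motive := fun _ => ℕ) (Bool.rec (motive := fun _ => ℕ) (j7_92) (j7_93) (Nat.ble 93 b)) (Bool.rec (motive := fun _ => ℕ) (j7_94) (j7_95) (Nat.ble 95 b)) (Nat.ble 94 b)) (Nat.ble 92 b)) (Nat.ble 88 b)) (Nat.ble 80 b)) (Bool.rec (motive := fun _ => ℕ) (Bool.rec (motive := fun _ => ℕ) (Bool.rec (motive := fun _ => ℕ) (Bool.rec (motive := fun _ => ℕ) (Bool.rec (motive := fun _ => ℕ) (j7_96) (j7_97) (Nat.ble 97 b)) (Bool.rec (motive := fun _ => ℕ) (j7_98) (j7_99) (Nat.ble 99 b)) (Nat.ble 98 b)) (Bool.rec (motive := fun _ => ℕ) (Bool.rec (motive := fun _ => ℕ)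 (j7_100) (j7_101) (Nat.ble 101 b)) (Bool.rec (motive := fun _ => ℕ) (j7_102) (j7_103) (Nat.ble 103 b)) (Nat.ble 102 b)) (Nat.ble 100 b)) (Bool.rec (motive := fun _ => ℕ) (Bool.rec (motive := fun _ => ℕ) (Bool.rec (motive := fun _ => ℕ) (j7_104) (j7_105) (Nat.ble 105 b)) (Bool.rec (motive := fun _ => ℕ) (j7_106) (j7_107) (Nat.ble 107 b)) (Nat.ble 106 b)) (Bool.rec (motive := fun _ => ℕ) (Bool.rec (motive := fun _ => ℕ) (j7_108) (j7_109) (Nat.ble 109 b)) (Bool.rec (motive := fun _ => ℕ) (j7_110) (j7_111) (Nat.ble 111 b)) (Nat.ble 110 b)) (Nat.ble 108 b)) (Nat.ble 104 b)) (Bool.rec (motive := fun _ => ℕ) (Bool.rec (motive := fun _ => ℕ) (Bool.rec (motive := fun _ => ℕ) (Bool.rec (motive := fun _ => ℕ) (j7_112) (j7_113) (Nat.ble 113 b)) (Bool.rec (motive := fun _ => ℕ) (j7_114) (j7_115) (Nat.ble 115 b)) (Nat.ble 114 b)) (Bool.rec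 (motive := fun _ => ℕ) (Bool.rec (motive := fun _ => ℕ) (j7_116) (j7_117) (Nat.ble 117 b)) (Bool.rec (motive := fun _ => ℕ) (j7_118) (j7_119) (Nat.ble 119 b)) (Nat.ble 118 b)) (Nat.ble 116 b)) (Bool.rec (motive := fun _ => ℕ) (Bool.rec (motive := fun _ => ℕ) (Bool.rec (motive := fun _ => ℕ) (j7_120) (j7_121) (Nat.ble 121 b)) (Bool.rec (motive := fun _ => ℕ) (j7_122) (j7_123) (Nat.ble 123 b)) (Nat.ble 122 b)) (Bool.rec (motive := fun _ => ℕ) (Bool.rec (motive := fun _ => ℕ) (j7_124) (j7_125) (Nat.ble 125 b)) (Bool.rec (motive := fun _ => ℕ) (j7_126) (j7_127) (Nat.ble 127 b)) (Nat.ble 126 b)) (Nat.ble 124 b)) (Nat.ble 120 b)) (Nat.ble 112 b)) (Nat.ble 96 b)) (Nat.ble 64 b)) (Bool.rec (motive := fun _ => ℕ) (Bool.rec (motive := fun _ => ℕ) (Bool.rec (motive := fun _ => ℕ) (Bool.rec (motive := fun _ => ℕ) (Bool.rec (motive := fun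 _ => ℕ) (Bool.rec (motive := fun _ => ℕ) (Bool.rec (motive := fun _ => ℕ) (j7_128) (j7_129) (Nat.ble 129 b)) (Bool.rec (motive := fun _ => ℕ) (j7_130) (j7_131) (Nat.ble 131 b)) (Nat.ble 130 b)) (Bool.rec (motive := fun _ => ℕ) (Bool.rec (motive := fun _ => ℕ) (j7_132) (j7_133) (Nat.ble 133 b)) (Bool.rec (motive := fun _ => ℕ) (j7_134) (j7_135) (Nat.ble 135 b)) (Nat.ble 134 b)) (Nat.ble 132 b)) (Bool.rec (motive := fun _ => ℕ) (Bool.rec (motive := fun _ => ℕ) (Bool.rec (motive := fun _ => ℕ) (j7_136) (j7_137) (Nat.ble 137 b)) (Bool.rec (motive := fun _ => ℕ) (j7_138) (j7_139) (Nat.ble 139 b)) (Nat.ble 138 b)) (Bool.rec (motive := fun _ => ℕ) (Bool.rec (motive := fun _ => ℕ) (j7_140) (j7_141) (Nat.ble 141 b)) (Bool.rec (motive := fun _ => ℕ) (j7_142) (j7_143) (Nat.ble 143 b)) (Nat.ble 142 b)) (Nat.ble 140 b)) (Nat.ble 136 b)) (Bool.rec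 (motive := fun _ => ℕ) (Bool.rec (motive := fun _ => ℕ) (Bool.rec (motive := fun _ => ℕ) (Bool.rec (motive := fun _ => ℕ) (j7_144) (j7_145) (Nat.ble 145 b)) (Bool.rec (motive := fun _ => ℕ) (j7_146) (j7_147) (Nat.ble 147 b)) (Nat.ble 146 b)) (Bool.rec (motive := fun _ => ℕ) (Bool.rec (motive := fun _ => ℕ) (j7_148) (j7_149) (Nat.ble 149 b)) (Bool.rec (motive := fun _ => ℕ) (j7_150) (j7_151) (Nat.ble 151 b)) (Nat.ble 150 b)) (Nat.ble 148 b)) (Bool.rec (motive := fun _ => ℕ) (Bool.rec (motive := fun _ => ℕ) (Bool.rec (motive := fun _ => ℕ) (j7_152) (j7_153) (Nat.ble 153 b)) (Bool.rec (motive := fun _ => ℕ) (j7_154) (j7_155) (Nat.ble 155 b)) (Nat.ble 154 b)) (Bool.rec (motive := fun _ => ℕ) (Bool.rec (motive := fun _ => ℕ) (j7_156) (j7_157) (Nat.ble 157 b)) (Bool.rec (motive := fun _ => ℕ) (j7_158) (j7_159) (Nat.ble 159 b)) (Nat.ble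 158 b)) (Nat.ble 156 b)) (Nat.ble 152 b)) (Nat.ble 144 b)) (Bool.rec (motive := fun _ => ℕ) (Bool.rec (motive := fun _ => ℕ) (Bool.rec (motive := fun _ => ℕ) (Bool.rec (motive := fun _ => ℕ) (Bool.rec (motive := fun _ => ℕ) (j7_160) (j7_161) (Nat.ble 161 b)) (Bool.rec (motive := fun _ => ℕ) (j7_162) (j7_163) (Nat.ble 163 b)) (Nat.ble 162 b)) (Bool.rec (motive := fun _ => ℕ) (Bool.rec (motive := fun _ => ℕ) (j7_164) (j7_165) (Nat.ble 165 b)) (Bool.rec (motive := fun _ => ℕ) (j7_166) (j7_167) (Nat.ble 167 b)) (Nat.ble 166 b)) (Nat.ble 164 b)) (Bool.rec (motive := fun _ => ℕ) (Bool.rec (motive := fun _ => ℕ) (Bool.rec (motive := fun _ => ℕ) (j7_168) (j7_169) (Nat.ble 169 b)) (Bool.rec (motive := fun _ => ℕ) (j7_170) (j7_171) (Nat.ble 171 b)) (Nat.ble 170 b)) (Bool.rec (motive := fun _ => ℕ) (Bool.rec (motive := fun _ => ℕ) (j7_172)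 (j7_173) (Nat.ble 173 b)) (Bool.rec (motive := fun _ => ℕ) (j7_174) (j7_175) (Nat.ble 175 b)) (Nat.ble 174 b)) (Nat.ble 172 b)) (Nat.ble 168 b)) (Bool.rec (motive := fun _ => ℕ) (Bool.rec (motive := fun _ => ℕ) (Bool.rec (motive := fun _ => ℕ) (Bool.rec (motive := fun _ => ℕ) (j7_176) (j7_177) (Nat.ble 177 b)) (Bool.rec (motive := fun _ => ℕ) (j7_178) (j7_179) (Nat.ble 179 b)) (Nat.ble 178 b)) (Bool.rec (motive := fun _ => ℕ) (Bool.rec (motive := fun _ => ℕ) (j7_180) (j7_181) (Nat.ble 181 b)) (Bool.rec (motive := fun _ => ℕ) (j7_182) (j7_183) (Nat.ble 183 b)) (Nat.ble 182 b)) (Nat.ble 180 b)) (Bool.rec (motive := fun _ => ℕ) (Bool.rec (motive := fun _ => ℕ) (Bool.rec (motive := fun _ => ℕ) (j7_184) (j7_185) (Nat.ble 185 b)) (Bool.rec (motive := fun _ => ℕ) (j7_186) (j7_187) (Nat.ble 187 b)) (Nat.ble 186 b)) (Bool.rec (motive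 := fun _ => ℕ) (Bool.rec (motive := fun _ => ℕ) (j7_188) (j7_189) (Nat.ble 189 b)) (Bool.rec (motive := fun _ => ℕ) (j7_190) (j7_191) (Nat.ble 191 b)) (Nat.ble 190 b)) (Nat.ble 188 b)) (Nat.ble 184 b)) (Nat.ble 176 b)) (Nat.ble 160 b)) (Bool.rec (motive := fun _ => ℕ) (Bool.rec (motive := fun _ => ℕ) (Bool.rec (motive := fun _ => ℕ) (Bool.rec (motive := fun _ => ℕ) (Bool.rec (motive := fun _ => ℕ) (Bool.rec (motive := fun _ => ℕ) (j7_192) (j7_193) (Nat.ble 193 b)) (Bool.rec (motive := fun _ => ℕ) (j7_194) (j7_195) (Nat.ble 195 b)) (Nat.ble 194 b)) (Bool.rec (motive := fun _ => ℕ) (Bool.rec (motive := fun _ => ℕ) (j7_196) (j7_197) (Nat.ble 197 b)) (Bool.rec (motive := fun _ => ℕ) (j7_198) (j7_199) (Nat.ble 199 b)) (Nat.ble 198 b)) (Nat.ble 196 b)) (Bool.rec (motive := fun _ => ℕ) (Bool.rec (motive := fun _ => ℕ) (Bool.rec (motive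 := fun _ => ℕ) (j7_200) (j7_201) (Nat.ble 201 b)) (Bool.rec (motive := fun _ => ℕ) (j7_202) (j7_203) (Nat.ble 203 b)) (Nat.ble 202 b)) (Bool.rec (motive := fun _ => ℕ) (Bool.rec (motive := fun _ => ℕ) (j7_204) (j7_205) (Nat.ble 205 b)) (Bool.rec (motive := fun _ => ℕ) (j7_206) (j7_207) (Nat.ble 207 b)) (Nat.ble 206 b)) (Nat.ble 204 b)) (Nat.ble 200 b)) (Bool.rec (motive := fun _ => ℕ) (Bool.rec (motive := fun _ => ℕ) (Bool.rec (motive := fun _ => ℕ) (Bool.rec (motive := fun _ => ℕ) (j7_208) (j7_209) (Nat.ble 209 b)) (Bool.rec (motive := fun _ => ℕ) (j7_210) (j7_211) (Nat.ble 211 b)) (Nat.ble 210 b)) (Bool.rec (motive := fun _ => ℕ) (Bool.rec (motive := fun _ => ℕ) (j7_212) (j7_213) (Nat.ble 213 b)) (Bool.rec (motive := fun _ => ℕ) (j7_214) (j7_215) (Nat.ble 215 b)) (Nat.ble 214 b)) (Nat.ble 212 b)) (Bool.rec (motive := fun _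 => ℕ) (Bool.rec (motive := fun _ => ℕ) (Bool.rec (motive := fun _ => ℕ) (j7_216) (j7_217) (Nat.ble 217 b)) (Bool.rec (motive := fun _ => ℕ) (j7_218) (j7_219) (Nat.ble 219 b)) (Nat.ble 218 b)) (Bool.rec (motive := fun _ => ℕ) (Bool.rec (motive := fun _ => ℕ) (j7_220) (j7_221) (Nat.ble 221 b)) (Bool.rec (motive := fun _ => ℕ) (j7_222) (j7_223) (Nat.ble 223 b)) (Nat.ble 222 b)) (Nat.ble 220 b)) (Nat.ble 216 b)) (Nat.ble 208 b)) (Bool.rec (motive := fun _ => ℕ) (Bool.rec (motive := fun _ => ℕ) (Bool.rec (motive := fun _ => ℕ) (Bool.rec (motive := fun _ => ℕ) (Bool.rec (motive := fun _ => ℕ) (j7_224) (j7_225) (Nat.ble 225 b)) (Bool.rec (motive := fun _ => ℕ) (j7_226) (j7_227) (Nat.ble 227 b)) (Nat.ble 226 b)) (Bool.rec (motive := fun _ => ℕ) (Bool.rec (motive := fun _ => ℕ) (j7_228) (j7_229) (Nat.ble 229 b)) (Bool.rec (motive := fun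 _ => ℕ) (j7_230) (j7_231) (Nat.ble 231 b)) (Nat.ble 230 b)) (Nat.ble 228 b)) (Bool.rec (motive := fun _ => ℕ) (Bool.rec (motive := fun _ => ℕ) (Bool.rec (motive := fun _ => ℕ) (j7_232) (j7_233) (Nat.ble 233 b)) (Bool.rec (motive := fun _ => ℕ) (j7_234) (j7_235) (Nat.ble 235 b)) (Nat.ble 234 b)) (Bool.rec (motive := fun _ => ℕ) (Bool.rec (motive := fun _ => ℕ) (j7_236) (j7_237) (Nat.ble 237 b)) (Bool.rec (motive := fun _ => ℕ) (j7_238) (j7_239) (Nat.ble 239 b)) (Nat.ble 238 b)) (Nat.ble 236 b)) (Nat.ble 232 b)) (Bool.rec (motive := fun _ => ℕ) (Bool.rec (motive := fun _ => ℕ) (Bool.rec (motive := fun _ => ℕ) (Bool.rec (motive := fun _ => ℕ) (j7_240) (j7_241) (Nat.ble 241 b)) (Bool.rec (motive := fun _ => ℕ) (j7_242) (j7_243) (Nat.ble 243 b)) (Nat.ble 242 b)) (Bool.rec (motive := fun _ => ℕ) (Bool.rec (motive := fun _ => ℕ) (j7_244)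 (j7_245) (Nat.ble 245 b)) (Bool.rec (motive := fun _ => ℕ) (j7_246) (j7_247) (Nat.ble 247 b)) (Nat.ble 246 b)) (Nat.ble 244 b)) (Bool.rec (motive := fun _ => ℕ) (Bool.rec (motive := fun _ => ℕ) (Bool.rec (motive := fun _ => ℕ) (j7_248) (j7_249) (Nat.ble 249 b)) (Bool.rec (motive := fun _ => ℕ) (j7_250) (j7_251) (Nat.ble 251 b)) (Nat.ble 250 b)) (Bool.rec (motive := fun _ => ℕ) (Bool.rec (motive := fun _ => ℕ) (j7_252) (j7_253) (Nat.ble 253 b)) (Bool.rec (motive := fun _ => ℕ) (j7_254) (j7_255) (Nat.ble 255 b)) (Nat.ble 254 b)) (Nat.ble 252 b)) (Nat.ble 248 b)) (Nat.ble 240 b)) (Nat.ble 224 b)) (Nat.ble 192 b)) (Nat.ble 128 b)) (Bool.rec (motive := fun _ => ℕ) (Bool.rec (motive := fun _ => ℕ) (Bool.rec (motive := fun _ => ℕ) (Bool.rec (motive := fun _ => ℕ) (Bool.rec (motive := fun _ => ℕ) (Bool.rec (motive := fun _ => ℕ) (Bool.rec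 (motive := fun _ => ℕ) (Bool.rec (motive := fun _ => ℕ) (j7_256) (j7_257) (Nat.ble 257 b)) (Bool.rec (motive := fun _ => ℕ) (j7_258) (j7_259) (Nat.ble 259 b)) (Nat.ble 258 b)) (Bool.rec (motive := fun _ => ℕ) (Bool.rec (motive := fun _ => ℕ) (j7_260) (j7_261) (Nat.ble 261 b)) (Bool.rec (motive := fun _ => ℕ) (j7_262) (j7_263) (Nat.ble 263 b)) (Nat.ble 262 b)) (Nat.ble 260 b)) (Bool.rec (motive := fun _ => ℕ) (Bool.rec (motive := fun _ => ℕ) (Bool.rec (motive := fun _ => ℕ) (j7_264) (j7_265) (Nat.ble 265 b)) (Bool.rec (motive := fun _ => ℕ) (j7_266) (0) (Nat.ble 267 b)) (Nat.ble 266 b)) (0) (Nat.ble 268 b)) (Nat.ble 264 b)) (0) (Nat.ble 272 b)) (0) (Nat.ble 288 b)) (0) (Nat.ble 320 b)) (0) (Nat.ble 384 b)) (Nat.ble 256 b))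
noncomputable def ecol8 (b : ℕ) : ℕ := (Bool.rec (motive := fun _ => ℕ) (Bool.rec (motive := fun _ => ℕ) (Bool.rec (motive := fun _ => ℕ) (Bool.rec (motive := fun _ => ℕ) (Bool.rec (motive := fun _ => ℕ) (Bool.rec (motive := fun _ => ℕ) (Bool.rec (motive := fun _ => ℕ) (Bool.rec (motive := fun _ => ℕ) (Bool.rec (motive := fun _ => ℕ) (e8_0) (e8_1) (Nat.ble 1 b)) (Bool.rec (motive := fun _ => ℕ) (e8_2) (e8_3) (Nat.ble 3 b)) (Nat.ble 2 b)) (Bool.rec (motive := fun _ => ℕ) (Bool.rec (motive := fun _ => ℕ) (e8_4) (e8_5) (Nat.ble 5 b)) (Bool.rec (motive := fun _ => ℕ) (e8_6) (e8_7) (Nat.ble 7 b)) (Nat.ble 6 b)) (Nat.ble 4 b)) (Bool.rec (motive := fun _ => ℕ) (Bool.rec (motive := fun _ => ℕ) (Bool.rec (motive := fun _ => ℕ) (e8_8) (e8_9) (Nat.ble 9 b)) (Bool.rec (motive := fun _ => ℕ) (e8_10) (e8_11) (Nat.ble 11 b)) (Nat.ble 10 b))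 (Bool.rec (motive := fun _ => ℕ) (Bool.rec (motive := fun _ => ℕ) (e8_12) (e8_13) (Nat.ble 13 b)) (Bool.rec (motive := fun _ => ℕ) (e8_14) (e8_15) (Nat.ble 15 b)) (Nat.ble 14 b)) (Nat.ble 12 b)) (Nat.ble 8 b)) (Bool.rec (motive := fun _ => ℕ) (Bool.rec (motive := fun _ => ℕ) (Bool.rec (motive := fun _ => ℕ) (Bool.rec (motive := fun _ => ℕ) (e8_16) (e8_17) (Nat.ble 17 b)) (Bool.rec (motive := fun _ => ℕ) (e8_18) (e8_19) (Nat.ble 19 b)) (Nat.ble 18 b)) (Bool.rec (motive := fun _ => ℕ) (Bool.rec (motive := fun _ => ℕ) (e8_20) (e8_21) (Nat.ble 21 b)) (Bool.rec (motive := fun _ => ℕ) (e8_22) (e8_23) (Nat.ble 23 b)) (Nat.ble 22 b)) (Nat.ble 20 b)) (Bool.rec (motive := fun _ => ℕ) (Bool.rec (motive := fun _ => ℕ) (Bool.rec (motive := fun _ => ℕ) (e8_24) (e8_25) (Nat.ble 25 b)) (Bool.rec (motive := fun _ => ℕ) (e8_26) (e8_27) (Nat.ble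 27 b)) (Nat.ble 26 b)) (Bool.rec (motive := fun _ => ℕ) (Bool.rec (motive := fun _ => ℕ) (e8_28) (e8_29) (Nat.ble 29 b)) (Bool.rec (motive := fun _ => ℕ) (e8_30) (e8_31) (Nat.ble 31 b)) (Nat.ble 30 b)) (Nat.ble 28 b)) (Nat.ble 24 b)) (Nat.ble 16 b)) (Bool.rec (motive := fun _ => ℕ) (Bool.rec (motive := fun _ => ℕ) (Bool.rec (motive := fun _ => ℕ) (Bool.rec (motive := fun _ => ℕ) (Bool.rec (motive := fun _ => ℕ) (e8_32) (e8_33) (Nat.ble 33 b)) (Bool.rec (motive := fun _ => ℕ) (e8_34) (e8_35) (Nat.ble 35 b)) (Nat.ble 34 b)) (Bool.rec (motive := fun _ => ℕ) (Bool.rec (motive := fun _ => ℕ) (e8_36) (e8_37) (Nat.ble 37 b)) (Bool.rec (motive := fun _ => ℕ) (e8_38) (e8_39) (Nat.ble 39 b)) (Nat.ble 38 b)) (Nat.ble 36 b)) (Bool.rec (motive := fun _ => ℕ) (Bool.rec (motive := fun _ => ℕ) (Bool.rec (motive := fun _ => ℕ) (e8_40) (e8_41)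 (Nat.ble 41 b)) (Bool.rec (motive := fun _ => ℕ) (e8_42) (e8_43) (Nat.ble 43 b)) (Nat.ble 42 b)) (Bool.rec (motive := fun _ => ℕ) (Bool.rec (motive := fun _ => ℕ) (e8_44) (e8_45) (Nat.ble 45 b)) (Bool.rec (motive := fun _ => ℕ) (e8_46) (e8_47) (Nat.ble 47 b)) (Nat.ble 46 b)) (Nat.ble 44 b)) (Nat.ble 40 b)) (Bool.rec (motive := fun _ => ℕ) (Bool.rec (motive := fun _ => ℕ) (Bool.rec (motive := fun _ => ℕ) (Bool.rec (motive := fun _ => ℕ) (e8_48) (e8_49) (Nat.ble 49 b)) (Bool.rec (motive := fun _ => ℕ) (e8_50) (e8_51) (Nat.ble 51 b)) (Nat.ble 50 b)) (Bool.rec (motive := fun _ => ℕ) (Bool.rec (motive := fun _ => ℕ) (e8_52) (e8_53) (Nat.ble 53 b)) (Bool.rec (motive := fun _ => ℕ) (e8_54) (e8_55) (Nat.ble 55 b)) (Nat.ble 54 b)) (Nat.ble 52 b)) (Bool.rec (motive := fun _ => ℕ) (Bool.rec (motive := fun _ => ℕ) (Bool.rec (motive := fun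 _ => ℕ) (e8_56) (e8_57) (Nat.ble 57 b)) (Bool.rec (motive := fun _ => ℕ) (e8_58) (e8_59) (Nat.ble 59 b)) (Nat.ble 58 b)) (Bool.rec (motive := fun _ => ℕ) (Bool.rec (motive := fun _ => ℕ) (e8_60) (e8_61) (Nat.ble 61 b)) (Bool.rec (motive := fun _ => ℕ) (e8_62) (e8_63) (Nat.ble 63 b)) (Nat.ble 62 b)) (Nat.ble 60 b)) (Nat.ble 56 b)) (Nat.ble 48 b)) (Nat.ble 32 b)) (Bool.rec (motive := fun _ => ℕ) (Bool.rec (motive := fun _ => ℕ) (Bool.rec (motive := fun _ => ℕ) (Bool.rec (motive := fun _ => ℕ) (Bool.rec (motive := fun _ => ℕ) (Bool.rec (motive := fun _ => ℕ) (e8_64) (e8_65) (Nat.ble 65 b)) (Bool.rec (motive := fun _ => ℕ) (e8_66) (e8_67) (Nat.ble 67 b)) (Nat.ble 66 b)) (Bool.rec (motive := fun _ => ℕ) (Bool.rec (motive := fun _ => ℕ) (e8_68) (e8_69) (Nat.ble 69 b)) (Bool.rec (motive := fun _ => ℕ) (e8_70) (e8_71) (Nat.ble 71 b))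 (Nat.ble 70 b)) (Nat.ble 68 b)) (Bool.rec (motive := fun _ => ℕ) (Bool.rec (motive := fun _ => ℕ) (Bool.rec (motive := fun _ => ℕ) (e8_72) (e8_73) (Nat.ble 73 b)) (Bool.rec (motive := fun _ => ℕ) (e8_74) (e8_75) (Nat.ble 75 b)) (Nat.ble 74 b)) (Bool.rec (motive := fun _ => ℕ) (Bool.rec (motive := fun _ => ℕ) (e8_76) (e8_77) (Nat.ble 77 b)) (Bool.rec (motive := fun _ => ℕ) (e8_78) (e8_79) (Nat.ble 79 b)) (Nat.ble 78 b)) (Nat.ble 76 b)) (Nat.ble 72 b)) (Bool.rec (motive := fun _ => ℕ) (Bool.rec (motive := fun _ => ℕ) (Bool.rec (motive := fun _ => ℕ) (Bool.rec (motive := fun _ => ℕ) (e8_80) (e8_81) (Nat.ble 81 b)) (Bool.rec (motive := fun _ => ℕ) (e8_82) (e8_83) (Nat.ble 83 b)) (Nat.ble 82 b)) (Bool.rec (motive := fun _ => ℕ) (Bool.rec (motive := fun _ => ℕ) (e8_84) (e8_85) (Nat.ble 85 b)) (Bool.rec (motive := fun _ => ℕ) (e8_86)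 (e8_87) (Nat.ble 87 b)) (Nat.ble 86 b)) (Nat.ble 84 b)) (Bool.rec (motive := fun _ => ℕ) (Bool.rec (motive := fun _ => ℕ) (Bool.rec (motive := fun _ => ℕ) (e8_88) (e8_89) (Nat.ble 89 b)) (Bool.rec (motive := fun _ => ℕ) (e8_90) (e8_91) (Nat.ble 91 b)) (Nat.ble 90 b)) (Bool.rec (motive := fun _ => ℕ) (Bool.rec (motive := fun _ => ℕ) (e8_92) (e8_93) (Nat.ble 93 b)) (Bool.rec (motive := fun _ => ℕ) (e8_94) (e8_95) (Nat.ble 95 b)) (Nat.ble 94 b)) (Nat.ble 92 b)) (Nat.ble 88 b)) (Nat.ble 80 b)) (Bool.rec (motive := fun _ => ℕ) (Bool.rec (motive := fun _ => ℕ) (Bool.rec (motive := fun _ => ℕ) (Bool.rec (motive := fun _ => ℕ) (Bool.rec (motive := fun _ => ℕ) (e8_96) (e8_97) (Nat.ble 97 b)) (Bool.rec (motive := fun _ => ℕ) (e8_98) (e8_99) (Nat.ble 99 b)) (Nat.ble 98 b)) (Bool.rec (motive := fun _ => ℕ) (Bool.rec (motive := fun _ => ℕ)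 (e8_100) (e8_101) (Nat.ble 101 b)) (Bool.rec (motive := fun _ => ℕ) (e8_102) (e8_103) (Nat.ble 103 b)) (Nat.ble 102 b)) (Nat.ble 100 b)) (Bool.rec (motive := fun _ => ℕ) (Bool.rec (motive := fun _ => ℕ) (Bool.rec (motive := fun _ => ℕ) (e8_104) (e8_105) (Nat.ble 105 b)) (Bool.rec (motive := fun _ => ℕ) (e8_106) (e8_107) (Nat.ble 107 b)) (Nat.ble 106 b)) (Bool.rec (motive := fun _ => ℕ) (Bool.rec (motive := fun _ => ℕ) (e8_108) (e8_109) (Nat.ble 109 b)) (Bool.rec (motive := fun _ => ℕ) (e8_110) (e8_111) (Nat.ble 111 b)) (Nat.ble 110 b)) (Nat.ble 108 b)) (Nat.ble 104 b)) (Bool.rec (motive := fun _ => ℕ) (Bool.rec (motive := fun _ => ℕ) (Bool.rec (motive := fun _ => ℕ) (Bool.rec (motive := fun _ => ℕ) (e8_112) (e8_113) (Nat.ble 113 b)) (Bool.rec (motive := fun _ => ℕ) (e8_114) (e8_115) (Nat.ble 115 b)) (Nat.ble 114 b)) (Bool.rec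 (motive := fun _ => ℕ) (Bool.rec (motive := fun _ => ℕ) (e8_116) (e8_117) (Nat.ble 117 b)) (Bool.rec (motive := fun _ => ℕ) (e8_118) (e8_119) (Nat.ble 119 b)) (Nat.ble 118 b)) (Nat.ble 116 b)) (Bool.rec (motive := fun _ => ℕ) (Bool.rec (motive := fun _ => ℕ) (Bool.rec (motive := fun _ => ℕ) (e8_120) (e8_121) (Nat.ble 121 b)) (Bool.rec (motive := fun _ => ℕ) (e8_122) (e8_123) (Nat.ble 123 b)) (Nat.ble 122 b)) (Bool.rec (motive := fun _ => ℕ) (Bool.rec (motive := fun _ => ℕ) (e8_124) (e8_125) (Nat.ble 125 b)) (Bool.rec (motive := fun _ => ℕ) (e8_126) (e8_127) (Nat.ble 127 b)) (Nat.ble 126 b)) (Nat.ble 124 b)) (Nat.ble 120 b)) (Nat.ble 112 b)) (Nat.ble 96 b)) (Nat.ble 64 b)) (Bool.rec (motive := fun _ => ℕ) (Bool.rec (motive := fun _ => ℕ) (Bool.rec (motive := fun _ => ℕ) (Bool.rec (motive := fun _ => ℕ) (Bool.rec (motive := fun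 _ => ℕ) (Bool.rec (motive := fun _ => ℕ) (Bool.rec (motive := fun _ => ℕ) (e8_128) (e8_129) (Nat.ble 129 b)) (Bool.rec (motive := fun _ => ℕ) (e8_130) (e8_131) (Nat.ble 131 b)) (Nat.ble 130 b)) (Bool.rec (motive := fun _ => ℕ) (Bool.rec (motive := fun _ => ℕ) (e8_132) (e8_133) (Nat.ble 133 b)) (Bool.rec (motive := fun _ => ℕ) (e8_134) (e8_135) (Nat.ble 135 b)) (Nat.ble 134 b)) (Nat.ble 132 b)) (Bool.rec (motive := fun _ => ℕ) (Bool.rec (motive := fun _ => ℕ) (Bool.rec (motive := fun _ => ℕ) (e8_136) (e8_137) (Nat.ble 137 b)) (Bool.rec (motive := fun _ => ℕ) (e8_138) (e8_139) (Nat.ble 139 b)) (Nat.ble 138 b)) (Bool.rec (motive := fun _ => ℕ) (Bool.rec (motive := fun _ => ℕ) (e8_140) (e8_141) (Nat.ble 141 b)) (Bool.rec (motive := fun _ => ℕ) (e8_142) (e8_143) (Nat.ble 143 b)) (Nat.ble 142 b)) (Nat.ble 140 b)) (Nat.ble 136 b)) (Bool.rec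 (motive := fun _ => ℕ) (Bool.rec (motive := fun _ => ℕ) (Bool.rec (motive := fun _ => ℕ) (Bool.rec (motive := fun _ => ℕ) (e8_144) (e8_145) (Nat.ble 145 b)) (Bool.rec (motive := fun _ => ℕ) (e8_146) (e8_147) (Nat.ble 147 b)) (Nat.ble 146 b)) (Bool.rec (motive := fun _ => ℕ) (Bool.rec (motive := fun _ => ℕ) (e8_148) (e8_149) (Nat.ble 149 b)) (Bool.rec (motive := fun _ => ℕ) (e8_150) (e8_151) (Nat.ble 151 b)) (Nat.ble 150 b)) (Nat.ble 148 b)) (Bool.rec (motive := fun _ => ℕ) (Bool.rec (motive := fun _ => ℕ) (Bool.rec (motive := fun _ => ℕ) (e8_152) (e8_153) (Nat.ble 153 b)) (Bool.rec (motive := fun _ => ℕ) (e8_154) (e8_155) (Nat.ble 155 b)) (Nat.ble 154 b)) (Bool.rec (motive := fun _ => ℕ) (Bool.rec (motive := fun _ => ℕ) (e8_156) (e8_157) (Nat.ble 157 b)) (Bool.rec (motive := fun _ => ℕ) (e8_158) (e8_159) (Nat.ble 159 b)) (Nat.ble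 158 b)) (Nat.ble 156 b)) (Nat.ble 152 b)) (Nat.ble 144 b)) (Bool.rec (motive := fun _ => ℕ) (Bool.rec (motive := fun _ => ℕ) (Bool.rec (motive := fun _ => ℕ) (Bool.rec (motive := fun _ => ℕ) (Bool.rec (motive := fun _ => ℕ) (e8_160) (e8_161) (Nat.ble 161 b)) (Bool.rec (motive := fun _ => ℕ) (e8_162) (e8_163) (Nat.ble 163 b)) (Nat.ble 162 b)) (Bool.rec (motive := fun _ => ℕ) (Bool.rec (motive := fun _ => ℕ) (e8_164) (e8_165) (Nat.ble 165 b)) (Bool.rec (motive := fun _ => ℕ) (e8_166) (e8_167) (Nat.ble 167 b)) (Nat.ble 166 b)) (Nat.ble 164 b)) (Bool.rec (motive := fun _ => ℕ) (Bool.rec (motive := fun _ => ℕ) (Bool.rec (motive := fun _ => ℕ) (e8_168) (e8_169) (Nat.ble 169 b)) (Bool.rec (motive := fun _ => ℕ) (e8_170) (e8_171) (Nat.ble 171 b)) (Nat.ble 170 b)) (Bool.rec (motive := fun _ => ℕ) (Bool.rec (motive := fun _ => ℕ) (e8_172)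 (e8_173) (Nat.ble 173 b)) (Bool.rec (motive := fun _ => ℕ) (e8_174) (e8_175) (Nat.ble 175 b)) (Nat.ble 174 b)) (Nat.ble 172 b)) (Nat.ble 168 b)) (Bool.rec (motive := fun _ => ℕ) (Bool.rec (motive := fun _ => ℕ) (Bool.rec (motive := fun _ => ℕ) (Bool.rec (motive := fun _ => ℕ) (e8_176) (e8_177) (Nat.ble 177 b)) (Bool.rec (motive := fun _ => ℕ) (e8_178) (e8_179) (Nat.ble 179 b)) (Nat.ble 178 b)) (Bool.rec (motive := fun _ => ℕ) (Bool.rec (motive := fun _ => ℕ) (e8_180) (e8_181) (Nat.ble 181 b)) (Bool.rec (motive := fun _ => ℕ) (e8_182) (e8_183) (Nat.ble 183 b)) (Nat.ble 182 b)) (Nat.ble 180 b)) (Bool.rec (motive := fun _ => ℕ) (Bool.rec (motive := fun _ => ℕ) (Bool.rec (motive := fun _ => ℕ) (e8_184) (e8_185) (Nat.ble 185 b)) (Bool.rec (motive := fun _ => ℕ) (e8_186) (e8_187) (Nat.ble 187 b)) (Nat.ble 186 b)) (Bool.rec (motive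 := fun _ => ℕ) (Bool.rec (motive := fun _ => ℕ) (e8_188) (e8_189) (Nat.ble 189 b)) (Bool.rec (motive := fun _ => ℕ) (e8_190) (e8_191) (Nat.ble 191 b)) (Nat.ble 190 b)) (Nat.ble 188 b)) (Nat.ble 184 b)) (Nat.ble 176 b)) (Nat.ble 160 b)) (Bool.rec (motive := fun _ => ℕ) (Bool.rec (motive := fun _ => ℕ) (Bool.rec (motive := fun _ => ℕ) (Bool.rec (motive := fun _ => ℕ) (Bool.rec (motive := fun _ => ℕ) (Bool.rec (motive := fun _ => ℕ) (e8_192) (e8_193) (Nat.ble 193 b)) (Bool.rec (motive := fun _ => ℕ) (e8_194) (e8_195) (Nat.ble 195 b)) (Nat.ble 194 b)) (Bool.rec (motive := fun _ => ℕ) (Bool.rec (motive := fun _ => ℕ) (e8_196) (e8_197) (Nat.ble 197 b)) (Bool.rec (motive := fun _ => ℕ) (e8_198) (e8_199) (Nat.ble 199 b)) (Nat.ble 198 b)) (Nat.ble 196 b)) (Bool.rec (motive := fun _ => ℕ) (Bool.rec (motive := fun _ => ℕ) (Bool.rec (motive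 := fun _ => ℕ) (e8_200) (e8_201) (Nat.ble 201 b)) (Bool.rec (motive := fun _ => ℕ) (e8_202) (e8_203) (Nat.ble 203 b)) (Nat.ble 202 b)) (Bool.rec (motive := fun _ => ℕ) (Bool.rec (motive := fun _ => ℕ) (e8_204) (e8_205) (Nat.ble 205 b)) (Bool.rec (motive := fun _ => ℕ) (e8_206) (e8_207) (Nat.ble 207 b)) (Nat.ble 206 b)) (Nat.ble 204 b)) (Nat.ble 200 b)) (Bool.rec (motive := fun _ => ℕ) (Bool.rec (motive := fun _ => ℕ) (Bool.rec (motive := fun _ => ℕ) (Bool.rec (motive := fun _ => ℕ) (e8_208) (e8_209) (Nat.ble 209 b)) (Bool.rec (motive := fun _ => ℕ) (e8_210) (e8_211) (Nat.ble 211 b)) (Nat.ble 210 b)) (Bool.rec (motive := fun _ => ℕ) (Bool.rec (motive := fun _ => ℕ) (e8_212) (e8_213) (Nat.ble 213 b)) (Bool.rec (motive := fun _ => ℕ) (e8_214) (e8_215) (Nat.ble 215 b)) (Nat.ble 214 b)) (Nat.ble 212 b)) (Bool.rec (motive := fun _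 => ℕ) (Bool.rec (motive := fun _ => ℕ) (Bool.rec (motive := fun _ => ℕ) (e8_216) (e8_217) (Nat.ble 217 b)) (Bool.rec (motive := fun _ => ℕ) (e8_218) (e8_219) (Nat.ble 219 b)) (Nat.ble 218 b)) (Bool.rec (motive := fun _ => ℕ) (Bool.rec (motive := fun _ => ℕ) (e8_220) (e8_221) (Nat.ble 221 b)) (Bool.rec (motive := fun _ => ℕ) (e8_222) (e8_223) (Nat.ble 223 b)) (Nat.ble 222 b)) (Nat.ble 220 b)) (Nat.ble 216 b)) (Nat.ble 208 b)) (Bool.rec (motive := fun _ => ℕ) (Bool.rec (motive := fun _ => ℕ) (Bool.rec (motive := fun _ => ℕ) (Bool.rec (motive := fun _ => ℕ) (Bool.rec (motive := fun _ => ℕ) (e8_224) (e8_225) (Nat.ble 225 b)) (Bool.rec (motive := fun _ => ℕ) (e8_226) (e8_227) (Nat.ble 227 b)) (Nat.ble 226 b)) (Bool.rec (motive := fun _ => ℕ) (Bool.rec (motive := fun _ => ℕ) (e8_228) (e8_229) (Nat.ble 229 b)) (Bool.rec (motive := fun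 _ => ℕ) (e8_230) (e8_231) (Nat.ble 231 b)) (Nat.ble 230 b)) (Nat.ble 228 b)) (Bool.rec (motive := fun _ => ℕ) (Bool.rec (motive := fun _ => ℕ) (Bool.rec (motive := fun _ => ℕ) (e8_232) (e8_233) (Nat.ble 233 b)) (Bool.rec (motive := fun _ => ℕ) (e8_234) (e8_235) (Nat.ble 235 b)) (Nat.ble 234 b)) (Bool.rec (motive := fun _ => ℕ) (Bool.rec (motive := fun _ => ℕ) (e8_236) (e8_237) (Nat.ble 237 b)) (Bool.rec (motive := fun _ => ℕ) (e8_238) (e8_239) (Nat.ble 239 b)) (Nat.ble 238 b)) (Nat.ble 236 b)) (Nat.ble 232 b)) (Bool.rec (motive := fun _ => ℕ) (Bool.rec (motive := fun _ => ℕ) (Bool.rec (motive := fun _ => ℕ) (Bool.rec (motive := fun _ => ℕ) (e8_240) (e8_241) (Nat.ble 241 b)) (Bool.rec (motive := fun _ => ℕ) (e8_242) (e8_243) (Nat.ble 243 b)) (Nat.ble 242 b)) (Bool.rec (motive := fun _ => ℕ) (Bool.rec (motive := fun _ => ℕ) (e8_244)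 (e8_245) (Nat.ble 245 b)) (Bool.rec (motive := fun _ => ℕ) (e8_246) (e8_247) (Nat.ble 247 b)) (Nat.ble 246 b)) (Nat.ble 244 b)) (Bool.rec (motive := fun _ => ℕ) (Bool.rec (motive := fun _ => ℕ) (Bool.rec (motive := fun _ => ℕ) (e8_248) (e8_249) (Nat.ble 249 b)) (Bool.rec (motive := fun _ => ℕ) (e8_250) (e8_251) (Nat.ble 251 b)) (Nat.ble 250 b)) (Bool.rec (motive := fun _ => ℕ) (Bool.rec (motive := fun _ => ℕ) (e8_252) (e8_253) (Nat.ble 253 b)) (Bool.rec (motive := fun _ => ℕ) (e8_254) (e8_255) (Nat.ble 255 b)) (Nat.ble 254 b)) (Nat.ble 252 b)) (Nat.ble 248 b)) (Nat.ble 240 b)) (Nat.ble 224 b)) (Nat.ble 192 b)) (Nat.ble 128 b)) (Bool.rec (motive := fun _ => ℕ) (Bool.rec (motive := fun _ => ℕ) (Bool.rec (motive := fun _ => ℕ) (Bool.rec (motive := fun _ => ℕ) (Bool.rec (motive := fun _ => ℕ) (Bool.rec (motive := fun _ => ℕ) (Bool.rec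 (motive := fun _ => ℕ) (Bool.rec (motive := fun _ => ℕ) (e8_256) (e8_257) (Nat.ble 257 b)) (Bool.rec (motive := fun _ => ℕ) (e8_258) (e8_259) (Nat.ble 259 b)) (Nat.ble 258 b)) (Bool.rec (motive := fun _ => ℕ) (Bool.rec (motive := fun _ => ℕ) (e8_260) (e8_261) (Nat.ble 261 b)) (Bool.rec (motive := fun _ => ℕ) (e8_262) (e8_263) (Nat.ble 263 b)) (Nat.ble 262 b)) (Nat.ble 260 b)) (Bool.rec (motive := fun _ => ℕ) (Bool.rec (motive := fun _ => ℕ) (Bool.rec (motive := fun _ => ℕ) (e8_264) (e8_265) (Nat.ble 265 b)) (Bool.rec (motive := fun _ => ℕ) (e8_266) (0) (Nat.ble 267 b)) (Nat.ble 266 b)) (0) (Nat.ble 268 b)) (Nat.ble 264 b)) (0) (Nat.ble 272 b)) (0) (Nat.ble 288 b)) (0) (Nat.ble 320 b)) (0) (Nat.ble 384 b)) (Nat.ble 256 b))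
noncomputable def jcol8 (b : ℕ) : ℕ := (Bool.rec (motive := fun _ => ℕ) (Bool.rec (motive := fun _ => ℕ) (Bool.rec (motive := fun _ => ℕ) (Bool.rec (motive := fun _ => ℕ) (Bool.rec (motive := fun _ => ℕ) (Bool.rec (motive := fun _ => ℕ) (Bool.rec (motive := fun _ => ℕ) (Bool.rec (motive := fun _ => ℕ) (Bool.rec (motive := fun _ => ℕ) (j8_0) (j8_1) (Nat.ble 1 b)) (Bool.rec (motive := fun _ => ℕ) (j8_2) (j8_3) (Nat.ble 3 b)) (Nat.ble 2 b)) (Bool.rec (motive := fun _ => ℕ) (Bool.rec (motive := fun _ => ℕ) (j8_4) (j8_5) (Nat.ble 5 b)) (Bool.rec (motive := fun _ => ℕ) (j8_6) (j8_7) (Nat.ble 7 b)) (Nat.ble 6 b)) (Nat.ble 4 b)) (Bool.rec (motive := fun _ => ℕ) (Bool.rec (motive := fun _ => ℕ) (Bool.rec (motive := fun _ => ℕ) (j8_8) (j8_9) (Nat.ble 9 b)) (Bool.rec (motive := fun _ => ℕ) (j8_10) (j8_11) (Nat.ble 11 b)) (Nat.ble 10 b))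 (Bool.rec (motive := fun _ => ℕ) (Bool.rec (motive := fun _ => ℕ) (j8_12) (j8_13) (Nat.ble 13 b)) (Bool.rec (motive := fun _ => ℕ) (j8_14) (j8_15) (Nat.ble 15 b)) (Nat.ble 14 b)) (Nat.ble 12 b)) (Nat.ble 8 b)) (Bool.rec (motive := fun _ => ℕ) (Bool.rec (motive := fun _ => ℕ) (Bool.rec (motive := fun _ => ℕ) (Bool.rec (motive := fun _ => ℕ) (j8_16) (j8_17) (Nat.ble 17 b)) (Bool.rec (motive := fun _ => ℕ) (j8_18) (j8_19) (Nat.ble 19 b)) (Nat.ble 18 b)) (Bool.rec (motive := fun _ => ℕ) (Bool.rec (motive := fun _ => ℕ) (j8_20) (j8_21) (Nat.ble 21 b)) (Bool.rec (motive := fun _ => ℕ) (j8_22) (j8_23) (Nat.ble 23 b)) (Nat.ble 22 b)) (Nat.ble 20 b)) (Bool.rec (motive := fun _ => ℕ) (Bool.rec (motive := fun _ => ℕ) (Bool.rec (motive := fun _ => ℕ) (j8_24) (j8_25) (Nat.ble 25 b)) (Bool.rec (motive := fun _ => ℕ) (j8_26) (j8_27) (Nat.ble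 27 b)) (Nat.ble 26 b)) (Bool.rec (motive := fun _ => ℕ) (Bool.rec (motive := fun _ => ℕ) (j8_28) (j8_29) (Nat.ble 29 b)) (Bool.rec (motive := fun _ => ℕ) (j8_30) (j8_31) (Nat.ble 31 b)) (Nat.ble 30 b)) (Nat.ble 28 b)) (Nat.ble 24 b)) (Nat.ble 16 b)) (Bool.rec (motive := fun _ => ℕ) (Bool.rec (motive := fun _ => ℕ) (Bool.rec (motive := fun _ => ℕ) (Bool.rec (motive := fun _ => ℕ) (Bool.rec (motive := fun _ => ℕ) (j8_32) (j8_33) (Nat.ble 33 b)) (Bool.rec (motive := fun _ => ℕ) (j8_34) (j8_35) (Nat.ble 35 b)) (Nat.ble 34 b)) (Bool.rec (motive := fun _ => ℕ) (Bool.rec (motive := fun _ => ℕ) (j8_36) (j8_37) (Nat.ble 37 b)) (Bool.rec (motive := fun _ => ℕ) (j8_38) (j8_39) (Nat.ble 39 b)) (Nat.ble 38 b)) (Nat.ble 36 b)) (Bool.rec (motive := fun _ => ℕ) (Bool.rec (motive := fun _ => ℕ) (Bool.rec (motive := fun _ => ℕ) (j8_40) (j8_41)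 (Nat.ble 41 b)) (Bool.rec (motive := fun _ => ℕ) (j8_42) (j8_43) (Nat.ble 43 b)) (Nat.ble 42 b)) (Bool.rec (motive := fun _ => ℕ) (Bool.rec (motive := fun _ => ℕ) (j8_44) (j8_45) (Nat.ble 45 b)) (Bool.rec (motive := fun _ => ℕ) (j8_46) (j8_47) (Nat.ble 47 b)) (Nat.ble 46 b)) (Nat.ble 44 b)) (Nat.ble 40 b)) (Bool.rec (motive := fun _ => ℕ) (Bool.rec (motive := fun _ => ℕ) (Bool.rec (motive := fun _ => ℕ) (Bool.rec (motive := fun _ => ℕ) (j8_48) (j8_49) (Nat.ble 49 b)) (Bool.rec (motive := fun _ => ℕ) (j8_50) (j8_51) (Nat.ble 51 b)) (Nat.ble 50 b)) (Bool.rec (motive := fun _ => ℕ) (Bool.rec (motive := fun _ => ℕ) (j8_52) (j8_53) (Nat.ble 53 b)) (Bool.rec (motive := fun _ => ℕ) (j8_54) (j8_55) (Nat.ble 55 b)) (Nat.ble 54 b)) (Nat.ble 52 b)) (Bool.rec (motive := fun _ => ℕ) (Bool.rec (motive := fun _ => ℕ) (Bool.rec (motive := fun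 _ => ℕ) (j8_56) (j8_57) (Nat.ble 57 b)) (Bool.rec (motive := fun _ => ℕ) (j8_58) (j8_59) (Nat.ble 59 b)) (Nat.ble 58 b)) (Bool.rec (motive := fun _ => ℕ) (Bool.rec (motive := fun _ => ℕ) (j8_60) (j8_61) (Nat.ble 61 b)) (Bool.rec (motive := fun _ => ℕ) (j8_62) (j8_63) (Nat.ble 63 b)) (Nat.ble 62 b)) (Nat.ble 60 b)) (Nat.ble 56 b)) (Nat.ble 48 b)) (Nat.ble 32 b)) (Bool.rec (motive := fun _ => ℕ) (Bool.rec (motive := fun _ => ℕ) (Bool.rec (motive := fun _ => ℕ) (Bool.rec (motive := fun _ => ℕ) (Bool.rec (motive := fun _ => ℕ) (Bool.rec (motive := fun _ => ℕ) (j8_64) (j8_65) (Nat.ble 65 b)) (Bool.rec (motive := fun _ => ℕ) (j8_66) (j8_67) (Nat.ble 67 b)) (Nat.ble 66 b)) (Bool.rec (motive := fun _ => ℕ) (Bool.rec (motive := fun _ => ℕ) (j8_68) (j8_69) (Nat.ble 69 b)) (Bool.rec (motive := fun _ => ℕ) (j8_70) (j8_71) (Nat.ble 71 b))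 (Nat.ble 70 b)) (Nat.ble 68 b)) (Bool.rec (motive := fun _ => ℕ) (Bool.rec (motive := fun _ => ℕ) (Bool.rec (motive := fun _ => ℕ) (j8_72) (j8_73) (Nat.ble 73 b)) (Bool.rec (motive := fun _ => ℕ) (j8_74) (j8_75) (Nat.ble 75 b)) (Nat.ble 74 b)) (Bool.rec (motive := fun _ => ℕ) (Bool.rec (motive := fun _ => ℕ) (j8_76) (j8_77) (Nat.ble 77 b)) (Bool.rec (motive := fun _ => ℕ) (j8_78) (j8_79) (Nat.ble 79 b)) (Nat.ble 78 b)) (Nat.ble 76 b)) (Nat.ble 72 b)) (Bool.rec (motive := fun _ => ℕ) (Bool.rec (motive := fun _ => ℕ) (Bool.rec (motive := fun _ => ℕ) (Bool.rec (motive := fun _ => ℕ) (j8_80) (j8_81) (Nat.ble 81 b)) (Bool.rec (motive := fun _ => ℕ) (j8_82) (j8_83) (Nat.ble 83 b)) (Nat.ble 82 b)) (Bool.rec (motive := fun _ => ℕ) (Bool.rec (motive := fun _ => ℕ) (j8_84) (j8_85) (Nat.ble 85 b)) (Bool.rec (motive := fun _ => ℕ) (j8_86)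 (j8_87) (Nat.ble 87 b)) (Nat.ble 86 b)) (Nat.ble 84 b)) (Bool.rec (motive := fun _ => ℕ) (Bool.rec (motive := fun _ => ℕ) (Bool.rec (motive := fun _ => ℕ) (j8_88) (j8_89) (Nat.ble 89 b)) (Bool.rec (motive := fun _ => ℕ) (j8_90) (j8_91) (Nat.ble 91 b)) (Nat.ble 90 b)) (Bool.rec (motive := fun _ => ℕ) (Bool.rec (motive := fun _ => ℕ) (j8_92) (j8_93) (Nat.ble 93 b)) (Bool.rec (motive := fun _ => ℕ) (j8_94) (j8_95) (Nat.ble 95 b)) (Nat.ble 94 b)) (Nat.ble 92 b)) (Nat.ble 88 b)) (Nat.ble 80 b)) (Bool.rec (motive := fun _ => ℕ) (Bool.rec (motive := fun _ => ℕ) (Bool.rec (motive := fun _ => ℕ) (Bool.rec (motive := fun _ => ℕ) (Bool.rec (motive := fun _ => ℕ) (j8_96) (j8_97) (Nat.ble 97 b)) (Bool.rec (motive := fun _ => ℕ) (j8_98) (j8_99) (Nat.ble 99 b)) (Nat.ble 98 b)) (Bool.rec (motive := fun _ => ℕ) (Bool.rec (motive := fun _ => ℕ)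 (j8_100) (j8_101) (Nat.ble 101 b)) (Bool.rec (motive := fun _ => ℕ) (j8_102) (j8_103) (Nat.ble 103 b)) (Nat.ble 102 b)) (Nat.ble 100 b)) (Bool.rec (motive := fun _ => ℕ) (Bool.rec (motive := fun _ => ℕ) (Bool.rec (motive := fun _ => ℕ) (j8_104) (j8_105) (Nat.ble 105 b)) (Bool.rec (motive := fun _ => ℕ) (j8_106) (j8_107) (Nat.ble 107 b)) (Nat.ble 106 b)) (Bool.rec (motive := fun _ => ℕ) (Bool.rec (motive := fun _ => ℕ) (j8_108) (j8_109) (Nat.ble 109 b)) (Bool.rec (motive := fun _ => ℕ) (j8_110) (j8_111) (Nat.ble 111 b)) (Nat.ble 110 b)) (Nat.ble 108 b)) (Nat.ble 104 b)) (Bool.rec (motive := fun _ => ℕ) (Bool.rec (motive := fun _ => ℕ) (Bool.rec (motive := fun _ => ℕ) (Bool.rec (motive := fun _ => ℕ) (j8_112) (j8_113) (Nat.ble 113 b)) (Bool.rec (motive := fun _ => ℕ) (j8_114) (j8_115) (Nat.ble 115 b)) (Nat.ble 114 b)) (Bool.rec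 (motive := fun _ => ℕ) (Bool.rec (motive := fun _ => ℕ) (j8_116) (j8_117) (Nat.ble 117 b)) (Bool.rec (motive := fun _ => ℕ) (j8_118) (j8_119) (Nat.ble 119 b)) (Nat.ble 118 b)) (Nat.ble 116 b)) (Bool.rec (motive := fun _ => ℕ) (Bool.rec (motive := fun _ => ℕ) (Bool.rec (motive := fun _ => ℕ) (j8_120) (j8_121) (Nat.ble 121 b)) (Bool.rec (motive := fun _ => ℕ) (j8_122) (j8_123) (Nat.ble 123 b)) (Nat.ble 122 b)) (Bool.rec (motive := fun _ => ℕ) (Bool.rec (motive := fun _ => ℕ) (j8_124) (j8_125) (Nat.ble 125 b)) (Bool.rec (motive := fun _ => ℕ) (j8_126) (j8_127) (Nat.ble 127 b)) (Nat.ble 126 b)) (Nat.ble 124 b)) (Nat.ble 120 b)) (Nat.ble 112 b)) (Nat.ble 96 b)) (Nat.ble 64 b)) (Bool.rec (motive := fun _ => ℕ) (Bool.rec (motive := fun _ => ℕ) (Bool.rec (motive := fun _ => ℕ) (Bool.rec (motive := fun _ => ℕ) (Bool.rec (motive := fun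 _ => ℕ) (Bool.rec (motive := fun _ => ℕ) (Bool.rec (motive := fun _ => ℕ) (j8_128) (j8_129) (Nat.ble 129 b)) (Bool.rec (motive := fun _ => ℕ) (j8_130) (j8_131) (Nat.ble 131 b)) (Nat.ble 130 b)) (Bool.rec (motive := fun _ => ℕ) (Bool.rec (motive := fun _ => ℕ) (j8_132) (j8_133) (Nat.ble 133 b)) (Bool.rec (motive := fun _ => ℕ) (j8_134) (j8_135) (Nat.ble 135 b)) (Nat.ble 134 b)) (Nat.ble 132 b)) (Bool.rec (motive := fun _ => ℕ) (Bool.rec (motive := fun _ => ℕ) (Bool.rec (motive := fun _ => ℕ) (j8_136) (j8_137) (Nat.ble 137 b)) (Bool.rec (motive := fun _ => ℕ) (j8_138) (j8_139) (Nat.ble 139 b)) (Nat.ble 138 b)) (Bool.rec (motive := fun _ => ℕ) (Bool.rec (motive := fun _ => ℕ) (j8_140) (j8_141) (Nat.ble 141 b)) (Bool.rec (motive := fun _ => ℕ) (j8_142) (j8_143) (Nat.ble 143 b)) (Nat.ble 142 b)) (Nat.ble 140 b)) (Nat.ble 136 b)) (Bool.rec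 (motive := fun _ => ℕ) (Bool.rec (motive := fun _ => ℕ) (Bool.rec (motive := fun _ => ℕ) (Bool.rec (motive := fun _ => ℕ) (j8_144) (j8_145) (Nat.ble 145 b)) (Bool.rec (motive := fun _ => ℕ) (j8_146) (j8_147) (Nat.ble 147 b)) (Nat.ble 146 b)) (Bool.rec (motive := fun _ => ℕ) (Bool.rec (motive := fun _ => ℕ) (j8_148) (j8_149) (Nat.ble 149 b)) (Bool.rec (motive := fun _ => ℕ) (j8_150) (j8_151) (Nat.ble 151 b)) (Nat.ble 150 b)) (Nat.ble 148 b)) (Bool.rec (motive := fun _ => ℕ) (Bool.rec (motive := fun _ => ℕ) (Bool.rec (motive := fun _ => ℕ) (j8_152) (j8_153) (Nat.ble 153 b)) (Bool.rec (motive := fun _ => ℕ) (j8_154) (j8_155) (Nat.ble 155 b)) (Nat.ble 154 b)) (Bool.rec (motive := fun _ => ℕ) (Bool.rec (motive := fun _ => ℕ) (j8_156) (j8_157) (Nat.ble 157 b)) (Bool.rec (motive := fun _ => ℕ) (j8_158) (j8_159) (Nat.ble 159 b)) (Nat.ble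 158 b)) (Nat.ble 156 b)) (Nat.ble 152 b)) (Nat.ble 144 b)) (Bool.rec (motive := fun _ => ℕ) (Bool.rec (motive := fun _ => ℕ) (Bool.rec (motive := fun _ => ℕ) (Bool.rec (motive := fun _ => ℕ) (Bool.rec (motive := fun _ => ℕ) (j8_160) (j8_161) (Nat.ble 161 b)) (Bool.rec (motive := fun _ => ℕ) (j8_162) (j8_163) (Nat.ble 163 b)) (Nat.ble 162 b)) (Bool.rec (motive := fun _ => ℕ) (Bool.rec (motive := fun _ => ℕ) (j8_164) (j8_165) (Nat.ble 165 b)) (Bool.rec (motive := fun _ => ℕ) (j8_166) (j8_167) (Nat.ble 167 b)) (Nat.ble 166 b)) (Nat.ble 164 b)) (Bool.rec (motive := fun _ => ℕ) (Bool.rec (motive := fun _ => ℕ) (Bool.rec (motive := fun _ => ℕ) (j8_168) (j8_169) (Nat.ble 169 b)) (Bool.rec (motive := fun _ => ℕ) (j8_170) (j8_171) (Nat.ble 171 b)) (Nat.ble 170 b)) (Bool.rec (motive := fun _ => ℕ) (Bool.rec (motive := fun _ => ℕ) (j8_172)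 (j8_173) (Nat.ble 173 b)) (Bool.rec (motive := fun _ => ℕ) (j8_174) (j8_175) (Nat.ble 175 b)) (Nat.ble 174 b)) (Nat.ble 172 b)) (Nat.ble 168 b)) (Bool.rec (motive := fun _ => ℕ) (Bool.rec (motive := fun _ => ℕ) (Bool.rec (motive := fun _ => ℕ) (Bool.rec (motive := fun _ => ℕ) (j8_176) (j8_177) (Nat.ble 177 b)) (Bool.rec (motive := fun _ => ℕ) (j8_178) (j8_179) (Nat.ble 179 b)) (Nat.ble 178 b)) (Bool.rec (motive := fun _ => ℕ) (Bool.rec (motive := fun _ => ℕ) (j8_180) (j8_181) (Nat.ble 181 b)) (Bool.rec (motive := fun _ => ℕ) (j8_182) (j8_183) (Nat.ble 183 b)) (Nat.ble 182 b)) (Nat.ble 180 b)) (Bool.rec (motive := fun _ => ℕ) (Bool.rec (motive := fun _ => ℕ) (Bool.rec (motive := fun _ => ℕ) (j8_184) (j8_185) (Nat.ble 185 b)) (Bool.rec (motive := fun _ => ℕ) (j8_186) (j8_187) (Nat.ble 187 b)) (Nat.ble 186 b)) (Bool.rec (motive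 := fun _ => ℕ) (Bool.rec (motive := fun _ => ℕ) (j8_188) (j8_189) (Nat.ble 189 b)) (Bool.rec (motive := fun _ => ℕ) (j8_190) (j8_191) (Nat.ble 191 b)) (Nat.ble 190 b)) (Nat.ble 188 b)) (Nat.ble 184 b)) (Nat.ble 176 b)) (Nat.ble 160 b)) (Bool.rec (motive := fun _ => ℕ) (Bool.rec (motive := fun _ => ℕ) (Bool.rec (motive := fun _ => ℕ) (Bool.rec (motive := fun _ => ℕ) (Bool.rec (motive := fun _ => ℕ) (Bool.rec (motive := fun _ => ℕ) (j8_192) (j8_193) (Nat.ble 193 b)) (Bool.rec (motive := fun _ => ℕ) (j8_194) (j8_195) (Nat.ble 195 b)) (Nat.ble 194 b)) (Bool.rec (motive := fun _ => ℕ) (Bool.rec (motive := fun _ => ℕ) (j8_196) (j8_197) (Nat.ble 197 b)) (Bool.rec (motive := fun _ => ℕ) (j8_198) (j8_199) (Nat.ble 199 b)) (Nat.ble 198 b)) (Nat.ble 196 b)) (Bool.rec (motive := fun _ => ℕ) (Bool.rec (motive := fun _ => ℕ) (Bool.rec (motive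 := fun _ => ℕ) (j8_200) (j8_201) (Nat.ble 201 b)) (Bool.rec (motive := fun _ => ℕ) (j8_202) (j8_203) (Nat.ble 203 b)) (Nat.ble 202 b)) (Bool.rec (motive := fun _ => ℕ) (Bool.rec (motive := fun _ => ℕ) (j8_204) (j8_205) (Nat.ble 205 b)) (Bool.rec (motive := fun _ => ℕ) (j8_206) (j8_207) (Nat.ble 207 b)) (Nat.ble 206 b)) (Nat.ble 204 b)) (Nat.ble 200 b)) (Bool.rec (motive := fun _ => ℕ) (Bool.rec (motive := fun _ => ℕ) (Bool.rec (motive := fun _ => ℕ) (Bool.rec (motive := fun _ => ℕ) (j8_208) (j8_209) (Nat.ble 209 b)) (Bool.rec (motive := fun _ => ℕ) (j8_210) (j8_211) (Nat.ble 211 b)) (Nat.ble 210 b)) (Bool.rec (motive := fun _ => ℕ) (Bool.rec (motive := fun _ => ℕ) (j8_212) (j8_213) (Nat.ble 213 b)) (Bool.rec (motive := fun _ => ℕ) (j8_214) (j8_215) (Nat.ble 215 b)) (Nat.ble 214 b)) (Nat.ble 212 b)) (Bool.rec (motive := fun _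 => ℕ) (Bool.rec (motive := fun _ => ℕ) (Bool.rec (motive := fun _ => ℕ) (j8_216) (j8_217) (Nat.ble 217 b)) (Bool.rec (motive := fun _ => ℕ) (j8_218) (j8_219) (Nat.ble 219 b)) (Nat.ble 218 b)) (Bool.rec (motive := fun _ => ℕ) (Bool.rec (motive := fun _ => ℕ) (j8_220) (j8_221) (Nat.ble 221 b)) (Bool.rec (motive := fun _ => ℕ) (j8_222) (j8_223) (Nat.ble 223 b)) (Nat.ble 222 b)) (Nat.ble 220 b)) (Nat.ble 216 b)) (Nat.ble 208 b)) (Bool.rec (motive := fun _ => ℕ) (Bool.rec (motive := fun _ => ℕ) (Bool.rec (motive := fun _ => ℕ) (Bool.rec (motive := fun _ => ℕ) (Bool.rec (motive := fun _ => ℕ) (j8_224) (j8_225) (Nat.ble 225 b)) (Bool.rec (motive := fun _ => ℕ) (j8_226) (j8_227) (Nat.ble 227 b)) (Nat.ble 226 b)) (Bool.rec (motive := fun _ => ℕ) (Bool.rec (motive := fun _ => ℕ) (j8_228) (j8_229) (Nat.ble 229 b)) (Bool.rec (motive := fun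 _ => ℕ) (j8_230) (j8_231) (Nat.ble 231 b)) (Nat.ble 230 b)) (Nat.ble 228 b)) (Bool.rec (motive := fun _ => ℕ) (Bool.rec (motive := fun _ => ℕ) (Bool.rec (motive := fun _ => ℕ) (j8_232) (j8_233) (Nat.ble 233 b)) (Bool.rec (motive := fun _ => ℕ) (j8_234) (j8_235) (Nat.ble 235 b)) (Nat.ble 234 b)) (Bool.rec (motive := fun _ => ℕ) (Bool.rec (motive := fun _ => ℕ) (j8_236) (j8_237) (Nat.ble 237 b)) (Bool.rec (motive := fun _ => ℕ) (j8_238) (j8_239) (Nat.ble 239 b)) (Nat.ble 238 b)) (Nat.ble 236 b)) (Nat.ble 232 b)) (Bool.rec (motive := fun _ => ℕ) (Bool.rec (motive := fun _ => ℕ) (Bool.rec (motive := fun _ => ℕ) (Bool.rec (motive := fun _ => ℕ) (j8_240) (j8_241) (Nat.ble 241 b)) (Bool.rec (motive := fun _ => ℕ) (j8_242) (j8_243) (Nat.ble 243 b)) (Nat.ble 242 b)) (Bool.rec (motive := fun _ => ℕ) (Bool.rec (motive := fun _ => ℕ) (j8_244)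 (j8_245) (Nat.ble 245 b)) (Bool.rec (motive := fun _ => ℕ) (j8_246) (j8_247) (Nat.ble 247 b)) (Nat.ble 246 b)) (Nat.ble 244 b)) (Bool.rec (motive := fun _ => ℕ) (Bool.rec (motive := fun _ => ℕ) (Bool.rec (motive := fun _ => ℕ) (j8_248) (j8_249) (Nat.ble 249 b)) (Bool.rec (motive := fun _ => ℕ) (j8_250) (j8_251) (Nat.ble 251 b)) (Nat.ble 250 b)) (Bool.rec (motive := fun _ => ℕ) (Bool.rec (motive := fun _ => ℕ) (j8_252) (j8_253) (Nat.ble 253 b)) (Bool.rec (motive := fun _ => ℕ) (j8_254) (j8_255) (Nat.ble 255 b)) (Nat.ble 254 b)) (Nat.ble 252 b)) (Nat.ble 248 b)) (Nat.ble 240 b)) (Nat.ble 224 b)) (Nat.ble 192 b)) (Nat.ble 128 b)) (Bool.rec (motive := fun _ => ℕ) (Bool.rec (motive := fun _ => ℕ) (Bool.rec (motive := fun _ => ℕ) (Bool.rec (motive := fun _ => ℕ) (Bool.rec (motive := fun _ => ℕ) (Bool.rec (motive := fun _ => ℕ) (Bool.rec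 (motive := fun _ => ℕ) (Bool.rec (motive := fun _ => ℕ) (j8_256) (j8_257) (Nat.ble 257 b)) (Bool.rec (motive := fun _ => ℕ) (j8_258) (j8_259) (Nat.ble 259 b)) (Nat.ble 258 b)) (Bool.rec (motive := fun _ => ℕ) (Bool.rec (motive := fun _ => ℕ) (j8_260) (j8_261) (Nat.ble 261 b)) (Bool.rec (motive := fun _ => ℕ) (j8_262) (j8_263) (Nat.ble 263 b)) (Nat.ble 262 b)) (Nat.ble 260 b)) (Bool.rec (motive := fun _ => ℕ) (Bool.rec (motive := fun _ => ℕ) (Bool.rec (motive := fun _ => ℕ) (j8_264) (j8_265) (Nat.ble 265 b)) (Bool.rec (motive := fun _ => ℕ) (j8_266) (0) (Nat.ble 267 b)) (Nat.ble 266 b)) (0) (Nat.ble 268 b)) (Nat.ble 264 b)) (0) (Nat.ble 272 b)) (0) (Nat.ble 288 b)) (0) (Nat.ble 320 b)) (0) (Nat.ble 384 b)) (Nat.ble 256 b))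
noncomputable def ecol9 (b : ℕ) : ℕ := (Bool.rec (motive := fun _ => ℕ) (Bool.rec (motive := fun _ => ℕ) (Bool.rec (motive := fun _ => ℕ) (Bool.rec (motive := fun _ => ℕ) (Bool.rec (motive := fun _ => ℕ) (Bool.rec (motive := fun _ => ℕ) (Bool.rec (motive := fun _ => ℕ) (Bool.rec (motive := fun _ => ℕ) (Bool.rec (motive := fun _ => ℕ) (e9_0) (e9_1) (Nat.ble 1 b)) (Bool.rec (motive := fun _ => ℕ) (e9_2) (e9_3) (Nat.ble 3 b)) (Nat.ble 2 b)) (Bool.rec (motive := fun _ => ℕ) (Bool.rec (motive := fun _ => ℕ) (e9_4) (e9_5) (Nat.ble 5 b)) (Bool.rec (motive := fun _ => ℕ) (e9_6) (e9_7) (Nat.ble 7 b)) (Nat.ble 6 b)) (Nat.ble 4 b)) (Bool.rec (motive := fun _ => ℕ) (Bool.rec (motive := fun _ => ℕ) (Bool.rec (motive := fun _ => ℕ) (e9_8) (e9_9) (Nat.ble 9 b)) (Bool.rec (motive := fun _ => ℕ) (e9_10) (e9_11) (Nat.ble 11 b)) (Nat.ble 10 b))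 (Bool.rec (motive := fun _ => ℕ) (Bool.rec (motive := fun _ => ℕ) (e9_12) (e9_13) (Nat.ble 13 b)) (Bool.rec (motive := fun _ => ℕ) (e9_14) (e9_15) (Nat.ble 15 b)) (Nat.ble 14 b)) (Nat.ble 12 b)) (Nat.ble 8 b)) (Bool.rec (motive := fun _ => ℕ) (Bool.rec (motive := fun _ => ℕ) (Bool.rec (motive := fun _ => ℕ) (Bool.rec (motive := fun _ => ℕ) (e9_16) (e9_17) (Nat.ble 17 b)) (Bool.rec (motive := fun _ => ℕ) (e9_18) (e9_19) (Nat.ble 19 b)) (Nat.ble 18 b)) (Bool.rec (motive := fun _ => ℕ) (Bool.rec (motive := fun _ => ℕ) (e9_20) (e9_21) (Nat.ble 21 b)) (Bool.rec (motive := fun _ => ℕ) (e9_22) (e9_23) (Nat.ble 23 b)) (Nat.ble 22 b)) (Nat.ble 20 b)) (Bool.rec (motive := fun _ => ℕ) (Bool.rec (motive := fun _ => ℕ) (Bool.rec (motive := fun _ => ℕ) (e9_24) (e9_25) (Nat.ble 25 b)) (Bool.rec (motive := fun _ => ℕ) (e9_26) (e9_27) (Nat.ble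 27 b)) (Nat.ble 26 b)) (Bool.rec (motive := fun _ => ℕ) (Bool.rec (motive := fun _ => ℕ) (e9_28) (e9_29) (Nat.ble 29 b)) (Bool.rec (motive := fun _ => ℕ) (e9_30) (e9_31) (Nat.ble 31 b)) (Nat.ble 30 b)) (Nat.ble 28 b)) (Nat.ble 24 b)) (Nat.ble 16 b)) (Bool.rec (motive := fun _ => ℕ) (Bool.rec (motive := fun _ => ℕ) (Bool.rec (motive := fun _ => ℕ) (Bool.rec (motive := fun _ => ℕ) (Bool.rec (motive := fun _ => ℕ) (e9_32) (e9_33) (Nat.ble 33 b)) (Bool.rec (motive := fun _ => ℕ) (e9_34) (e9_35) (Nat.ble 35 b)) (Nat.ble 34 b)) (Bool.rec (motive := fun _ => ℕ) (Bool.rec (motive := fun _ => ℕ) (e9_36) (e9_37) (Nat.ble 37 b)) (Bool.rec (motive := fun _ => ℕ) (e9_38) (e9_39) (Nat.ble 39 b)) (Nat.ble 38 b)) (Nat.ble 36 b)) (Bool.rec (motive := fun _ => ℕ) (Bool.rec (motive := fun _ => ℕ) (Bool.rec (motive := fun _ => ℕ) (e9_40) (e9_41)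 (Nat.ble 41 b)) (Bool.rec (motive := fun _ => ℕ) (e9_42) (e9_43) (Nat.ble 43 b)) (Nat.ble 42 b)) (Bool.rec (motive := fun _ => ℕ) (Bool.rec (motive := fun _ => ℕ) (e9_44) (e9_45) (Nat.ble 45 b)) (Bool.rec (motive := fun _ => ℕ) (e9_46) (e9_47) (Nat.ble 47 b)) (Nat.ble 46 b)) (Nat.ble 44 b)) (Nat.ble 40 b)) (Bool.rec (motive := fun _ => ℕ) (Bool.rec (motive := fun _ => ℕ) (Bool.rec (motive := fun _ => ℕ) (Bool.rec (motive := fun _ => ℕ) (e9_48) (e9_49) (Nat.ble 49 b)) (Bool.rec (motive := fun _ => ℕ) (e9_50) (e9_51) (Nat.ble 51 b)) (Nat.ble 50 b)) (Bool.rec (motive := fun _ => ℕ) (Bool.rec (motive := fun _ => ℕ) (e9_52) (e9_53) (Nat.ble 53 b)) (Bool.rec (motive := fun _ => ℕ) (e9_54) (e9_55) (Nat.ble 55 b)) (Nat.ble 54 b)) (Nat.ble 52 b)) (Bool.rec (motive := fun _ => ℕ) (Bool.rec (motive := fun _ => ℕ) (Bool.rec (motive := fun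 _ => ℕ) (e9_56) (e9_57) (Nat.ble 57 b)) (Bool.rec (motive := fun _ => ℕ) (e9_58) (e9_59) (Nat.ble 59 b)) (Nat.ble 58 b)) (Bool.rec (motive := fun _ => ℕ) (Bool.rec (motive := fun _ => ℕ) (e9_60) (e9_61) (Nat.ble 61 b)) (Bool.rec (motive := fun _ => ℕ) (e9_62) (e9_63) (Nat.ble 63 b)) (Nat.ble 62 b)) (Nat.ble 60 b)) (Nat.ble 56 b)) (Nat.ble 48 b)) (Nat.ble 32 b)) (Bool.rec (motive := fun _ => ℕ) (Bool.rec (motive := fun _ => ℕ) (Bool.rec (motive := fun _ => ℕ) (Bool.rec (motive := fun _ => ℕ) (Bool.rec (motive := fun _ => ℕ) (Bool.rec (motive := fun _ => ℕ) (e9_64) (e9_65) (Nat.ble 65 b)) (Bool.rec (motive := fun _ => ℕ) (e9_66) (e9_67) (Nat.ble 67 b)) (Nat.ble 66 b)) (Bool.rec (motive := fun _ => ℕ) (Bool.rec (motive := fun _ => ℕ) (e9_68) (e9_69) (Nat.ble 69 b)) (Bool.rec (motive := fun _ => ℕ) (e9_70) (e9_71) (Nat.ble 71 b))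 (Nat.ble 70 b)) (Nat.ble 68 b)) (Bool.rec (motive := fun _ => ℕ) (Bool.rec (motive := fun _ => ℕ) (Bool.rec (motive := fun _ => ℕ) (e9_72) (e9_73) (Nat.ble 73 b)) (Bool.rec (motive := fun _ => ℕ) (e9_74) (e9_75) (Nat.ble 75 b)) (Nat.ble 74 b)) (Bool.rec (motive := fun _ => ℕ) (Bool.rec (motive := fun _ => ℕ) (e9_76) (e9_77) (Nat.ble 77 b)) (Bool.rec (motive := fun _ => ℕ) (e9_78) (e9_79) (Nat.ble 79 b)) (Nat.ble 78 b)) (Nat.ble 76 b)) (Nat.ble 72 b)) (Bool.rec (motive := fun _ => ℕ) (Bool.rec (motive := fun _ => ℕ) (Bool.rec (motive := fun _ => ℕ) (Bool.rec (motive := fun _ => ℕ) (e9_80) (e9_81) (Nat.ble 81 b)) (Bool.rec (motive := fun _ => ℕ) (e9_82) (e9_83) (Nat.ble 83 b)) (Nat.ble 82 b)) (Bool.rec (motive := fun _ => ℕ) (Bool.rec (motive := fun _ => ℕ) (e9_84) (e9_85) (Nat.ble 85 b)) (Bool.rec (motive := fun _ => ℕ) (e9_86)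 (e9_87) (Nat.ble 87 b)) (Nat.ble 86 b)) (Nat.ble 84 b)) (Bool.rec (motive := fun _ => ℕ) (Bool.rec (motive := fun _ => ℕ) (Bool.rec (motive := fun _ => ℕ) (e9_88) (e9_89) (Nat.ble 89 b)) (Bool.rec (motive := fun _ => ℕ) (e9_90) (e9_91) (Nat.ble 91 b)) (Nat.ble 90 b)) (Bool.rec (motive := fun _ => ℕ) (Bool.rec (motive := fun _ => ℕ) (e9_92) (e9_93) (Nat.ble 93 b)) (Bool.rec (motive := fun _ => ℕ) (e9_94) (e9_95) (Nat.ble 95 b)) (Nat.ble 94 b)) (Nat.ble 92 b)) (Nat.ble 88 b)) (Nat.ble 80 b)) (Bool.rec (motive := fun _ => ℕ) (Bool.rec (motive := fun _ => ℕ) (Bool.rec (motive := fun _ => ℕ) (Bool.rec (motive := fun _ => ℕ) (Bool.rec (motive := fun _ => ℕ) (e9_96) (e9_97) (Nat.ble 97 b)) (Bool.rec (motive := fun _ => ℕ) (e9_98) (e9_99) (Nat.ble 99 b)) (Nat.ble 98 b)) (Bool.rec (motive := fun _ => ℕ) (Bool.rec (motive := fun _ => ℕ)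 (e9_100) (e9_101) (Nat.ble 101 b)) (Bool.rec (motive := fun _ => ℕ) (e9_102) (e9_103) (Nat.ble 103 b)) (Nat.ble 102 b)) (Nat.ble 100 b)) (Bool.rec (motive := fun _ => ℕ) (Bool.rec (motive := fun _ => ℕ) (Bool.rec (motive := fun _ => ℕ) (e9_104) (e9_105) (Nat.ble 105 b)) (Bool.rec (motive := fun _ => ℕ) (e9_106) (e9_107) (Nat.ble 107 b)) (Nat.ble 106 b)) (Bool.rec (motive := fun _ => ℕ) (Bool.rec (motive := fun _ => ℕ) (e9_108) (e9_109) (Nat.ble 109 b)) (Bool.rec (motive := fun _ => ℕ) (e9_110) (e9_111) (Nat.ble 111 b)) (Nat.ble 110 b)) (Nat.ble 108 b)) (Nat.ble 104 b)) (Bool.rec (motive := fun _ => ℕ) (Bool.rec (motive := fun _ => ℕ) (Bool.rec (motive := fun _ => ℕ) (Bool.rec (motive := fun _ => ℕ) (e9_112) (e9_113) (Nat.ble 113 b)) (Bool.rec (motive := fun _ => ℕ) (e9_114) (e9_115) (Nat.ble 115 b)) (Nat.ble 114 b)) (Bool.rec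 (motive := fun _ => ℕ) (Bool.rec (motive := fun _ => ℕ) (e9_116) (e9_117) (Nat.ble 117 b)) (Bool.rec (motive := fun _ => ℕ) (e9_118) (e9_119) (Nat.ble 119 b)) (Nat.ble 118 b)) (Nat.ble 116 b)) (Bool.rec (motive := fun _ => ℕ) (Bool.rec (motive := fun _ => ℕ) (Bool.rec (motive := fun _ => ℕ) (e9_120) (e9_121) (Nat.ble 121 b)) (Bool.rec (motive := fun _ => ℕ) (e9_122) (e9_123) (Nat.ble 123 b)) (Nat.ble 122 b)) (Bool.rec (motive := fun _ => ℕ) (Bool.rec (motive := fun _ => ℕ) (e9_124) (e9_125) (Nat.ble 125 b)) (Bool.rec (motive := fun _ => ℕ) (e9_126) (e9_127) (Nat.ble 127 b)) (Nat.ble 126 b)) (Nat.ble 124 b)) (Nat.ble 120 b)) (Nat.ble 112 b)) (Nat.ble 96 b)) (Nat.ble 64 b)) (Bool.rec (motive := fun _ => ℕ) (Bool.rec (motive := fun _ => ℕ) (Bool.rec (motive := fun _ => ℕ) (Bool.rec (motive := fun _ => ℕ) (Bool.rec (motive := fun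 _ => ℕ) (Bool.rec (motive := fun _ => ℕ) (Bool.rec (motive := fun _ => ℕ) (e9_128) (e9_129) (Nat.ble 129 b)) (Bool.rec (motive := fun _ => ℕ) (e9_130) (e9_131) (Nat.ble 131 b)) (Nat.ble 130 b)) (Bool.rec (motive := fun _ => ℕ) (Bool.rec (motive := fun _ => ℕ) (e9_132) (e9_133) (Nat.ble 133 b)) (Bool.rec (motive := fun _ => ℕ) (e9_134) (e9_135) (Nat.ble 135 b)) (Nat.ble 134 b)) (Nat.ble 132 b)) (Bool.rec (motive := fun _ => ℕ) (Bool.rec (motive := fun _ => ℕ) (Bool.rec (motive := fun _ => ℕ) (e9_136) (e9_137) (Nat.ble 137 b)) (Bool.rec (motive := fun _ => ℕ) (e9_138) (e9_139) (Nat.ble 139 b)) (Nat.ble 138 b)) (Bool.rec (motive := fun _ => ℕ) (Bool.rec (motive := fun _ => ℕ) (e9_140) (e9_141) (Nat.ble 141 b)) (Bool.rec (motive := fun _ => ℕ) (e9_142) (e9_143) (Nat.ble 143 b)) (Nat.ble 142 b)) (Nat.ble 140 b)) (Nat.ble 136 b)) (Bool.rec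 (motive := fun _ => ℕ) (Bool.rec (motive := fun _ => ℕ) (Bool.rec (motive := fun _ => ℕ) (Bool.rec (motive := fun _ => ℕ) (e9_144) (e9_145) (Nat.ble 145 b)) (Bool.rec (motive := fun _ => ℕ) (e9_146) (e9_147) (Nat.ble 147 b)) (Nat.ble 146 b)) (Bool.rec (motive := fun _ => ℕ) (Bool.rec (motive := fun _ => ℕ) (e9_148) (e9_149) (Nat.ble 149 b)) (Bool.rec (motive := fun _ => ℕ) (e9_150) (e9_151) (Nat.ble 151 b)) (Nat.ble 150 b)) (Nat.ble 148 b)) (Bool.rec (motive := fun _ => ℕ) (Bool.rec (motive := fun _ => ℕ) (Bool.rec (motive := fun _ => ℕ) (e9_152) (e9_153) (Nat.ble 153 b)) (Bool.rec (motive := fun _ => ℕ) (e9_154) (e9_155) (Nat.ble 155 b)) (Nat.ble 154 b)) (Bool.rec (motive := fun _ => ℕ) (Bool.rec (motive := fun _ => ℕ) (e9_156) (e9_157) (Nat.ble 157 b)) (Bool.rec (motive := fun _ => ℕ) (e9_158) (e9_159) (Nat.ble 159 b)) (Nat.ble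 158 b)) (Nat.ble 156 b)) (Nat.ble 152 b)) (Nat.ble 144 b)) (Bool.rec (motive := fun _ => ℕ) (Bool.rec (motive := fun _ => ℕ) (Bool.rec (motive := fun _ => ℕ) (Bool.rec (motive := fun _ => ℕ) (Bool.rec (motive := fun _ => ℕ) (e9_160) (e9_161) (Nat.ble 161 b)) (Bool.rec (motive := fun _ => ℕ) (e9_162) (e9_163) (Nat.ble 163 b)) (Nat.ble 162 b)) (Bool.rec (motive := fun _ => ℕ) (Bool.rec (motive := fun _ => ℕ) (e9_164) (e9_165) (Nat.ble 165 b)) (Bool.rec (motive := fun _ => ℕ) (e9_166) (e9_167) (Nat.ble 167 b)) (Nat.ble 166 b)) (Nat.ble 164 b)) (Bool.rec (motive := fun _ => ℕ) (Bool.rec (motive := fun _ => ℕ) (Bool.rec (motive := fun _ => ℕ) (e9_168) (e9_169) (Nat.ble 169 b)) (Bool.rec (motive := fun _ => ℕ) (e9_170) (e9_171) (Nat.ble 171 b)) (Nat.ble 170 b)) (Bool.rec (motive := fun _ => ℕ) (Bool.rec (motive := fun _ => ℕ) (e9_172)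 (e9_173) (Nat.ble 173 b)) (Bool.rec (motive := fun _ => ℕ) (e9_174) (e9_175) (Nat.ble 175 b)) (Nat.ble 174 b)) (Nat.ble 172 b)) (Nat.ble 168 b)) (Bool.rec (motive := fun _ => ℕ) (Bool.rec (motive := fun _ => ℕ) (Bool.rec (motive := fun _ => ℕ) (Bool.rec (motive := fun _ => ℕ) (e9_176) (e9_177) (Nat.ble 177 b)) (Bool.rec (motive := fun _ => ℕ) (e9_178) (e9_179) (Nat.ble 179 b)) (Nat.ble 178 b)) (Bool.rec (motive := fun _ => ℕ) (Bool.rec (motive := fun _ => ℕ) (e9_180) (e9_181) (Nat.ble 181 b)) (Bool.rec (motive := fun _ => ℕ) (e9_182) (e9_183) (Nat.ble 183 b)) (Nat.ble 182 b)) (Nat.ble 180 b)) (Bool.rec (motive := fun _ => ℕ) (Bool.rec (motive := fun _ => ℕ) (Bool.rec (motive := fun _ => ℕ) (e9_184) (e9_185) (Nat.ble 185 b)) (Bool.rec (motive := fun _ => ℕ) (e9_186) (e9_187) (Nat.ble 187 b)) (Nat.ble 186 b)) (Bool.rec (motive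 := fun _ => ℕ) (Bool.rec (motive := fun _ => ℕ) (e9_188) (e9_189) (Nat.ble 189 b)) (Bool.rec (motive := fun _ => ℕ) (e9_190) (e9_191) (Nat.ble 191 b)) (Nat.ble 190 b)) (Nat.ble 188 b)) (Nat.ble 184 b)) (Nat.ble 176 b)) (Nat.ble 160 b)) (Bool.rec (motive := fun _ => ℕ) (Bool.rec (motive := fun _ => ℕ) (Bool.rec (motive := fun _ => ℕ) (Bool.rec (motive := fun _ => ℕ) (Bool.rec (motive := fun _ => ℕ) (Bool.rec (motive := fun _ => ℕ) (e9_192) (e9_193) (Nat.ble 193 b)) (Bool.rec (motive := fun _ => ℕ) (e9_194) (e9_195) (Nat.ble 195 b)) (Nat.ble 194 b)) (Bool.rec (motive := fun _ => ℕ) (Bool.rec (motive := fun _ => ℕ) (e9_196) (e9_197) (Nat.ble 197 b)) (Bool.rec (motive := fun _ => ℕ) (e9_198) (e9_199) (Nat.ble 199 b)) (Nat.ble 198 b)) (Nat.ble 196 b)) (Bool.rec (motive := fun _ => ℕ) (Bool.rec (motive := fun _ => ℕ) (Bool.rec (motive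 := fun _ => ℕ) (e9_200) (e9_201) (Nat.ble 201 b)) (Bool.rec (motive := fun _ => ℕ) (e9_202) (e9_203) (Nat.ble 203 b)) (Nat.ble 202 b)) (Bool.rec (motive := fun _ => ℕ) (Bool.rec (motive := fun _ => ℕ) (e9_204) (e9_205) (Nat.ble 205 b)) (Bool.rec (motive := fun _ => ℕ) (e9_206) (e9_207) (Nat.ble 207 b)) (Nat.ble 206 b)) (Nat.ble 204 b)) (Nat.ble 200 b)) (Bool.rec (motive := fun _ => ℕ) (Bool.rec (motive := fun _ => ℕ) (Bool.rec (motive := fun _ => ℕ) (Bool.rec (motive := fun _ => ℕ) (e9_208) (e9_209) (Nat.ble 209 b)) (Bool.rec (motive := fun _ => ℕ) (e9_210) (e9_211) (Nat.ble 211 b)) (Nat.ble 210 b)) (Bool.rec (motive := fun _ => ℕ) (Bool.rec (motive := fun _ => ℕ) (e9_212) (e9_213) (Nat.ble 213 b)) (Bool.rec (motive := fun _ => ℕ) (e9_214) (e9_215) (Nat.ble 215 b)) (Nat.ble 214 b)) (Nat.ble 212 b)) (Bool.rec (motive := fun _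 => ℕ) (Bool.rec (motive := fun _ => ℕ) (Bool.rec (motive := fun _ => ℕ) (e9_216) (e9_217) (Nat.ble 217 b)) (Bool.rec (motive := fun _ => ℕ) (e9_218) (e9_219) (Nat.ble 219 b)) (Nat.ble 218 b)) (Bool.rec (motive := fun _ => ℕ) (Bool.rec (motive := fun _ => ℕ) (e9_220) (e9_221) (Nat.ble 221 b)) (Bool.rec (motive := fun _ => ℕ) (e9_222) (e9_223) (Nat.ble 223 b)) (Nat.ble 222 b)) (Nat.ble 220 b)) (Nat.ble 216 b)) (Nat.ble 208 b)) (Bool.rec (motive := fun _ => ℕ) (Bool.rec (motive := fun _ => ℕ) (Bool.rec (motive := fun _ => ℕ) (Bool.rec (motive := fun _ => ℕ) (Bool.rec (motive := fun _ => ℕ) (e9_224) (e9_225) (Nat.ble 225 b)) (Bool.rec (motive := fun _ => ℕ) (e9_226) (e9_227) (Nat.ble 227 b)) (Nat.ble 226 b)) (Bool.rec (motive := fun _ => ℕ) (Bool.rec (motive := fun _ => ℕ) (e9_228) (e9_229) (Nat.ble 229 b)) (Bool.rec (motive := fun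 _ => ℕ) (e9_230) (e9_231) (Nat.ble 231 b)) (Nat.ble 230 b)) (Nat.ble 228 b)) (Bool.rec (motive := fun _ => ℕ) (Bool.rec (motive := fun _ => ℕ) (Bool.rec (motive := fun _ => ℕ) (e9_232) (e9_233) (Nat.ble 233 b)) (Bool.rec (motive := fun _ => ℕ) (e9_234) (e9_235) (Nat.ble 235 b)) (Nat.ble 234 b)) (Bool.rec (motive := fun _ => ℕ) (Bool.rec (motive := fun _ => ℕ) (e9_236) (e9_237) (Nat.ble 237 b)) (Bool.rec (motive := fun _ => ℕ) (e9_238) (e9_239) (Nat.ble 239 b)) (Nat.ble 238 b)) (Nat.ble 236 b)) (Nat.ble 232 b)) (Bool.rec (motive := fun _ => ℕ) (Bool.rec (motive := fun _ => ℕ) (Bool.rec (motive := fun _ => ℕ) (Bool.rec (motive := fun _ => ℕ) (e9_240) (e9_241) (Nat.ble 241 b)) (Bool.rec (motive := fun _ => ℕ) (e9_242) (e9_243) (Nat.ble 243 b)) (Nat.ble 242 b)) (Bool.rec (motive := fun _ => ℕ) (Bool.rec (motive := fun _ => ℕ) (e9_244)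 (e9_245) (Nat.ble 245 b)) (Bool.rec (motive := fun _ => ℕ) (e9_246) (e9_247) (Nat.ble 247 b)) (Nat.ble 246 b)) (Nat.ble 244 b)) (Bool.rec (motive := fun _ => ℕ) (Bool.rec (motive := fun _ => ℕ) (Bool.rec (motive := fun _ => ℕ) (e9_248) (e9_249) (Nat.ble 249 b)) (Bool.rec (motive := fun _ => ℕ) (e9_250) (e9_251) (Nat.ble 251 b)) (Nat.ble 250 b)) (Bool.rec (motive := fun _ => ℕ) (Bool.rec (motive := fun _ => ℕ) (e9_252) (e9_253) (Nat.ble 253 b)) (Bool.rec (motive := fun _ => ℕ) (e9_254) (e9_255) (Nat.ble 255 b)) (Nat.ble 254 b)) (Nat.ble 252 b)) (Nat.ble 248 b)) (Nat.ble 240 b)) (Nat.ble 224 b)) (Nat.ble 192 b)) (Nat.ble 128 b)) (Bool.rec (motive := fun _ => ℕ) (Bool.rec (motive := fun _ => ℕ) (Bool.rec (motive := fun _ => ℕ) (Bool.rec (motive := fun _ => ℕ) (Bool.rec (motive := fun _ => ℕ) (Bool.rec (motive := fun _ => ℕ) (Bool.rec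 (motive := fun _ => ℕ) (Bool.rec (motive := fun _ => ℕ) (e9_256) (e9_257) (Nat.ble 257 b)) (Bool.rec (motive := fun _ => ℕ) (e9_258) (e9_259) (Nat.ble 259 b)) (Nat.ble 258 b)) (Bool.rec (motive := fun _ => ℕ) (Bool.rec (motive := fun _ => ℕ) (e9_260) (e9_261) (Nat.ble 261 b)) (Bool.rec (motive := fun _ => ℕ) (e9_262) (e9_263) (Nat.ble 263 b)) (Nat.ble 262 b)) (Nat.ble 260 b)) (Bool.rec (motive := fun _ => ℕ) (Bool.rec (motive := fun _ => ℕ) (Bool.rec (motive := fun _ => ℕ) (e9_264) (e9_265) (Nat.ble 265 b)) (Bool.rec (motive := fun _ => ℕ) (e9_266) (0) (Nat.ble 267 b)) (Nat.ble 266 b)) (0) (Nat.ble 268 b)) (Nat.ble 264 b)) (0) (Nat.ble 272 b)) (0) (Nat.ble 288 b)) (0) (Nat.ble 320 b)) (0) (Nat.ble 384 b)) (Nat.ble 256 b))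
noncomputable def jcol9 (b : ℕ) : ℕ := (Bool.rec (motive := fun _ => ℕ) (Bool.rec (motive := fun _ => ℕ) (Bool.rec (motive := fun _ => ℕ) (Bool.rec (motive := fun _ => ℕ) (Bool.rec (motive := fun _ => ℕ) (Bool.rec (motive := fun _ => ℕ) (Bool.rec (motive := fun _ => ℕ) (Bool.rec (motive := fun _ => ℕ) (Bool.rec (motive := fun _ => ℕ) (j9_0) (j9_1) (Nat.ble 1 b)) (Bool.rec (motive := fun _ => ℕ) (j9_2) (j9_3) (Nat.ble 3 b)) (Nat.ble 2 b)) (Bool.rec (motive := fun _ => ℕ) (Bool.rec (motive := fun _ => ℕ) (j9_4) (j9_5) (Nat.ble 5 b)) (Bool.rec (motive := fun _ => ℕ) (j9_6) (j9_7) (Nat.ble 7 b)) (Nat.ble 6 b)) (Nat.ble 4 b)) (Bool.rec (motive := fun _ => ℕ) (Bool.rec (motive := fun _ => ℕ) (Bool.rec (motive := fun _ => ℕ) (j9_8) (j9_9) (Nat.ble 9 b)) (Bool.rec (motive := fun _ => ℕ) (j9_10) (j9_11) (Nat.ble 11 b)) (Nat.ble 10 b))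 (Bool.rec (motive := fun _ => ℕ) (Bool.rec (motive := fun _ => ℕ) (j9_12) (j9_13) (Nat.ble 13 b)) (Bool.rec (motive := fun _ => ℕ) (j9_14) (j9_15) (Nat.ble 15 b)) (Nat.ble 14 b)) (Nat.ble 12 b)) (Nat.ble 8 b)) (Bool.rec (motive := fun _ => ℕ) (Bool.rec (motive := fun _ => ℕ) (Bool.rec (motive := fun _ => ℕ) (Bool.rec (motive := fun _ => ℕ) (j9_16) (j9_17) (Nat.ble 17 b)) (Bool.rec (motive := fun _ => ℕ) (j9_18) (j9_19) (Nat.ble 19 b)) (Nat.ble 18 b)) (Bool.rec (motive := fun _ => ℕ) (Bool.rec (motive := fun _ => ℕ) (j9_20) (j9_21) (Nat.ble 21 b)) (Bool.rec (motive := fun _ => ℕ) (j9_22) (j9_23) (Nat.ble 23 b)) (Nat.ble 22 b)) (Nat.ble 20 b)) (Bool.rec (motive := fun _ => ℕ) (Bool.rec (motive := fun _ => ℕ) (Bool.rec (motive := fun _ => ℕ) (j9_24) (j9_25) (Nat.ble 25 b)) (Bool.rec (motive := fun _ => ℕ) (j9_26) (j9_27) (Nat.ble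 27 b)) (Nat.ble 26 b)) (Bool.rec (motive := fun _ => ℕ) (Bool.rec (motive := fun _ => ℕ) (j9_28) (j9_29) (Nat.ble 29 b)) (Bool.rec (motive := fun _ => ℕ) (j9_30) (j9_31) (Nat.ble 31 b)) (Nat.ble 30 b)) (Nat.ble 28 b)) (Nat.ble 24 b)) (Nat.ble 16 b)) (Bool.rec (motive := fun _ => ℕ) (Bool.rec (motive := fun _ => ℕ) (Bool.rec (motive := fun _ => ℕ) (Bool.rec (motive := fun _ => ℕ) (Bool.rec (motive := fun _ => ℕ) (j9_32) (j9_33) (Nat.ble 33 b)) (Bool.rec (motive := fun _ => ℕ) (j9_34) (j9_35) (Nat.ble 35 b)) (Nat.ble 34 b)) (Bool.rec (motive := fun _ => ℕ) (Bool.rec (motive := fun _ => ℕ) (j9_36) (j9_37) (Nat.ble 37 b)) (Bool.rec (motive := fun _ => ℕ) (j9_38) (j9_39) (Nat.ble 39 b)) (Nat.ble 38 b)) (Nat.ble 36 b)) (Bool.rec (motive := fun _ => ℕ) (Bool.rec (motive := fun _ => ℕ) (Bool.rec (motive := fun _ => ℕ) (j9_40) (j9_41)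 (Nat.ble 41 b)) (Bool.rec (motive := fun _ => ℕ) (j9_42) (j9_43) (Nat.ble 43 b)) (Nat.ble 42 b)) (Bool.rec (motive := fun _ => ℕ) (Bool.rec (motive := fun _ => ℕ) (j9_44) (j9_45) (Nat.ble 45 b)) (Bool.rec (motive := fun _ => ℕ) (j9_46) (j9_47) (Nat.ble 47 b)) (Nat.ble 46 b)) (Nat.ble 44 b)) (Nat.ble 40 b)) (Bool.rec (motive := fun _ => ℕ) (Bool.rec (motive := fun _ => ℕ) (Bool.rec (motive := fun _ => ℕ) (Bool.rec (motive := fun _ => ℕ) (j9_48) (j9_49) (Nat.ble 49 b)) (Bool.rec (motive := fun _ => ℕ) (j9_50) (j9_51) (Nat.ble 51 b)) (Nat.ble 50 b)) (Bool.rec (motive := fun _ => ℕ) (Bool.rec (motive := fun _ => ℕ) (j9_52) (j9_53) (Nat.ble 53 b)) (Bool.rec (motive := fun _ => ℕ) (j9_54) (j9_55) (Nat.ble 55 b)) (Nat.ble 54 b)) (Nat.ble 52 b)) (Bool.rec (motive := fun _ => ℕ) (Bool.rec (motive := fun _ => ℕ) (Bool.rec (motive := fun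 _ => ℕ) (j9_56) (j9_57) (Nat.ble 57 b)) (Bool.rec (motive := fun _ => ℕ) (j9_58) (j9_59) (Nat.ble 59 b)) (Nat.ble 58 b)) (Bool.rec (motive := fun _ => ℕ) (Bool.rec (motive := fun _ => ℕ) (j9_60) (j9_61) (Nat.ble 61 b)) (Bool.rec (motive := fun _ => ℕ) (j9_62) (j9_63) (Nat.ble 63 b)) (Nat.ble 62 b)) (Nat.ble 60 b)) (Nat.ble 56 b)) (Nat.ble 48 b)) (Nat.ble 32 b)) (Bool.rec (motive := fun _ => ℕ) (Bool.rec (motive := fun _ => ℕ) (Bool.rec (motive := fun _ => ℕ) (Bool.rec (motive := fun _ => ℕ) (Bool.rec (motive := fun _ => ℕ) (Bool.rec (motive := fun _ => ℕ) (j9_64) (j9_65) (Nat.ble 65 b)) (Bool.rec (motive := fun _ => ℕ) (j9_66) (j9_67) (Nat.ble 67 b)) (Nat.ble 66 b)) (Bool.rec (motive := fun _ => ℕ) (Bool.rec (motive := fun _ => ℕ) (j9_68) (j9_69) (Nat.ble 69 b)) (Bool.rec (motive := fun _ => ℕ) (j9_70) (j9_71) (Nat.ble 71 b))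 (Nat.ble 70 b)) (Nat.ble 68 b)) (Bool.rec (motive := fun _ => ℕ) (Bool.rec (motive := fun _ => ℕ) (Bool.rec (motive := fun _ => ℕ) (j9_72) (j9_73) (Nat.ble 73 b)) (Bool.rec (motive := fun _ => ℕ) (j9_74) (j9_75) (Nat.ble 75 b)) (Nat.ble 74 b)) (Bool.rec (motive := fun _ => ℕ) (Bool.rec (motive := fun _ => ℕ) (j9_76) (j9_77) (Nat.ble 77 b)) (Bool.rec (motive := fun _ => ℕ) (j9_78) (j9_79) (Nat.ble 79 b)) (Nat.ble 78 b)) (Nat.ble 76 b)) (Nat.ble 72 b)) (Bool.rec (motive := fun _ => ℕ) (Bool.rec (motive := fun _ => ℕ) (Bool.rec (motive := fun _ => ℕ) (Bool.rec (motive := fun _ => ℕ) (j9_80) (j9_81) (Nat.ble 81 b)) (Bool.rec (motive := fun _ => ℕ) (j9_82) (j9_83) (Nat.ble 83 b)) (Nat.ble 82 b)) (Bool.rec (motive := fun _ => ℕ) (Bool.rec (motive := fun _ => ℕ) (j9_84) (j9_85) (Nat.ble 85 b)) (Bool.rec (motive := fun _ => ℕ) (j9_86)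 (j9_87) (Nat.ble 87 b)) (Nat.ble 86 b)) (Nat.ble 84 b)) (Bool.rec (motive := fun _ => ℕ) (Bool.rec (motive := fun _ => ℕ) (Bool.rec (motive := fun _ => ℕ) (j9_88) (j9_89) (Nat.ble 89 b)) (Bool.rec (motive := fun _ => ℕ) (j9_90) (j9_91) (Nat.ble 91 b)) (Nat.ble 90 b)) (Bool.rec (motive := fun _ => ℕ) (Bool.rec (motive := fun _ => ℕ) (j9_92) (j9_93) (Nat.ble 93 b)) (Bool.rec (motive := fun _ => ℕ) (j9_94) (j9_95) (Nat.ble 95 b)) (Nat.ble 94 b)) (Nat.ble 92 b)) (Nat.ble 88 b)) (Nat.ble 80 b)) (Bool.rec (motive := fun _ => ℕ) (Bool.rec (motive := fun _ => ℕ) (Bool.rec (motive := fun _ => ℕ) (Bool.rec (motive := fun _ => ℕ) (Bool.rec (motive := fun _ => ℕ) (j9_96) (j9_97) (Nat.ble 97 b)) (Bool.rec (motive := fun _ => ℕ) (j9_98) (j9_99) (Nat.ble 99 b)) (Nat.ble 98 b)) (Bool.rec (motive := fun _ => ℕ) (Bool.rec (motive := fun _ => ℕ)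 (j9_100) (j9_101) (Nat.ble 101 b)) (Bool.rec (motive := fun _ => ℕ) (j9_102) (j9_103) (Nat.ble 103 b)) (Nat.ble 102 b)) (Nat.ble 100 b)) (Bool.rec (motive := fun _ => ℕ) (Bool.rec (motive := fun _ => ℕ) (Bool.rec (motive := fun _ => ℕ) (j9_104) (j9_105) (Nat.ble 105 b)) (Bool.rec (motive := fun _ => ℕ) (j9_106) (j9_107) (Nat.ble 107 b)) (Nat.ble 106 b)) (Bool.rec (motive := fun _ => ℕ) (Bool.rec (motive := fun _ => ℕ) (j9_108) (j9_109) (Nat.ble 109 b)) (Bool.rec (motive := fun _ => ℕ) (j9_110) (j9_111) (Nat.ble 111 b)) (Nat.ble 110 b)) (Nat.ble 108 b)) (Nat.ble 104 b)) (Bool.rec (motive := fun _ => ℕ) (Bool.rec (motive := fun _ => ℕ) (Bool.rec (motive := fun _ => ℕ) (Bool.rec (motive := fun _ => ℕ) (j9_112) (j9_113) (Nat.ble 113 b)) (Bool.rec (motive := fun _ => ℕ) (j9_114) (j9_115) (Nat.ble 115 b)) (Nat.ble 114 b)) (Bool.rec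 (motive := fun _ => ℕ) (Bool.rec (motive := fun _ => ℕ) (j9_116) (j9_117) (Nat.ble 117 b)) (Bool.rec (motive := fun _ => ℕ) (j9_118) (j9_119) (Nat.ble 119 b)) (Nat.ble 118 b)) (Nat.ble 116 b)) (Bool.rec (motive := fun _ => ℕ) (Bool.rec (motive := fun _ => ℕ) (Bool.rec (motive := fun _ => ℕ) (j9_120) (j9_121) (Nat.ble 121 b)) (Bool.rec (motive := fun _ => ℕ) (j9_122) (j9_123) (Nat.ble 123 b)) (Nat.ble 122 b)) (Bool.rec (motive := fun _ => ℕ) (Bool.rec (motive := fun _ => ℕ) (j9_124) (j9_125) (Nat.ble 125 b)) (Bool.rec (motive := fun _ => ℕ) (j9_126) (j9_127) (Nat.ble 127 b)) (Nat.ble 126 b)) (Nat.ble 124 b)) (Nat.ble 120 b)) (Nat.ble 112 b)) (Nat.ble 96 b)) (Nat.ble 64 b)) (Bool.rec (motive := fun _ => ℕ) (Bool.rec (motive := fun _ => ℕ) (Bool.rec (motive := fun _ => ℕ) (Bool.rec (motive := fun _ => ℕ) (Bool.rec (motive := fun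 _ => ℕ) (Bool.rec (motive := fun _ => ℕ) (Bool.rec (motive := fun _ => ℕ) (j9_128) (j9_129) (Nat.ble 129 b)) (Bool.rec (motive := fun _ => ℕ) (j9_130) (j9_131) (Nat.ble 131 b)) (Nat.ble 130 b)) (Bool.rec (motive := fun _ => ℕ) (Bool.rec (motive := fun _ => ℕ) (j9_132) (j9_133) (Nat.ble 133 b)) (Bool.rec (motive := fun _ => ℕ) (j9_134) (j9_135) (Nat.ble 135 b)) (Nat.ble 134 b)) (Nat.ble 132 b)) (Bool.rec (motive := fun _ => ℕ) (Bool.rec (motive := fun _ => ℕ) (Bool.rec (motive := fun _ => ℕ) (j9_136) (j9_137) (Nat.ble 137 b)) (Bool.rec (motive := fun _ => ℕ) (j9_138) (j9_139) (Nat.ble 139 b)) (Nat.ble 138 b)) (Bool.rec (motive := fun _ => ℕ) (Bool.rec (motive := fun _ => ℕ) (j9_140) (j9_141) (Nat.ble 141 b)) (Bool.rec (motive := fun _ => ℕ) (j9_142) (j9_143) (Nat.ble 143 b)) (Nat.ble 142 b)) (Nat.ble 140 b)) (Nat.ble 136 b)) (Bool.rec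 (motive := fun _ => ℕ) (Bool.rec (motive := fun _ => ℕ) (Bool.rec (motive := fun _ => ℕ) (Bool.rec (motive := fun _ => ℕ) (j9_144) (j9_145) (Nat.ble 145 b)) (Bool.rec (motive := fun _ => ℕ) (j9_146) (j9_147) (Nat.ble 147 b)) (Nat.ble 146 b)) (Bool.rec (motive := fun _ => ℕ) (Bool.rec (motive := fun _ => ℕ) (j9_148) (j9_149) (Nat.ble 149 b)) (Bool.rec (motive := fun _ => ℕ) (j9_150) (j9_151) (Nat.ble 151 b)) (Nat.ble 150 b)) (Nat.ble 148 b)) (Bool.rec (motive := fun _ => ℕ) (Bool.rec (motive := fun _ => ℕ) (Bool.rec (motive := fun _ => ℕ) (j9_152) (j9_153) (Nat.ble 153 b)) (Bool.rec (motive := fun _ => ℕ) (j9_154) (j9_155) (Nat.ble 155 b)) (Nat.ble 154 b)) (Bool.rec (motive := fun _ => ℕ) (Bool.rec (motive := fun _ => ℕ) (j9_156) (j9_157) (Nat.ble 157 b)) (Bool.rec (motive := fun _ => ℕ) (j9_158) (j9_159) (Nat.ble 159 b)) (Nat.ble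 158 b)) (Nat.ble 156 b)) (Nat.ble 152 b)) (Nat.ble 144 b)) (Bool.rec (motive := fun _ => ℕ) (Bool.rec (motive := fun _ => ℕ) (Bool.rec (motive := fun _ => ℕ) (Bool.rec (motive := fun _ => ℕ) (Bool.rec (motive := fun _ => ℕ) (j9_160) (j9_161) (Nat.ble 161 b)) (Bool.rec (motive := fun _ => ℕ) (j9_162) (j9_163) (Nat.ble 163 b)) (Nat.ble 162 b)) (Bool.rec (motive := fun _ => ℕ) (Bool.rec (motive := fun _ => ℕ) (j9_164) (j9_165) (Nat.ble 165 b)) (Bool.rec (motive := fun _ => ℕ) (j9_166) (j9_167) (Nat.ble 167 b)) (Nat.ble 166 b)) (Nat.ble 164 b)) (Bool.rec (motive := fun _ => ℕ) (Bool.rec (motive := fun _ => ℕ) (Bool.rec (motive := fun _ => ℕ) (j9_168) (j9_169) (Nat.ble 169 b)) (Bool.rec (motive := fun _ => ℕ) (j9_170) (j9_171) (Nat.ble 171 b)) (Nat.ble 170 b)) (Bool.rec (motive := fun _ => ℕ) (Bool.rec (motive := fun _ => ℕ) (j9_172)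 (j9_173) (Nat.ble 173 b)) (Bool.rec (motive := fun _ => ℕ) (j9_174) (j9_175) (Nat.ble 175 b)) (Nat.ble 174 b)) (Nat.ble 172 b)) (Nat.ble 168 b)) (Bool.rec (motive := fun _ => ℕ) (Bool.rec (motive := fun _ => ℕ) (Bool.rec (motive := fun _ => ℕ) (Bool.rec (motive := fun _ => ℕ) (j9_176) (j9_177) (Nat.ble 177 b)) (Bool.rec (motive := fun _ => ℕ) (j9_178) (j9_179) (Nat.ble 179 b)) (Nat.ble 178 b)) (Bool.rec (motive := fun _ => ℕ) (Bool.rec (motive := fun _ => ℕ) (j9_180) (j9_181) (Nat.ble 181 b)) (Bool.rec (motive := fun _ => ℕ) (j9_182) (j9_183) (Nat.ble 183 b)) (Nat.ble 182 b)) (Nat.ble 180 b)) (Bool.rec (motive := fun _ => ℕ) (Bool.rec (motive := fun _ => ℕ) (Bool.rec (motive := fun _ => ℕ) (j9_184) (j9_185) (Nat.ble 185 b)) (Bool.rec (motive := fun _ => ℕ) (j9_186) (j9_187) (Nat.ble 187 b)) (Nat.ble 186 b)) (Bool.rec (motive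 := fun _ => ℕ) (Bool.rec (motive := fun _ => ℕ) (j9_188) (j9_189) (Nat.ble 189 b)) (Bool.rec (motive := fun _ => ℕ) (j9_190) (j9_191) (Nat.ble 191 b)) (Nat.ble 190 b)) (Nat.ble 188 b)) (Nat.ble 184 b)) (Nat.ble 176 b)) (Nat.ble 160 b)) (Bool.rec (motive := fun _ => ℕ) (Bool.rec (motive := fun _ => ℕ) (Bool.rec (motive := fun _ => ℕ) (Bool.rec (motive := fun _ => ℕ) (Bool.rec (motive := fun _ => ℕ) (Bool.rec (motive := fun _ => ℕ) (j9_192) (j9_193) (Nat.ble 193 b)) (Bool.rec (motive := fun _ => ℕ) (j9_194) (j9_195) (Nat.ble 195 b)) (Nat.ble 194 b)) (Bool.rec (motive := fun _ => ℕ) (Bool.rec (motive := fun _ => ℕ) (j9_196) (j9_197) (Nat.ble 197 b)) (Bool.rec (motive := fun _ => ℕ) (j9_198) (j9_199) (Nat.ble 199 b)) (Nat.ble 198 b)) (Nat.ble 196 b)) (Bool.rec (motive := fun _ => ℕ) (Bool.rec (motive := fun _ => ℕ) (Bool.rec (motive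 := fun _ => ℕ) (j9_200) (j9_201) (Nat.ble 201 b)) (Bool.rec (motive := fun _ => ℕ) (j9_202) (j9_203) (Nat.ble 203 b)) (Nat.ble 202 b)) (Bool.rec (motive := fun _ => ℕ) (Bool.rec (motive := fun _ => ℕ) (j9_204) (j9_205) (Nat.ble 205 b)) (Bool.rec (motive := fun _ => ℕ) (j9_206) (j9_207) (Nat.ble 207 b)) (Nat.ble 206 b)) (Nat.ble 204 b)) (Nat.ble 200 b)) (Bool.rec (motive := fun _ => ℕ) (Bool.rec (motive := fun _ => ℕ) (Bool.rec (motive := fun _ => ℕ) (Bool.rec (motive := fun _ => ℕ) (j9_208) (j9_209) (Nat.ble 209 b)) (Bool.rec (motive := fun _ => ℕ) (j9_210) (j9_211) (Nat.ble 211 b)) (Nat.ble 210 b)) (Bool.rec (motive := fun _ => ℕ) (Bool.rec (motive := fun _ => ℕ) (j9_212) (j9_213) (Nat.ble 213 b)) (Bool.rec (motive := fun _ => ℕ) (j9_214) (j9_215) (Nat.ble 215 b)) (Nat.ble 214 b)) (Nat.ble 212 b)) (Bool.rec (motive := fun _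 => ℕ) (Bool.rec (motive := fun _ => ℕ) (Bool.rec (motive := fun _ => ℕ) (j9_216) (j9_217) (Nat.ble 217 b)) (Bool.rec (motive := fun _ => ℕ) (j9_218) (j9_219) (Nat.ble 219 b)) (Nat.ble 218 b)) (Bool.rec (motive := fun _ => ℕ) (Bool.rec (motive := fun _ => ℕ) (j9_220) (j9_221) (Nat.ble 221 b)) (Bool.rec (motive := fun _ => ℕ) (j9_222) (j9_223) (Nat.ble 223 b)) (Nat.ble 222 b)) (Nat.ble 220 b)) (Nat.ble 216 b)) (Nat.ble 208 b)) (Bool.rec (motive := fun _ => ℕ) (Bool.rec (motive := fun _ => ℕ) (Bool.rec (motive := fun _ => ℕ) (Bool.rec (motive := fun _ => ℕ) (Bool.rec (motive := fun _ => ℕ) (j9_224) (j9_225) (Nat.ble 225 b)) (Bool.rec (motive := fun _ => ℕ) (j9_226) (j9_227) (Nat.ble 227 b)) (Nat.ble 226 b)) (Bool.rec (motive := fun _ => ℕ) (Bool.rec (motive := fun _ => ℕ) (j9_228) (j9_229) (Nat.ble 229 b)) (Bool.rec (motive := fun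 _ => ℕ) (j9_230) (j9_231) (Nat.ble 231 b)) (Nat.ble 230 b)) (Nat.ble 228 b)) (Bool.rec (motive := fun _ => ℕ) (Bool.rec (motive := fun _ => ℕ) (Bool.rec (motive := fun _ => ℕ) (j9_232) (j9_233) (Nat.ble 233 b)) (Bool.rec (motive := fun _ => ℕ) (j9_234) (j9_235) (Nat.ble 235 b)) (Nat.ble 234 b)) (Bool.rec (motive := fun _ => ℕ) (Bool.rec (motive := fun _ => ℕ) (j9_236) (j9_237) (Nat.ble 237 b)) (Bool.rec (motive := fun _ => ℕ) (j9_238) (j9_239) (Nat.ble 239 b)) (Nat.ble 238 b)) (Nat.ble 236 b)) (Nat.ble 232 b)) (Bool.rec (motive := fun _ => ℕ) (Bool.rec (motive := fun _ => ℕ) (Bool.rec (motive := fun _ => ℕ) (Bool.rec (motive := fun _ => ℕ) (j9_240) (j9_241) (Nat.ble 241 b)) (Bool.rec (motive := fun _ => ℕ) (j9_242) (j9_243) (Nat.ble 243 b)) (Nat.ble 242 b)) (Bool.rec (motive := fun _ => ℕ) (Bool.rec (motive := fun _ => ℕ) (j9_244)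 (j9_245) (Nat.ble 245 b)) (Bool.rec (motive := fun _ => ℕ) (j9_246) (j9_247) (Nat.ble 247 b)) (Nat.ble 246 b)) (Nat.ble 244 b)) (Bool.rec (motive := fun _ => ℕ) (Bool.rec (motive := fun _ => ℕ) (Bool.rec (motive := fun _ => ℕ) (j9_248) (j9_249) (Nat.ble 249 b)) (Bool.rec (motive := fun _ => ℕ) (j9_250) (j9_251) (Nat.ble 251 b)) (Nat.ble 250 b)) (Bool.rec (motive := fun _ => ℕ) (Bool.rec (motive := fun _ => ℕ) (j9_252) (j9_253) (Nat.ble 253 b)) (Bool.rec (motive := fun _ => ℕ) (j9_254) (j9_255) (Nat.ble 255 b)) (Nat.ble 254 b)) (Nat.ble 252 b)) (Nat.ble 248 b)) (Nat.ble 240 b)) (Nat.ble 224 b)) (Nat.ble 192 b)) (Nat.ble 128 b)) (Bool.rec (motive := fun _ => ℕ) (Bool.rec (motive := fun _ => ℕ) (Bool.rec (motive := fun _ => ℕ) (Bool.rec (motive := fun _ => ℕ) (Bool.rec (motive := fun _ => ℕ) (Bool.rec (motive := fun _ => ℕ) (Bool.rec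 (motive := fun _ => ℕ) (Bool.rec (motive := fun _ => ℕ) (j9_256) (j9_257) (Nat.ble 257 b)) (Bool.rec (motive := fun _ => ℕ) (j9_258) (j9_259) (Nat.ble 259 b)) (Nat.ble 258 b)) (Bool.rec (motive := fun _ => ℕ) (Bool.rec (motive := fun _ => ℕ) (j9_260) (j9_261) (Nat.ble 261 b)) (Bool.rec (motive := fun _ => ℕ) (j9_262) (j9_263) (Nat.ble 263 b)) (Nat.ble 262 b)) (Nat.ble 260 b)) (Bool.rec (motive := fun _ => ℕ) (Bool.rec (motive := fun _ => ℕ) (Bool.rec (motive := fun _ => ℕ) (j9_264) (j9_265) (Nat.ble 265 b)) (Bool.rec (motive := fun _ => ℕ) (j9_266) (0) (Nat.ble 267 b)) (Nat.ble 266 b)) (0) (Nat.ble 268 b)) (Nat.ble 264 b)) (0) (Nat.ble 272 b)) (0) (Nat.ble 288 b)) (0) (Nat.ble 320 b)) (0) (Nat.ble 384 b)) (Nat.ble 256 b))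
noncomputable def ecol10 (b : ℕ) : ℕ := (Bool.rec (motive := fun _ => ℕ) (Bool.rec (motive := fun _ => ℕ) (Bool.rec (motive := fun _ => ℕ) (Bool.rec (motive := fun _ => ℕ) (Bool.rec (motive := fun _ => ℕ) (Bool.rec (motive := fun _ => ℕ) (Bool.rec (motive := fun _ => ℕ) (Bool.rec (motive := fun _ => ℕ) (Bool.rec (motive := fun _ => ℕ) (e10_0) (e10_1) (Nat.ble 1 b)) (Bool.rec (motive := fun _ => ℕ) (e10_2) (e10_3) (Nat.ble 3 b)) (Nat.ble 2 b)) (Bool.rec (motive := fun _ => ℕ) (Bool.rec (motive := fun _ => ℕ) (e10_4) (e10_5) (Nat.ble 5 b)) (Bool.rec (motive := fun _ => ℕ) (e10_6) (e10_7) (Nat.ble 7 b)) (Nat.ble 6 b)) (Nat.ble 4 b)) (Bool.rec (motive := fun _ => ℕ) (Bool.rec (motive := fun _ => ℕ) (Bool.rec (motive := fun _ => ℕ) (e10_8) (e10_9) (Nat.ble 9 b)) (Bool.rec (motive := fun _ => ℕ) (e10_10) (e10_11) (Nat.ble 11 b)) (Nat.ble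 10 b)) (Bool.rec (motive := fun _ => ℕ) (Bool.rec (motive := fun _ => ℕ) (e10_12) (e10_13) (Nat.ble 13 b)) (Bool.rec (motive := fun _ => ℕ) (e10_14) (e10_15) (Nat.ble 15 b)) (Nat.ble 14 b)) (Nat.ble 12 b)) (Nat.ble 8 b)) (Bool.rec (motive := fun _ => ℕ) (Bool.rec (motive := fun _ => ℕ) (Bool.rec (motive := fun _ => ℕ) (Bool.rec (motive := fun _ => ℕ) (e10_16) (e10_17) (Nat.ble 17 b)) (Bool.rec (motive := fun _ => ℕ) (e10_18) (e10_19) (Nat.ble 19 b)) (Nat.ble 18 b)) (Bool.rec (motive := fun _ => ℕ) (Bool.rec (motive := fun _ => ℕ) (e10_20) (e10_21) (Nat.ble 21 b)) (Bool.rec (motive := fun _ => ℕ) (e10_22) (e10_23) (Nat.ble 23 b)) (Nat.ble 22 b)) (Nat.ble 20 b)) (Bool.rec (motive := fun _ => ℕ) (Bool.rec (motive := fun _ => ℕ) (Bool.rec (motive := fun _ => ℕ) (e10_24) (e10_25) (Nat.ble 25 b)) (Bool.rec (motive := fun _ => ℕ) (e10_26)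 (e10_27) (Nat.ble 27 b)) (Nat.ble 26 b)) (Bool.rec (motive := fun _ => ℕ) (Bool.rec (motive := fun _ => ℕ) (e10_28) (e10_29) (Nat.ble 29 b)) (Bool.rec (motive := fun _ => ℕ) (e10_30) (e10_31) (Nat.ble 31 b)) (Nat.ble 30 b)) (Nat.ble 28 b)) (Nat.ble 24 b)) (Nat.ble 16 b)) (Bool.rec (motive := fun _ => ℕ) (Bool.rec (motive := fun _ => ℕ) (Bool.rec (motive := fun _ => ℕ) (Bool.rec (motive := fun _ => ℕ) (Bool.rec (motive := fun _ => ℕ) (e10_32) (e10_33) (Nat.ble 33 b)) (Bool.rec (motive := fun _ => ℕ) (e10_34) (e10_35) (Nat.ble 35 b)) (Nat.ble 34 b)) (Bool.rec (motive := fun _ => ℕ) (Bool.rec (motive := fun _ => ℕ) (e10_36) (e10_37) (Nat.ble 37 b)) (Bool.rec (motive := fun _ => ℕ) (e10_38) (e10_39) (Nat.ble 39 b)) (Nat.ble 38 b)) (Nat.ble 36 b)) (Bool.rec (motive := fun _ => ℕ) (Bool.rec (motive := fun _ => ℕ) (Bool.rec (motive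 := fun _ => ℕ) (e10_40) (e10_41) (Nat.ble 41 b)) (Bool.rec (motive := fun _ => ℕ) (e10_42) (e10_43) (Nat.ble 43 b)) (Nat.ble 42 b)) (Bool.rec (motive := fun _ => ℕ) (Bool.rec (motive := fun _ => ℕ) (e10_44) (e10_45) (Nat.ble 45 b)) (Bool.rec (motive := fun _ => ℕ) (e10_46) (e10_47) (Nat.ble 47 b)) (Nat.ble 46 b)) (Nat.ble 44 b)) (Nat.ble 40 b)) (Bool.rec (motive := fun _ => ℕ) (Bool.rec (motive := fun _ => ℕ) (Bool.rec (motive := fun _ => ℕ) (Bool.rec (motive := fun _ => ℕ) (e10_48) (e10_49) (Nat.ble 49 b)) (Bool.rec (motive := fun _ => ℕ) (e10_50) (e10_51) (Nat.ble 51 b)) (Nat.ble 50 b)) (Bool.rec (motive := fun _ => ℕ) (Bool.rec (motive := fun _ => ℕ) (e10_52) (e10_53) (Nat.ble 53 b)) (Bool.rec (motive := fun _ => ℕ) (e10_54) (e10_55) (Nat.ble 55 b)) (Nat.ble 54 b)) (Nat.ble 52 b)) (Bool.rec (motive := fun _ => ℕ) (Bool.rec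 (motive := fun _ => ℕ) (Bool.rec (motive := fun _ => ℕ) (e10_56) (e10_57) (Nat.ble 57 b)) (Bool.rec (motive := fun _ => ℕ) (e10_58) (e10_59) (Nat.ble 59 b)) (Nat.ble 58 b)) (Bool.rec (motive := fun _ => ℕ) (Bool.rec (motive := fun _ => ℕ) (e10_60) (e10_61) (Nat.ble 61 b)) (Bool.rec (motive := fun _ => ℕ) (e10_62) (e10_63) (Nat.ble 63 b)) (Nat.ble 62 b)) (Nat.ble 60 b)) (Nat.ble 56 b)) (Nat.ble 48 b)) (Nat.ble 32 b)) (Bool.rec (motive := fun _ => ℕ) (Bool.rec (motive := fun _ => ℕ) (Bool.rec (motive := fun _ => ℕ) (Bool.rec (motive := fun _ => ℕ) (Bool.rec (motive := fun _ => ℕ) (Bool.rec (motive := fun _ => ℕ) (e10_64) (e10_65) (Nat.ble 65 b)) (Bool.rec (motive := fun _ => ℕ) (e10_66) (e10_67) (Nat.ble 67 b)) (Nat.ble 66 b)) (Bool.rec (motive := fun _ => ℕ) (Bool.rec (motive := fun _ => ℕ) (e10_68) (e10_69) (Nat.ble 69 b)) (Bool.rec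 (motive := fun _ => ℕ) (e10_70) (e10_71) (Nat.ble 71 b)) (Nat.ble 70 b)) (Nat.ble 68 b)) (Bool.rec (motive := fun _ => ℕ) (Bool.rec (motive := fun _ => ℕ) (Bool.rec (motive := fun _ => ℕ) (e10_72) (e10_73) (Nat.ble 73 b)) (Bool.rec (motive := fun _ => ℕ) (e10_74) (e10_75) (Nat.ble 75 b)) (Nat.ble 74 b)) (Bool.rec (motive := fun _ => ℕ) (Bool.rec (motive := fun _ => ℕ) (e10_76) (e10_77) (Nat.ble 77 b)) (Bool.rec (motive := fun _ => ℕ) (e10_78) (e10_79) (Nat.ble 79 b)) (Nat.ble 78 b)) (Nat.ble 76 b)) (Nat.ble 72 b)) (Bool.rec (motive := fun _ => ℕ) (Bool.rec (motive := fun _ => ℕ) (Bool.rec (motive := fun _ => ℕ) (Bool.rec (motive := fun _ => ℕ) (e10_80) (e10_81) (Nat.ble 81 b)) (Bool.rec (motive := fun _ => ℕ) (e10_82) (e10_83) (Nat.ble 83 b)) (Nat.ble 82 b)) (Bool.rec (motive := fun _ => ℕ) (Bool.rec (motive := fun _ => ℕ) (e10_84)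 (e10_85) (Nat.ble 85 b)) (Bool.rec (motive := fun _ => ℕ) (e10_86) (e10_87) (Nat.ble 87 b)) (Nat.ble 86 b)) (Nat.ble 84 b)) (Bool.rec (motive := fun _ => ℕ) (Bool.rec (motive := fun _ => ℕ) (Bool.rec (motive := fun _ => ℕ) (e10_88) (e10_89) (Nat.ble 89 b)) (Bool.rec (motive := fun _ => ℕ) (e10_90) (e10_91) (Nat.ble 91 b)) (Nat.ble 90 b)) (Bool.rec (motive := fun _ => ℕ) (Bool.rec (motive := fun _ => ℕ) (e10_92) (e10_93) (Nat.ble 93 b)) (Bool.rec (motive := fun _ => ℕ) (e10_94) (e10_95) (Nat.ble 95 b)) (Nat.ble 94 b)) (Nat.ble 92 b)) (Nat.ble 88 b)) (Nat.ble 80 b)) (Bool.rec (motive := fun _ => ℕ) (Bool.rec (motive := fun _ => ℕ) (Bool.rec (motive := fun _ => ℕ) (Bool.rec (motive := fun _ => ℕ) (Bool.rec (motive := fun _ => ℕ) (e10_96) (e10_97) (Nat.ble 97 b)) (Bool.rec (motive := fun _ => ℕ) (e10_98) (e10_99) (Nat.ble 99 b))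 (Nat.ble 98 b)) (Bool.rec (motive := fun _ => ℕ) (Bool.rec (motive := fun _ => ℕ) (e10_100) (e10_101) (Nat.ble 101 b)) (Bool.rec (motive := fun _ => ℕ) (e10_102) (e10_103) (Nat.ble 103 b)) (Nat.ble 102 b)) (Nat.ble 100 b)) (Bool.rec (motive := fun _ => ℕ) (Bool.rec (motive := fun _ => ℕ) (Bool.rec (motive := fun _ => ℕ) (e10_104) (e10_105) (Nat.ble 105 b)) (Bool.rec (motive := fun _ => ℕ) (e10_106) (e10_107) (Nat.ble 107 b)) (Nat.ble 106 b)) (Bool.rec (motive := fun _ => ℕ) (Bool.rec (motive := fun _ => ℕ) (e10_108) (e10_109) (Nat.ble 109 b)) (Bool.rec (motive := fun _ => ℕ) (e10_110) (e10_111) (Nat.ble 111 b)) (Nat.ble 110 b)) (Nat.ble 108 b)) (Nat.ble 104 b)) (Bool.rec (motive := fun _ => ℕ) (Bool.rec (motive := fun _ => ℕ) (Bool.rec (motive := fun _ => ℕ) (Bool.rec (motive := fun _ => ℕ) (e10_112) (e10_113) (Nat.ble 113 b))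 (Bool.rec (motive := fun _ => ℕ) (e10_114) (e10_115) (Nat.ble 115 b)) (Nat.ble 114 b)) (Bool.rec (motive := fun _ => ℕ) (Bool.rec (motive := fun _ => ℕ) (e10_116) (e10_117) (Nat.ble 117 b)) (Bool.rec (motive := fun _ => ℕ) (e10_118) (e10_119) (Nat.ble 119 b)) (Nat.ble 118 b)) (Nat.ble 116 b)) (Bool.rec (motive := fun _ => ℕ) (Bool.rec (motive := fun _ => ℕ) (Bool.rec (motive := fun _ => ℕ) (e10_120) (e10_121) (Nat.ble 121 b)) (Bool.rec (motive := fun _ => ℕ) (e10_122) (e10_123) (Nat.ble 123 b)) (Nat.ble 122 b)) (Bool.rec (motive := fun _ => ℕ) (Bool.rec (motive := fun _ => ℕ) (e10_124) (e10_125) (Nat.ble 125 b)) (Bool.rec (motive := fun _ => ℕ) (e10_126) (e10_127) (Nat.ble 127 b)) (Nat.ble 126 b)) (Nat.ble 124 b)) (Nat.ble 120 b)) (Nat.ble 112 b)) (Nat.ble 96 b)) (Nat.ble 64 b)) (Bool.rec (motive := fun _ => ℕ) (Bool.rec (motive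 := fun _ => ℕ) (Bool.rec (motive := fun _ => ℕ) (Bool.rec (motive := fun _ => ℕ) (Bool.rec (motive := fun _ => ℕ) (Bool.rec (motive := fun _ => ℕ) (Bool.rec (motive := fun _ => ℕ) (e10_128) (e10_129) (Nat.ble 129 b)) (Bool.rec (motive := fun _ => ℕ) (e10_130) (e10_131) (Nat.ble 131 b)) (Nat.ble 130 b)) (Bool.rec (motive := fun _ => ℕ) (Bool.rec (motive := fun _ => ℕ) (e10_132) (e10_133) (Nat.ble 133 b)) (Bool.rec (motive := fun _ => ℕ) (e10_134) (e10_135) (Nat.ble 135 b)) (Nat.ble 134 b)) (Nat.ble 132 b)) (Bool.rec (motive := fun _ => ℕ) (Bool.rec (motive := fun _ => ℕ) (Bool.rec (motive := fun _ => ℕ) (e10_136) (e10_137) (Nat.ble 137 b)) (Bool.rec (motive := fun _ => ℕ) (e10_138) (e10_139) (Nat.ble 139 b)) (Nat.ble 138 b)) (Bool.rec (motive := fun _ => ℕ) (Bool.rec (motive := fun _ => ℕ) (e10_140) (e10_141) (Nat.ble 141 b))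 (Bool.rec (motive := fun _ => ℕ) (e10_142) (e10_143) (Nat.ble 143 b)) (Nat.ble 142 b)) (Nat.ble 140 b)) (Nat.ble 136 b)) (Bool.rec (motive := fun _ => ℕ) (Bool.rec (motive := fun _ => ℕ) (Bool.rec (motive := fun _ => ℕ) (Bool.rec (motive := fun _ => ℕ) (e10_144) (e10_145) (Nat.ble 145 b)) (Bool.rec (motive := fun _ => ℕ) (e10_146) (e10_147) (Nat.ble 147 b)) (Nat.ble 146 b)) (Bool.rec (motive := fun _ => ℕ) (Bool.rec (motive := fun _ => ℕ) (e10_148) (e10_149) (Nat.ble 149 b)) (Bool.rec (motive := fun _ => ℕ) (e10_150) (e10_151) (Nat.ble 151 b)) (Nat.ble 150 b)) (Nat.ble 148 b)) (Bool.rec (motive := fun _ => ℕ) (Bool.rec (motive := fun _ => ℕ) (Bool.rec (motive := fun _ => ℕ) (e10_152) (e10_153) (Nat.ble 153 b)) (Bool.rec (motive := fun _ => ℕ) (e10_154) (e10_155) (Nat.ble 155 b)) (Nat.ble 154 b)) (Bool.rec (motive := fun _ =>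 ℕ) (Bool.rec (motive := fun _ => ℕ) (e10_156) (e10_157) (Nat.ble 157 b)) (Bool.rec (motive := fun _ => ℕ) (e10_158) (e10_159) (Nat.ble 159 b)) (Nat.ble 158 b)) (Nat.ble 156 b)) (Nat.ble 152 b)) (Nat.ble 144 b)) (Bool.rec (motive := fun _ => ℕ) (Bool.rec (motive := fun _ => ℕ) (Bool.rec (motive := fun _ => ℕ) (Bool.rec (motive := fun _ => ℕ) (Bool.rec (motive := fun _ => ℕ) (e10_160) (e10_161) (Nat.ble 161 b)) (Bool.rec (motive := fun _ => ℕ) (e10_162) (e10_163) (Nat.ble 163 b)) (Nat.ble 162 b)) (Bool.rec (motive := fun _ => ℕ) (Bool.rec (motive := fun _ => ℕ) (e10_164) (e10_165) (Nat.ble 165 b)) (Bool.rec (motive := fun _ => ℕ) (e10_166) (e10_167) (Nat.ble 167 b)) (Nat.ble 166 b)) (Nat.ble 164 b)) (Bool.rec (motive := fun _ => ℕ) (Bool.rec (motive := fun _ => ℕ) (Bool.rec (motive := fun _ => ℕ) (e10_168) (e10_169) (Nat.ble 169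 b)) (Bool.rec (motive := fun _ => ℕ) (e10_170) (e10_171) (Nat.ble 171 b)) (Nat.ble 170 b)) (Bool.rec (motive := fun _ => ℕ) (Bool.rec (motive := fun _ => ℕ) (e10_172) (e10_173) (Nat.ble 173 b)) (Bool.rec (motive := fun _ => ℕ) (e10_174) (e10_175) (Nat.ble 175 b)) (Nat.ble 174 b)) (Nat.ble 172 b)) (Nat.ble 168 b)) (Bool.rec (motive := fun _ => ℕ) (Bool.rec (motive := fun _ => ℕ) (Bool.rec (motive := fun _ => ℕ) (Bool.rec (motive := fun _ => ℕ) (e10_176) (e10_177) (Nat.ble 177 b)) (Bool.rec (motive := fun _ => ℕ) (e10_178) (e10_179) (Nat.ble 179 b)) (Nat.ble 178 b)) (Bool.rec (motive := fun _ => ℕ) (Bool.rec (motive := fun _ => ℕ) (e10_180) (e10_181) (Nat.ble 181 b)) (Bool.rec (motive := fun _ => ℕ) (e10_182) (e10_183) (Nat.ble 183 b)) (Nat.ble 182 b)) (Nat.ble 180 b)) (Bool.rec (motive := fun _ => ℕ) (Bool.rec (motive := fun _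 => ℕ) (Bool.rec (motive := fun _ => ℕ) (e10_184) (e10_185) (Nat.ble 185 b)) (Bool.rec (motive := fun _ => ℕ) (e10_186) (e10_187) (Nat.ble 187 b)) (Nat.ble 186 b)) (Bool.rec (motive := fun _ => ℕ) (Bool.rec (motive := fun _ => ℕ) (e10_188) (e10_189) (Nat.ble 189 b)) (Bool.rec (motive := fun _ => ℕ) (e10_190) (e10_191) (Nat.ble 191 b)) (Nat.ble 190 b)) (Nat.ble 188 b)) (Nat.ble 184 b)) (Nat.ble 176 b)) (Nat.ble 160 b)) (Bool.rec (motive := fun _ => ℕ) (Bool.rec (motive := fun _ => ℕ) (Bool.rec (motive := fun _ => ℕ) (Bool.rec (motive := fun _ => ℕ) (Bool.rec (motive := fun _ => ℕ) (Bool.rec (motive := fun _ => ℕ) (e10_192) (e10_193) (Nat.ble 193 b)) (Bool.rec (motive := fun _ => ℕ) (e10_194) (e10_195) (Nat.ble 195 b)) (Nat.ble 194 b)) (Bool.rec (motive := fun _ => ℕ) (Bool.rec (motive := fun _ => ℕ) (e10_196) (e10_197) (Nat.ble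 197 b)) (Bool.rec (motive := fun _ => ℕ) (e10_198) (e10_199) (Nat.ble 199 b)) (Nat.ble 198 b)) (Nat.ble 196 b)) (Bool.rec (motive := fun _ => ℕ) (Bool.rec (motive := fun _ => ℕ) (Bool.rec (motive := fun _ => ℕ) (e10_200) (e10_201) (Nat.ble 201 b)) (Bool.rec (motive := fun _ => ℕ) (e10_202) (e10_203) (Nat.ble 203 b)) (Nat.ble 202 b)) (Bool.rec (motive := fun _ => ℕ) (Bool.rec (motive := fun _ => ℕ) (e10_204) (e10_205) (Nat.ble 205 b)) (Bool.rec (motive := fun _ => ℕ) (e10_206) (e10_207) (Nat.ble 207 b)) (Nat.ble 206 b)) (Nat.ble 204 b)) (Nat.ble 200 b)) (Bool.rec (motive := fun _ => ℕ) (Bool.rec (motive := fun _ => ℕ) (Bool.rec (motive := fun _ => ℕ) (Bool.rec (motive := fun _ => ℕ) (e10_208) (e10_209) (Nat.ble 209 b)) (Bool.rec (motive := fun _ => ℕ) (e10_210) (e10_211) (Nat.ble 211 b)) (Nat.ble 210 b)) (Bool.rec (motive := fun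 _ => ℕ) (Bool.rec (motive := fun _ => ℕ) (e10_212) (e10_213) (Nat.ble 213 b)) (Bool.rec (motive := fun _ => ℕ) (e10_214) (e10_215) (Nat.ble 215 b)) (Nat.ble 214 b)) (Nat.ble 212 b)) (Bool.rec (motive := fun _ => ℕ) (Bool.rec (motive := fun _ => ℕ) (Bool.rec (motive := fun _ => ℕ) (e10_216) (e10_217) (Nat.ble 217 b)) (Bool.rec (motive := fun _ => ℕ) (e10_218) (e10_219) (Nat.ble 219 b)) (Nat.ble 218 b)) (Bool.rec (motive := fun _ => ℕ) (Bool.rec (motive := fun _ => ℕ) (e10_220) (e10_221) (Nat.ble 221 b)) (Bool.rec (motive := fun _ => ℕ) (e10_222) (e10_223) (Nat.ble 223 b)) (Nat.ble 222 b)) (Nat.ble 220 b)) (Nat.ble 216 b)) (Nat.ble 208 b)) (Bool.rec (motive := fun _ => ℕ) (Bool.rec (motive := fun _ => ℕ) (Bool.rec (motive := fun _ => ℕ) (Bool.rec (motive := fun _ => ℕ) (Bool.rec (motive := fun _ => ℕ) (e10_224) (e10_225) (Nat.ble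 225 b)) (Bool.rec (motive := fun _ => ℕ) (e10_226) (e10_227) (Nat.ble 227 b)) (Nat.ble 226 b)) (Bool.rec (motive := fun _ => ℕ) (Bool.rec (motive := fun _ => ℕ) (e10_228) (e10_229) (Nat.ble 229 b)) (Bool.rec (motive := fun _ => ℕ) (e10_230) (e10_231) (Nat.ble 231 b)) (Nat.ble 230 b)) (Nat.ble 228 b)) (Bool.rec (motive := fun _ => ℕ) (Bool.rec (motive := fun _ => ℕ) (Bool.rec (motive := fun _ => ℕ) (e10_232) (e10_233) (Nat.ble 233 b)) (Bool.rec (motive := fun _ => ℕ) (e10_234) (e10_235) (Nat.ble 235 b)) (Nat.ble 234 b)) (Bool.rec (motive := fun _ => ℕ) (Bool.rec (motive := fun _ => ℕ) (e10_236) (e10_237) (Nat.ble 237 b)) (Bool.rec (motive := fun _ => ℕ) (e10_238) (e10_239) (Nat.ble 239 b)) (Nat.ble 238 b)) (Nat.ble 236 b)) (Nat.ble 232 b)) (Bool.rec (motive := fun _ => ℕ) (Bool.rec (motive := fun _ => ℕ) (Bool.rec (motive := fun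 _ => ℕ) (Bool.rec (motive := fun _ => ℕ) (e10_240) (e10_241) (Nat.ble 241 b)) (Bool.rec (motive := fun _ => ℕ) (e10_242) (e10_243) (Nat.ble 243 b)) (Nat.ble 242 b)) (Bool.rec (motive := fun _ => ℕ) (Bool.rec (motive := fun _ => ℕ) (e10_244) (e10_245) (Nat.ble 245 b)) (Bool.rec (motive := fun _ => ℕ) (e10_246) (e10_247) (Nat.ble 247 b)) (Nat.ble 246 b)) (Nat.ble 244 b)) (Bool.rec (motive := fun _ => ℕ) (Bool.rec (motive := fun _ => ℕ) (Bool.rec (motive := fun _ => ℕ) (e10_248) (e10_249) (Nat.ble 249 b)) (Bool.rec (motive := fun _ => ℕ) (e10_250) (e10_251) (Nat.ble 251 b)) (Nat.ble 250 b)) (Bool.rec (motive := fun _ => ℕ) (Bool.rec (motive := fun _ => ℕ) (e10_252) (e10_253) (Nat.ble 253 b)) (Bool.rec (motive := fun _ => ℕ) (e10_254) (e10_255) (Nat.ble 255 b)) (Nat.ble 254 b)) (Nat.ble 252 b)) (Nat.ble 248 b)) (Nat.ble 240 b)) (Nat.ble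 224 b)) (Nat.ble 192 b)) (Nat.ble 128 b)) (Bool.rec (motive := fun _ => ℕ) (Bool.rec (motive := fun _ => ℕ) (Bool.rec (motive := fun _ => ℕ) (Bool.rec (motive := fun _ => ℕ) (Bool.rec (motive := fun _ => ℕ) (Bool.rec (motive := fun _ => ℕ) (Bool.rec (motive := fun _ => ℕ) (Bool.rec (motive := fun _ => ℕ) (e10_256) (e10_257) (Nat.ble 257 b)) (Bool.rec (motive := fun _ => ℕ) (e10_258) (e10_259) (Nat.ble 259 b)) (Nat.ble 258 b)) (Bool.rec (motive := fun _ => ℕ) (Bool.rec (motive := fun _ => ℕ) (e10_260) (e10_261) (Nat.ble 261 b)) (Bool.rec (motive := fun _ => ℕ) (e10_262) (e10_263) (Nat.ble 263 b)) (Nat.ble 262 b)) (Nat.ble 260 b)) (Bool.rec (motive := fun _ => ℕ) (Bool.rec (motive := fun _ => ℕ) (Bool.rec (motive := fun _ => ℕ) (e10_264) (e10_265) (Nat.ble 265 b)) (Bool.rec (motive := fun _ => ℕ) (e10_266) (0) (Nat.ble 267 b))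 (Nat.ble 266 b)) (0) (Nat.ble 268 b)) (Nat.ble 264 b)) (0) (Nat.ble 272 b)) (0) (Nat.ble 288 b)) (0) (Nat.ble 320 b)) (0) (Nat.ble 384 b)) (Nat.ble 256 b))
noncomputable def jcol10 (b : ℕ) : ℕ := (Bool.rec (motive := fun _ => ℕ) (Bool.rec (motive := fun _ => ℕ) (Bool.rec (motive := fun _ => ℕ) (Bool.rec (motive := fun _ => ℕ) (Bool.rec (motive := fun _ => ℕ) (Bool.rec (motive := fun _ => ℕ) (Bool.rec (motive := fun _ => ℕ) (Bool.rec (motive := fun _ => ℕ) (Bool.rec (motive := fun _ => ℕ) (j10_0) (j10_1) (Nat.ble 1 b)) (Bool.rec (motive := fun _ => ℕ) (j10_2) (j10_3) (Nat.ble 3 b)) (Nat.ble 2 b)) (Bool.rec (motive := fun _ => ℕ) (Bool.rec (motive := fun _ => ℕ) (j10_4) (j10_5) (Nat.ble 5 b)) (Bool.rec (motive := fun _ => ℕ) (j10_6) (j10_7) (Nat.ble 7 b)) (Nat.ble 6 b)) (Nat.ble 4 b)) (Bool.rec (motive := fun _ => ℕ) (Bool.rec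 (motive := fun _ => ℕ) (Bool.rec (motive := fun _ => ℕ) (j10_8) (j10_9) (Nat.ble 9 b)) (Bool.rec (motive := fun _ => ℕ) (j10_10) (j10_11) (Nat.ble 11 b)) (Nat.ble 10 b)) (Bool.rec (motive := fun _ => ℕ) (Bool.rec (motive := fun _ => ℕ) (j10_12) (j10_13) (Nat.ble 13 b)) (Bool.rec (motive := fun _ => ℕ) (j10_14) (j10_15) (Nat.ble 15 b)) (Nat.ble 14 b)) (Nat.ble 12 b)) (Nat.ble 8 b)) (Bool.rec (motive := fun _ => ℕ) (Bool.rec (motive := fun _ => ℕ) (Bool.rec (motive := fun _ => ℕ) (Bool.rec (motive := fun _ => ℕ) (j10_16) (j10_17) (Nat.ble 17 b)) (Bool.rec (motive := fun _ => ℕ) (j10_18) (j10_19) (Nat.ble 19 b)) (Nat.ble 18 b)) (Bool.rec (motive := fun _ => ℕ) (Bool.rec (motive := fun _ => ℕ) (j10_20) (j10_21) (Nat.ble 21 b)) (Bool.rec (motive := fun _ => ℕ) (j10_22) (j10_23) (Nat.ble 23 b)) (Nat.ble 22 b)) (Nat.ble 20 b)) (Bool.rec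 (motive := fun _ => ℕ) (Bool.rec (motive := fun _ => ℕ) (Bool.rec (motive := fun _ => ℕ) (j10_24) (j10_25) (Nat.ble 25 b)) (Bool.rec (motive := fun _ => ℕ) (j10_26) (j10_27) (Nat.ble 27 b)) (Nat.ble 26 b)) (Bool.rec (motive := fun _ => ℕ) (Bool.rec (motive := fun _ => ℕ) (j10_28) (j10_29) (Nat.ble 29 b)) (Bool.rec (motive := fun _ => ℕ) (j10_30) (j10_31) (Nat.ble 31 b)) (Nat.ble 30 b)) (Nat.ble 28 b)) (Nat.ble 24 b)) (Nat.ble 16 b)) (Bool.rec (motive := fun _ => ℕ) (Bool.rec (motive := fun _ => ℕ) (Bool.rec (motive := fun _ => ℕ) (Bool.rec (motive := fun _ => ℕ) (Bool.rec (motive := fun _ => ℕ) (j10_32) (j10_33) (Nat.ble 33 b)) (Bool.rec (motive := fun _ => ℕ) (j10_34) (j10_35) (Nat.ble 35 b)) (Nat.ble 34 b)) (Bool.rec (motive := fun _ => ℕ) (Bool.rec (motive := fun _ => ℕ) (j10_36) (j10_37) (Nat.ble 37 b)) (Bool.rec (motive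 := fun _ => ℕ) (j10_38) (j10_39) (Nat.ble 39 b)) (Nat.ble 38 b)) (Nat.ble 36 b)) (Bool.rec (motive := fun _ => ℕ) (Bool.rec (motive := fun _ => ℕ) (Bool.rec (motive := fun _ => ℕ) (j10_40) (j10_41) (Nat.ble 41 b)) (Bool.rec (motive := fun _ => ℕ) (j10_42) (j10_43) (Nat.ble 43 b)) (Nat.ble 42 b)) (Bool.rec (motive := fun _ => ℕ) (Bool.rec (motive := fun _ => ℕ) (j10_44) (j10_45) (Nat.ble 45 b)) (Bool.rec (motive := fun _ => ℕ) (j10_46) (j10_47) (Nat.ble 47 b)) (Nat.ble 46 b)) (Nat.ble 44 b)) (Nat.ble 40 b)) (Bool.rec (motive := fun _ => ℕ) (Bool.rec (motive := fun _ => ℕ) (Bool.rec (motive := fun _ => ℕ) (Bool.rec (motive := fun _ => ℕ) (j10_48) (j10_49) (Nat.ble 49 b)) (Bool.rec (motive := fun _ => ℕ) (j10_50) (j10_51) (Nat.ble 51 b)) (Nat.ble 50 b)) (Bool.rec (motive := fun _ => ℕ) (Bool.rec (motive := fun _ => ℕ) (j10_52) (j10_53)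 (Nat.ble 53 b)) (Bool.rec (motive := fun _ => ℕ) (j10_54) (j10_55) (Nat.ble 55 b)) (Nat.ble 54 b)) (Nat.ble 52 b)) (Bool.rec (motive := fun _ => ℕ) (Bool.rec (motive := fun _ => ℕ) (Bool.rec (motive := fun _ => ℕ) (j10_56) (j10_57) (Nat.ble 57 b)) (Bool.rec (motive := fun _ => ℕ) (j10_58) (j10_59) (Nat.ble 59 b)) (Nat.ble 58 b)) (Bool.rec (motive := fun _ => ℕ) (Bool.rec (motive := fun _ => ℕ) (j10_60) (j10_61) (Nat.ble 61 b)) (Bool.rec (motive := fun _ => ℕ) (j10_62) (j10_63) (Nat.ble 63 b)) (Nat.ble 62 b)) (Nat.ble 60 b)) (Nat.ble 56 b)) (Nat.ble 48 b)) (Nat.ble 32 b)) (Bool.rec (motive := fun _ => ℕ) (Bool.rec (motive := fun _ => ℕ) (Bool.rec (motive := fun _ => ℕ) (Bool.rec (motive := fun _ => ℕ) (Bool.rec (motive := fun _ => ℕ) (Bool.rec (motive := fun _ => ℕ) (j10_64) (j10_65) (Nat.ble 65 b)) (Bool.rec (motive := fun _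 => ℕ) (j10_66) (j10_67) (Nat.ble 67 b)) (Nat.ble 66 b)) (Bool.rec (motive := fun _ => ℕ) (Bool.rec (motive := fun _ => ℕ) (j10_68) (j10_69) (Nat.ble 69 b)) (Bool.rec (motive := fun _ => ℕ) (j10_70) (j10_71) (Nat.ble 71 b)) (Nat.ble 70 b)) (Nat.ble 68 b)) (Bool.rec (motive := fun _ => ℕ) (Bool.rec (motive := fun _ => ℕ) (Bool.rec (motive := fun _ => ℕ) (j10_72) (j10_73) (Nat.ble 73 b)) (Bool.rec (motive := fun _ => ℕ) (j10_74) (j10_75) (Nat.ble 75 b)) (Nat.ble 74 b)) (Bool.rec (motive := fun _ => ℕ) (Bool.rec (motive := fun _ => ℕ) (j10_76) (j10_77) (Nat.ble 77 b)) (Bool.rec (motive := fun _ => ℕ) (j10_78) (j10_79) (Nat.ble 79 b)) (Nat.ble 78 b)) (Nat.ble 76 b)) (Nat.ble 72 b)) (Bool.rec (motive := fun _ => ℕ) (Bool.rec (motive := fun _ => ℕ) (Bool.rec (motive := fun _ => ℕ) (Bool.rec (motive := fun _ => ℕ) (j10_80) (j10_81) (Nat.ble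 81 b)) (Bool.rec (motive := fun _ => ℕ) (j10_82) (j10_83) (Nat.ble 83 b)) (Nat.ble 82 b)) (Bool.rec (motive := fun _ => ℕ) (Bool.rec (motive := fun _ => ℕ) (j10_84) (j10_85) (Nat.ble 85 b)) (Bool.rec (motive := fun _ => ℕ) (j10_86) (j10_87) (Nat.ble 87 b)) (Nat.ble 86 b)) (Nat.ble 84 b)) (Bool.rec (motive := fun _ => ℕ) (Bool.rec (motive := fun _ => ℕ) (Bool.rec (motive := fun _ => ℕ) (j10_88) (j10_89) (Nat.ble 89 b)) (Bool.rec (motive := fun _ => ℕ) (j10_90) (j10_91) (Nat.ble 91 b)) (Nat.ble 90 b)) (Bool.rec (motive := fun _ => ℕ) (Bool.rec (motive := fun _ => ℕ) (j10_92) (j10_93) (Nat.ble 93 b)) (Bool.rec (motive := fun _ => ℕ) (j10_94) (j10_95) (Nat.ble 95 b)) (Nat.ble 94 b)) (Nat.ble 92 b)) (Nat.ble 88 b)) (Nat.ble 80 b)) (Bool.rec (motive := fun _ => ℕ) (Bool.rec (motive := fun _ => ℕ) (Bool.rec (motive := fun _ => ℕ) (Bool.rec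 (motive := fun _ => ℕ) (Bool.rec (motive := fun _ => ℕ) (j10_96) (j10_97) (Nat.ble 97 b)) (Bool.rec (motive := fun _ => ℕ) (j10_98) (j10_99) (Nat.ble 99 b)) (Nat.ble 98 b)) (Bool.rec (motive := fun _ => ℕ) (Bool.rec (motive := fun _ => ℕ) (j10_100) (j10_101) (Nat.ble 101 b)) (Bool.rec (motive := fun _ => ℕ) (j10_102) (j10_103) (Nat.ble 103 b)) (Nat.ble 102 b)) (Nat.ble 100 b)) (Bool.rec (motive := fun _ => ℕ) (Bool.rec (motive := fun _ => ℕ) (Bool.rec (motive := fun _ => ℕ) (j10_104) (j10_105) (Nat.ble 105 b)) (Bool.rec (motive := fun _ => ℕ) (j10_106) (j10_107) (Nat.ble 107 b)) (Nat.ble 106 b)) (Bool.rec (motive := fun _ => ℕ) (Bool.rec (motive := fun _ => ℕ) (j10_108) (j10_109) (Nat.ble 109 b)) (Bool.rec (motive := fun _ => ℕ) (j10_110) (j10_111) (Nat.ble 111 b)) (Nat.ble 110 b)) (Nat.ble 108 b)) (Nat.ble 104 b)) (Bool.rec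 (motive := fun _ => ℕ) (Bool.rec (motive := fun _ => ℕ) (Bool.rec (motive := fun _ => ℕ) (Bool.rec (motive := fun _ => ℕ) (j10_112) (j10_113) (Nat.ble 113 b)) (Bool.rec (motive := fun _ => ℕ) (j10_114) (j10_115) (Nat.ble 115 b)) (Nat.ble 114 b)) (Bool.rec (motive := fun _ => ℕ) (Bool.rec (motive := fun _ => ℕ) (j10_116) (j10_117) (Nat.ble 117 b)) (Bool.rec (motive := fun _ => ℕ) (j10_118) (j10_119) (Nat.ble 119 b)) (Nat.ble 118 b)) (Nat.ble 116 b)) (Bool.rec (motive := fun _ => ℕ) (Bool.rec (motive := fun _ => ℕ) (Bool.rec (motive := fun _ => ℕ) (j10_120) (j10_121) (Nat.ble 121 b)) (Bool.rec (motive := fun _ => ℕ) (j10_122) (j10_123) (Nat.ble 123 b)) (Nat.ble 122 b)) (Bool.rec (motive := fun _ => ℕ) (Bool.rec (motive := fun _ => ℕ) (j10_124) (j10_125) (Nat.ble 125 b)) (Bool.rec (motive := fun _ => ℕ) (j10_126) (j10_127) (Nat.ble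 127 b)) (Nat.ble 126 b)) (Nat.ble 124 b)) (Nat.ble 120 b)) (Nat.ble 112 b)) (Nat.ble 96 b)) (Nat.ble 64 b)) (Bool.rec (motive := fun _ => ℕ) (Bool.rec (motive := fun _ => ℕ) (Bool.rec (motive := fun _ => ℕ) (Bool.rec (motive := fun _ => ℕ) (Bool.rec (motive := fun _ => ℕ) (Bool.rec (motive := fun _ => ℕ) (Bool.rec (motive := fun _ => ℕ) (j10_128) (j10_129) (Nat.ble 129 b)) (Bool.rec (motive := fun _ => ℕ) (j10_130) (j10_131) (Nat.ble 131 b)) (Nat.ble 130 b)) (Bool.rec (motive := fun _ => ℕ) (Bool.rec (motive := fun _ => ℕ) (j10_132) (j10_133) (Nat.ble 133 b)) (Bool.rec (motive := fun _ => ℕ) (j10_134) (j10_135) (Nat.ble 135 b)) (Nat.ble 134 b)) (Nat.ble 132 b)) (Bool.rec (motive := fun _ => ℕ) (Bool.rec (motive := fun _ => ℕ) (Bool.rec (motive := fun _ => ℕ) (j10_136) (j10_137) (Nat.ble 137 b)) (Bool.rec (motive := fun _ => ℕ)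 (j10_138) (j10_139) (Nat.ble 139 b)) (Nat.ble 138 b)) (Bool.rec (motive := fun _ => ℕ) (Bool.rec (motive := fun _ => ℕ) (j10_140) (j10_141) (Nat.ble 141 b)) (Bool.rec (motive := fun _ => ℕ) (j10_142) (j10_143) (Nat.ble 143 b)) (Nat.ble 142 b)) (Nat.ble 140 b)) (Nat.ble 136 b)) (Bool.rec (motive := fun _ => ℕ) (Bool.rec (motive := fun _ => ℕ) (Bool.rec (motive := fun _ => ℕ) (Bool.rec (motive := fun _ => ℕ) (j10_144) (j10_145) (Nat.ble 145 b)) (Bool.rec (motive := fun _ => ℕ) (j10_146) (j10_147) (Nat.ble 147 b)) (Nat.ble 146 b)) (Bool.rec (motive := fun _ => ℕ) (Bool.rec (motive := fun _ => ℕ) (j10_148) (j10_149) (Nat.ble 149 b)) (Bool.rec (motive := fun _ => ℕ) (j10_150) (j10_151) (Nat.ble 151 b)) (Nat.ble 150 b)) (Nat.ble 148 b)) (Bool.rec (motive := fun _ => ℕ) (Bool.rec (motive := fun _ => ℕ) (Bool.rec (motive := fun _ =>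 ℕ) (j10_152) (j10_153) (Nat.ble 153 b)) (Bool.rec (motive := fun _ => ℕ) (j10_154) (j10_155) (Nat.ble 155 b)) (Nat.ble 154 b)) (Bool.rec (motive := fun _ => ℕ) (Bool.rec (motive := fun _ => ℕ) (j10_156) (j10_157) (Nat.ble 157 b)) (Bool.rec (motive := fun _ => ℕ) (j10_158) (j10_159) (Nat.ble 159 b)) (Nat.ble 158 b)) (Nat.ble 156 b)) (Nat.ble 152 b)) (Nat.ble 144 b)) (Bool.rec (motive := fun _ => ℕ) (Bool.rec (motive := fun _ => ℕ) (Bool.rec (motive := fun _ => ℕ) (Bool.rec (motive := fun _ => ℕ) (Bool.rec (motive := fun _ => ℕ) (j10_160) (j10_161) (Nat.ble 161 b)) (Bool.rec (motive := fun _ => ℕ) (j10_162) (j10_163) (Nat.ble 163 b)) (Nat.ble 162 b)) (Bool.rec (motive := fun _ => ℕ) (Bool.rec (motive := fun _ => ℕ) (j10_164) (j10_165) (Nat.ble 165 b)) (Bool.rec (motive := fun _ => ℕ) (j10_166) (j10_167) (Nat.ble 167 b)) (Nat.ble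 166 b)) (Nat.ble 164 b)) (Bool.rec (motive := fun _ => ℕ) (Bool.rec (motive := fun _ => ℕ) (Bool.rec (motive := fun _ => ℕ) (j10_168) (j10_169) (Nat.ble 169 b)) (Bool.rec (motive := fun _ => ℕ) (j10_170) (j10_171) (Nat.ble 171 b)) (Nat.ble 170 b)) (Bool.rec (motive := fun _ => ℕ) (Bool.rec (motive := fun _ => ℕ) (j10_172) (j10_173) (Nat.ble 173 b)) (Bool.rec (motive := fun _ => ℕ) (j10_174) (j10_175) (Nat.ble 175 b)) (Nat.ble 174 b)) (Nat.ble 172 b)) (Nat.ble 168 b)) (Bool.rec (motive := fun _ => ℕ) (Bool.rec (motive := fun _ => ℕ) (Bool.rec (motive := fun _ => ℕ) (Bool.rec (motive := fun _ => ℕ) (j10_176) (j10_177) (Nat.ble 177 b)) (Bool.rec (motive := fun _ => ℕ) (j10_178) (j10_179) (Nat.ble 179 b)) (Nat.ble 178 b)) (Bool.rec (motive := fun _ => ℕ) (Bool.rec (motive := fun _ => ℕ) (j10_180) (j10_181) (Nat.ble 181 b)) (Bool.rec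 (motive := fun _ => ℕ) (j10_182) (j10_183) (Nat.ble 183 b)) (Nat.ble 182 b)) (Nat.ble 180 b)) (Bool.rec (motive := fun _ => ℕ) (Bool.rec (motive := fun _ => ℕ) (Bool.rec (motive := fun _ => ℕ) (j10_184) (j10_185) (Nat.ble 185 b)) (Bool.rec (motive := fun _ => ℕ) (j10_186) (j10_187) (Nat.ble 187 b)) (Nat.ble 186 b)) (Bool.rec (motive := fun _ => ℕ) (Bool.rec (motive := fun _ => ℕ) (j10_188) (j10_189) (Nat.ble 189 b)) (Bool.rec (motive := fun _ => ℕ) (j10_190) (j10_191) (Nat.ble 191 b)) (Nat.ble 190 b)) (Nat.ble 188 b)) (Nat.ble 184 b)) (Nat.ble 176 b)) (Nat.ble 160 b)) (Bool.rec (motive := fun _ => ℕ) (Bool.rec (motive := fun _ => ℕ) (Bool.rec (motive := fun _ => ℕ) (Bool.rec (motive := fun _ => ℕ) (Bool.rec (motive := fun _ => ℕ) (Bool.rec (motive := fun _ => ℕ) (j10_192) (j10_193) (Nat.ble 193 b)) (Bool.rec (motive := fun _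 => ℕ) (j10_194) (j10_195) (Nat.ble 195 b)) (Nat.ble 194 b)) (Bool.rec (motive := fun _ => ℕ) (Bool.rec (motive := fun _ => ℕ) (j10_196) (j10_197) (Nat.ble 197 b)) (Bool.rec (motive := fun _ => ℕ) (j10_198) (j10_199) (Nat.ble 199 b)) (Nat.ble 198 b)) (Nat.ble 196 b)) (Bool.rec (motive := fun _ => ℕ) (Bool.rec (motive := fun _ => ℕ) (Bool.rec (motive := fun _ => ℕ) (j10_200) (j10_201) (Nat.ble 201 b)) (Bool.rec (motive := fun _ => ℕ) (j10_202) (j10_203) (Nat.ble 203 b)) (Nat.ble 202 b)) (Bool.rec (motive := fun _ => ℕ) (Bool.rec (motive := fun _ => ℕ) (j10_204) (j10_205) (Nat.ble 205 b)) (Bool.rec (motive := fun _ => ℕ) (j10_206) (j10_207) (Nat.ble 207 b)) (Nat.ble 206 b)) (Nat.ble 204 b)) (Nat.ble 200 b)) (Bool.rec (motive := fun _ => ℕ) (Bool.rec (motive := fun _ => ℕ) (Bool.rec (motive := fun _ => ℕ) (Bool.rec (motive := fun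 _ => ℕ) (j10_208) (j10_209) (Nat.ble 209 b)) (Bool.rec (motive := fun _ => ℕ) (j10_210) (j10_211) (Nat.ble 211 b)) (Nat.ble 210 b)) (Bool.rec (motive := fun _ => ℕ) (Bool.rec (motive := fun _ => ℕ) (j10_212) (j10_213) (Nat.ble 213 b)) (Bool.rec (motive := fun _ => ℕ) (j10_214) (j10_215) (Nat.ble 215 b)) (Nat.ble 214 b)) (Nat.ble 212 b)) (Bool.rec (motive := fun _ => ℕ) (Bool.rec (motive := fun _ => ℕ) (Bool.rec (motive := fun _ => ℕ) (j10_216) (j10_217) (Nat.ble 217 b)) (Bool.rec (motive := fun _ => ℕ) (j10_218) (j10_219) (Nat.ble 219 b)) (Nat.ble 218 b)) (Bool.rec (motive := fun _ => ℕ) (Bool.rec (motive := fun _ => ℕ) (j10_220) (j10_221) (Nat.ble 221 b)) (Bool.rec (motive := fun _ => ℕ) (j10_222) (j10_223) (Nat.ble 223 b)) (Nat.ble 222 b)) (Nat.ble 220 b)) (Nat.ble 216 b)) (Nat.ble 208 b)) (Bool.rec (motive := fun _ => ℕ) (Bool.rec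 (motive := fun _ => ℕ) (Bool.rec (motive := fun _ => ℕ) (Bool.rec (motive := fun _ => ℕ) (Bool.rec (motive := fun _ => ℕ) (j10_224) (j10_225) (Nat.ble 225 b)) (Bool.rec (motive := fun _ => ℕ) (j10_226) (j10_227) (Nat.ble 227 b)) (Nat.ble 226 b)) (Bool.rec (motive := fun _ => ℕ) (Bool.rec (motive := fun _ => ℕ) (j10_228) (j10_229) (Nat.ble 229 b)) (Bool.rec (motive := fun _ => ℕ) (j10_230) (j10_231) (Nat.ble 231 b)) (Nat.ble 230 b)) (Nat.ble 228 b)) (Bool.rec (motive := fun _ => ℕ) (Bool.rec (motive := fun _ => ℕ) (Bool.rec (motive := fun _ => ℕ) (j10_232) (j10_233) (Nat.ble 233 b)) (Bool.rec (motive := fun _ => ℕ) (j10_234) (j10_235) (Nat.ble 235 b)) (Nat.ble 234 b)) (Bool.rec (motive := fun _ => ℕ) (Bool.rec (motive := fun _ => ℕ) (j10_236) (j10_237) (Nat.ble 237 b)) (Bool.rec (motive := fun _ => ℕ) (j10_238) (j10_239) (Nat.ble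 239 b)) (Nat.ble 238 b)) (Nat.ble 236 b)) (Nat.ble 232 b)) (Bool.rec (motive := fun _ => ℕ) (Bool.rec (motive := fun _ => ℕ) (Bool.rec (motive := fun _ => ℕ) (Bool.rec (motive := fun _ => ℕ) (j10_240) (j10_241) (Nat.ble 241 b)) (Bool.rec (motive := fun _ => ℕ) (j10_242) (j10_243) (Nat.ble 243 b)) (Nat.ble 242 b)) (Bool.rec (motive := fun _ => ℕ) (Bool.rec (motive := fun _ => ℕ) (j10_244) (j10_245) (Nat.ble 245 b)) (Bool.rec (motive := fun _ => ℕ) (j10_246) (j10_247) (Nat.ble 247 b)) (Nat.ble 246 b)) (Nat.ble 244 b)) (Bool.rec (motive := fun _ => ℕ) (Bool.rec (motive := fun _ => ℕ) (Bool.rec (motive := fun _ => ℕ) (j10_248) (j10_249) (Nat.ble 249 b)) (Bool.rec (motive := fun _ => ℕ) (j10_250) (j10_251) (Nat.ble 251 b)) (Nat.ble 250 b)) (Bool.rec (motive := fun _ => ℕ) (Bool.rec (motive := fun _ => ℕ) (j10_252) (j10_253) (Nat.ble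 253 b)) (Bool.rec (motive := fun _ => ℕ) (j10_254) (j10_255) (Nat.ble 255 b)) (Nat.ble 254 b)) (Nat.ble 252 b)) (Nat.ble 248 b)) (Nat.ble 240 b)) (Nat.ble 224 b)) (Nat.ble 192 b)) (Nat.ble 128 b)) (Bool.rec (motive := fun _ => ℕ) (Bool.rec (motive := fun _ => ℕ) (Bool.rec (motive := fun _ => ℕ) (Bool.rec (motive := fun _ => ℕ) (Bool.rec (motive := fun _ => ℕ) (Bool.rec (motive := fun _ => ℕ) (Bool.rec (motive := fun _ => ℕ) (Bool.rec (motive := fun _ => ℕ) (j10_256) (j10_257) (Nat.ble 257 b)) (Bool.rec (motive := fun _ => ℕ) (j10_258) (j10_259) (Nat.ble 259 b)) (Nat.ble 258 b)) (Bool.rec (motive := fun _ => ℕ) (Bool.rec (motive := fun _ => ℕ) (j10_260) (j10_261) (Nat.ble 261 b)) (Bool.rec (motive := fun _ => ℕ) (j10_262) (j10_263) (Nat.ble 263 b)) (Nat.ble 262 b)) (Nat.ble 260 b)) (Bool.rec (motive := fun _ => ℕ) (Bool.rec (motive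 := fun _ => ℕ) (Bool.rec (motive := fun _ => ℕ) (j10_264) (j10_265) (Nat.ble 265 b)) (Bool.rec (motive := fun _ => ℕ) (j10_266) (0) (Nat.ble 267 b)) (Nat.ble 266 b)) (0) (Nat.ble 268 b)) (Nat.ble 264 b)) (0) (Nat.ble 272 b)) (0) (Nat.ble 288 b)) (0) (Nat.ble 320 b)) (0) (Nat.ble 384 b)) (Nat.ble 256 b))
noncomputable def ecol11 (b : ℕ) : ℕ := (Bool.rec (motive := fun _ => ℕ) (Bool.rec (motive := fun _ => ℕ) (Bool.rec (motive := fun _ => ℕ) (Bool.rec (motive := fun _ => ℕ) (Bool.rec (motive := fun _ => ℕ) (Bool.rec (motive := fun _ => ℕ) (Bool.rec (motive := fun _ => ℕ) (Bool.rec (motive := fun _ => ℕ) (Bool.rec (motive := fun _ => ℕ) (e11_0) (e11_1) (Nat.ble 1 b)) (Bool.rec (motive := fun _ => ℕ) (e11_2) (e11_3) (Nat.ble 3 b)) (Nat.ble 2 b)) (Bool.rec (motive := fun _ => ℕ) (Bool.rec (motive := fun _ => ℕ) (e11_4) (e11_5) (Nat.ble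 5 b)) (Bool.rec (motive := fun _ => ℕ) (e11_6) (e11_7) (Nat.ble 7 b)) (Nat.ble 6 b)) (Nat.ble 4 b)) (Bool.rec (motive := fun _ => ℕ) (Bool.rec (motive := fun _ => ℕ) (Bool.rec (motive := fun _ => ℕ) (e11_8) (e11_9) (Nat.ble 9 b)) (Bool.rec (motive := fun _ => ℕ) (e11_10) (e11_11) (Nat.ble 11 b)) (Nat.ble 10 b)) (Bool.rec (motive := fun _ => ℕ) (Bool.rec (motive := fun _ => ℕ) (e11_12) (e11_13) (Nat.ble 13 b)) (Bool.rec (motive := fun _ => ℕ) (e11_14) (e11_15) (Nat.ble 15 b)) (Nat.ble 14 b)) (Nat.ble 12 b)) (Nat.ble 8 b)) (Bool.rec (motive := fun _ => ℕ) (Bool.rec (motive := fun _ => ℕ) (Bool.rec (motive := fun _ => ℕ) (Bool.rec (motive := fun _ => ℕ) (e11_16) (e11_17) (Nat.ble 17 b)) (Bool.rec (motive := fun _ => ℕ) (e11_18) (e11_19) (Nat.ble 19 b)) (Nat.ble 18 b)) (Bool.rec (motive := fun _ => ℕ) (Bool.rec (motive := fun _ =>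 ℕ) (e11_20) (e11_21) (Nat.ble 21 b)) (Bool.rec (motive := fun _ => ℕ) (e11_22) (e11_23) (Nat.ble 23 b)) (Nat.ble 22 b)) (Nat.ble 20 b)) (Bool.rec (motive := fun _ => ℕ) (Bool.rec (motive := fun _ => ℕ) (Bool.rec (motive := fun _ => ℕ) (e11_24) (e11_25) (Nat.ble 25 b)) (Bool.rec (motive := fun _ => ℕ) (e11_26) (e11_27) (Nat.ble 27 b)) (Nat.ble 26 b)) (Bool.rec (motive := fun _ => ℕ) (Bool.rec (motive := fun _ => ℕ) (e11_28) (e11_29) (Nat.ble 29 b)) (Bool.rec (motive := fun _ => ℕ) (e11_30) (e11_31) (Nat.ble 31 b)) (Nat.ble 30 b)) (Nat.ble 28 b)) (Nat.ble 24 b)) (Nat.ble 16 b)) (Bool.rec (motive := fun _ => ℕ) (Bool.rec (motive := fun _ => ℕ) (Bool.rec (motive := fun _ => ℕ) (Bool.rec (motive := fun _ => ℕ) (Bool.rec (motive := fun _ => ℕ) (e11_32) (e11_33) (Nat.ble 33 b)) (Bool.rec (motive := fun _ => ℕ) (e11_34) (e11_35) (Nat.ble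 35 b)) (Nat.ble 34 b)) (Bool.rec (motive := fun _ => ℕ) (Bool.rec (motive := fun _ => ℕ) (e11_36) (e11_37) (Nat.ble 37 b)) (Bool.rec (motive := fun _ => ℕ) (e11_38) (e11_39) (Nat.ble 39 b)) (Nat.ble 38 b)) (Nat.ble 36 b)) (Bool.rec (motive := fun _ => ℕ) (Bool.rec (motive := fun _ => ℕ) (Bool.rec (motive := fun _ => ℕ) (e11_40) (e11_41) (Nat.ble 41 b)) (Bool.rec (motive := fun _ => ℕ) (e11_42) (e11_43) (Nat.ble 43 b)) (Nat.ble 42 b)) (Bool.rec (motive := fun _ => ℕ) (Bool.rec (motive := fun _ => ℕ) (e11_44) (e11_45) (Nat.ble 45 b)) (Bool.rec (motive := fun _ => ℕ) (e11_46) (e11_47) (Nat.ble 47 b)) (Nat.ble 46 b)) (Nat.ble 44 b)) (Nat.ble 40 b)) (Bool.rec (motive := fun _ => ℕ) (Bool.rec (motive := fun _ => ℕ) (Bool.rec (motive := fun _ => ℕ) (Bool.rec (motive := fun _ => ℕ) (e11_48) (e11_49) (Nat.ble 49 b)) (Bool.rec (motive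 := fun _ => ℕ) (e11_50) (e11_51) (Nat.ble 51 b)) (Nat.ble 50 b)) (Bool.rec (motive := fun _ => ℕ) (Bool.rec (motive := fun _ => ℕ) (e11_52) (e11_53) (Nat.ble 53 b)) (Bool.rec (motive := fun _ => ℕ) (e11_54) (e11_55) (Nat.ble 55 b)) (Nat.ble 54 b)) (Nat.ble 52 b)) (Bool.rec (motive := fun _ => ℕ) (Bool.rec (motive := fun _ => ℕ) (Bool.rec (motive := fun _ => ℕ) (e11_56) (e11_57) (Nat.ble 57 b)) (Bool.rec (motive := fun _ => ℕ) (e11_58) (e11_59) (Nat.ble 59 b)) (Nat.ble 58 b)) (Bool.rec (motive := fun _ => ℕ) (Bool.rec (motive := fun _ => ℕ) (e11_60) (e11_61) (Nat.ble 61 b)) (Bool.rec (motive := fun _ => ℕ) (e11_62) (e11_63) (Nat.ble 63 b)) (Nat.ble 62 b)) (Nat.ble 60 b)) (Nat.ble 56 b)) (Nat.ble 48 b)) (Nat.ble 32 b)) (Bool.rec (motive := fun _ => ℕ) (Bool.rec (motive := fun _ => ℕ) (Bool.rec (motive := fun _ => ℕ) (Bool.rec (motive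 := fun _ => ℕ) (Bool.rec (motive := fun _ => ℕ) (Bool.rec (motive := fun _ => ℕ) (e11_64) (e11_65) (Nat.ble 65 b)) (Bool.rec (motive := fun _ => ℕ) (e11_66) (e11_67) (Nat.ble 67 b)) (Nat.ble 66 b)) (Bool.rec (motive := fun _ => ℕ) (Bool.rec (motive := fun _ => ℕ) (e11_68) (e11_69) (Nat.ble 69 b)) (Bool.rec (motive := fun _ => ℕ) (e11_70) (e11_71) (Nat.ble 71 b)) (Nat.ble 70 b)) (Nat.ble 68 b)) (Bool.rec (motive := fun _ => ℕ) (Bool.rec (motive := fun _ => ℕ) (Bool.rec (motive := fun _ => ℕ) (e11_72) (e11_73) (Nat.ble 73 b)) (Bool.rec (motive := fun _ => ℕ) (e11_74) (e11_75) (Nat.ble 75 b)) (Nat.ble 74 b)) (Bool.rec (motive := fun _ => ℕ) (Bool.rec (motive := fun _ => ℕ) (e11_76) (e11_77) (Nat.ble 77 b)) (Bool.rec (motive := fun _ => ℕ) (e11_78) (e11_79) (Nat.ble 79 b)) (Nat.ble 78 b)) (Nat.ble 76 b)) (Nat.ble 72 b)) (Bool.rec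 (motive := fun _ => ℕ) (Bool.rec (motive := fun _ => ℕ) (Bool.rec (motive := fun _ => ℕ) (Bool.rec (motive := fun _ => ℕ) (e11_80) (e11_81) (Nat.ble 81 b)) (Bool.rec (motive := fun _ => ℕ) (e11_82) (e11_83) (Nat.ble 83 b)) (Nat.ble 82 b)) (Bool.rec (motive := fun _ => ℕ) (Bool.rec (motive := fun _ => ℕ) (e11_84) (e11_85) (Nat.ble 85 b)) (Bool.rec (motive := fun _ => ℕ) (e11_86) (e11_87) (Nat.ble 87 b)) (Nat.ble 86 b)) (Nat.ble 84 b)) (Bool.rec (motive := fun _ => ℕ) (Bool.rec (motive := fun _ => ℕ) (Bool.rec (motive := fun _ => ℕ) (e11_88) (e11_89) (Nat.ble 89 b)) (Bool.rec (motive := fun _ => ℕ) (e11_90) (e11_91) (Nat.ble 91 b)) (Nat.ble 90 b)) (Bool.rec (motive := fun _ => ℕ) (Bool.rec (motive := fun _ => ℕ) (e11_92) (e11_93) (Nat.ble 93 b)) (Bool.rec (motive := fun _ => ℕ) (e11_94) (e11_95) (Nat.ble 95 b)) (Nat.ble 94 b))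 (Nat.ble 92 b)) (Nat.ble 88 b)) (Nat.ble 80 b)) (Bool.rec (motive := fun _ => ℕ) (Bool.rec (motive := fun _ => ℕ) (Bool.rec (motive := fun _ => ℕ) (Bool.rec (motive := fun _ => ℕ) (Bool.rec (motive := fun _ => ℕ) (e11_96) (e11_97) (Nat.ble 97 b)) (Bool.rec (motive := fun _ => ℕ) (e11_98) (e11_99) (Nat.ble 99 b)) (Nat.ble 98 b)) (Bool.rec (motive := fun _ => ℕ) (Bool.rec (motive := fun _ => ℕ) (e11_100) (e11_101) (Nat.ble 101 b)) (Bool.rec (motive := fun _ => ℕ) (e11_102) (e11_103) (Nat.ble 103 b)) (Nat.ble 102 b)) (Nat.ble 100 b)) (Bool.rec (motive := fun _ => ℕ) (Bool.rec (motive := fun _ => ℕ) (Bool.rec (motive := fun _ => ℕ) (e11_104) (e11_105) (Nat.ble 105 b)) (Bool.rec (motive := fun _ => ℕ) (e11_106) (e11_107) (Nat.ble 107 b)) (Nat.ble 106 b)) (Bool.rec (motive := fun _ => ℕ) (Bool.rec (motive := fun _ => ℕ) (e11_108) (e11_109)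 (Nat.ble 109 b)) (Bool.rec (motive := fun _ => ℕ) (e11_110) (e11_111) (Nat.ble 111 b)) (Nat.ble 110 b)) (Nat.ble 108 b)) (Nat.ble 104 b)) (Bool.rec (motive := fun _ => ℕ) (Bool.rec (motive := fun _ => ℕ) (Bool.rec (motive := fun _ => ℕ) (Bool.rec (motive := fun _ => ℕ) (e11_112) (e11_113) (Nat.ble 113 b)) (Bool.rec (motive := fun _ => ℕ) (e11_114) (e11_115) (Nat.ble 115 b)) (Nat.ble 114 b)) (Bool.rec (motive := fun _ => ℕ) (Bool.rec (motive := fun _ => ℕ) (e11_116) (e11_117) (Nat.ble 117 b)) (Bool.rec (motive := fun _ => ℕ) (e11_118) (e11_119) (Nat.ble 119 b)) (Nat.ble 118 b)) (Nat.ble 116 b)) (Bool.rec (motive := fun _ => ℕ) (Bool.rec (motive := fun _ => ℕ) (Bool.rec (motive := fun _ => ℕ) (e11_120) (e11_121) (Nat.ble 121 b)) (Bool.rec (motive := fun _ => ℕ) (e11_122) (e11_123) (Nat.ble 123 b)) (Nat.ble 122 b)) (Bool.rec (motive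 := fun _ => ℕ) (Bool.rec (motive := fun _ => ℕ) (e11_124) (e11_125) (Nat.ble 125 b)) (Bool.rec (motive := fun _ => ℕ) (e11_126) (e11_127) (Nat.ble 127 b)) (Nat.ble 126 b)) (Nat.ble 124 b)) (Nat.ble 120 b)) (Nat.ble 112 b)) (Nat.ble 96 b)) (Nat.ble 64 b)) (Bool.rec (motive := fun _ => ℕ) (Bool.rec (motive := fun _ => ℕ) (Bool.rec (motive := fun _ => ℕ) (Bool.rec (motive := fun _ => ℕ) (Bool.rec (motive := fun _ => ℕ) (Bool.rec (motive := fun _ => ℕ) (Bool.rec (motive := fun _ => ℕ) (e11_128) (e11_129) (Nat.ble 129 b)) (Bool.rec (motive := fun _ => ℕ) (e11_130) (e11_131) (Nat.ble 131 b)) (Nat.ble 130 b)) (Bool.rec (motive := fun _ => ℕ) (Bool.rec (motive := fun _ => ℕ) (e11_132) (e11_133) (Nat.ble 133 b)) (Bool.rec (motive := fun _ => ℕ) (e11_134) (e11_135) (Nat.ble 135 b)) (Nat.ble 134 b)) (Nat.ble 132 b)) (Bool.rec (motive :=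 fun _ => ℕ) (Bool.rec (motive := fun _ => ℕ) (Bool.rec (motive := fun _ => ℕ) (e11_136) (e11_137) (Nat.ble 137 b)) (Bool.rec (motive := fun _ => ℕ) (e11_138) (e11_139) (Nat.ble 139 b)) (Nat.ble 138 b)) (Bool.rec (motive := fun _ => ℕ) (Bool.rec (motive := fun _ => ℕ) (e11_140) (e11_141) (Nat.ble 141 b)) (Bool.rec (motive := fun _ => ℕ) (e11_142) (e11_143) (Nat.ble 143 b)) (Nat.ble 142 b)) (Nat.ble 140 b)) (Nat.ble 136 b)) (Bool.rec (motive := fun _ => ℕ) (Bool.rec (motive := fun _ => ℕ) (Bool.rec (motive := fun _ => ℕ) (Bool.rec (motive := fun _ => ℕ) (e11_144) (e11_145) (Nat.ble 145 b)) (Bool.rec (motive := fun _ => ℕ) (e11_146) (e11_147) (Nat.ble 147 b)) (Nat.ble 146 b)) (Bool.rec (motive := fun _ => ℕ) (Bool.rec (motive := fun _ => ℕ) (e11_148) (e11_149) (Nat.ble 149 b)) (Bool.rec (motive := fun _ => ℕ) (e11_150) (e11_151)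 (Nat.ble 151 b)) (Nat.ble 150 b)) (Nat.ble 148 b)) (Bool.rec (motive := fun _ => ℕ) (Bool.rec (motive := fun _ => ℕ) (Bool.rec (motive := fun _ => ℕ) (e11_152) (e11_153) (Nat.ble 153 b)) (Bool.rec (motive := fun _ => ℕ) (e11_154) (e11_155) (Nat.ble 155 b)) (Nat.ble 154 b)) (Bool.rec (motive := fun _ => ℕ) (Bool.rec (motive := fun _ => ℕ) (e11_156) (e11_157) (Nat.ble 157 b)) (Bool.rec (motive := fun _ => ℕ) (e11_158) (e11_159) (Nat.ble 159 b)) (Nat.ble 158 b)) (Nat.ble 156 b)) (Nat.ble 152 b)) (Nat.ble 144 b)) (Bool.rec (motive := fun _ => ℕ) (Bool.rec (motive := fun _ => ℕ) (Bool.rec (motive := fun _ => ℕ) (Bool.rec (motive := fun _ => ℕ) (Bool.rec (motive := fun _ => ℕ) (e11_160) (e11_161) (Nat.ble 161 b)) (Bool.rec (motive := fun _ => ℕ) (e11_162) (e11_163) (Nat.ble 163 b)) (Nat.ble 162 b)) (Bool.rec (motive := fun _ => ℕ)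 (Bool.rec (motive := fun _ => ℕ) (e11_164) (e11_165) (Nat.ble 165 b)) (Bool.rec (motive := fun _ => ℕ) (e11_166) (e11_167) (Nat.ble 167 b)) (Nat.ble 166 b)) (Nat.ble 164 b)) (Bool.rec (motive := fun _ => ℕ) (Bool.rec (motive := fun _ => ℕ) (Bool.rec (motive := fun _ => ℕ) (e11_168) (e11_169) (Nat.ble 169 b)) (Bool.rec (motive := fun _ => ℕ) (e11_170) (e11_171) (Nat.ble 171 b)) (Nat.ble 170 b)) (Bool.rec (motive := fun _ => ℕ) (Bool.rec (motive := fun _ => ℕ) (e11_172) (e11_173) (Nat.ble 173 b)) (Bool.rec (motive := fun _ => ℕ) (e11_174) (e11_175) (Nat.ble 175 b)) (Nat.ble 174 b)) (Nat.ble 172 b)) (Nat.ble 168 b)) (Bool.rec (motive := fun _ => ℕ) (Bool.rec (motive := fun _ => ℕ) (Bool.rec (motive := fun _ => ℕ) (Bool.rec (motive := fun _ => ℕ) (e11_176) (e11_177) (Nat.ble 177 b)) (Bool.rec (motive := fun _ => ℕ) (e11_178) (e11_179)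 (Nat.ble 179 b)) (Nat.ble 178 b)) (Bool.rec (motive := fun _ => ℕ) (Bool.rec (motive := fun _ => ℕ) (e11_180) (e11_181) (Nat.ble 181 b)) (Bool.rec (motive := fun _ => ℕ) (e11_182) (e11_183) (Nat.ble 183 b)) (Nat.ble 182 b)) (Nat.ble 180 b)) (Bool.rec (motive := fun _ => ℕ) (Bool.rec (motive := fun _ => ℕ) (Bool.rec (motive := fun _ => ℕ) (e11_184) (e11_185) (Nat.ble 185 b)) (Bool.rec (motive := fun _ => ℕ) (e11_186) (e11_187) (Nat.ble 187 b)) (Nat.ble 186 b)) (Bool.rec (motive := fun _ => ℕ) (Bool.rec (motive := fun _ => ℕ) (e11_188) (e11_189) (Nat.ble 189 b)) (Bool.rec (motive := fun _ => ℕ) (e11_190) (e11_191) (Nat.ble 191 b)) (Nat.ble 190 b)) (Nat.ble 188 b)) (Nat.ble 184 b)) (Nat.ble 176 b)) (Nat.ble 160 b)) (Bool.rec (motive := fun _ => ℕ) (Bool.rec (motive := fun _ => ℕ) (Bool.rec (motive := fun _ => ℕ) (Bool.rec (motive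 := fun _ => ℕ) (Bool.rec (motive := fun _ => ℕ) (Bool.rec (motive := fun _ => ℕ) (e11_192) (e11_193) (Nat.ble 193 b)) (Bool.rec (motive := fun _ => ℕ) (e11_194) (e11_195) (Nat.ble 195 b)) (Nat.ble 194 b)) (Bool.rec (motive := fun _ => ℕ) (Bool.rec (motive := fun _ => ℕ) (e11_196) (e11_197) (Nat.ble 197 b)) (Bool.rec (motive := fun _ => ℕ) (e11_198) (e11_199) (Nat.ble 199 b)) (Nat.ble 198 b)) (Nat.ble 196 b)) (Bool.rec (motive := fun _ => ℕ) (Bool.rec (motive := fun _ => ℕ) (Bool.rec (motive := fun _ => ℕ) (e11_200) (e11_201) (Nat.ble 201 b)) (Bool.rec (motive := fun _ => ℕ) (e11_202) (e11_203) (Nat.ble 203 b)) (Nat.ble 202 b)) (Bool.rec (motive := fun _ => ℕ) (Bool.rec (motive := fun _ => ℕ) (e11_204) (e11_205) (Nat.ble 205 b)) (Bool.rec (motive := fun _ => ℕ) (e11_206) (e11_207) (Nat.ble 207 b)) (Nat.ble 206 b)) (Nat.ble 204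 b)) (Nat.ble 200 b)) (Bool.rec (motive := fun _ => ℕ) (Bool.rec (motive := fun _ => ℕ) (Bool.rec (motive := fun _ => ℕ) (Bool.rec (motive := fun _ => ℕ) (e11_208) (e11_209) (Nat.ble 209 b)) (Bool.rec (motive := fun _ => ℕ) (e11_210) (e11_211) (Nat.ble 211 b)) (Nat.ble 210 b)) (Bool.rec (motive := fun _ => ℕ) (Bool.rec (motive := fun _ => ℕ) (e11_212) (e11_213) (Nat.ble 213 b)) (Bool.rec (motive := fun _ => ℕ) (e11_214) (e11_215) (Nat.ble 215 b)) (Nat.ble 214 b)) (Nat.ble 212 b)) (Bool.rec (motive := fun _ => ℕ) (Bool.rec (motive := fun _ => ℕ) (Bool.rec (motive := fun _ => ℕ) (e11_216) (e11_217) (Nat.ble 217 b)) (Bool.rec (motive := fun _ => ℕ) (e11_218) (e11_219) (Nat.ble 219 b)) (Nat.ble 218 b)) (Bool.rec (motive := fun _ => ℕ) (Bool.rec (motive := fun _ => ℕ) (e11_220) (e11_221) (Nat.ble 221 b)) (Bool.rec (motive := fun _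 => ℕ) (e11_222) (e11_223) (Nat.ble 223 b)) (Nat.ble 222 b)) (Nat.ble 220 b)) (Nat.ble 216 b)) (Nat.ble 208 b)) (Bool.rec (motive := fun _ => ℕ) (Bool.rec (motive := fun _ => ℕ) (Bool.rec (motive := fun _ => ℕ) (Bool.rec (motive := fun _ => ℕ) (Bool.rec (motive := fun _ => ℕ) (e11_224) (e11_225) (Nat.ble 225 b)) (Bool.rec (motive := fun _ => ℕ) (e11_226) (e11_227) (Nat.ble 227 b)) (Nat.ble 226 b)) (Bool.rec (motive := fun _ => ℕ) (Bool.rec (motive := fun _ => ℕ) (e11_228) (e11_229) (Nat.ble 229 b)) (Bool.rec (motive := fun _ => ℕ) (e11_230) (e11_231) (Nat.ble 231 b)) (Nat.ble 230 b)) (Nat.ble 228 b)) (Bool.rec (motive := fun _ => ℕ) (Bool.rec (motive := fun _ => ℕ) (Bool.rec (motive := fun _ => ℕ) (e11_232) (e11_233) (Nat.ble 233 b)) (Bool.rec (motive := fun _ => ℕ) (e11_234) (e11_235) (Nat.ble 235 b)) (Nat.ble 234 b)) (Bool.rec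 (motive := fun _ => ℕ) (Bool.rec (motive := fun _ => ℕ) (e11_236) (e11_237) (Nat.ble 237 b)) (Bool.rec (motive := fun _ => ℕ) (e11_238) (e11_239) (Nat.ble 239 b)) (Nat.ble 238 b)) (Nat.ble 236 b)) (Nat.ble 232 b)) (Bool.rec (motive := fun _ => ℕ) (Bool.rec (motive := fun _ => ℕ) (Bool.rec (motive := fun _ => ℕ) (Bool.rec (motive := fun _ => ℕ) (e11_240) (e11_241) (Nat.ble 241 b)) (Bool.rec (motive := fun _ => ℕ) (e11_242) (e11_243) (Nat.ble 243 b)) (Nat.ble 242 b)) (Bool.rec (motive := fun _ => ℕ) (Bool.rec (motive := fun _ => ℕ) (e11_244) (e11_245) (Nat.ble 245 b)) (Bool.rec (motive := fun _ => ℕ) (e11_246) (e11_247) (Nat.ble 247 b)) (Nat.ble 246 b)) (Nat.ble 244 b)) (Bool.rec (motive := fun _ => ℕ) (Bool.rec (motive := fun _ => ℕ) (Bool.rec (motive := fun _ => ℕ) (e11_248) (e11_249) (Nat.ble 249 b)) (Bool.rec (motive := fun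 _ => ℕ) (e11_250) (e11_251) (Nat.ble 251 b)) (Nat.ble 250 b)) (Bool.rec (motive := fun _ => ℕ) (Bool.rec (motive := fun _ => ℕ) (e11_252) (e11_253) (Nat.ble 253 b)) (Bool.rec (motive := fun _ => ℕ) (e11_254) (e11_255) (Nat.ble 255 b)) (Nat.ble 254 b)) (Nat.ble 252 b)) (Nat.ble 248 b)) (Nat.ble 240 b)) (Nat.ble 224 b)) (Nat.ble 192 b)) (Nat.ble 128 b)) (Bool.rec (motive := fun _ => ℕ) (Bool.rec (motive := fun _ => ℕ) (Bool.rec (motive := fun _ => ℕ) (Bool.rec (motive := fun _ => ℕ) (Bool.rec (motive := fun _ => ℕ) (Bool.rec (motive := fun _ => ℕ) (Bool.rec (motive := fun _ => ℕ) (Bool.rec (motive := fun _ => ℕ) (e11_256) (e11_257) (Nat.ble 257 b)) (Bool.rec (motive := fun _ => ℕ) (e11_258) (e11_259) (Nat.ble 259 b)) (Nat.ble 258 b)) (Bool.rec (motive := fun _ => ℕ) (Bool.rec (motive := fun _ => ℕ) (e11_260) (e11_261) (Nat.ble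 261 b)) (Bool.rec (motive := fun _ => ℕ) (e11_262) (e11_263) (Nat.ble 263 b)) (Nat.ble 262 b)) (Nat.ble 260 b)) (Bool.rec (motive := fun _ => ℕ) (Bool.rec (motive := fun _ => ℕ) (Bool.rec (motive := fun _ => ℕ) (e11_264) (e11_265) (Nat.ble 265 b)) (Bool.rec (motive := fun _ => ℕ) (e11_266) (0) (Nat.ble 267 b)) (Nat.ble 266 b)) (0) (Nat.ble 268 b)) (Nat.ble 264 b)) (0) (Nat.ble 272 b)) (0) (Nat.ble 288 b)) (0) (Nat.ble 320 b)) (0) (Nat.ble 384 b)) (Nat.ble 256 b))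
noncomputable def jcol11 (b : ℕ) : ℕ := (Bool.rec (motive := fun _ => ℕ) (Bool.rec (motive := fun _ => ℕ) (Bool.rec (motive := fun _ => ℕ) (Bool.rec (motive := fun _ => ℕ) (Bool.rec (motive := fun _ => ℕ) (Bool.rec (motive := fun _ => ℕ) (Bool.rec (motive := fun _ => ℕ) (Bool.rec (motive := fun _ => ℕ) (Bool.rec (motive := fun _ => ℕ) (j11_0) (j11_1) (Nat.ble 1 b)) (Bool.rec (motive := fun _ => ℕ) (j11_2) (j11_3) (Nat.ble 3 b)) (Nat.ble 2 b)) (Bool.rec (motive := fun _ => ℕ) (Bool.rec (motive := fun _ => ℕ) (j11_4) (j11_5) (Nat.ble 5 b)) (Bool.rec (motive := fun _ => ℕ) (j11_6) (j11_7) (Nat.ble 7 b)) (Nat.ble 6 b)) (Nat.ble 4 b)) (Bool.rec (motive := fun _ => ℕ) (Bool.rec (motive := fun _ => ℕ) (Bool.rec (motive := fun _ => ℕ) (j11_8) (j11_9) (Nat.ble 9 b)) (Bool.rec (motive := fun _ => ℕ) (j11_10) (j11_11) (Nat.ble 11 b)) (Nat.ble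 10 b)) (Bool.rec (motive := fun _ => ℕ) (Bool.rec (motive := fun _ => ℕ) (j11_12) (j11_13) (Nat.ble 13 b)) (Bool.rec (motive := fun _ => ℕ) (j11_14) (j11_15) (Nat.ble 15 b)) (Nat.ble 14 b)) (Nat.ble 12 b)) (Nat.ble 8 b)) (Bool.rec (motive := fun _ => ℕ) (Bool.rec (motive := fun _ => ℕ) (Bool.rec (motive := fun _ => ℕ) (Bool.rec (motive := fun _ => ℕ) (j11_16) (j11_17) (Nat.ble 17 b)) (Bool.rec (motive := fun _ => ℕ) (j11_18) (j11_19) (Nat.ble 19 b)) (Nat.ble 18 b)) (Bool.rec (motive := fun _ => ℕ) (Bool.rec (motive := fun _ => ℕ) (j11_20) (j11_21) (Nat.ble 21 b)) (Bool.rec (motive := fun _ => ℕ) (j11_22) (j11_23) (Nat.ble 23 b)) (Nat.ble 22 b)) (Nat.ble 20 b)) (Bool.rec (motive := fun _ => ℕ) (Bool.rec (motive := fun _ => ℕ) (Bool.rec (motive := fun _ => ℕ) (j11_24) (j11_25) (Nat.ble 25 b)) (Bool.rec (motive := fun _ => ℕ) (j11_26)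 (j11_27) (Nat.ble 27 b)) (Nat.ble 26 b)) (Bool.rec (motive := fun _ => ℕ) (Bool.rec (motive := fun _ => ℕ) (j11_28) (j11_29) (Nat.ble 29 b)) (Bool.rec (motive := fun _ => ℕ) (j11_30) (j11_31) (Nat.ble 31 b)) (Nat.ble 30 b)) (Nat.ble 28 b)) (Nat.ble 24 b)) (Nat.ble 16 b)) (Bool.rec (motive := fun _ => ℕ) (Bool.rec (motive := fun _ => ℕ) (Bool.rec (motive := fun _ => ℕ) (Bool.rec (motive := fun _ => ℕ) (Bool.rec (motive := fun _ => ℕ) (j11_32) (j11_33) (Nat.ble 33 b)) (Bool.rec (motive := fun _ => ℕ) (j11_34) (j11_35) (Nat.ble 35 b)) (Nat.ble 34 b)) (Bool.rec (motive := fun _ => ℕ) (Bool.rec (motive := fun _ => ℕ) (j11_36) (j11_37) (Nat.ble 37 b)) (Bool.rec (motive := fun _ => ℕ) (j11_38) (j11_39) (Nat.ble 39 b)) (Nat.ble 38 b)) (Nat.ble 36 b)) (Bool.rec (motive := fun _ => ℕ) (Bool.rec (motive := fun _ => ℕ) (Bool.rec (motive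 := fun _ => ℕ) (j11_40) (j11_41) (Nat.ble 41 b)) (Bool.rec (motive := fun _ => ℕ) (j11_42) (j11_43) (Nat.ble 43 b)) (Nat.ble 42 b)) (Bool.rec (motive := fun _ => ℕ) (Bool.rec (motive := fun _ => ℕ) (j11_44) (j11_45) (Nat.ble 45 b)) (Bool.rec (motive := fun _ => ℕ) (j11_46) (j11_47) (Nat.ble 47 b)) (Nat.ble 46 b)) (Nat.ble 44 b)) (Nat.ble 40 b)) (Bool.rec (motive := fun _ => ℕ) (Bool.rec (motive := fun _ => ℕ) (Bool.rec (motive := fun _ => ℕ) (Bool.rec (motive := fun _ => ℕ) (j11_48) (j11_49) (Nat.ble 49 b)) (Bool.rec (motive := fun _ => ℕ) (j11_50) (j11_51) (Nat.ble 51 b)) (Nat.ble 50 b)) (Bool.rec (motive := fun _ => ℕ) (Bool.rec (motive := fun _ => ℕ) (j11_52) (j11_53) (Nat.ble 53 b)) (Bool.rec (motive := fun _ => ℕ) (j11_54) (j11_55) (Nat.ble 55 b)) (Nat.ble 54 b)) (Nat.ble 52 b)) (Bool.rec (motive := fun _ => ℕ) (Bool.rec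 (motive := fun _ => ℕ) (Bool.rec (motive := fun _ => ℕ) (j11_56) (j11_57) (Nat.ble 57 b)) (Bool.rec (motive := fun _ => ℕ) (j11_58) (j11_59) (Nat.ble 59 b)) (Nat.ble 58 b)) (Bool.rec (motive := fun _ => ℕ) (Bool.rec (motive := fun _ => ℕ) (j11_60) (j11_61) (Nat.ble 61 b)) (Bool.rec (motive := fun _ => ℕ) (j11_62) (j11_63) (Nat.ble 63 b)) (Nat.ble 62 b)) (Nat.ble 60 b)) (Nat.ble 56 b)) (Nat.ble 48 b)) (Nat.ble 32 b)) (Bool.rec (motive := fun _ => ℕ) (Bool.rec (motive := fun _ => ℕ) (Bool.rec (motive := fun _ => ℕ) (Bool.rec (motive := fun _ => ℕ) (Bool.rec (motive := fun _ => ℕ) (Bool.rec (motive := fun _ => ℕ) (j11_64) (j11_65) (Nat.ble 65 b)) (Bool.rec (motive := fun _ => ℕ) (j11_66) (j11_67) (Nat.ble 67 b)) (Nat.ble 66 b)) (Bool.rec (motive := fun _ => ℕ) (Bool.rec (motive := fun _ => ℕ) (j11_68) (j11_69) (Nat.ble 69 b)) (Bool.rec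 (motive := fun _ => ℕ) (j11_70) (j11_71) (Nat.ble 71 b)) (Nat.ble 70 b)) (Nat.ble 68 b)) (Bool.rec (motive := fun _ => ℕ) (Bool.rec (motive := fun _ => ℕ) (Bool.rec (motive := fun _ => ℕ) (j11_72) (j11_73) (Nat.ble 73 b)) (Bool.rec (motive := fun _ => ℕ) (j11_74) (j11_75) (Nat.ble 75 b)) (Nat.ble 74 b)) (Bool.rec (motive := fun _ => ℕ) (Bool.rec (motive := fun _ => ℕ) (j11_76) (j11_77) (Nat.ble 77 b)) (Bool.rec (motive := fun _ => ℕ) (j11_78) (j11_79) (Nat.ble 79 b)) (Nat.ble 78 b)) (Nat.ble 76 b)) (Nat.ble 72 b)) (Bool.rec (motive := fun _ => ℕ) (Bool.rec (motive := fun _ => ℕ) (Bool.rec (motive := fun _ => ℕ) (Bool.rec (motive := fun _ => ℕ) (j11_80) (j11_81) (Nat.ble 81 b)) (Bool.rec (motive := fun _ => ℕ) (j11_82) (j11_83) (Nat.ble 83 b)) (Nat.ble 82 b)) (Bool.rec (motive := fun _ => ℕ) (Bool.rec (motive := fun _ => ℕ) (j11_84)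 (j11_85) (Nat.ble 85 b)) (Bool.rec (motive := fun _ => ℕ) (j11_86) (j11_87) (Nat.ble 87 b)) (Nat.ble 86 b)) (Nat.ble 84 b)) (Bool.rec (motive := fun _ => ℕ) (Bool.rec (motive := fun _ => ℕ) (Bool.rec (motive := fun _ => ℕ) (j11_88) (j11_89) (Nat.ble 89 b)) (Bool.rec (motive := fun _ => ℕ) (j11_90) (j11_91) (Nat.ble 91 b)) (Nat.ble 90 b)) (Bool.rec (motive := fun _ => ℕ) (Bool.rec (motive := fun _ => ℕ) (j11_92) (j11_93) (Nat.ble 93 b)) (Bool.rec (motive := fun _ => ℕ) (j11_94) (j11_95) (Nat.ble 95 b)) (Nat.ble 94 b)) (Nat.ble 92 b)) (Nat.ble 88 b)) (Nat.ble 80 b)) (Bool.rec (motive := fun _ => ℕ) (Bool.rec (motive := fun _ => ℕ) (Bool.rec (motive := fun _ => ℕ) (Bool.rec (motive := fun _ => ℕ) (Bool.rec (motive := fun _ => ℕ) (j11_96) (j11_97) (Nat.ble 97 b)) (Bool.rec (motive := fun _ => ℕ) (j11_98) (j11_99) (Nat.ble 99 b))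 (Nat.ble 98 b)) (Bool.rec (motive := fun _ => ℕ) (Bool.rec (motive := fun _ => ℕ) (j11_100) (j11_101) (Nat.ble 101 b)) (Bool.rec (motive := fun _ => ℕ) (j11_102) (j11_103) (Nat.ble 103 b)) (Nat.ble 102 b)) (Nat.ble 100 b)) (Bool.rec (motive := fun _ => ℕ) (Bool.rec (motive := fun _ => ℕ) (Bool.rec (motive := fun _ => ℕ) (j11_104) (j11_105) (Nat.ble 105 b)) (Bool.rec (motive := fun _ => ℕ) (j11_106) (j11_107) (Nat.ble 107 b)) (Nat.ble 106 b)) (Bool.rec (motive := fun _ => ℕ) (Bool.rec (motive := fun _ => ℕ) (j11_108) (j11_109) (Nat.ble 109 b)) (Bool.rec (motive := fun _ => ℕ) (j11_110) (j11_111) (Nat.ble 111 b)) (Nat.ble 110 b)) (Nat.ble 108 b)) (Nat.ble 104 b)) (Bool.rec (motive := fun _ => ℕ) (Bool.rec (motive := fun _ => ℕ) (Bool.rec (motive := fun _ => ℕ) (Bool.rec (motive := fun _ => ℕ) (j11_112) (j11_113) (Nat.ble 113 b))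 (Bool.rec (motive := fun _ => ℕ) (j11_114) (j11_115) (Nat.ble 115 b)) (Nat.ble 114 b)) (Bool.rec (motive := fun _ => ℕ) (Bool.rec (motive := fun _ => ℕ) (j11_116) (j11_117) (Nat.ble 117 b)) (Bool.rec (motive := fun _ => ℕ) (j11_118) (j11_119) (Nat.ble 119 b)) (Nat.ble 118 b)) (Nat.ble 116 b)) (Bool.rec (motive := fun _ => ℕ) (Bool.rec (motive := fun _ => ℕ) (Bool.rec (motive := fun _ => ℕ) (j11_120) (j11_121) (Nat.ble 121 b)) (Bool.rec (motive := fun _ => ℕ) (j11_122) (j11_123) (Nat.ble 123 b)) (Nat.ble 122 b)) (Bool.rec (motive := fun _ => ℕ) (Bool.rec (motive := fun _ => ℕ) (j11_124) (j11_125) (Nat.ble 125 b)) (Bool.rec (motive := fun _ => ℕ) (j11_126) (j11_127) (Nat.ble 127 b)) (Nat.ble 126 b)) (Nat.ble 124 b)) (Nat.ble 120 b)) (Nat.ble 112 b)) (Nat.ble 96 b)) (Nat.ble 64 b)) (Bool.rec (motive := fun _ => ℕ) (Bool.rec (motive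 := fun _ => ℕ) (Bool.rec (motive := fun _ => ℕ) (Bool.rec (motive := fun _ => ℕ) (Bool.rec (motive := fun _ => ℕ) (Bool.rec (motive := fun _ => ℕ) (Bool.rec (motive := fun _ => ℕ) (j11_128) (j11_129) (Nat.ble 129 b)) (Bool.rec (motive := fun _ => ℕ) (j11_130) (j11_131) (Nat.ble 131 b)) (Nat.ble 130 b)) (Bool.rec (motive := fun _ => ℕ) (Bool.rec (motive := fun _ => ℕ) (j11_132) (j11_133) (Nat.ble 133 b)) (Bool.rec (motive := fun _ => ℕ) (j11_134) (j11_135) (Nat.ble 135 b)) (Nat.ble 134 b)) (Nat.ble 132 b)) (Bool.rec (motive := fun _ => ℕ) (Bool.rec (motive := fun _ => ℕ) (Bool.rec (motive := fun _ => ℕ) (j11_136) (j11_137) (Nat.ble 137 b)) (Bool.rec (motive := fun _ => ℕ) (j11_138) (j11_139) (Nat.ble 139 b)) (Nat.ble 138 b)) (Bool.rec (motive := fun _ => ℕ) (Bool.rec (motive := fun _ => ℕ) (j11_140) (j11_141) (Nat.ble 141 b))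 (Bool.rec (motive := fun _ => ℕ) (j11_142) (j11_143) (Nat.ble 143 b)) (Nat.ble 142 b)) (Nat.ble 140 b)) (Nat.ble 136 b)) (Bool.rec (motive := fun _ => ℕ) (Bool.rec (motive := fun _ => ℕ) (Bool.rec (motive := fun _ => ℕ) (Bool.rec (motive := fun _ => ℕ) (j11_144) (j11_145) (Nat.ble 145 b)) (Bool.rec (motive := fun _ => ℕ) (j11_146) (j11_147) (Nat.ble 147 b)) (Nat.ble 146 b)) (Bool.rec (motive := fun _ => ℕ) (Bool.rec (motive := fun _ => ℕ) (j11_148) (j11_149) (Nat.ble 149 b)) (Bool.rec (motive := fun _ => ℕ) (j11_150) (j11_151) (Nat.ble 151 b)) (Nat.ble 150 b)) (Nat.ble 148 b)) (Bool.rec (motive := fun _ => ℕ) (Bool.rec (motive := fun _ => ℕ) (Bool.rec (motive := fun _ => ℕ) (j11_152) (j11_153) (Nat.ble 153 b)) (Bool.rec (motive := fun _ => ℕ) (j11_154) (j11_155) (Nat.ble 155 b)) (Nat.ble 154 b)) (Bool.rec (motive := fun _ =>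 ℕ) (Bool.rec (motive := fun _ => ℕ) (j11_156) (j11_157) (Nat.ble 157 b)) (Bool.rec (motive := fun _ => ℕ) (j11_158) (j11_159) (Nat.ble 159 b)) (Nat.ble 158 b)) (Nat.ble 156 b)) (Nat.ble 152 b)) (Nat.ble 144 b)) (Bool.rec (motive := fun _ => ℕ) (Bool.rec (motive := fun _ => ℕ) (Bool.rec (motive := fun _ => ℕ) (Bool.rec (motive := fun _ => ℕ) (Bool.rec (motive := fun _ => ℕ) (j11_160) (j11_161) (Nat.ble 161 b)) (Bool.rec (motive := fun _ => ℕ) (j11_162) (j11_163) (Nat.ble 163 b)) (Nat.ble 162 b)) (Bool.rec (motive := fun _ => ℕ) (Bool.rec (motive := fun _ => ℕ) (j11_164) (j11_165) (Nat.ble 165 b)) (Bool.rec (motive := fun _ => ℕ) (j11_166) (j11_167) (Nat.ble 167 b)) (Nat.ble 166 b)) (Nat.ble 164 b)) (Bool.rec (motive := fun _ => ℕ) (Bool.rec (motive := fun _ => ℕ) (Bool.rec (motive := fun _ => ℕ) (j11_168) (j11_169) (Nat.ble 169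 b)) (Bool.rec (motive := fun _ => ℕ) (j11_170) (j11_171) (Nat.ble 171 b)) (Nat.ble 170 b)) (Bool.rec (motive := fun _ => ℕ) (Bool.rec (motive := fun _ => ℕ) (j11_172) (j11_173) (Nat.ble 173 b)) (Bool.rec (motive := fun _ => ℕ) (j11_174) (j11_175) (Nat.ble 175 b)) (Nat.ble 174 b)) (Nat.ble 172 b)) (Nat.ble 168 b)) (Bool.rec (motive := fun _ => ℕ) (Bool.rec (motive := fun _ => ℕ) (Bool.rec (motive := fun _ => ℕ) (Bool.rec (motive := fun _ => ℕ) (j11_176) (j11_177) (Nat.ble 177 b)) (Bool.rec (motive := fun _ => ℕ) (j11_178) (j11_179) (Nat.ble 179 b)) (Nat.ble 178 b)) (Bool.rec (motive := fun _ => ℕ) (Bool.rec (motive := fun _ => ℕ) (j11_180) (j11_181) (Nat.ble 181 b)) (Bool.rec (motive := fun _ => ℕ) (j11_182) (j11_183) (Nat.ble 183 b)) (Nat.ble 182 b)) (Nat.ble 180 b)) (Bool.rec (motive := fun _ => ℕ) (Bool.rec (motive := fun _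 => ℕ) (Bool.rec (motive := fun _ => ℕ) (j11_184) (j11_185) (Nat.ble 185 b)) (Bool.rec (motive := fun _ => ℕ) (j11_186) (j11_187) (Nat.ble 187 b)) (Nat.ble 186 b)) (Bool.rec (motive := fun _ => ℕ) (Bool.rec (motive := fun _ => ℕ) (j11_188) (j11_189) (Nat.ble 189 b)) (Bool.rec (motive := fun _ => ℕ) (j11_190) (j11_191) (Nat.ble 191 b)) (Nat.ble 190 b)) (Nat.ble 188 b)) (Nat.ble 184 b)) (Nat.ble 176 b)) (Nat.ble 160 b)) (Bool.rec (motive := fun _ => ℕ) (Bool.rec (motive := fun _ => ℕ) (Bool.rec (motive := fun _ => ℕ) (Bool.rec (motive := fun _ => ℕ) (Bool.rec (motive := fun _ => ℕ) (Bool.rec (motive := fun _ => ℕ) (j11_192) (j11_193) (Nat.ble 193 b)) (Bool.rec (motive := fun _ => ℕ) (j11_194) (j11_195) (Nat.ble 195 b)) (Nat.ble 194 b)) (Bool.rec (motive := fun _ => ℕ) (Bool.rec (motive := fun _ => ℕ) (j11_196) (j11_197) (Nat.ble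 197 b)) (Bool.rec (motive := fun _ => ℕ) (j11_198) (j11_199) (Nat.ble 199 b)) (Nat.ble 198 b)) (Nat.ble 196 b)) (Bool.rec (motive := fun _ => ℕ) (Bool.rec (motive := fun _ => ℕ) (Bool.rec (motive := fun _ => ℕ) (j11_200) (j11_201) (Nat.ble 201 b)) (Bool.rec (motive := fun _ => ℕ) (j11_202) (j11_203) (Nat.ble 203 b)) (Nat.ble 202 b)) (Bool.rec (motive := fun _ => ℕ) (Bool.rec (motive := fun _ => ℕ) (j11_204) (j11_205) (Nat.ble 205 b)) (Bool.rec (motive := fun _ => ℕ) (j11_206) (j11_207) (Nat.ble 207 b)) (Nat.ble 206 b)) (Nat.ble 204 b)) (Nat.ble 200 b)) (Bool.rec (motive := fun _ => ℕ) (Bool.rec (motive := fun _ => ℕ) (Bool.rec (motive := fun _ => ℕ) (Bool.rec (motive := fun _ => ℕ) (j11_208) (j11_209) (Nat.ble 209 b)) (Bool.rec (motive := fun _ => ℕ) (j11_210) (j11_211) (Nat.ble 211 b)) (Nat.ble 210 b)) (Bool.rec (motive := fun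 _ => ℕ) (Bool.rec (motive := fun _ => ℕ) (j11_212) (j11_213) (Nat.ble 213 b)) (Bool.rec (motive := fun _ => ℕ) (j11_214) (j11_215) (Nat.ble 215 b)) (Nat.ble 214 b)) (Nat.ble 212 b)) (Bool.rec (motive := fun _ => ℕ) (Bool.rec (motive := fun _ => ℕ) (Bool.rec (motive := fun _ => ℕ) (j11_216) (j11_217) (Nat.ble 217 b)) (Bool.rec (motive := fun _ => ℕ) (j11_218) (j11_219) (Nat.ble 219 b)) (Nat.ble 218 b)) (Bool.rec (motive := fun _ => ℕ) (Bool.rec (motive := fun _ => ℕ) (j11_220) (j11_221) (Nat.ble 221 b)) (Bool.rec (motive := fun _ => ℕ) (j11_222) (j11_223) (Nat.ble 223 b)) (Nat.ble 222 b)) (Nat.ble 220 b)) (Nat.ble 216 b)) (Nat.ble 208 b)) (Bool.rec (motive := fun _ => ℕ) (Bool.rec (motive := fun _ => ℕ) (Bool.rec (motive := fun _ => ℕ) (Bool.rec (motive := fun _ => ℕ) (Bool.rec (motive := fun _ => ℕ) (j11_224) (j11_225) (Nat.ble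 225 b)) (Bool.rec (motive := fun _ => ℕ) (j11_226) (j11_227) (Nat.ble 227 b)) (Nat.ble 226 b)) (Bool.rec (motive := fun _ => ℕ) (Bool.rec (motive := fun _ => ℕ) (j11_228) (j11_229) (Nat.ble 229 b)) (Bool.rec (motive := fun _ => ℕ) (j11_230) (j11_231) (Nat.ble 231 b)) (Nat.ble 230 b)) (Nat.ble 228 b)) (Bool.rec (motive := fun _ => ℕ) (Bool.rec (motive := fun _ => ℕ) (Bool.rec (motive := fun _ => ℕ) (j11_232) (j11_233) (Nat.ble 233 b)) (Bool.rec (motive := fun _ => ℕ) (j11_234) (j11_235) (Nat.ble 235 b)) (Nat.ble 234 b)) (Bool.rec (motive := fun _ => ℕ) (Bool.rec (motive := fun _ => ℕ) (j11_236) (j11_237) (Nat.ble 237 b)) (Bool.rec (motive := fun _ => ℕ) (j11_238) (j11_239) (Nat.ble 239 b)) (Nat.ble 238 b)) (Nat.ble 236 b)) (Nat.ble 232 b)) (Bool.rec (motive := fun _ => ℕ) (Bool.rec (motive := fun _ => ℕ) (Bool.rec (motive := fun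 _ => ℕ) (Bool.rec (motive := fun _ => ℕ) (j11_240) (j11_241) (Nat.ble 241 b)) (Bool.rec (motive := fun _ => ℕ) (j11_242) (j11_243) (Nat.ble 243 b)) (Nat.ble 242 b)) (Bool.rec (motive := fun _ => ℕ) (Bool.rec (motive := fun _ => ℕ) (j11_244) (j11_245) (Nat.ble 245 b)) (Bool.rec (motive := fun _ => ℕ) (j11_246) (j11_247) (Nat.ble 247 b)) (Nat.ble 246 b)) (Nat.ble 244 b)) (Bool.rec (motive := fun _ => ℕ) (Bool.rec (motive := fun _ => ℕ) (Bool.rec (motive := fun _ => ℕ) (j11_248) (j11_249) (Nat.ble 249 b)) (Bool.rec (motive := fun _ => ℕ) (j11_250) (j11_251) (Nat.ble 251 b)) (Nat.ble 250 b)) (Bool.rec (motive := fun _ => ℕ) (Bool.rec (motive := fun _ => ℕ) (j11_252) (j11_253) (Nat.ble 253 b)) (Bool.rec (motive := fun _ => ℕ) (j11_254) (j11_255) (Nat.ble 255 b)) (Nat.ble 254 b)) (Nat.ble 252 b)) (Nat.ble 248 b)) (Nat.ble 240 b)) (Nat.ble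 224 b)) (Nat.ble 192 b)) (Nat.ble 128 b)) (Bool.rec (motive := fun _ => ℕ) (Bool.rec (motive := fun _ => ℕ) (Bool.rec (motive := fun _ => ℕ) (Bool.rec (motive := fun _ => ℕ) (Bool.rec (motive := fun _ => ℕ) (Bool.rec (motive := fun _ => ℕ) (Bool.rec (motive := fun _ => ℕ) (Bool.rec (motive := fun _ => ℕ) (j11_256) (j11_257) (Nat.ble 257 b)) (Bool.rec (motive := fun _ => ℕ) (j11_258) (j11_259) (Nat.ble 259 b)) (Nat.ble 258 b)) (Bool.rec (motive := fun _ => ℕ) (Bool.rec (motive := fun _ => ℕ) (j11_260) (j11_261) (Nat.ble 261 b)) (Bool.rec (motive := fun _ => ℕ) (j11_262) (j11_263) (Nat.ble 263 b)) (Nat.ble 262 b)) (Nat.ble 260 b)) (Bool.rec (motive := fun _ => ℕ) (Bool.rec (motive := fun _ => ℕ) (Bool.rec (motive := fun _ => ℕ) (j11_264) (j11_265) (Nat.ble 265 b)) (Bool.rec (motive := fun _ => ℕ) (j11_266) (0) (Nat.ble 267 b))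 (Nat.ble 266 b)) (0) (Nat.ble 268 b)) (Nat.ble 264 b)) (0) (Nat.ble 272 b)) (0) (Nat.ble 288 b)) (0) (Nat.ble 320 b)) (0) (Nat.ble 384 b)) (Nat.ble 256 b))
noncomputable def ecol12 (b : ℕ) : ℕ := (Bool.rec (motive := fun _ => ℕ) (Bool.rec (motive := fun _ => ℕ) (Bool.rec (motive := fun _ => ℕ) (Bool.rec (motive := fun _ => ℕ) (Bool.rec (motive := fun _ => ℕ) (Bool.rec (motive := fun _ => ℕ) (Bool.rec (motive := fun _ => ℕ) (Bool.rec (motive := fun _ => ℕ) (Bool.rec (motive := fun _ => ℕ) (e12_0) (e12_1) (Nat.ble 1 b)) (Bool.rec (motive := fun _ => ℕ) (e12_2) (e12_3) (Nat.ble 3 b)) (Nat.ble 2 b)) (Bool.rec (motive := fun _ => ℕ) (Bool.rec (motive := fun _ => ℕ) (e12_4) (e12_5) (Nat.ble 5 b)) (Bool.rec (motive := fun _ => ℕ) (e12_6) (e12_7) (Nat.ble 7 b)) (Nat.ble 6 b)) (Nat.ble 4 b)) (Bool.rec (motive := fun _ => ℕ) (Bool.rec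 (motive := fun _ => ℕ) (Bool.rec (motive := fun _ => ℕ) (e12_8) (e12_9) (Nat.ble 9 b)) (Bool.rec (motive := fun _ => ℕ) (e12_10) (e12_11) (Nat.ble 11 b)) (Nat.ble 10 b)) (Bool.rec (motive := fun _ => ℕ) (Bool.rec (motive := fun _ => ℕ) (e12_12) (e12_13) (Nat.ble 13 b)) (Bool.rec (motive := fun _ => ℕ) (e12_14) (e12_15) (Nat.ble 15 b)) (Nat.ble 14 b)) (Nat.ble 12 b)) (Nat.ble 8 b)) (Bool.rec (motive := fun _ => ℕ) (Bool.rec (motive := fun _ => ℕ) (Bool.rec (motive := fun _ => ℕ) (Bool.rec (motive := fun _ => ℕ) (e12_16) (e12_17) (Nat.ble 17 b)) (Bool.rec (motive := fun _ => ℕ) (e12_18) (e12_19) (Nat.ble 19 b)) (Nat.ble 18 b)) (Bool.rec (motive := fun _ => ℕ) (Bool.rec (motive := fun _ => ℕ) (e12_20) (e12_21) (Nat.ble 21 b)) (Bool.rec (motive := fun _ => ℕ) (e12_22) (e12_23) (Nat.ble 23 b)) (Nat.ble 22 b)) (Nat.ble 20 b)) (Bool.rec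 (motive := fun _ => ℕ) (Bool.rec (motive := fun _ => ℕ) (Bool.rec (motive := fun _ => ℕ) (e12_24) (e12_25) (Nat.ble 25 b)) (Bool.rec (motive := fun _ => ℕ) (e12_26) (e12_27) (Nat.ble 27 b)) (Nat.ble 26 b)) (Bool.rec (motive := fun _ => ℕ) (Bool.rec (motive := fun _ => ℕ) (e12_28) (e12_29) (Nat.ble 29 b)) (Bool.rec (motive := fun _ => ℕ) (e12_30) (e12_31) (Nat.ble 31 b)) (Nat.ble 30 b)) (Nat.ble 28 b)) (Nat.ble 24 b)) (Nat.ble 16 b)) (Bool.rec (motive := fun _ => ℕ) (Bool.rec (motive := fun _ => ℕ) (Bool.rec (motive := fun _ => ℕ) (Bool.rec (motive := fun _ => ℕ) (Bool.rec (motive := fun _ => ℕ) (e12_32) (e12_33) (Nat.ble 33 b)) (Bool.rec (motive := fun _ => ℕ) (e12_34) (e12_35) (Nat.ble 35 b)) (Nat.ble 34 b)) (Bool.rec (motive := fun _ => ℕ) (Bool.rec (motive := fun _ => ℕ) (e12_36) (e12_37) (Nat.ble 37 b)) (Bool.rec (motive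 := fun _ => ℕ) (e12_38) (e12_39) (Nat.ble 39 b)) (Nat.ble 38 b)) (Nat.ble 36 b)) (Bool.rec (motive := fun _ => ℕ) (Bool.rec (motive := fun _ => ℕ) (Bool.rec (motive := fun _ => ℕ) (e12_40) (e12_41) (Nat.ble 41 b)) (Bool.rec (motive := fun _ => ℕ) (e12_42) (e12_43) (Nat.ble 43 b)) (Nat.ble 42 b)) (Bool.rec (motive := fun _ => ℕ) (Bool.rec (motive := fun _ => ℕ) (e12_44) (e12_45) (Nat.ble 45 b)) (Bool.rec (motive := fun _ => ℕ) (e12_46) (e12_47) (Nat.ble 47 b)) (Nat.ble 46 b)) (Nat.ble 44 b)) (Nat.ble 40 b)) (Bool.rec (motive := fun _ => ℕ) (Bool.rec (motive := fun _ => ℕ) (Bool.rec (motive := fun _ => ℕ) (Bool.rec (motive := fun _ => ℕ) (e12_48) (e12_49) (Nat.ble 49 b)) (Bool.rec (motive := fun _ => ℕ) (e12_50) (e12_51) (Nat.ble 51 b)) (Nat.ble 50 b)) (Bool.rec (motive := fun _ => ℕ) (Bool.rec (motive := fun _ => ℕ) (e12_52) (e12_53)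 (Nat.ble 53 b)) (Bool.rec (motive := fun _ => ℕ) (e12_54) (e12_55) (Nat.ble 55 b)) (Nat.ble 54 b)) (Nat.ble 52 b)) (Bool.rec (motive := fun _ => ℕ) (Bool.rec (motive := fun _ => ℕ) (Bool.rec (motive := fun _ => ℕ) (e12_56) (e12_57) (Nat.ble 57 b)) (Bool.rec (motive := fun _ => ℕ) (e12_58) (e12_59) (Nat.ble 59 b)) (Nat.ble 58 b)) (Bool.rec (motive := fun _ => ℕ) (Bool.rec (motive := fun _ => ℕ) (e12_60) (e12_61) (Nat.ble 61 b)) (Bool.rec (motive := fun _ => ℕ) (e12_62) (e12_63) (Nat.ble 63 b)) (Nat.ble 62 b)) (Nat.ble 60 b)) (Nat.ble 56 b)) (Nat.ble 48 b)) (Nat.ble 32 b)) (Bool.rec (motive := fun _ => ℕ) (Bool.rec (motive := fun _ => ℕ) (Bool.rec (motive := fun _ => ℕ) (Bool.rec (motive := fun _ => ℕ) (Bool.rec (motive := fun _ => ℕ) (Bool.rec (motive := fun _ => ℕ) (e12_64) (e12_65) (Nat.ble 65 b)) (Bool.rec (motive := fun _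 => ℕ) (e12_66) (e12_67) (Nat.ble 67 b)) (Nat.ble 66 b)) (Bool.rec (motive := fun _ => ℕ) (Bool.rec (motive := fun _ => ℕ) (e12_68) (e12_69) (Nat.ble 69 b)) (Bool.rec (motive := fun _ => ℕ) (e12_70) (e12_71) (Nat.ble 71 b)) (Nat.ble 70 b)) (Nat.ble 68 b)) (Bool.rec (motive := fun _ => ℕ) (Bool.rec (motive := fun _ => ℕ) (Bool.rec (motive := fun _ => ℕ) (e12_72) (e12_73) (Nat.ble 73 b)) (Bool.rec (motive := fun _ => ℕ) (e12_74) (e12_75) (Nat.ble 75 b)) (Nat.ble 74 b)) (Bool.rec (motive := fun _ => ℕ) (Bool.rec (motive := fun _ => ℕ) (e12_76) (e12_77) (Nat.ble 77 b)) (Bool.rec (motive := fun _ => ℕ) (e12_78) (e12_79) (Nat.ble 79 b)) (Nat.ble 78 b)) (Nat.ble 76 b)) (Nat.ble 72 b)) (Bool.rec (motive := fun _ => ℕ) (Bool.rec (motive := fun _ => ℕ) (Bool.rec (motive := fun _ => ℕ) (Bool.rec (motive := fun _ => ℕ) (e12_80) (e12_81) (Nat.ble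 81 b)) (Bool.rec (motive := fun _ => ℕ) (e12_82) (e12_83) (Nat.ble 83 b)) (Nat.ble 82 b)) (Bool.rec (motive := fun _ => ℕ) (Bool.rec (motive := fun _ => ℕ) (e12_84) (e12_85) (Nat.ble 85 b)) (Bool.rec (motive := fun _ => ℕ) (e12_86) (e12_87) (Nat.ble 87 b)) (Nat.ble 86 b)) (Nat.ble 84 b)) (Bool.rec (motive := fun _ => ℕ) (Bool.rec (motive := fun _ => ℕ) (Bool.rec (motive := fun _ => ℕ) (e12_88) (e12_89) (Nat.ble 89 b)) (Bool.rec (motive := fun _ => ℕ) (e12_90) (e12_91) (Nat.ble 91 b)) (Nat.ble 90 b)) (Bool.rec (motive := fun _ => ℕ) (Bool.rec (motive := fun _ => ℕ) (e12_92) (e12_93) (Nat.ble 93 b)) (Bool.rec (motive := fun _ => ℕ) (e12_94) (e12_95) (Nat.ble 95 b)) (Nat.ble 94 b)) (Nat.ble 92 b)) (Nat.ble 88 b)) (Nat.ble 80 b)) (Bool.rec (motive := fun _ => ℕ) (Bool.rec (motive := fun _ => ℕ) (Bool.rec (motive := fun _ => ℕ) (Bool.rec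 (motive := fun _ => ℕ) (Bool.rec (motive := fun _ => ℕ) (e12_96) (e12_97) (Nat.ble 97 b)) (Bool.rec (motive := fun _ => ℕ) (e12_98) (e12_99) (Nat.ble 99 b)) (Nat.ble 98 b)) (Bool.rec (motive := fun _ => ℕ) (Bool.rec (motive := fun _ => ℕ) (e12_100) (e12_101) (Nat.ble 101 b)) (Bool.rec (motive := fun _ => ℕ) (e12_102) (e12_103) (Nat.ble 103 b)) (Nat.ble 102 b)) (Nat.ble 100 b)) (Bool.rec (motive := fun _ => ℕ) (Bool.rec (motive := fun _ => ℕ) (Bool.rec (motive := fun _ => ℕ) (e12_104) (e12_105) (Nat.ble 105 b)) (Bool.rec (motive := fun _ => ℕ) (e12_106) (e12_107) (Nat.ble 107 b)) (Nat.ble 106 b)) (Bool.rec (motive := fun _ => ℕ) (Bool.rec (motive := fun _ => ℕ) (e12_108) (e12_109) (Nat.ble 109 b)) (Bool.rec (motive := fun _ => ℕ) (e12_110) (e12_111) (Nat.ble 111 b)) (Nat.ble 110 b)) (Nat.ble 108 b)) (Nat.ble 104 b)) (Bool.rec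 (motive := fun _ => ℕ) (Bool.rec (motive := fun _ => ℕ) (Bool.rec (motive := fun _ => ℕ) (Bool.rec (motive := fun _ => ℕ) (e12_112) (e12_113) (Nat.ble 113 b)) (Bool.rec (motive := fun _ => ℕ) (e12_114) (e12_115) (Nat.ble 115 b)) (Nat.ble 114 b)) (Bool.rec (motive := fun _ => ℕ) (Bool.rec (motive := fun _ => ℕ) (e12_116) (e12_117) (Nat.ble 117 b)) (Bool.rec (motive := fun _ => ℕ) (e12_118) (e12_119) (Nat.ble 119 b)) (Nat.ble 118 b)) (Nat.ble 116 b)) (Bool.rec (motive := fun _ => ℕ) (Bool.rec (motive := fun _ => ℕ) (Bool.rec (motive := fun _ => ℕ) (e12_120) (e12_121) (Nat.ble 121 b)) (Bool.rec (motive := fun _ => ℕ) (e12_122) (e12_123) (Nat.ble 123 b)) (Nat.ble 122 b)) (Bool.rec (motive := fun _ => ℕ) (Bool.rec (motive := fun _ => ℕ) (e12_124) (e12_125) (Nat.ble 125 b)) (Bool.rec (motive := fun _ => ℕ) (e12_126) (e12_127) (Nat.ble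 127 b)) (Nat.ble 126 b)) (Nat.ble 124 b)) (Nat.ble 120 b)) (Nat.ble 112 b)) (Nat.ble 96 b)) (Nat.ble 64 b)) (Bool.rec (motive := fun _ => ℕ) (Bool.rec (motive := fun _ => ℕ) (Bool.rec (motive := fun _ => ℕ) (Bool.rec (motive := fun _ => ℕ) (Bool.rec (motive := fun _ => ℕ) (Bool.rec (motive := fun _ => ℕ) (Bool.rec (motive := fun _ => ℕ) (e12_128) (e12_129) (Nat.ble 129 b)) (Bool.rec (motive := fun _ => ℕ) (e12_130) (e12_131) (Nat.ble 131 b)) (Nat.ble 130 b)) (Bool.rec (motive := fun _ => ℕ) (Bool.rec (motive := fun _ => ℕ) (e12_132) (e12_133) (Nat.ble 133 b)) (Bool.rec (motive := fun _ => ℕ) (e12_134) (e12_135) (Nat.ble 135 b)) (Nat.ble 134 b)) (Nat.ble 132 b)) (Bool.rec (motive := fun _ => ℕ) (Bool.rec (motive := fun _ => ℕ) (Bool.rec (motive := fun _ => ℕ) (e12_136) (e12_137) (Nat.ble 137 b)) (Bool.rec (motive := fun _ => ℕ)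 (e12_138) (e12_139) (Nat.ble 139 b)) (Nat.ble 138 b)) (Bool.rec (motive := fun _ => ℕ) (Bool.rec (motive := fun _ => ℕ) (e12_140) (e12_141) (Nat.ble 141 b)) (Bool.rec (motive := fun _ => ℕ) (e12_142) (e12_143) (Nat.ble 143 b)) (Nat.ble 142 b)) (Nat.ble 140 b)) (Nat.ble 136 b)) (Bool.rec (motive := fun _ => ℕ) (Bool.rec (motive := fun _ => ℕ) (Bool.rec (motive := fun _ => ℕ) (Bool.rec (motive := fun _ => ℕ) (e12_144) (e12_145) (Nat.ble 145 b)) (Bool.rec (motive := fun _ => ℕ) (e12_146) (e12_147) (Nat.ble 147 b)) (Nat.ble 146 b)) (Bool.rec (motive := fun _ => ℕ) (Bool.rec (motive := fun _ => ℕ) (e12_148) (e12_149) (Nat.ble 149 b)) (Bool.rec (motive := fun _ => ℕ) (e12_150) (e12_151) (Nat.ble 151 b)) (Nat.ble 150 b)) (Nat.ble 148 b)) (Bool.rec (motive := fun _ => ℕ) (Bool.rec (motive := fun _ => ℕ) (Bool.rec (motive := fun _ =>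 ℕ) (e12_152) (e12_153) (Nat.ble 153 b)) (Bool.rec (motive := fun _ => ℕ) (e12_154) (e12_155) (Nat.ble 155 b)) (Nat.ble 154 b)) (Bool.rec (motive := fun _ => ℕ) (Bool.rec (motive := fun _ => ℕ) (e12_156) (e12_157) (Nat.ble 157 b)) (Bool.rec (motive := fun _ => ℕ) (e12_158) (e12_159) (Nat.ble 159 b)) (Nat.ble 158 b)) (Nat.ble 156 b)) (Nat.ble 152 b)) (Nat.ble 144 b)) (Bool.rec (motive := fun _ => ℕ) (Bool.rec (motive := fun _ => ℕ) (Bool.rec (motive := fun _ => ℕ) (Bool.rec (motive := fun _ => ℕ) (Bool.rec (motive := fun _ => ℕ) (e12_160) (e12_161) (Nat.ble 161 b)) (Bool.rec (motive := fun _ => ℕ) (e12_162) (e12_163) (Nat.ble 163 b)) (Nat.ble 162 b)) (Bool.rec (motive := fun _ => ℕ) (Bool.rec (motive := fun _ => ℕ) (e12_164) (e12_165) (Nat.ble 165 b)) (Bool.rec (motive := fun _ => ℕ) (e12_166) (e12_167) (Nat.ble 167 b)) (Nat.ble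 166 b)) (Nat.ble 164 b)) (Bool.rec (motive := fun _ => ℕ) (Bool.rec (motive := fun _ => ℕ) (Bool.rec (motive := fun _ => ℕ) (e12_168) (e12_169) (Nat.ble 169 b)) (Bool.rec (motive := fun _ => ℕ) (e12_170) (e12_171) (Nat.ble 171 b)) (Nat.ble 170 b)) (Bool.rec (motive := fun _ => ℕ) (Bool.rec (motive := fun _ => ℕ) (e12_172) (e12_173) (Nat.ble 173 b)) (Bool.rec (motive := fun _ => ℕ) (e12_174) (e12_175) (Nat.ble 175 b)) (Nat.ble 174 b)) (Nat.ble 172 b)) (Nat.ble 168 b)) (Bool.rec (motive := fun _ => ℕ) (Bool.rec (motive := fun _ => ℕ) (Bool.rec (motive := fun _ => ℕ) (Bool.rec (motive := fun _ => ℕ) (e12_176) (e12_177) (Nat.ble 177 b)) (Bool.rec (motive := fun _ => ℕ) (e12_178) (e12_179) (Nat.ble 179 b)) (Nat.ble 178 b)) (Bool.rec (motive := fun _ => ℕ) (Bool.rec (motive := fun _ => ℕ) (e12_180) (e12_181) (Nat.ble 181 b)) (Bool.rec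 (motive := fun _ => ℕ) (e12_182) (e12_183) (Nat.ble 183 b)) (Nat.ble 182 b)) (Nat.ble 180 b)) (Bool.rec (motive := fun _ => ℕ) (Bool.rec (motive := fun _ => ℕ) (Bool.rec (motive := fun _ => ℕ) (e12_184) (e12_185) (Nat.ble 185 b)) (Bool.rec (motive := fun _ => ℕ) (e12_186) (e12_187) (Nat.ble 187 b)) (Nat.ble 186 b)) (Bool.rec (motive := fun _ => ℕ) (Bool.rec (motive := fun _ => ℕ) (e12_188) (e12_189) (Nat.ble 189 b)) (Bool.rec (motive := fun _ => ℕ) (e12_190) (e12_191) (Nat.ble 191 b)) (Nat.ble 190 b)) (Nat.ble 188 b)) (Nat.ble 184 b)) (Nat.ble 176 b)) (Nat.ble 160 b)) (Bool.rec (motive := fun _ => ℕ) (Bool.rec (motive := fun _ => ℕ) (Bool.rec (motive := fun _ => ℕ) (Bool.rec (motive := fun _ => ℕ) (Bool.rec (motive := fun _ => ℕ) (Bool.rec (motive := fun _ => ℕ) (e12_192) (e12_193) (Nat.ble 193 b)) (Bool.rec (motive := fun _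 => ℕ) (e12_194) (e12_195) (Nat.ble 195 b)) (Nat.ble 194 b)) (Bool.rec (motive := fun _ => ℕ) (Bool.rec (motive := fun _ => ℕ) (e12_196) (e12_197) (Nat.ble 197 b)) (Bool.rec (motive := fun _ => ℕ) (e12_198) (e12_199) (Nat.ble 199 b)) (Nat.ble 198 b)) (Nat.ble 196 b)) (Bool.rec (motive := fun _ => ℕ) (Bool.rec (motive := fun _ => ℕ) (Bool.rec (motive := fun _ => ℕ) (e12_200) (e12_201) (Nat.ble 201 b)) (Bool.rec (motive := fun _ => ℕ) (e12_202) (e12_203) (Nat.ble 203 b)) (Nat.ble 202 b)) (Bool.rec (motive := fun _ => ℕ) (Bool.rec (motive := fun _ => ℕ) (e12_204) (e12_205) (Nat.ble 205 b)) (Bool.rec (motive := fun _ => ℕ) (e12_206) (e12_207) (Nat.ble 207 b)) (Nat.ble 206 b)) (Nat.ble 204 b)) (Nat.ble 200 b)) (Bool.rec (motive := fun _ => ℕ) (Bool.rec (motive := fun _ => ℕ) (Bool.rec (motive := fun _ => ℕ) (Bool.rec (motive := fun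 _ => ℕ) (e12_208) (e12_209) (Nat.ble 209 b)) (Bool.rec (motive := fun _ => ℕ) (e12_210) (e12_211) (Nat.ble 211 b)) (Nat.ble 210 b)) (Bool.rec (motive := fun _ => ℕ) (Bool.rec (motive := fun _ => ℕ) (e12_212) (e12_213) (Nat.ble 213 b)) (Bool.rec (motive := fun _ => ℕ) (e12_214) (e12_215) (Nat.ble 215 b)) (Nat.ble 214 b)) (Nat.ble 212 b)) (Bool.rec (motive := fun _ => ℕ) (Bool.rec (motive := fun _ => ℕ) (Bool.rec (motive := fun _ => ℕ) (e12_216) (e12_217) (Nat.ble 217 b)) (Bool.rec (motive := fun _ => ℕ) (e12_218) (e12_219) (Nat.ble 219 b)) (Nat.ble 218 b)) (Bool.rec (motive := fun _ => ℕ) (Bool.rec (motive := fun _ => ℕ) (e12_220) (e12_221) (Nat.ble 221 b)) (Bool.rec (motive := fun _ => ℕ) (e12_222) (e12_223) (Nat.ble 223 b)) (Nat.ble 222 b)) (Nat.ble 220 b)) (Nat.ble 216 b)) (Nat.ble 208 b)) (Bool.rec (motive := fun _ => ℕ) (Bool.rec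 (motive := fun _ => ℕ) (Bool.rec (motive := fun _ => ℕ) (Bool.rec (motive := fun _ => ℕ) (Bool.rec (motive := fun _ => ℕ) (e12_224) (e12_225) (Nat.ble 225 b)) (Bool.rec (motive := fun _ => ℕ) (e12_226) (e12_227) (Nat.ble 227 b)) (Nat.ble 226 b)) (Bool.rec (motive := fun _ => ℕ) (Bool.rec (motive := fun _ => ℕ) (e12_228) (e12_229) (Nat.ble 229 b)) (Bool.rec (motive := fun _ => ℕ) (e12_230) (e12_231) (Nat.ble 231 b)) (Nat.ble 230 b)) (Nat.ble 228 b)) (Bool.rec (motive := fun _ => ℕ) (Bool.rec (motive := fun _ => ℕ) (Bool.rec (motive := fun _ => ℕ) (e12_232) (e12_233) (Nat.ble 233 b)) (Bool.rec (motive := fun _ => ℕ) (e12_234) (e12_235) (Nat.ble 235 b)) (Nat.ble 234 b)) (Bool.rec (motive := fun _ => ℕ) (Bool.rec (motive := fun _ => ℕ) (e12_236) (e12_237) (Nat.ble 237 b)) (Bool.rec (motive := fun _ => ℕ) (e12_238) (e12_239) (Nat.ble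 239 b)) (Nat.ble 238 b)) (Nat.ble 236 b)) (Nat.ble 232 b)) (Bool.rec (motive := fun _ => ℕ) (Bool.rec (motive := fun _ => ℕ) (Bool.rec (motive := fun _ => ℕ) (Bool.rec (motive := fun _ => ℕ) (e12_240) (e12_241) (Nat.ble 241 b)) (Bool.rec (motive := fun _ => ℕ) (e12_242) (e12_243) (Nat.ble 243 b)) (Nat.ble 242 b)) (Bool.rec (motive := fun _ => ℕ) (Bool.rec (motive := fun _ => ℕ) (e12_244) (e12_245) (Nat.ble 245 b)) (Bool.rec (motive := fun _ => ℕ) (e12_246) (e12_247) (Nat.ble 247 b)) (Nat.ble 246 b)) (Nat.ble 244 b)) (Bool.rec (motive := fun _ => ℕ) (Bool.rec (motive := fun _ => ℕ) (Bool.rec (motive := fun _ => ℕ) (e12_248) (e12_249) (Nat.ble 249 b)) (Bool.rec (motive := fun _ => ℕ) (e12_250) (e12_251) (Nat.ble 251 b)) (Nat.ble 250 b)) (Bool.rec (motive := fun _ => ℕ) (Bool.rec (motive := fun _ => ℕ) (e12_252) (e12_253) (Nat.ble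 253 b)) (Bool.rec (motive := fun _ => ℕ) (e12_254) (e12_255) (Nat.ble 255 b)) (Nat.ble 254 b)) (Nat.ble 252 b)) (Nat.ble 248 b)) (Nat.ble 240 b)) (Nat.ble 224 b)) (Nat.ble 192 b)) (Nat.ble 128 b)) (Bool.rec (motive := fun _ => ℕ) (Bool.rec (motive := fun _ => ℕ) (Bool.rec (motive := fun _ => ℕ) (Bool.rec (motive := fun _ => ℕ) (Bool.rec (motive := fun _ => ℕ) (Bool.rec (motive := fun _ => ℕ) (Bool.rec (motive := fun _ => ℕ) (Bool.rec (motive := fun _ => ℕ) (e12_256) (e12_257) (Nat.ble 257 b)) (Bool.rec (motive := fun _ => ℕ) (e12_258) (e12_259) (Nat.ble 259 b)) (Nat.ble 258 b)) (Bool.rec (motive := fun _ => ℕ) (Bool.rec (motive := fun _ => ℕ) (e12_260) (e12_261) (Nat.ble 261 b)) (Bool.rec (motive := fun _ => ℕ) (e12_262) (e12_263) (Nat.ble 263 b)) (Nat.ble 262 b)) (Nat.ble 260 b)) (Bool.rec (motive := fun _ => ℕ) (Bool.rec (motive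 := fun _ => ℕ) (Bool.rec (motive := fun _ => ℕ) (e12_264) (e12_265) (Nat.ble 265 b)) (Bool.rec (motive := fun _ => ℕ) (e12_266) (0) (Nat.ble 267 b)) (Nat.ble 266 b)) (0) (Nat.ble 268 b)) (Nat.ble 264 b)) (0) (Nat.ble 272 b)) (0) (Nat.ble 288 b)) (0) (Nat.ble 320 b)) (0) (Nat.ble 384 b)) (Nat.ble 256 b))
noncomputable def jcol12 (b : ℕ) : ℕ := (Bool.rec (motive := fun _ => ℕ) (Bool.rec (motive := fun _ => ℕ) (Bool.rec (motive := fun _ => ℕ) (Bool.rec (motive := fun _ => ℕ) (Bool.rec (motive := fun _ => ℕ) (Bool.rec (motive := fun _ => ℕ) (Bool.rec (motive := fun _ => ℕ) (Bool.rec (motive := fun _ => ℕ) (Bool.rec (motive := fun _ => ℕ) (j12_0) (j12_1) (Nat.ble 1 b)) (Bool.rec (motive := fun _ => ℕ) (j12_2) (j12_3) (Nat.ble 3 b)) (Nat.ble 2 b)) (Bool.rec (motive := fun _ => ℕ) (Bool.rec (motive := fun _ => ℕ) (j12_4) (j12_5) (Nat.ble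 5 b)) (Bool.rec (motive := fun _ => ℕ) (j12_6) (j12_7) (Nat.ble 7 b)) (Nat.ble 6 b)) (Nat.ble 4 b)) (Bool.rec (motive := fun _ => ℕ) (Bool.rec (motive := fun _ => ℕ) (Bool.rec (motive := fun _ => ℕ) (j12_8) (j12_9) (Nat.ble 9 b)) (Bool.rec (motive := fun _ => ℕ) (j12_10) (j12_11) (Nat.ble 11 b)) (Nat.ble 10 b)) (Bool.rec (motive := fun _ => ℕ) (Bool.rec (motive := fun _ => ℕ) (j12_12) (j12_13) (Nat.ble 13 b)) (Bool.rec (motive := fun _ => ℕ) (j12_14) (j12_15) (Nat.ble 15 b)) (Nat.ble 14 b)) (Nat.ble 12 b)) (Nat.ble 8 b)) (Bool.rec (motive := fun _ => ℕ) (Bool.rec (motive := fun _ => ℕ) (Bool.rec (motive := fun _ => ℕ) (Bool.rec (motive := fun _ => ℕ) (j12_16) (j12_17) (Nat.ble 17 b)) (Bool.rec (motive := fun _ => ℕ) (j12_18) (j12_19) (Nat.ble 19 b)) (Nat.ble 18 b)) (Bool.rec (motive := fun _ => ℕ) (Bool.rec (motive := fun _ =>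 ℕ) (j12_20) (j12_21) (Nat.ble 21 b)) (Bool.rec (motive := fun _ => ℕ) (j12_22) (j12_23) (Nat.ble 23 b)) (Nat.ble 22 b)) (Nat.ble 20 b)) (Bool.rec (motive := fun _ => ℕ) (Bool.rec (motive := fun _ => ℕ) (Bool.rec (motive := fun _ => ℕ) (j12_24) (j12_25) (Nat.ble 25 b)) (Bool.rec (motive := fun _ => ℕ) (j12_26) (j12_27) (Nat.ble 27 b)) (Nat.ble 26 b)) (Bool.rec (motive := fun _ => ℕ) (Bool.rec (motive := fun _ => ℕ) (j12_28) (j12_29) (Nat.ble 29 b)) (Bool.rec (motive := fun _ => ℕ) (j12_30) (j12_31) (Nat.ble 31 b)) (Nat.ble 30 b)) (Nat.ble 28 b)) (Nat.ble 24 b)) (Nat.ble 16 b)) (Bool.rec (motive := fun _ => ℕ) (Bool.rec (motive := fun _ => ℕ) (Bool.rec (motive := fun _ => ℕ) (Bool.rec (motive := fun _ => ℕ) (Bool.rec (motive := fun _ => ℕ) (j12_32) (j12_33) (Nat.ble 33 b)) (Bool.rec (motive := fun _ => ℕ) (j12_34) (j12_35) (Nat.ble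 35 b)) (Nat.ble 34 b)) (Bool.rec (motive := fun _ => ℕ) (Bool.rec (motive := fun _ => ℕ) (j12_36) (j12_37) (Nat.ble 37 b)) (Bool.rec (motive := fun _ => ℕ) (j12_38) (j12_39) (Nat.ble 39 b)) (Nat.ble 38 b)) (Nat.ble 36 b)) (Bool.rec (motive := fun _ => ℕ) (Bool.rec (motive := fun _ => ℕ) (Bool.rec (motive := fun _ => ℕ) (j12_40) (j12_41) (Nat.ble 41 b)) (Bool.rec (motive := fun _ => ℕ) (j12_42) (j12_43) (Nat.ble 43 b)) (Nat.ble 42 b)) (Bool.rec (motive := fun _ => ℕ) (Bool.rec (motive := fun _ => ℕ) (j12_44) (j12_45) (Nat.ble 45 b)) (Bool.rec (motive := fun _ => ℕ) (j12_46) (j12_47) (Nat.ble 47 b)) (Nat.ble 46 b)) (Nat.ble 44 b)) (Nat.ble 40 b)) (Bool.rec (motive := fun _ => ℕ) (Bool.rec (motive := fun _ => ℕ) (Bool.rec (motive := fun _ => ℕ) (Bool.rec (motive := fun _ => ℕ) (j12_48) (j12_49) (Nat.ble 49 b)) (Bool.rec (motive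 := fun _ => ℕ) (j12_50) (j12_51) (Nat.ble 51 b)) (Nat.ble 50 b)) (Bool.rec (motive := fun _ => ℕ) (Bool.rec (motive := fun _ => ℕ) (j12_52) (j12_53) (Nat.ble 53 b)) (Bool.rec (motive := fun _ => ℕ) (j12_54) (j12_55) (Nat.ble 55 b)) (Nat.ble 54 b)) (Nat.ble 52 b)) (Bool.rec (motive := fun _ => ℕ) (Bool.rec (motive := fun _ => ℕ) (Bool.rec (motive := fun _ => ℕ) (j12_56) (j12_57) (Nat.ble 57 b)) (Bool.rec (motive := fun _ => ℕ) (j12_58) (j12_59) (Nat.ble 59 b)) (Nat.ble 58 b)) (Bool.rec (motive := fun _ => ℕ) (Bool.rec (motive := fun _ => ℕ) (j12_60) (j12_61) (Nat.ble 61 b)) (Bool.rec (motive := fun _ => ℕ) (j12_62) (j12_63) (Nat.ble 63 b)) (Nat.ble 62 b)) (Nat.ble 60 b)) (Nat.ble 56 b)) (Nat.ble 48 b)) (Nat.ble 32 b)) (Bool.rec (motive := fun _ => ℕ) (Bool.rec (motive := fun _ => ℕ) (Bool.rec (motive := fun _ => ℕ) (Bool.rec (motive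 := fun _ => ℕ) (Bool.rec (motive := fun _ => ℕ) (Bool.rec (motive := fun _ => ℕ) (j12_64) (j12_65) (Nat.ble 65 b)) (Bool.rec (motive := fun _ => ℕ) (j12_66) (j12_67) (Nat.ble 67 b)) (Nat.ble 66 b)) (Bool.rec (motive := fun _ => ℕ) (Bool.rec (motive := fun _ => ℕ) (j12_68) (j12_69) (Nat.ble 69 b)) (Bool.rec (motive := fun _ => ℕ) (j12_70) (j12_71) (Nat.ble 71 b)) (Nat.ble 70 b)) (Nat.ble 68 b)) (Bool.rec (motive := fun _ => ℕ) (Bool.rec (motive := fun _ => ℕ) (Bool.rec (motive := fun _ => ℕ) (j12_72) (j12_73) (Nat.ble 73 b)) (Bool.rec (motive := fun _ => ℕ) (j12_74) (j12_75) (Nat.ble 75 b)) (Nat.ble 74 b)) (Bool.rec (motive := fun _ => ℕ) (Bool.rec (motive := fun _ => ℕ) (j12_76) (j12_77) (Nat.ble 77 b)) (Bool.rec (motive := fun _ => ℕ) (j12_78) (j12_79) (Nat.ble 79 b)) (Nat.ble 78 b)) (Nat.ble 76 b)) (Nat.ble 72 b)) (Bool.rec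 (motive := fun _ => ℕ) (Bool.rec (motive := fun _ => ℕ) (Bool.rec (motive := fun _ => ℕ) (Bool.rec (motive := fun _ => ℕ) (j12_80) (j12_81) (Nat.ble 81 b)) (Bool.rec (motive := fun _ => ℕ) (j12_82) (j12_83) (Nat.ble 83 b)) (Nat.ble 82 b)) (Bool.rec (motive := fun _ => ℕ) (Bool.rec (motive := fun _ => ℕ) (j12_84) (j12_85) (Nat.ble 85 b)) (Bool.rec (motive := fun _ => ℕ) (j12_86) (j12_87) (Nat.ble 87 b)) (Nat.ble 86 b)) (Nat.ble 84 b)) (Bool.rec (motive := fun _ => ℕ) (Bool.rec (motive := fun _ => ℕ) (Bool.rec (motive := fun _ => ℕ) (j12_88) (j12_89) (Nat.ble 89 b)) (Bool.rec (motive := fun _ => ℕ) (j12_90) (j12_91) (Nat.ble 91 b)) (Nat.ble 90 b)) (Bool.rec (motive := fun _ => ℕ) (Bool.rec (motive := fun _ => ℕ) (j12_92) (j12_93) (Nat.ble 93 b)) (Bool.rec (motive := fun _ => ℕ) (j12_94) (j12_95) (Nat.ble 95 b)) (Nat.ble 94 b))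 (Nat.ble 92 b)) (Nat.ble 88 b)) (Nat.ble 80 b)) (Bool.rec (motive := fun _ => ℕ) (Bool.rec (motive := fun _ => ℕ) (Bool.rec (motive := fun _ => ℕ) (Bool.rec (motive := fun _ => ℕ) (Bool.rec (motive := fun _ => ℕ) (j12_96) (j12_97) (Nat.ble 97 b)) (Bool.rec (motive := fun _ => ℕ) (j12_98) (j12_99) (Nat.ble 99 b)) (Nat.ble 98 b)) (Bool.rec (motive := fun _ => ℕ) (Bool.rec (motive := fun _ => ℕ) (j12_100) (j12_101) (Nat.ble 101 b)) (Bool.rec (motive := fun _ => ℕ) (j12_102) (j12_103) (Nat.ble 103 b)) (Nat.ble 102 b)) (Nat.ble 100 b)) (Bool.rec (motive := fun _ => ℕ) (Bool.rec (motive := fun _ => ℕ) (Bool.rec (motive := fun _ => ℕ) (j12_104) (j12_105) (Nat.ble 105 b)) (Bool.rec (motive := fun _ => ℕ) (j12_106) (j12_107) (Nat.ble 107 b)) (Nat.ble 106 b)) (Bool.rec (motive := fun _ => ℕ) (Bool.rec (motive := fun _ => ℕ) (j12_108) (j12_109)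 (Nat.ble 109 b)) (Bool.rec (motive := fun _ => ℕ) (j12_110) (j12_111) (Nat.ble 111 b)) (Nat.ble 110 b)) (Nat.ble 108 b)) (Nat.ble 104 b)) (Bool.rec (motive := fun _ => ℕ) (Bool.rec (motive := fun _ => ℕ) (Bool.rec (motive := fun _ => ℕ) (Bool.rec (motive := fun _ => ℕ) (j12_112) (j12_113) (Nat.ble 113 b)) (Bool.rec (motive := fun _ => ℕ) (j12_114) (j12_115) (Nat.ble 115 b)) (Nat.ble 114 b)) (Bool.rec (motive := fun _ => ℕ) (Bool.rec (motive := fun _ => ℕ) (j12_116) (j12_117) (Nat.ble 117 b)) (Bool.rec (motive := fun _ => ℕ) (j12_118) (j12_119) (Nat.ble 119 b)) (Nat.ble 118 b)) (Nat.ble 116 b)) (Bool.rec (motive := fun _ => ℕ) (Bool.rec (motive := fun _ => ℕ) (Bool.rec (motive := fun _ => ℕ) (j12_120) (j12_121) (Nat.ble 121 b)) (Bool.rec (motive := fun _ => ℕ) (j12_122) (j12_123) (Nat.ble 123 b)) (Nat.ble 122 b)) (Bool.rec (motive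 := fun _ => ℕ) (Bool.rec (motive := fun _ => ℕ) (j12_124) (j12_125) (Nat.ble 125 b)) (Bool.rec (motive := fun _ => ℕ) (j12_126) (j12_127) (Nat.ble 127 b)) (Nat.ble 126 b)) (Nat.ble 124 b)) (Nat.ble 120 b)) (Nat.ble 112 b)) (Nat.ble 96 b)) (Nat.ble 64 b)) (Bool.rec (motive := fun _ => ℕ) (Bool.rec (motive := fun _ => ℕ) (Bool.rec (motive := fun _ => ℕ) (Bool.rec (motive := fun _ => ℕ) (Bool.rec (motive := fun _ => ℕ) (Bool.rec (motive := fun _ => ℕ) (Bool.rec (motive := fun _ => ℕ) (j12_128) (j12_129) (Nat.ble 129 b)) (Bool.rec (motive := fun _ => ℕ) (j12_130) (j12_131) (Nat.ble 131 b)) (Nat.ble 130 b)) (Bool.rec (motive := fun _ => ℕ) (Bool.rec (motive := fun _ => ℕ) (j12_132) (j12_133) (Nat.ble 133 b)) (Bool.rec (motive := fun _ => ℕ) (j12_134) (j12_135) (Nat.ble 135 b)) (Nat.ble 134 b)) (Nat.ble 132 b)) (Bool.rec (motive :=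 fun _ => ℕ) (Bool.rec (motive := fun _ => ℕ) (Bool.rec (motive := fun _ => ℕ) (j12_136) (j12_137) (Nat.ble 137 b)) (Bool.rec (motive := fun _ => ℕ) (j12_138) (j12_139) (Nat.ble 139 b)) (Nat.ble 138 b)) (Bool.rec (motive := fun _ => ℕ) (Bool.rec (motive := fun _ => ℕ) (j12_140) (j12_141) (Nat.ble 141 b)) (Bool.rec (motive := fun _ => ℕ) (j12_142) (j12_143) (Nat.ble 143 b)) (Nat.ble 142 b)) (Nat.ble 140 b)) (Nat.ble 136 b)) (Bool.rec (motive := fun _ => ℕ) (Bool.rec (motive := fun _ => ℕ) (Bool.rec (motive := fun _ => ℕ) (Bool.rec (motive := fun _ => ℕ) (j12_144) (j12_145) (Nat.ble 145 b)) (Bool.rec (motive := fun _ => ℕ) (j12_146) (j12_147) (Nat.ble 147 b)) (Nat.ble 146 b)) (Bool.rec (motive := fun _ => ℕ) (Bool.rec (motive := fun _ => ℕ) (j12_148) (j12_149) (Nat.ble 149 b)) (Bool.rec (motive := fun _ => ℕ) (j12_150) (j12_151)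 (Nat.ble 151 b)) (Nat.ble 150 b)) (Nat.ble 148 b)) (Bool.rec (motive := fun _ => ℕ) (Bool.rec (motive := fun _ => ℕ) (Bool.rec (motive := fun _ => ℕ) (j12_152) (j12_153) (Nat.ble 153 b)) (Bool.rec (motive := fun _ => ℕ) (j12_154) (j12_155) (Nat.ble 155 b)) (Nat.ble 154 b)) (Bool.rec (motive := fun _ => ℕ) (Bool.rec (motive := fun _ => ℕ) (j12_156) (j12_157) (Nat.ble 157 b)) (Bool.rec (motive := fun _ => ℕ) (j12_158) (j12_159) (Nat.ble 159 b)) (Nat.ble 158 b)) (Nat.ble 156 b)) (Nat.ble 152 b)) (Nat.ble 144 b)) (Bool.rec (motive := fun _ => ℕ) (Bool.rec (motive := fun _ => ℕ) (Bool.rec (motive := fun _ => ℕ) (Bool.rec (motive := fun _ => ℕ) (Bool.rec (motive := fun _ => ℕ) (j12_160) (j12_161) (Nat.ble 161 b)) (Bool.rec (motive := fun _ => ℕ) (j12_162) (j12_163) (Nat.ble 163 b)) (Nat.ble 162 b)) (Bool.rec (motive := fun _ => ℕ)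 (Bool.rec (motive := fun _ => ℕ) (j12_164) (j12_165) (Nat.ble 165 b)) (Bool.rec (motive := fun _ => ℕ) (j12_166) (j12_167) (Nat.ble 167 b)) (Nat.ble 166 b)) (Nat.ble 164 b)) (Bool.rec (motive := fun _ => ℕ) (Bool.rec (motive := fun _ => ℕ) (Bool.rec (motive := fun _ => ℕ) (j12_168) (j12_169) (Nat.ble 169 b)) (Bool.rec (motive := fun _ => ℕ) (j12_170) (j12_171) (Nat.ble 171 b)) (Nat.ble 170 b)) (Bool.rec (motive := fun _ => ℕ) (Bool.rec (motive := fun _ => ℕ) (j12_172) (j12_173) (Nat.ble 173 b)) (Bool.rec (motive := fun _ => ℕ) (j12_174) (j12_175) (Nat.ble 175 b)) (Nat.ble 174 b)) (Nat.ble 172 b)) (Nat.ble 168 b)) (Bool.rec (motive := fun _ => ℕ) (Bool.rec (motive := fun _ => ℕ) (Bool.rec (motive := fun _ => ℕ) (Bool.rec (motive := fun _ => ℕ) (j12_176) (j12_177) (Nat.ble 177 b)) (Bool.rec (motive := fun _ => ℕ) (j12_178) (j12_179)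 (Nat.ble 179 b)) (Nat.ble 178 b)) (Bool.rec (motive := fun _ => ℕ) (Bool.rec (motive := fun _ => ℕ) (j12_180) (j12_181) (Nat.ble 181 b)) (Bool.rec (motive := fun _ => ℕ) (j12_182) (j12_183) (Nat.ble 183 b)) (Nat.ble 182 b)) (Nat.ble 180 b)) (Bool.rec (motive := fun _ => ℕ) (Bool.rec (motive := fun _ => ℕ) (Bool.rec (motive := fun _ => ℕ) (j12_184) (j12_185) (Nat.ble 185 b)) (Bool.rec (motive := fun _ => ℕ) (j12_186) (j12_187) (Nat.ble 187 b)) (Nat.ble 186 b)) (Bool.rec (motive := fun _ => ℕ) (Bool.rec (motive := fun _ => ℕ) (j12_188) (j12_189) (Nat.ble 189 b)) (Bool.rec (motive := fun _ => ℕ) (j12_190) (j12_191) (Nat.ble 191 b)) (Nat.ble 190 b)) (Nat.ble 188 b)) (Nat.ble 184 b)) (Nat.ble 176 b)) (Nat.ble 160 b)) (Bool.rec (motive := fun _ => ℕ) (Bool.rec (motive := fun _ => ℕ) (Bool.rec (motive := fun _ => ℕ) (Bool.rec (motive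 := fun _ => ℕ) (Bool.rec (motive := fun _ => ℕ) (Bool.rec (motive := fun _ => ℕ) (j12_192) (j12_193) (Nat.ble 193 b)) (Bool.rec (motive := fun _ => ℕ) (j12_194) (j12_195) (Nat.ble 195 b)) (Nat.ble 194 b)) (Bool.rec (motive := fun _ => ℕ) (Bool.rec (motive := fun _ => ℕ) (j12_196) (j12_197) (Nat.ble 197 b)) (Bool.rec (motive := fun _ => ℕ) (j12_198) (j12_199) (Nat.ble 199 b)) (Nat.ble 198 b)) (Nat.ble 196 b)) (Bool.rec (motive := fun _ => ℕ) (Bool.rec (motive := fun _ => ℕ) (Bool.rec (motive := fun _ => ℕ) (j12_200) (j12_201) (Nat.ble 201 b)) (Bool.rec (motive := fun _ => ℕ) (j12_202) (j12_203) (Nat.ble 203 b)) (Nat.ble 202 b)) (Bool.rec (motive := fun _ => ℕ) (Bool.rec (motive := fun _ => ℕ) (j12_204) (j12_205) (Nat.ble 205 b)) (Bool.rec (motive := fun _ => ℕ) (j12_206) (j12_207) (Nat.ble 207 b)) (Nat.ble 206 b)) (Nat.ble 204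 b)) (Nat.ble 200 b)) (Bool.rec (motive := fun _ => ℕ) (Bool.rec (motive := fun _ => ℕ) (Bool.rec (motive := fun _ => ℕ) (Bool.rec (motive := fun _ => ℕ) (j12_208) (j12_209) (Nat.ble 209 b)) (Bool.rec (motive := fun _ => ℕ) (j12_210) (j12_211) (Nat.ble 211 b)) (Nat.ble 210 b)) (Bool.rec (motive := fun _ => ℕ) (Bool.rec (motive := fun _ => ℕ) (j12_212) (j12_213) (Nat.ble 213 b)) (Bool.rec (motive := fun _ => ℕ) (j12_214) (j12_215) (Nat.ble 215 b)) (Nat.ble 214 b)) (Nat.ble 212 b)) (Bool.rec (motive := fun _ => ℕ) (Bool.rec (motive := fun _ => ℕ) (Bool.rec (motive := fun _ => ℕ) (j12_216) (j12_217) (Nat.ble 217 b)) (Bool.rec (motive := fun _ => ℕ) (j12_218) (j12_219) (Nat.ble 219 b)) (Nat.ble 218 b)) (Bool.rec (motive := fun _ => ℕ) (Bool.rec (motive := fun _ => ℕ) (j12_220) (j12_221) (Nat.ble 221 b)) (Bool.rec (motive := fun _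 => ℕ) (j12_222) (j12_223) (Nat.ble 223 b)) (Nat.ble 222 b)) (Nat.ble 220 b)) (Nat.ble 216 b)) (Nat.ble 208 b)) (Bool.rec (motive := fun _ => ℕ) (Bool.rec (motive := fun _ => ℕ) (Bool.rec (motive := fun _ => ℕ) (Bool.rec (motive := fun _ => ℕ) (Bool.rec (motive := fun _ => ℕ) (j12_224) (j12_225) (Nat.ble 225 b)) (Bool.rec (motive := fun _ => ℕ) (j12_226) (j12_227) (Nat.ble 227 b)) (Nat.ble 226 b)) (Bool.rec (motive := fun _ => ℕ) (Bool.rec (motive := fun _ => ℕ) (j12_228) (j12_229) (Nat.ble 229 b)) (Bool.rec (motive := fun _ => ℕ) (j12_230) (j12_231) (Nat.ble 231 b)) (Nat.ble 230 b)) (Nat.ble 228 b)) (Bool.rec (motive := fun _ => ℕ) (Bool.rec (motive := fun _ => ℕ) (Bool.rec (motive := fun _ => ℕ) (j12_232) (j12_233) (Nat.ble 233 b)) (Bool.rec (motive := fun _ => ℕ) (j12_234) (j12_235) (Nat.ble 235 b)) (Nat.ble 234 b)) (Bool.rec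 (motive := fun _ => ℕ) (Bool.rec (motive := fun _ => ℕ) (j12_236) (j12_237) (Nat.ble 237 b)) (Bool.rec (motive := fun _ => ℕ) (j12_238) (j12_239) (Nat.ble 239 b)) (Nat.ble 238 b)) (Nat.ble 236 b)) (Nat.ble 232 b)) (Bool.rec (motive := fun _ => ℕ) (Bool.rec (motive := fun _ => ℕ) (Bool.rec (motive := fun _ => ℕ) (Bool.rec (motive := fun _ => ℕ) (j12_240) (j12_241) (Nat.ble 241 b)) (Bool.rec (motive := fun _ => ℕ) (j12_242) (j12_243) (Nat.ble 243 b)) (Nat.ble 242 b)) (Bool.rec (motive := fun _ => ℕ) (Bool.rec (motive := fun _ => ℕ) (j12_244) (j12_245) (Nat.ble 245 b)) (Bool.rec (motive := fun _ => ℕ) (j12_246) (j12_247) (Nat.ble 247 b)) (Nat.ble 246 b)) (Nat.ble 244 b)) (Bool.rec (motive := fun _ => ℕ) (Bool.rec (motive := fun _ => ℕ) (Bool.rec (motive := fun _ => ℕ) (j12_248) (j12_249) (Nat.ble 249 b)) (Bool.rec (motive := fun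 _ => ℕ) (j12_250) (j12_251) (Nat.ble 251 b)) (Nat.ble 250 b)) (Bool.rec (motive := fun _ => ℕ) (Bool.rec (motive := fun _ => ℕ) (j12_252) (j12_253) (Nat.ble 253 b)) (Bool.rec (motive := fun _ => ℕ) (j12_254) (j12_255) (Nat.ble 255 b)) (Nat.ble 254 b)) (Nat.ble 252 b)) (Nat.ble 248 b)) (Nat.ble 240 b)) (Nat.ble 224 b)) (Nat.ble 192 b)) (Nat.ble 128 b)) (Bool.rec (motive := fun _ => ℕ) (Bool.rec (motive := fun _ => ℕ) (Bool.rec (motive := fun _ => ℕ) (Bool.rec (motive := fun _ => ℕ) (Bool.rec (motive := fun _ => ℕ) (Bool.rec (motive := fun _ => ℕ) (Bool.rec (motive := fun _ => ℕ) (Bool.rec (motive := fun _ => ℕ) (j12_256) (j12_257) (Nat.ble 257 b)) (Bool.rec (motive := fun _ => ℕ) (j12_258) (j12_259) (Nat.ble 259 b)) (Nat.ble 258 b)) (Bool.rec (motive := fun _ => ℕ) (Bool.rec (motive := fun _ => ℕ) (j12_260) (j12_261) (Nat.ble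 261 b)) (Bool.rec (motive := fun _ => ℕ) (j12_262) (j12_263) (Nat.ble 263 b)) (Nat.ble 262 b)) (Nat.ble 260 b)) (Bool.rec (motive := fun _ => ℕ) (Bool.rec (motive := fun _ => ℕ) (Bool.rec (motive := fun _ => ℕ) (j12_264) (j12_265) (Nat.ble 265 b)) (Bool.rec (motive := fun _ => ℕ) (j12_266) (0) (Nat.ble 267 b)) (Nat.ble 266 b)) (0) (Nat.ble 268 b)) (Nat.ble 264 b)) (0) (Nat.ble 272 b)) (0) (Nat.ble 288 b)) (0) (Nat.ble 320 b)) (0) (Nat.ble 384 b)) (Nat.ble 256 b))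
noncomputable def ecol13 (b : ℕ) : ℕ := (Bool.rec (motive := fun _ => ℕ) (Bool.rec (motive := fun _ => ℕ) (Bool.rec (motive := fun _ => ℕ) (Bool.rec (motive := fun _ => ℕ) (Bool.rec (motive := fun _ => ℕ) (Bool.rec (motive := fun _ => ℕ) (Bool.rec (motive := fun _ => ℕ) (Bool.rec (motive := fun _ => ℕ) (Bool.rec (motive := fun _ => ℕ) (e13_0) (e13_1) (Nat.ble 1 b)) (Bool.rec (motive := fun _ => ℕ) (e13_2) (e13_3) (Nat.ble 3 b)) (Nat.ble 2 b)) (Bool.rec (motive := fun _ => ℕ) (Bool.rec (motive := fun _ => ℕ) (e13_4) (e13_5) (Nat.ble 5 b)) (Bool.rec (motive := fun _ => ℕ) (e13_6) (e13_7) (Nat.ble 7 b)) (Nat.ble 6 b)) (Nat.ble 4 b)) (Bool.rec (motive := fun _ => ℕ) (Bool.rec (motive := fun _ => ℕ) (Bool.rec (motive := fun _ => ℕ) (e13_8) (e13_9) (Nat.ble 9 b)) (Bool.rec (motive := fun _ => ℕ) (e13_10) (e13_11) (Nat.ble 11 b)) (Nat.ble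 10 b)) (Bool.rec (motive := fun _ => ℕ) (Bool.rec (motive := fun _ => ℕ) (e13_12) (e13_13) (Nat.ble 13 b)) (Bool.rec (motive := fun _ => ℕ) (e13_14) (e13_15) (Nat.ble 15 b)) (Nat.ble 14 b)) (Nat.ble 12 b)) (Nat.ble 8 b)) (Bool.rec (motive := fun _ => ℕ) (Bool.rec (motive := fun _ => ℕ) (Bool.rec (motive := fun _ => ℕ) (Bool.rec (motive := fun _ => ℕ) (e13_16) (e13_17) (Nat.ble 17 b)) (Bool.rec (motive := fun _ => ℕ) (e13_18) (e13_19) (Nat.ble 19 b)) (Nat.ble 18 b)) (Bool.rec (motive := fun _ => ℕ) (Bool.rec (motive := fun _ => ℕ) (e13_20) (e13_21) (Nat.ble 21 b)) (Bool.rec (motive := fun _ => ℕ) (e13_22) (e13_23) (Nat.ble 23 b)) (Nat.ble 22 b)) (Nat.ble 20 b)) (Bool.rec (motive := fun _ => ℕ) (Bool.rec (motive := fun _ => ℕ) (Bool.rec (motive := fun _ => ℕ) (e13_24) (e13_25) (Nat.ble 25 b)) (Bool.rec (motive := fun _ => ℕ) (e13_26)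 (e13_27) (Nat.ble 27 b)) (Nat.ble 26 b)) (Bool.rec (motive := fun _ => ℕ) (Bool.rec (motive := fun _ => ℕ) (e13_28) (e13_29) (Nat.ble 29 b)) (Bool.rec (motive := fun _ => ℕ) (e13_30) (e13_31) (Nat.ble 31 b)) (Nat.ble 30 b)) (Nat.ble 28 b)) (Nat.ble 24 b)) (Nat.ble 16 b)) (Bool.rec (motive := fun _ => ℕ) (Bool.rec (motive := fun _ => ℕ) (Bool.rec (motive := fun _ => ℕ) (Bool.rec (motive := fun _ => ℕ) (Bool.rec (motive := fun _ => ℕ) (e13_32) (e13_33) (Nat.ble 33 b)) (Bool.rec (motive := fun _ => ℕ) (e13_34) (e13_35) (Nat.ble 35 b)) (Nat.ble 34 b)) (Bool.rec (motive := fun _ => ℕ) (Bool.rec (motive := fun _ => ℕ) (e13_36) (e13_37) (Nat.ble 37 b)) (Bool.rec (motive := fun _ => ℕ) (e13_38) (e13_39) (Nat.ble 39 b)) (Nat.ble 38 b)) (Nat.ble 36 b)) (Bool.rec (motive := fun _ => ℕ) (Bool.rec (motive := fun _ => ℕ) (Bool.rec (motive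 := fun _ => ℕ) (e13_40) (e13_41) (Nat.ble 41 b)) (Bool.rec (motive := fun _ => ℕ) (e13_42) (e13_43) (Nat.ble 43 b)) (Nat.ble 42 b)) (Bool.rec (motive := fun _ => ℕ) (Bool.rec (motive := fun _ => ℕ) (e13_44) (e13_45) (Nat.ble 45 b)) (Bool.rec (motive := fun _ => ℕ) (e13_46) (e13_47) (Nat.ble 47 b)) (Nat.ble 46 b)) (Nat.ble 44 b)) (Nat.ble 40 b)) (Bool.rec (motive := fun _ => ℕ) (Bool.rec (motive := fun _ => ℕ) (Bool.rec (motive := fun _ => ℕ) (Bool.rec (motive := fun _ => ℕ) (e13_48) (e13_49) (Nat.ble 49 b)) (Bool.rec (motive := fun _ => ℕ) (e13_50) (e13_51) (Nat.ble 51 b)) (Nat.ble 50 b)) (Bool.rec (motive := fun _ => ℕ) (Bool.rec (motive := fun _ => ℕ) (e13_52) (e13_53) (Nat.ble 53 b)) (Bool.rec (motive := fun _ => ℕ) (e13_54) (e13_55) (Nat.ble 55 b)) (Nat.ble 54 b)) (Nat.ble 52 b)) (Bool.rec (motive := fun _ => ℕ) (Bool.rec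 (motive := fun _ => ℕ) (Bool.rec (motive := fun _ => ℕ) (e13_56) (e13_57) (Nat.ble 57 b)) (Bool.rec (motive := fun _ => ℕ) (e13_58) (e13_59) (Nat.ble 59 b)) (Nat.ble 58 b)) (Bool.rec (motive := fun _ => ℕ) (Bool.rec (motive := fun _ => ℕ) (e13_60) (e13_61) (Nat.ble 61 b)) (Bool.rec (motive := fun _ => ℕ) (e13_62) (e13_63) (Nat.ble 63 b)) (Nat.ble 62 b)) (Nat.ble 60 b)) (Nat.ble 56 b)) (Nat.ble 48 b)) (Nat.ble 32 b)) (Bool.rec (motive := fun _ => ℕ) (Bool.rec (motive := fun _ => ℕ) (Bool.rec (motive := fun _ => ℕ) (Bool.rec (motive := fun _ => ℕ) (Bool.rec (motive := fun _ => ℕ) (Bool.rec (motive := fun _ => ℕ) (e13_64) (e13_65) (Nat.ble 65 b)) (Bool.rec (motive := fun _ => ℕ) (e13_66) (e13_67) (Nat.ble 67 b)) (Nat.ble 66 b)) (Bool.rec (motive := fun _ => ℕ) (Bool.rec (motive := fun _ => ℕ) (e13_68) (e13_69) (Nat.ble 69 b)) (Bool.rec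 (motive := fun _ => ℕ) (e13_70) (e13_71) (Nat.ble 71 b)) (Nat.ble 70 b)) (Nat.ble 68 b)) (Bool.rec (motive := fun _ => ℕ) (Bool.rec (motive := fun _ => ℕ) (Bool.rec (motive := fun _ => ℕ) (e13_72) (e13_73) (Nat.ble 73 b)) (Bool.rec (motive := fun _ => ℕ) (e13_74) (e13_75) (Nat.ble 75 b)) (Nat.ble 74 b)) (Bool.rec (motive := fun _ => ℕ) (Bool.rec (motive := fun _ => ℕ) (e13_76) (e13_77) (Nat.ble 77 b)) (Bool.rec (motive := fun _ => ℕ) (e13_78) (e13_79) (Nat.ble 79 b)) (Nat.ble 78 b)) (Nat.ble 76 b)) (Nat.ble 72 b)) (Bool.rec (motive := fun _ => ℕ) (Bool.rec (motive := fun _ => ℕ) (Bool.rec (motive := fun _ => ℕ) (Bool.rec (motive := fun _ => ℕ) (e13_80) (e13_81) (Nat.ble 81 b)) (Bool.rec (motive := fun _ => ℕ) (e13_82) (e13_83) (Nat.ble 83 b)) (Nat.ble 82 b)) (Bool.rec (motive := fun _ => ℕ) (Bool.rec (motive := fun _ => ℕ) (e13_84)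 (e13_85) (Nat.ble 85 b)) (Bool.rec (motive := fun _ => ℕ) (e13_86) (e13_87) (Nat.ble 87 b)) (Nat.ble 86 b)) (Nat.ble 84 b)) (Bool.rec (motive := fun _ => ℕ) (Bool.rec (motive := fun _ => ℕ) (Bool.rec (motive := fun _ => ℕ) (e13_88) (e13_89) (Nat.ble 89 b)) (Bool.rec (motive := fun _ => ℕ) (e13_90) (e13_91) (Nat.ble 91 b)) (Nat.ble 90 b)) (Bool.rec (motive := fun _ => ℕ) (Bool.rec (motive := fun _ => ℕ) (e13_92) (e13_93) (Nat.ble 93 b)) (Bool.rec (motive := fun _ => ℕ) (e13_94) (e13_95) (Nat.ble 95 b)) (Nat.ble 94 b)) (Nat.ble 92 b)) (Nat.ble 88 b)) (Nat.ble 80 b)) (Bool.rec (motive := fun _ => ℕ) (Bool.rec (motive := fun _ => ℕ) (Bool.rec (motive := fun _ => ℕ) (Bool.rec (motive := fun _ => ℕ) (Bool.rec (motive := fun _ => ℕ) (e13_96) (e13_97) (Nat.ble 97 b)) (Bool.rec (motive := fun _ => ℕ) (e13_98) (e13_99) (Nat.ble 99 b))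 (Nat.ble 98 b)) (Bool.rec (motive := fun _ => ℕ) (Bool.rec (motive := fun _ => ℕ) (e13_100) (e13_101) (Nat.ble 101 b)) (Bool.rec (motive := fun _ => ℕ) (e13_102) (e13_103) (Nat.ble 103 b)) (Nat.ble 102 b)) (Nat.ble 100 b)) (Bool.rec (motive := fun _ => ℕ) (Bool.rec (motive := fun _ => ℕ) (Bool.rec (motive := fun _ => ℕ) (e13_104) (e13_105) (Nat.ble 105 b)) (Bool.rec (motive := fun _ => ℕ) (e13_106) (e13_107) (Nat.ble 107 b)) (Nat.ble 106 b)) (Bool.rec (motive := fun _ => ℕ) (Bool.rec (motive := fun _ => ℕ) (e13_108) (e13_109) (Nat.ble 109 b)) (Bool.rec (motive := fun _ => ℕ) (e13_110) (e13_111) (Nat.ble 111 b)) (Nat.ble 110 b)) (Nat.ble 108 b)) (Nat.ble 104 b)) (Bool.rec (motive := fun _ => ℕ) (Bool.rec (motive := fun _ => ℕ) (Bool.rec (motive := fun _ => ℕ) (Bool.rec (motive := fun _ => ℕ) (e13_112) (e13_113) (Nat.ble 113 b))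 (Bool.rec (motive := fun _ => ℕ) (e13_114) (e13_115) (Nat.ble 115 b)) (Nat.ble 114 b)) (Bool.rec (motive := fun _ => ℕ) (Bool.rec (motive := fun _ => ℕ) (e13_116) (e13_117) (Nat.ble 117 b)) (Bool.rec (motive := fun _ => ℕ) (e13_118) (e13_119) (Nat.ble 119 b)) (Nat.ble 118 b)) (Nat.ble 116 b)) (Bool.rec (motive := fun _ => ℕ) (Bool.rec (motive := fun _ => ℕ) (Bool.rec (motive := fun _ => ℕ) (e13_120) (e13_121) (Nat.ble 121 b)) (Bool.rec (motive := fun _ => ℕ) (e13_122) (e13_123) (Nat.ble 123 b)) (Nat.ble 122 b)) (Bool.rec (motive := fun _ => ℕ) (Bool.rec (motive := fun _ => ℕ) (e13_124) (e13_125) (Nat.ble 125 b)) (Bool.rec (motive := fun _ => ℕ) (e13_126) (e13_127) (Nat.ble 127 b)) (Nat.ble 126 b)) (Nat.ble 124 b)) (Nat.ble 120 b)) (Nat.ble 112 b)) (Nat.ble 96 b)) (Nat.ble 64 b)) (Bool.rec (motive := fun _ => ℕ) (Bool.rec (motive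 := fun _ => ℕ) (Bool.rec (motive := fun _ => ℕ) (Bool.rec (motive := fun _ => ℕ) (Bool.rec (motive := fun _ => ℕ) (Bool.rec (motive := fun _ => ℕ) (Bool.rec (motive := fun _ => ℕ) (e13_128) (e13_129) (Nat.ble 129 b)) (Bool.rec (motive := fun _ => ℕ) (e13_130) (e13_131) (Nat.ble 131 b)) (Nat.ble 130 b)) (Bool.rec (motive := fun _ => ℕ) (Bool.rec (motive := fun _ => ℕ) (e13_132) (e13_133) (Nat.ble 133 b)) (Bool.rec (motive := fun _ => ℕ) (e13_134) (e13_135) (Nat.ble 135 b)) (Nat.ble 134 b)) (Nat.ble 132 b)) (Bool.rec (motive := fun _ => ℕ) (Bool.rec (motive := fun _ => ℕ) (Bool.rec (motive := fun _ => ℕ) (e13_136) (e13_137) (Nat.ble 137 b)) (Bool.rec (motive := fun _ => ℕ) (e13_138) (e13_139) (Nat.ble 139 b)) (Nat.ble 138 b)) (Bool.rec (motive := fun _ => ℕ) (Bool.rec (motive := fun _ => ℕ) (e13_140) (e13_141) (Nat.ble 141 b))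 (Bool.rec (motive := fun _ => ℕ) (e13_142) (e13_143) (Nat.ble 143 b)) (Nat.ble 142 b)) (Nat.ble 140 b)) (Nat.ble 136 b)) (Bool.rec (motive := fun _ => ℕ) (Bool.rec (motive := fun _ => ℕ) (Bool.rec (motive := fun _ => ℕ) (Bool.rec (motive := fun _ => ℕ) (e13_144) (e13_145) (Nat.ble 145 b)) (Bool.rec (motive := fun _ => ℕ) (e13_146) (e13_147) (Nat.ble 147 b)) (Nat.ble 146 b)) (Bool.rec (motive := fun _ => ℕ) (Bool.rec (motive := fun _ => ℕ) (e13_148) (e13_149) (Nat.ble 149 b)) (Bool.rec (motive := fun _ => ℕ) (e13_150) (e13_151) (Nat.ble 151 b)) (Nat.ble 150 b)) (Nat.ble 148 b)) (Bool.rec (motive := fun _ => ℕ) (Bool.rec (motive := fun _ => ℕ) (Bool.rec (motive := fun _ => ℕ) (e13_152) (e13_153) (Nat.ble 153 b)) (Bool.rec (motive := fun _ => ℕ) (e13_154) (e13_155) (Nat.ble 155 b)) (Nat.ble 154 b)) (Bool.rec (motive := fun _ =>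 ℕ) (Bool.rec (motive := fun _ => ℕ) (e13_156) (e13_157) (Nat.ble 157 b)) (Bool.rec (motive := fun _ => ℕ) (e13_158) (e13_159) (Nat.ble 159 b)) (Nat.ble 158 b)) (Nat.ble 156 b)) (Nat.ble 152 b)) (Nat.ble 144 b)) (Bool.rec (motive := fun _ => ℕ) (Bool.rec (motive := fun _ => ℕ) (Bool.rec (motive := fun _ => ℕ) (Bool.rec (motive := fun _ => ℕ) (Bool.rec (motive := fun _ => ℕ) (e13_160) (e13_161) (Nat.ble 161 b)) (Bool.rec (motive := fun _ => ℕ) (e13_162) (e13_163) (Nat.ble 163 b)) (Nat.ble 162 b)) (Bool.rec (motive := fun _ => ℕ) (Bool.rec (motive := fun _ => ℕ) (e13_164) (e13_165) (Nat.ble 165 b)) (Bool.rec (motive := fun _ => ℕ) (e13_166) (e13_167) (Nat.ble 167 b)) (Nat.ble 166 b)) (Nat.ble 164 b)) (Bool.rec (motive := fun _ => ℕ) (Bool.rec (motive := fun _ => ℕ) (Bool.rec (motive := fun _ => ℕ) (e13_168) (e13_169) (Nat.ble 169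 b)) (Bool.rec (motive := fun _ => ℕ) (e13_170) (e13_171) (Nat.ble 171 b)) (Nat.ble 170 b)) (Bool.rec (motive := fun _ => ℕ) (Bool.rec (motive := fun _ => ℕ) (e13_172) (e13_173) (Nat.ble 173 b)) (Bool.rec (motive := fun _ => ℕ) (e13_174) (e13_175) (Nat.ble 175 b)) (Nat.ble 174 b)) (Nat.ble 172 b)) (Nat.ble 168 b)) (Bool.rec (motive := fun _ => ℕ) (Bool.rec (motive := fun _ => ℕ) (Bool.rec (motive := fun _ => ℕ) (Bool.rec (motive := fun _ => ℕ) (e13_176) (e13_177) (Nat.ble 177 b)) (Bool.rec (motive := fun _ => ℕ) (e13_178) (e13_179) (Nat.ble 179 b)) (Nat.ble 178 b)) (Bool.rec (motive := fun _ => ℕ) (Bool.rec (motive := fun _ => ℕ) (e13_180) (e13_181) (Nat.ble 181 b)) (Bool.rec (motive := fun _ => ℕ) (e13_182) (e13_183) (Nat.ble 183 b)) (Nat.ble 182 b)) (Nat.ble 180 b)) (Bool.rec (motive := fun _ => ℕ) (Bool.rec (motive := fun _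 => ℕ) (Bool.rec (motive := fun _ => ℕ) (e13_184) (e13_185) (Nat.ble 185 b)) (Bool.rec (motive := fun _ => ℕ) (e13_186) (e13_187) (Nat.ble 187 b)) (Nat.ble 186 b)) (Bool.rec (motive := fun _ => ℕ) (Bool.rec (motive := fun _ => ℕ) (e13_188) (e13_189) (Nat.ble 189 b)) (Bool.rec (motive := fun _ => ℕ) (e13_190) (e13_191) (Nat.ble 191 b)) (Nat.ble 190 b)) (Nat.ble 188 b)) (Nat.ble 184 b)) (Nat.ble 176 b)) (Nat.ble 160 b)) (Bool.rec (motive := fun _ => ℕ) (Bool.rec (motive := fun _ => ℕ) (Bool.rec (motive := fun _ => ℕ) (Bool.rec (motive := fun _ => ℕ) (Bool.rec (motive := fun _ => ℕ) (Bool.rec (motive := fun _ => ℕ) (e13_192) (e13_193) (Nat.ble 193 b)) (Bool.rec (motive := fun _ => ℕ) (e13_194) (e13_195) (Nat.ble 195 b)) (Nat.ble 194 b)) (Bool.rec (motive := fun _ => ℕ) (Bool.rec (motive := fun _ => ℕ) (e13_196) (e13_197) (Nat.ble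 197 b)) (Bool.rec (motive := fun _ => ℕ) (e13_198) (e13_199) (Nat.ble 199 b)) (Nat.ble 198 b)) (Nat.ble 196 b)) (Bool.rec (motive := fun _ => ℕ) (Bool.rec (motive := fun _ => ℕ) (Bool.rec (motive := fun _ => ℕ) (e13_200) (e13_201) (Nat.ble 201 b)) (Bool.rec (motive := fun _ => ℕ) (e13_202) (e13_203) (Nat.ble 203 b)) (Nat.ble 202 b)) (Bool.rec (motive := fun _ => ℕ) (Bool.rec (motive := fun _ => ℕ) (e13_204) (e13_205) (Nat.ble 205 b)) (Bool.rec (motive := fun _ => ℕ) (e13_206) (e13_207) (Nat.ble 207 b)) (Nat.ble 206 b)) (Nat.ble 204 b)) (Nat.ble 200 b)) (Bool.rec (motive := fun _ => ℕ) (Bool.rec (motive := fun _ => ℕ) (Bool.rec (motive := fun _ => ℕ) (Bool.rec (motive := fun _ => ℕ) (e13_208) (e13_209) (Nat.ble 209 b)) (Bool.rec (motive := fun _ => ℕ) (e13_210) (e13_211) (Nat.ble 211 b)) (Nat.ble 210 b)) (Bool.rec (motive := fun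 _ => ℕ) (Bool.rec (motive := fun _ => ℕ) (e13_212) (e13_213) (Nat.ble 213 b)) (Bool.rec (motive := fun _ => ℕ) (e13_214) (e13_215) (Nat.ble 215 b)) (Nat.ble 214 b)) (Nat.ble 212 b)) (Bool.rec (motive := fun _ => ℕ) (Bool.rec (motive := fun _ => ℕ) (Bool.rec (motive := fun _ => ℕ) (e13_216) (e13_217) (Nat.ble 217 b)) (Bool.rec (motive := fun _ => ℕ) (e13_218) (e13_219) (Nat.ble 219 b)) (Nat.ble 218 b)) (Bool.rec (motive := fun _ => ℕ) (Bool.rec (motive := fun _ => ℕ) (e13_220) (e13_221) (Nat.ble 221 b)) (Bool.rec (motive := fun _ => ℕ) (e13_222) (e13_223) (Nat.ble 223 b)) (Nat.ble 222 b)) (Nat.ble 220 b)) (Nat.ble 216 b)) (Nat.ble 208 b)) (Bool.rec (motive := fun _ => ℕ) (Bool.rec (motive := fun _ => ℕ) (Bool.rec (motive := fun _ => ℕ) (Bool.rec (motive := fun _ => ℕ) (Bool.rec (motive := fun _ => ℕ) (e13_224) (e13_225) (Nat.ble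 225 b)) (Bool.rec (motive := fun _ => ℕ) (e13_226) (e13_227) (Nat.ble 227 b)) (Nat.ble 226 b)) (Bool.rec (motive := fun _ => ℕ) (Bool.rec (motive := fun _ => ℕ) (e13_228) (e13_229) (Nat.ble 229 b)) (Bool.rec (motive := fun _ => ℕ) (e13_230) (e13_231) (Nat.ble 231 b)) (Nat.ble 230 b)) (Nat.ble 228 b)) (Bool.rec (motive := fun _ => ℕ) (Bool.rec (motive := fun _ => ℕ) (Bool.rec (motive := fun _ => ℕ) (e13_232) (e13_233) (Nat.ble 233 b)) (Bool.rec (motive := fun _ => ℕ) (e13_234) (e13_235) (Nat.ble 235 b)) (Nat.ble 234 b)) (Bool.rec (motive := fun _ => ℕ) (Bool.rec (motive := fun _ => ℕ) (e13_236) (e13_237) (Nat.ble 237 b)) (Bool.rec (motive := fun _ => ℕ) (e13_238) (e13_239) (Nat.ble 239 b)) (Nat.ble 238 b)) (Nat.ble 236 b)) (Nat.ble 232 b)) (Bool.rec (motive := fun _ => ℕ) (Bool.rec (motive := fun _ => ℕ) (Bool.rec (motive := fun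 _ => ℕ) (Bool.rec (motive := fun _ => ℕ) (e13_240) (e13_241) (Nat.ble 241 b)) (Bool.rec (motive := fun _ => ℕ) (e13_242) (e13_243) (Nat.ble 243 b)) (Nat.ble 242 b)) (Bool.rec (motive := fun _ => ℕ) (Bool.rec (motive := fun _ => ℕ) (e13_244) (e13_245) (Nat.ble 245 b)) (Bool.rec (motive := fun _ => ℕ) (e13_246) (e13_247) (Nat.ble 247 b)) (Nat.ble 246 b)) (Nat.ble 244 b)) (Bool.rec (motive := fun _ => ℕ) (Bool.rec (motive := fun _ => ℕ) (Bool.rec (motive := fun _ => ℕ) (e13_248) (e13_249) (Nat.ble 249 b)) (Bool.rec (motive := fun _ => ℕ) (e13_250) (e13_251) (Nat.ble 251 b)) (Nat.ble 250 b)) (Bool.rec (motive := fun _ => ℕ) (Bool.rec (motive := fun _ => ℕ) (e13_252) (e13_253) (Nat.ble 253 b)) (Bool.rec (motive := fun _ => ℕ) (e13_254) (e13_255) (Nat.ble 255 b)) (Nat.ble 254 b)) (Nat.ble 252 b)) (Nat.ble 248 b)) (Nat.ble 240 b)) (Nat.ble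 224 b)) (Nat.ble 192 b)) (Nat.ble 128 b)) (Bool.rec (motive := fun _ => ℕ) (Bool.rec (motive := fun _ => ℕ) (Bool.rec (motive := fun _ => ℕ) (Bool.rec (motive := fun _ => ℕ) (Bool.rec (motive := fun _ => ℕ) (Bool.rec (motive := fun _ => ℕ) (Bool.rec (motive := fun _ => ℕ) (Bool.rec (motive := fun _ => ℕ) (e13_256) (e13_257) (Nat.ble 257 b)) (Bool.rec (motive := fun _ => ℕ) (e13_258) (e13_259) (Nat.ble 259 b)) (Nat.ble 258 b)) (Bool.rec (motive := fun _ => ℕ) (Bool.rec (motive := fun _ => ℕ) (e13_260) (e13_261) (Nat.ble 261 b)) (Bool.rec (motive := fun _ => ℕ) (e13_262) (e13_263) (Nat.ble 263 b)) (Nat.ble 262 b)) (Nat.ble 260 b)) (Bool.rec (motive := fun _ => ℕ) (Bool.rec (motive := fun _ => ℕ) (Bool.rec (motive := fun _ => ℕ) (e13_264) (e13_265) (Nat.ble 265 b)) (Bool.rec (motive := fun _ => ℕ) (e13_266) (0) (Nat.ble 267 b))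 (Nat.ble 266 b)) (0) (Nat.ble 268 b)) (Nat.ble 264 b)) (0) (Nat.ble 272 b)) (0) (Nat.ble 288 b)) (0) (Nat.ble 320 b)) (0) (Nat.ble 384 b)) (Nat.ble 256 b))
noncomputable def jcol13 (b : ℕ) : ℕ := (Bool.rec (motive := fun _ => ℕ) (Bool.rec (motive := fun _ => ℕ) (Bool.rec (motive := fun _ => ℕ) (Bool.rec (motive := fun _ => ℕ) (Bool.rec (motive := fun _ => ℕ) (Bool.rec (motive := fun _ => ℕ) (Bool.rec (motive := fun _ => ℕ) (Bool.rec (motive := fun _ => ℕ) (Bool.rec (motive := fun _ => ℕ) (j13_0) (j13_1) (Nat.ble 1 b)) (Bool.rec (motive := fun _ => ℕ) (j13_2) (j13_3) (Nat.ble 3 b)) (Nat.ble 2 b)) (Bool.rec (motive := fun _ => ℕ) (Bool.rec (motive := fun _ => ℕ) (j13_4) (j13_5) (Nat.ble 5 b)) (Bool.rec (motive := fun _ => ℕ) (j13_6) (j13_7) (Nat.ble 7 b)) (Nat.ble 6 b)) (Nat.ble 4 b)) (Bool.rec (motive := fun _ => ℕ) (Bool.rec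 (motive := fun _ => ℕ) (Bool.rec (motive := fun _ => ℕ) (j13_8) (j13_9) (Nat.ble 9 b)) (Bool.rec (motive := fun _ => ℕ) (j13_10) (j13_11) (Nat.ble 11 b)) (Nat.ble 10 b)) (Bool.rec (motive := fun _ => ℕ) (Bool.rec (motive := fun _ => ℕ) (j13_12) (j13_13) (Nat.ble 13 b)) (Bool.rec (motive := fun _ => ℕ) (j13_14) (j13_15) (Nat.ble 15 b)) (Nat.ble 14 b)) (Nat.ble 12 b)) (Nat.ble 8 b)) (Bool.rec (motive := fun _ => ℕ) (Bool.rec (motive := fun _ => ℕ) (Bool.rec (motive := fun _ => ℕ) (Bool.rec (motive := fun _ => ℕ) (j13_16) (j13_17) (Nat.ble 17 b)) (Bool.rec (motive := fun _ => ℕ) (j13_18) (j13_19) (Nat.ble 19 b)) (Nat.ble 18 b)) (Bool.rec (motive := fun _ => ℕ) (Bool.rec (motive := fun _ => ℕ) (j13_20) (j13_21) (Nat.ble 21 b)) (Bool.rec (motive := fun _ => ℕ) (j13_22) (j13_23) (Nat.ble 23 b)) (Nat.ble 22 b)) (Nat.ble 20 b)) (Bool.rec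 (motive := fun _ => ℕ) (Bool.rec (motive := fun _ => ℕ) (Bool.rec (motive := fun _ => ℕ) (j13_24) (j13_25) (Nat.ble 25 b)) (Bool.rec (motive := fun _ => ℕ) (j13_26) (j13_27) (Nat.ble 27 b)) (Nat.ble 26 b)) (Bool.rec (motive := fun _ => ℕ) (Bool.rec (motive := fun _ => ℕ) (j13_28) (j13_29) (Nat.ble 29 b)) (Bool.rec (motive := fun _ => ℕ) (j13_30) (j13_31) (Nat.ble 31 b)) (Nat.ble 30 b)) (Nat.ble 28 b)) (Nat.ble 24 b)) (Nat.ble 16 b)) (Bool.rec (motive := fun _ => ℕ) (Bool.rec (motive := fun _ => ℕ) (Bool.rec (motive := fun _ => ℕ) (Bool.rec (motive := fun _ => ℕ) (Bool.rec (motive := fun _ => ℕ) (j13_32) (j13_33) (Nat.ble 33 b)) (Bool.rec (motive := fun _ => ℕ) (j13_34) (j13_35) (Nat.ble 35 b)) (Nat.ble 34 b)) (Bool.rec (motive := fun _ => ℕ) (Bool.rec (motive := fun _ => ℕ) (j13_36) (j13_37) (Nat.ble 37 b)) (Bool.rec (motive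 := fun _ => ℕ) (j13_38) (j13_39) (Nat.ble 39 b)) (Nat.ble 38 b)) (Nat.ble 36 b)) (Bool.rec (motive := fun _ => ℕ) (Bool.rec (motive := fun _ => ℕ) (Bool.rec (motive := fun _ => ℕ) (j13_40) (j13_41) (Nat.ble 41 b)) (Bool.rec (motive := fun _ => ℕ) (j13_42) (j13_43) (Nat.ble 43 b)) (Nat.ble 42 b)) (Bool.rec (motive := fun _ => ℕ) (Bool.rec (motive := fun _ => ℕ) (j13_44) (j13_45) (Nat.ble 45 b)) (Bool.rec (motive := fun _ => ℕ) (j13_46) (j13_47) (Nat.ble 47 b)) (Nat.ble 46 b)) (Nat.ble 44 b)) (Nat.ble 40 b)) (Bool.rec (motive := fun _ => ℕ) (Bool.rec (motive := fun _ => ℕ) (Bool.rec (motive := fun _ => ℕ) (Bool.rec (motive := fun _ => ℕ) (j13_48) (j13_49) (Nat.ble 49 b)) (Bool.rec (motive := fun _ => ℕ) (j13_50) (j13_51) (Nat.ble 51 b)) (Nat.ble 50 b)) (Bool.rec (motive := fun _ => ℕ) (Bool.rec (motive := fun _ => ℕ) (j13_52) (j13_53)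 (Nat.ble 53 b)) (Bool.rec (motive := fun _ => ℕ) (j13_54) (j13_55) (Nat.ble 55 b)) (Nat.ble 54 b)) (Nat.ble 52 b)) (Bool.rec (motive := fun _ => ℕ) (Bool.rec (motive := fun _ => ℕ) (Bool.rec (motive := fun _ => ℕ) (j13_56) (j13_57) (Nat.ble 57 b)) (Bool.rec (motive := fun _ => ℕ) (j13_58) (j13_59) (Nat.ble 59 b)) (Nat.ble 58 b)) (Bool.rec (motive := fun _ => ℕ) (Bool.rec (motive := fun _ => ℕ) (j13_60) (j13_61) (Nat.ble 61 b)) (Bool.rec (motive := fun _ => ℕ) (j13_62) (j13_63) (Nat.ble 63 b)) (Nat.ble 62 b)) (Nat.ble 60 b)) (Nat.ble 56 b)) (Nat.ble 48 b)) (Nat.ble 32 b)) (Bool.rec (motive := fun _ => ℕ) (Bool.rec (motive := fun _ => ℕ) (Bool.rec (motive := fun _ => ℕ) (Bool.rec (motive := fun _ => ℕ) (Bool.rec (motive := fun _ => ℕ) (Bool.rec (motive := fun _ => ℕ) (j13_64) (j13_65) (Nat.ble 65 b)) (Bool.rec (motive := fun _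 => ℕ) (j13_66) (j13_67) (Nat.ble 67 b)) (Nat.ble 66 b)) (Bool.rec (motive := fun _ => ℕ) (Bool.rec (motive := fun _ => ℕ) (j13_68) (j13_69) (Nat.ble 69 b)) (Bool.rec (motive := fun _ => ℕ) (j13_70) (j13_71) (Nat.ble 71 b)) (Nat.ble 70 b)) (Nat.ble 68 b)) (Bool.rec (motive := fun _ => ℕ) (Bool.rec (motive := fun _ => ℕ) (Bool.rec (motive := fun _ => ℕ) (j13_72) (j13_73) (Nat.ble 73 b)) (Bool.rec (motive := fun _ => ℕ) (j13_74) (j13_75) (Nat.ble 75 b)) (Nat.ble 74 b)) (Bool.rec (motive := fun _ => ℕ) (Bool.rec (motive := fun _ => ℕ) (j13_76) (j13_77) (Nat.ble 77 b)) (Bool.rec (motive := fun _ => ℕ) (j13_78) (j13_79) (Nat.ble 79 b)) (Nat.ble 78 b)) (Nat.ble 76 b)) (Nat.ble 72 b)) (Bool.rec (motive := fun _ => ℕ) (Bool.rec (motive := fun _ => ℕ) (Bool.rec (motive := fun _ => ℕ) (Bool.rec (motive := fun _ => ℕ) (j13_80) (j13_81) (Nat.ble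 81 b)) (Bool.rec (motive := fun _ => ℕ) (j13_82) (j13_83) (Nat.ble 83 b)) (Nat.ble 82 b)) (Bool.rec (motive := fun _ => ℕ) (Bool.rec (motive := fun _ => ℕ) (j13_84) (j13_85) (Nat.ble 85 b)) (Bool.rec (motive := fun _ => ℕ) (j13_86) (j13_87) (Nat.ble 87 b)) (Nat.ble 86 b)) (Nat.ble 84 b)) (Bool.rec (motive := fun _ => ℕ) (Bool.rec (motive := fun _ => ℕ) (Bool.rec (motive := fun _ => ℕ) (j13_88) (j13_89) (Nat.ble 89 b)) (Bool.rec (motive := fun _ => ℕ) (j13_90) (j13_91) (Nat.ble 91 b)) (Nat.ble 90 b)) (Bool.rec (motive := fun _ => ℕ) (Bool.rec (motive := fun _ => ℕ) (j13_92) (j13_93) (Nat.ble 93 b)) (Bool.rec (motive := fun _ => ℕ) (j13_94) (j13_95) (Nat.ble 95 b)) (Nat.ble 94 b)) (Nat.ble 92 b)) (Nat.ble 88 b)) (Nat.ble 80 b)) (Bool.rec (motive := fun _ => ℕ) (Bool.rec (motive := fun _ => ℕ) (Bool.rec (motive := fun _ => ℕ) (Bool.rec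 (motive := fun _ => ℕ) (Bool.rec (motive := fun _ => ℕ) (j13_96) (j13_97) (Nat.ble 97 b)) (Bool.rec (motive := fun _ => ℕ) (j13_98) (j13_99) (Nat.ble 99 b)) (Nat.ble 98 b)) (Bool.rec (motive := fun _ => ℕ) (Bool.rec (motive := fun _ => ℕ) (j13_100) (j13_101) (Nat.ble 101 b)) (Bool.rec (motive := fun _ => ℕ) (j13_102) (j13_103) (Nat.ble 103 b)) (Nat.ble 102 b)) (Nat.ble 100 b)) (Bool.rec (motive := fun _ => ℕ) (Bool.rec (motive := fun _ => ℕ) (Bool.rec (motive := fun _ => ℕ) (j13_104) (j13_105) (Nat.ble 105 b)) (Bool.rec (motive := fun _ => ℕ) (j13_106) (j13_107) (Nat.ble 107 b)) (Nat.ble 106 b)) (Bool.rec (motive := fun _ => ℕ) (Bool.rec (motive := fun _ => ℕ) (j13_108) (j13_109) (Nat.ble 109 b)) (Bool.rec (motive := fun _ => ℕ) (j13_110) (j13_111) (Nat.ble 111 b)) (Nat.ble 110 b)) (Nat.ble 108 b)) (Nat.ble 104 b)) (Bool.rec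 (motive := fun _ => ℕ) (Bool.rec (motive := fun _ => ℕ) (Bool.rec (motive := fun _ => ℕ) (Bool.rec (motive := fun _ => ℕ) (j13_112) (j13_113) (Nat.ble 113 b)) (Bool.rec (motive := fun _ => ℕ) (j13_114) (j13_115) (Nat.ble 115 b)) (Nat.ble 114 b)) (Bool.rec (motive := fun _ => ℕ) (Bool.rec (motive := fun _ => ℕ) (j13_116) (j13_117) (Nat.ble 117 b)) (Bool.rec (motive := fun _ => ℕ) (j13_118) (j13_119) (Nat.ble 119 b)) (Nat.ble 118 b)) (Nat.ble 116 b)) (Bool.rec (motive := fun _ => ℕ) (Bool.rec (motive := fun _ => ℕ) (Bool.rec (motive := fun _ => ℕ) (j13_120) (j13_121) (Nat.ble 121 b)) (Bool.rec (motive := fun _ => ℕ) (j13_122) (j13_123) (Nat.ble 123 b)) (Nat.ble 122 b)) (Bool.rec (motive := fun _ => ℕ) (Bool.rec (motive := fun _ => ℕ) (j13_124) (j13_125) (Nat.ble 125 b)) (Bool.rec (motive := fun _ => ℕ) (j13_126) (j13_127) (Nat.ble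 127 b)) (Nat.ble 126 b)) (Nat.ble 124 b)) (Nat.ble 120 b)) (Nat.ble 112 b)) (Nat.ble 96 b)) (Nat.ble 64 b)) (Bool.rec (motive := fun _ => ℕ) (Bool.rec (motive := fun _ => ℕ) (Bool.rec (motive := fun _ => ℕ) (Bool.rec (motive := fun _ => ℕ) (Bool.rec (motive := fun _ => ℕ) (Bool.rec (motive := fun _ => ℕ) (Bool.rec (motive := fun _ => ℕ) (j13_128) (j13_129) (Nat.ble 129 b)) (Bool.rec (motive := fun _ => ℕ) (j13_130) (j13_131) (Nat.ble 131 b)) (Nat.ble 130 b)) (Bool.rec (motive := fun _ => ℕ) (Bool.rec (motive := fun _ => ℕ) (j13_132) (j13_133) (Nat.ble 133 b)) (Bool.rec (motive := fun _ => ℕ) (j13_134) (j13_135) (Nat.ble 135 b)) (Nat.ble 134 b)) (Nat.ble 132 b)) (Bool.rec (motive := fun _ => ℕ) (Bool.rec (motive := fun _ => ℕ) (Bool.rec (motive := fun _ => ℕ) (j13_136) (j13_137) (Nat.ble 137 b)) (Bool.rec (motive := fun _ => ℕ)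 (j13_138) (j13_139) (Nat.ble 139 b)) (Nat.ble 138 b)) (Bool.rec (motive := fun _ => ℕ) (Bool.rec (motive := fun _ => ℕ) (j13_140) (j13_141) (Nat.ble 141 b)) (Bool.rec (motive := fun _ => ℕ) (j13_142) (j13_143) (Nat.ble 143 b)) (Nat.ble 142 b)) (Nat.ble 140 b)) (Nat.ble 136 b)) (Bool.rec (motive := fun _ => ℕ) (Bool.rec (motive := fun _ => ℕ) (Bool.rec (motive := fun _ => ℕ) (Bool.rec (motive := fun _ => ℕ) (j13_144) (j13_145) (Nat.ble 145 b)) (Bool.rec (motive := fun _ => ℕ) (j13_146) (j13_147) (Nat.ble 147 b)) (Nat.ble 146 b)) (Bool.rec (motive := fun _ => ℕ) (Bool.rec (motive := fun _ => ℕ) (j13_148) (j13_149) (Nat.ble 149 b)) (Bool.rec (motive := fun _ => ℕ) (j13_150) (j13_151) (Nat.ble 151 b)) (Nat.ble 150 b)) (Nat.ble 148 b)) (Bool.rec (motive := fun _ => ℕ) (Bool.rec (motive := fun _ => ℕ) (Bool.rec (motive := fun _ =>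 ℕ) (j13_152) (j13_153) (Nat.ble 153 b)) (Bool.rec (motive := fun _ => ℕ) (j13_154) (j13_155) (Nat.ble 155 b)) (Nat.ble 154 b)) (Bool.rec (motive := fun _ => ℕ) (Bool.rec (motive := fun _ => ℕ) (j13_156) (j13_157) (Nat.ble 157 b)) (Bool.rec (motive := fun _ => ℕ) (j13_158) (j13_159) (Nat.ble 159 b)) (Nat.ble 158 b)) (Nat.ble 156 b)) (Nat.ble 152 b)) (Nat.ble 144 b)) (Bool.rec (motive := fun _ => ℕ) (Bool.rec (motive := fun _ => ℕ) (Bool.rec (motive := fun _ => ℕ) (Bool.rec (motive := fun _ => ℕ) (Bool.rec (motive := fun _ => ℕ) (j13_160) (j13_161) (Nat.ble 161 b)) (Bool.rec (motive := fun _ => ℕ) (j13_162) (j13_163) (Nat.ble 163 b)) (Nat.ble 162 b)) (Bool.rec (motive := fun _ => ℕ) (Bool.rec (motive := fun _ => ℕ) (j13_164) (j13_165) (Nat.ble 165 b)) (Bool.rec (motive := fun _ => ℕ) (j13_166) (j13_167) (Nat.ble 167 b)) (Nat.ble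 166 b)) (Nat.ble 164 b)) (Bool.rec (motive := fun _ => ℕ) (Bool.rec (motive := fun _ => ℕ) (Bool.rec (motive := fun _ => ℕ) (j13_168) (j13_169) (Nat.ble 169 b)) (Bool.rec (motive := fun _ => ℕ) (j13_170) (j13_171) (Nat.ble 171 b)) (Nat.ble 170 b)) (Bool.rec (motive := fun _ => ℕ) (Bool.rec (motive := fun _ => ℕ) (j13_172) (j13_173) (Nat.ble 173 b)) (Bool.rec (motive := fun _ => ℕ) (j13_174) (j13_175) (Nat.ble 175 b)) (Nat.ble 174 b)) (Nat.ble 172 b)) (Nat.ble 168 b)) (Bool.rec (motive := fun _ => ℕ) (Bool.rec (motive := fun _ => ℕ) (Bool.rec (motive := fun _ => ℕ) (Bool.rec (motive := fun _ => ℕ) (j13_176) (j13_177) (Nat.ble 177 b)) (Bool.rec (motive := fun _ => ℕ) (j13_178) (j13_179) (Nat.ble 179 b)) (Nat.ble 178 b)) (Bool.rec (motive := fun _ => ℕ) (Bool.rec (motive := fun _ => ℕ) (j13_180) (j13_181) (Nat.ble 181 b)) (Bool.rec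 (motive := fun _ => ℕ) (j13_182) (j13_183) (Nat.ble 183 b)) (Nat.ble 182 b)) (Nat.ble 180 b)) (Bool.rec (motive := fun _ => ℕ) (Bool.rec (motive := fun _ => ℕ) (Bool.rec (motive := fun _ => ℕ) (j13_184) (j13_185) (Nat.ble 185 b)) (Bool.rec (motive := fun _ => ℕ) (j13_186) (j13_187) (Nat.ble 187 b)) (Nat.ble 186 b)) (Bool.rec (motive := fun _ => ℕ) (Bool.rec (motive := fun _ => ℕ) (j13_188) (j13_189) (Nat.ble 189 b)) (Bool.rec (motive := fun _ => ℕ) (j13_190) (j13_191) (Nat.ble 191 b)) (Nat.ble 190 b)) (Nat.ble 188 b)) (Nat.ble 184 b)) (Nat.ble 176 b)) (Nat.ble 160 b)) (Bool.rec (motive := fun _ => ℕ) (Bool.rec (motive := fun _ => ℕ) (Bool.rec (motive := fun _ => ℕ) (Bool.rec (motive := fun _ => ℕ) (Bool.rec (motive := fun _ => ℕ) (Bool.rec (motive := fun _ => ℕ) (j13_192) (j13_193) (Nat.ble 193 b)) (Bool.rec (motive := fun _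 => ℕ) (j13_194) (j13_195) (Nat.ble 195 b)) (Nat.ble 194 b)) (Bool.rec (motive := fun _ => ℕ) (Bool.rec (motive := fun _ => ℕ) (j13_196) (j13_197) (Nat.ble 197 b)) (Bool.rec (motive := fun _ => ℕ) (j13_198) (j13_199) (Nat.ble 199 b)) (Nat.ble 198 b)) (Nat.ble 196 b)) (Bool.rec (motive := fun _ => ℕ) (Bool.rec (motive := fun _ => ℕ) (Bool.rec (motive := fun _ => ℕ) (j13_200) (j13_201) (Nat.ble 201 b)) (Bool.rec (motive := fun _ => ℕ) (j13_202) (j13_203) (Nat.ble 203 b)) (Nat.ble 202 b)) (Bool.rec (motive := fun _ => ℕ) (Bool.rec (motive := fun _ => ℕ) (j13_204) (j13_205) (Nat.ble 205 b)) (Bool.rec (motive := fun _ => ℕ) (j13_206) (j13_207) (Nat.ble 207 b)) (Nat.ble 206 b)) (Nat.ble 204 b)) (Nat.ble 200 b)) (Bool.rec (motive := fun _ => ℕ) (Bool.rec (motive := fun _ => ℕ) (Bool.rec (motive := fun _ => ℕ) (Bool.rec (motive := fun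 _ => ℕ) (j13_208) (j13_209) (Nat.ble 209 b)) (Bool.rec (motive := fun _ => ℕ) (j13_210) (j13_211) (Nat.ble 211 b)) (Nat.ble 210 b)) (Bool.rec (motive := fun _ => ℕ) (Bool.rec (motive := fun _ => ℕ) (j13_212) (j13_213) (Nat.ble 213 b)) (Bool.rec (motive := fun _ => ℕ) (j13_214) (j13_215) (Nat.ble 215 b)) (Nat.ble 214 b)) (Nat.ble 212 b)) (Bool.rec (motive := fun _ => ℕ) (Bool.rec (motive := fun _ => ℕ) (Bool.rec (motive := fun _ => ℕ) (j13_216) (j13_217) (Nat.ble 217 b)) (Bool.rec (motive := fun _ => ℕ) (j13_218) (j13_219) (Nat.ble 219 b)) (Nat.ble 218 b)) (Bool.rec (motive := fun _ => ℕ) (Bool.rec (motive := fun _ => ℕ) (j13_220) (j13_221) (Nat.ble 221 b)) (Bool.rec (motive := fun _ => ℕ) (j13_222) (j13_223) (Nat.ble 223 b)) (Nat.ble 222 b)) (Nat.ble 220 b)) (Nat.ble 216 b)) (Nat.ble 208 b)) (Bool.rec (motive := fun _ => ℕ) (Bool.rec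 (motive := fun _ => ℕ) (Bool.rec (motive := fun _ => ℕ) (Bool.rec (motive := fun _ => ℕ) (Bool.rec (motive := fun _ => ℕ) (j13_224) (j13_225) (Nat.ble 225 b)) (Bool.rec (motive := fun _ => ℕ) (j13_226) (j13_227) (Nat.ble 227 b)) (Nat.ble 226 b)) (Bool.rec (motive := fun _ => ℕ) (Bool.rec (motive := fun _ => ℕ) (j13_228) (j13_229) (Nat.ble 229 b)) (Bool.rec (motive := fun _ => ℕ) (j13_230) (j13_231) (Nat.ble 231 b)) (Nat.ble 230 b)) (Nat.ble 228 b)) (Bool.rec (motive := fun _ => ℕ) (Bool.rec (motive := fun _ => ℕ) (Bool.rec (motive := fun _ => ℕ) (j13_232) (j13_233) (Nat.ble 233 b)) (Bool.rec (motive := fun _ => ℕ) (j13_234) (j13_235) (Nat.ble 235 b)) (Nat.ble 234 b)) (Bool.rec (motive := fun _ => ℕ) (Bool.rec (motive := fun _ => ℕ) (j13_236) (j13_237) (Nat.ble 237 b)) (Bool.rec (motive := fun _ => ℕ) (j13_238) (j13_239) (Nat.ble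 239 b)) (Nat.ble 238 b)) (Nat.ble 236 b)) (Nat.ble 232 b)) (Bool.rec (motive := fun _ => ℕ) (Bool.rec (motive := fun _ => ℕ) (Bool.rec (motive := fun _ => ℕ) (Bool.rec (motive := fun _ => ℕ) (j13_240) (j13_241) (Nat.ble 241 b)) (Bool.rec (motive := fun _ => ℕ) (j13_242) (j13_243) (Nat.ble 243 b)) (Nat.ble 242 b)) (Bool.rec (motive := fun _ => ℕ) (Bool.rec (motive := fun _ => ℕ) (j13_244) (j13_245) (Nat.ble 245 b)) (Bool.rec (motive := fun _ => ℕ) (j13_246) (j13_247) (Nat.ble 247 b)) (Nat.ble 246 b)) (Nat.ble 244 b)) (Bool.rec (motive := fun _ => ℕ) (Bool.rec (motive := fun _ => ℕ) (Bool.rec (motive := fun _ => ℕ) (j13_248) (j13_249) (Nat.ble 249 b)) (Bool.rec (motive := fun _ => ℕ) (j13_250) (j13_251) (Nat.ble 251 b)) (Nat.ble 250 b)) (Bool.rec (motive := fun _ => ℕ) (Bool.rec (motive := fun _ => ℕ) (j13_252) (j13_253) (Nat.ble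 253 b)) (Bool.rec (motive := fun _ => ℕ) (j13_254) (j13_255) (Nat.ble 255 b)) (Nat.ble 254 b)) (Nat.ble 252 b)) (Nat.ble 248 b)) (Nat.ble 240 b)) (Nat.ble 224 b)) (Nat.ble 192 b)) (Nat.ble 128 b)) (Bool.rec (motive := fun _ => ℕ) (Bool.rec (motive := fun _ => ℕ) (Bool.rec (motive := fun _ => ℕ) (Bool.rec (motive := fun _ => ℕ) (Bool.rec (motive := fun _ => ℕ) (Bool.rec (motive := fun _ => ℕ) (Bool.rec (motive := fun _ => ℕ) (Bool.rec (motive := fun _ => ℕ) (j13_256) (j13_257) (Nat.ble 257 b)) (Bool.rec (motive := fun _ => ℕ) (j13_258) (j13_259) (Nat.ble 259 b)) (Nat.ble 258 b)) (Bool.rec (motive := fun _ => ℕ) (Bool.rec (motive := fun _ => ℕ) (j13_260) (j13_261) (Nat.ble 261 b)) (Bool.rec (motive := fun _ => ℕ) (j13_262) (j13_263) (Nat.ble 263 b)) (Nat.ble 262 b)) (Nat.ble 260 b)) (Bool.rec (motive := fun _ => ℕ) (Bool.rec (motive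 := fun _ => ℕ) (Bool.rec (motive := fun _ => ℕ) (j13_264) (j13_265) (Nat.ble 265 b)) (Bool.rec (motive := fun _ => ℕ) (j13_266) (0) (Nat.ble 267 b)) (Nat.ble 266 b)) (0) (Nat.ble 268 b)) (Nat.ble 264 b)) (0) (Nat.ble 272 b)) (0) (Nat.ble 288 b)) (0) (Nat.ble 320 b)) (0) (Nat.ble 384 b)) (Nat.ble 256 b))
noncomputable def eT (c b : ℕ) : ℕ := (Bool.rec (motive := fun _ => ℕ) (Bool.rec (motive := fun _ => ℕ) (Bool.rec (motive := fun _ => ℕ) (Bool.rec (motive := fun _ => ℕ) (ecol0 b) (ecol1 b) (Nat.ble 1 c)) (Bool.rec (motive := fun _ => ℕ) (ecol2 b) (ecol3 b) (Nat.ble 3 c)) (Nat.ble 2 c)) (Bool.rec (motive := fun _ => ℕ) (Bool.rec (motive := fun _ => ℕ) (ecol4 b) (ecol5 b) (Nat.ble 5 c)) (Bool.rec (motive := fun _ => ℕ) (ecol6 b) (ecol7 b) (Nat.ble 7 c)) (Nat.ble 6 c)) (Nat.ble 4 c)) (Bool.rec (motive := fun _ => ℕ) (Bool.rec (motive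 := fun _ => ℕ) (Bool.rec (motive := fun _ => ℕ) (ecol8 b) (ecol9 b) (Nat.ble 9 c)) (Bool.rec (motive := fun _ => ℕ) (ecol10 b) (ecol11 b) (Nat.ble 11 c)) (Nat.ble 10 c)) (Bool.rec (motive := fun _ => ℕ) (Bool.rec (motive := fun _ => ℕ) (ecol12 b) (ecol13 b) (Nat.ble 13 c)) (0) (Nat.ble 14 c)) (Nat.ble 12 c)) (Nat.ble 8 c))
noncomputable def jT (c b : ℕ) : ℕ := (Bool.rec (motive := fun _ => ℕ) (Bool.rec (motive := fun _ => ℕ) (Bool.rec (motive := fun _ => ℕ) (Bool.rec (motive := fun _ => ℕ) (jcol0 b) (jcol1 b) (Nat.ble 1 c)) (Bool.rec (motive := fun _ => ℕ) (jcol2 b) (jcol3 b) (Nat.ble 3 c)) (Nat.ble 2 c)) (Bool.rec (motive := fun _ => ℕ) (Bool.rec (motive := fun _ => ℕ) (jcol4 b) (jcol5 b) (Nat.ble 5 c)) (Bool.rec (motive := fun _ => ℕ) (jcol6 b) (jcol7 b) (Nat.ble 7 c)) (Nat.ble 6 c)) (Nat.ble 4 c)) (Bool.rec (motive := fun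 _ => ℕ) (Bool.rec (motive := fun _ => ℕ) (Bool.rec (motive := fun _ => ℕ) (jcol8 b) (jcol9 b) (Nat.ble 9 c)) (Bool.rec (motive := fun _ => ℕ) (jcol10 b) (jcol11 b) (Nat.ble 11 c)) (Nat.ble 10 c)) (Bool.rec (motive := fun _ => ℕ) (Bool.rec (motive := fun _ => ℕ) (jcol12 b) (jcol13 b) (Nat.ble 13 c)) (0) (Nat.ble 14 c)) (Nat.ble 12 c)) (Nat.ble 8 c))
noncomputable def mgT (b : ℕ) : ℕ := (Bool.rec (motive := fun _ => ℕ) (Bool.rec (motive := fun _ => ℕ) (Bool.rec (motive := fun _ => ℕ) (Bool.rec (motive := fun _ => ℕ) (Bool.rec (motive := fun _ => ℕ) (Bool.rec (motive := fun _ => ℕ) (Bool.rec (motive := fun _ => ℕ) (Bool.rec (motive := fun _ => ℕ) (Bool.rec (motive := fun _ => ℕ) (m_0) (m_1) (Nat.ble 1 b)) (Bool.rec (motive := fun _ => ℕ) (m_2) (m_3) (Nat.ble 3 b)) (Nat.ble 2 b)) (Bool.rec (motive := fun _ => ℕ) (Bool.rec (motive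 := fun _ => ℕ) (m_4) (m_5) (Nat.ble 5 b)) (Bool.rec (motive := fun _ => ℕ) (m_6) (m_7) (Nat.ble 7 b)) (Nat.ble 6 b)) (Nat.ble 4 b)) (Bool.rec (motive := fun _ => ℕ) (Bool.rec (motive := fun _ => ℕ) (Bool.rec (motive := fun _ => ℕ) (m_8) (m_9) (Nat.ble 9 b)) (Bool.rec (motive := fun _ => ℕ) (m_10) (m_11) (Nat.ble 11 b)) (Nat.ble 10 b)) (Bool.rec (motive := fun _ => ℕ) (Bool.rec (motive := fun _ => ℕ) (m_12) (m_13) (Nat.ble 13 b)) (Bool.rec (motive := fun _ => ℕ) (m_14) (m_15) (Nat.ble 15 b)) (Nat.ble 14 b)) (Nat.ble 12 b)) (Nat.ble 8 b)) (Bool.rec (motive := fun _ => ℕ) (Bool.rec (motive := fun _ => ℕ) (Bool.rec (motive := fun _ => ℕ) (Bool.rec (motive := fun _ => ℕ) (m_16) (m_17) (Nat.ble 17 b)) (Bool.rec (motive := fun _ => ℕ) (m_18) (m_19) (Nat.ble 19 b)) (Nat.ble 18 b)) (Bool.rec (motive := fun _ => ℕ) (Bool.rec (motive :=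 fun _ => ℕ) (m_20) (m_21) (Nat.ble 21 b)) (Bool.rec (motive := fun _ => ℕ) (m_22) (m_23) (Nat.ble 23 b)) (Nat.ble 22 b)) (Nat.ble 20 b)) (Bool.rec (motive := fun _ => ℕ) (Bool.rec (motive := fun _ => ℕ) (Bool.rec (motive := fun _ => ℕ) (m_24) (m_25) (Nat.ble 25 b)) (Bool.rec (motive := fun _ => ℕ) (m_26) (m_27) (Nat.ble 27 b)) (Nat.ble 26 b)) (Bool.rec (motive := fun _ => ℕ) (Bool.rec (motive := fun _ => ℕ) (m_28) (m_29) (Nat.ble 29 b)) (Bool.rec (motive := fun _ => ℕ) (m_30) (m_31) (Nat.ble 31 b)) (Nat.ble 30 b)) (Nat.ble 28 b)) (Nat.ble 24 b)) (Nat.ble 16 b)) (Bool.rec (motive := fun _ => ℕ) (Bool.rec (motive := fun _ => ℕ) (Bool.rec (motive := fun _ => ℕ) (Bool.rec (motive := fun _ => ℕ) (Bool.rec (motive := fun _ => ℕ) (m_32) (m_33) (Nat.ble 33 b)) (Bool.rec (motive := fun _ => ℕ) (m_34) (m_35) (Nat.ble 35 b)) (Nat.ble 34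 b)) (Bool.rec (motive := fun _ => ℕ) (Bool.rec (motive := fun _ => ℕ) (m_36) (m_37) (Nat.ble 37 b)) (Bool.rec (motive := fun _ => ℕ) (m_38) (m_39) (Nat.ble 39 b)) (Nat.ble 38 b)) (Nat.ble 36 b)) (Bool.rec (motive := fun _ => ℕ) (Bool.rec (motive := fun _ => ℕ) (Bool.rec (motive := fun _ => ℕ) (m_40) (m_41) (Nat.ble 41 b)) (Bool.rec (motive := fun _ => ℕ) (m_42) (m_43) (Nat.ble 43 b)) (Nat.ble 42 b)) (Bool.rec (motive := fun _ => ℕ) (Bool.rec (motive := fun _ => ℕ) (m_44) (m_45) (Nat.ble 45 b)) (Bool.rec (motive := fun _ => ℕ) (m_46) (m_47) (Nat.ble 47 b)) (Nat.ble 46 b)) (Nat.ble 44 b)) (Nat.ble 40 b)) (Bool.rec (motive := fun _ => ℕ) (Bool.rec (motive := fun _ => ℕ) (Bool.rec (motive := fun _ => ℕ) (Bool.rec (motive := fun _ => ℕ) (m_48) (m_49) (Nat.ble 49 b)) (Bool.rec (motive := fun _ => ℕ) (m_50) (m_51) (Nat.ble 51 b)) (Nat.ble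 50 b)) (Bool.rec (motive := fun _ => ℕ) (Bool.rec (motive := fun _ => ℕ) (m_52) (m_53) (Nat.ble 53 b)) (Bool.rec (motive := fun _ => ℕ) (m_54) (m_55) (Nat.ble 55 b)) (Nat.ble 54 b)) (Nat.ble 52 b)) (Bool.rec (motive := fun _ => ℕ) (Bool.rec (motive := fun _ => ℕ) (Bool.rec (motive := fun _ => ℕ) (m_56) (m_57) (Nat.ble 57 b)) (Bool.rec (motive := fun _ => ℕ) (m_58) (m_59) (Nat.ble 59 b)) (Nat.ble 58 b)) (Bool.rec (motive := fun _ => ℕ) (Bool.rec (motive := fun _ => ℕ) (m_60) (m_61) (Nat.ble 61 b)) (Bool.rec (motive := fun _ => ℕ) (m_62) (m_63) (Nat.ble 63 b)) (Nat.ble 62 b)) (Nat.ble 60 b)) (Nat.ble 56 b)) (Nat.ble 48 b)) (Nat.ble 32 b)) (Bool.rec (motive := fun _ => ℕ) (Bool.rec (motive := fun _ => ℕ) (Bool.rec (motive := fun _ => ℕ) (Bool.rec (motive := fun _ => ℕ) (Bool.rec (motive := fun _ => ℕ) (Bool.rec (motive := fun _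 => ℕ) (m_64) (m_65) (Nat.ble 65 b)) (Bool.rec (motive := fun _ => ℕ) (m_66) (m_67) (Nat.ble 67 b)) (Nat.ble 66 b)) (Bool.rec (motive := fun _ => ℕ) (Bool.rec (motive := fun _ => ℕ) (m_68) (m_69) (Nat.ble 69 b)) (Bool.rec (motive := fun _ => ℕ) (m_70) (m_71) (Nat.ble 71 b)) (Nat.ble 70 b)) (Nat.ble 68 b)) (Bool.rec (motive := fun _ => ℕ) (Bool.rec (motive := fun _ => ℕ) (Bool.rec (motive := fun _ => ℕ) (m_72) (m_73) (Nat.ble 73 b)) (Bool.rec (motive := fun _ => ℕ) (m_74) (m_75) (Nat.ble 75 b)) (Nat.ble 74 b)) (Bool.rec (motive := fun _ => ℕ) (Bool.rec (motive := fun _ => ℕ) (m_76) (m_77) (Nat.ble 77 b)) (Bool.rec (motive := fun _ => ℕ) (m_78) (m_79) (Nat.ble 79 b)) (Nat.ble 78 b)) (Nat.ble 76 b)) (Nat.ble 72 b)) (Bool.rec (motive := fun _ => ℕ) (Bool.rec (motive := fun _ => ℕ) (Bool.rec (motive := fun _ => ℕ) (Bool.rec (motive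 := fun _ => ℕ) (m_80) (m_81) (Nat.ble 81 b)) (Bool.rec (motive := fun _ => ℕ) (m_82) (m_83) (Nat.ble 83 b)) (Nat.ble 82 b)) (Bool.rec (motive := fun _ => ℕ) (Bool.rec (motive := fun _ => ℕ) (m_84) (m_85) (Nat.ble 85 b)) (Bool.rec (motive := fun _ => ℕ) (m_86) (m_87) (Nat.ble 87 b)) (Nat.ble 86 b)) (Nat.ble 84 b)) (Bool.rec (motive := fun _ => ℕ) (Bool.rec (motive := fun _ => ℕ) (Bool.rec (motive := fun _ => ℕ) (m_88) (m_89) (Nat.ble 89 b)) (Bool.rec (motive := fun _ => ℕ) (m_90) (m_91) (Nat.ble 91 b)) (Nat.ble 90 b)) (Bool.rec (motive := fun _ => ℕ) (Bool.rec (motive := fun _ => ℕ) (m_92) (m_93) (Nat.ble 93 b)) (Bool.rec (motive := fun _ => ℕ) (m_94) (m_95) (Nat.ble 95 b)) (Nat.ble 94 b)) (Nat.ble 92 b)) (Nat.ble 88 b)) (Nat.ble 80 b)) (Bool.rec (motive := fun _ => ℕ) (Bool.rec (motive := fun _ => ℕ) (Bool.rec (motive := fun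 _ => ℕ) (Bool.rec (motive := fun _ => ℕ) (Bool.rec (motive := fun _ => ℕ) (m_96) (m_97) (Nat.ble 97 b)) (Bool.rec (motive := fun _ => ℕ) (m_98) (m_99) (Nat.ble 99 b)) (Nat.ble 98 b)) (Bool.rec (motive := fun _ => ℕ) (Bool.rec (motive := fun _ => ℕ) (m_100) (m_101) (Nat.ble 101 b)) (Bool.rec (motive := fun _ => ℕ) (m_102) (m_103) (Nat.ble 103 b)) (Nat.ble 102 b)) (Nat.ble 100 b)) (Bool.rec (motive := fun _ => ℕ) (Bool.rec (motive := fun _ => ℕ) (Bool.rec (motive := fun _ => ℕ) (m_104) (m_105) (Nat.ble 105 b)) (Bool.rec (motive := fun _ => ℕ) (m_106) (m_107) (Nat.ble 107 b)) (Nat.ble 106 b)) (Bool.rec (motive := fun _ => ℕ) (Bool.rec (motive := fun _ => ℕ) (m_108) (m_109) (Nat.ble 109 b)) (Bool.rec (motive := fun _ => ℕ) (m_110) (m_111) (Nat.ble 111 b)) (Nat.ble 110 b)) (Nat.ble 108 b)) (Nat.ble 104 b)) (Bool.rec (motive := fun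 _ => ℕ) (Bool.rec (motive := fun _ => ℕ) (Bool.rec (motive := fun _ => ℕ) (Bool.rec (motive := fun _ => ℕ) (m_112) (m_113) (Nat.ble 113 b)) (Bool.rec (motive := fun _ => ℕ) (m_114) (m_115) (Nat.ble 115 b)) (Nat.ble 114 b)) (Bool.rec (motive := fun _ => ℕ) (Bool.rec (motive := fun _ => ℕ) (m_116) (m_117) (Nat.ble 117 b)) (Bool.rec (motive := fun _ => ℕ) (m_118) (m_119) (Nat.ble 119 b)) (Nat.ble 118 b)) (Nat.ble 116 b)) (Bool.rec (motive := fun _ => ℕ) (Bool.rec (motive := fun _ => ℕ) (Bool.rec (motive := fun _ => ℕ) (m_120) (m_121) (Nat.ble 121 b)) (Bool.rec (motive := fun _ => ℕ) (m_122) (m_123) (Nat.ble 123 b)) (Nat.ble 122 b)) (Bool.rec (motive := fun _ => ℕ) (Bool.rec (motive := fun _ => ℕ) (m_124) (m_125) (Nat.ble 125 b)) (Bool.rec (motive := fun _ => ℕ) (m_126) (m_127) (Nat.ble 127 b)) (Nat.ble 126 b)) (Nat.ble 124 b)) (Nat.ble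 120 b)) (Nat.ble 112 b)) (Nat.ble 96 b)) (Nat.ble 64 b)) (Bool.rec (motive := fun _ => ℕ) (Bool.rec (motive := fun _ => ℕ) (Bool.rec (motive := fun _ => ℕ) (Bool.rec (motive := fun _ => ℕ) (Bool.rec (motive := fun _ => ℕ) (Bool.rec (motive := fun _ => ℕ) (Bool.rec (motive := fun _ => ℕ) (m_128) (m_129) (Nat.ble 129 b)) (Bool.rec (motive := fun _ => ℕ) (m_130) (m_131) (Nat.ble 131 b)) (Nat.ble 130 b)) (Bool.rec (motive := fun _ => ℕ) (Bool.rec (motive := fun _ => ℕ) (m_132) (m_133) (Nat.ble 133 b)) (Bool.rec (motive := fun _ => ℕ) (m_134) (m_135) (Nat.ble 135 b)) (Nat.ble 134 b)) (Nat.ble 132 b)) (Bool.rec (motive := fun _ => ℕ) (Bool.rec (motive := fun _ => ℕ) (Bool.rec (motive := fun _ => ℕ) (m_136) (m_137) (Nat.ble 137 b)) (Bool.rec (motive := fun _ => ℕ) (m_138) (m_139) (Nat.ble 139 b)) (Nat.ble 138 b)) (Bool.rec (motive :=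 fun _ => ℕ) (Bool.rec (motive := fun _ => ℕ) (m_140) (m_141) (Nat.ble 141 b)) (Bool.rec (motive := fun _ => ℕ) (m_142) (m_143) (Nat.ble 143 b)) (Nat.ble 142 b)) (Nat.ble 140 b)) (Nat.ble 136 b)) (Bool.rec (motive := fun _ => ℕ) (Bool.rec (motive := fun _ => ℕ) (Bool.rec (motive := fun _ => ℕ) (Bool.rec (motive := fun _ => ℕ) (m_144) (m_145) (Nat.ble 145 b)) (Bool.rec (motive := fun _ => ℕ) (m_146) (m_147) (Nat.ble 147 b)) (Nat.ble 146 b)) (Bool.rec (motive := fun _ => ℕ) (Bool.rec (motive := fun _ => ℕ) (m_148) (m_149) (Nat.ble 149 b)) (Bool.rec (motive := fun _ => ℕ) (m_150) (m_151) (Nat.ble 151 b)) (Nat.ble 150 b)) (Nat.ble 148 b)) (Bool.rec (motive := fun _ => ℕ) (Bool.rec (motive := fun _ => ℕ) (Bool.rec (motive := fun _ => ℕ) (m_152) (m_153) (Nat.ble 153 b)) (Bool.rec (motive := fun _ => ℕ) (m_154) (m_155) (Nat.ble 155 b))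 (Nat.ble 154 b)) (Bool.rec (motive := fun _ => ℕ) (Bool.rec (motive := fun _ => ℕ) (m_156) (m_157) (Nat.ble 157 b)) (Bool.rec (motive := fun _ => ℕ) (m_158) (m_159) (Nat.ble 159 b)) (Nat.ble 158 b)) (Nat.ble 156 b)) (Nat.ble 152 b)) (Nat.ble 144 b)) (Bool.rec (motive := fun _ => ℕ) (Bool.rec (motive := fun _ => ℕ) (Bool.rec (motive := fun _ => ℕ) (Bool.rec (motive := fun _ => ℕ) (Bool.rec (motive := fun _ => ℕ) (m_160) (m_161) (Nat.ble 161 b)) (Bool.rec (motive := fun _ => ℕ) (m_162) (m_163) (Nat.ble 163 b)) (Nat.ble 162 b)) (Bool.rec (motive := fun _ => ℕ) (Bool.rec (motive := fun _ => ℕ) (m_164) (m_165) (Nat.ble 165 b)) (Bool.rec (motive := fun _ => ℕ) (m_166) (m_167) (Nat.ble 167 b)) (Nat.ble 166 b)) (Nat.ble 164 b)) (Bool.rec (motive := fun _ => ℕ) (Bool.rec (motive := fun _ => ℕ) (Bool.rec (motive := fun _ => ℕ) (m_168)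 (m_169) (Nat.ble 169 b)) (Bool.rec (motive := fun _ => ℕ) (m_170) (m_171) (Nat.ble 171 b)) (Nat.ble 170 b)) (Bool.rec (motive := fun _ => ℕ) (Bool.rec (motive := fun _ => ℕ) (m_172) (m_173) (Nat.ble 173 b)) (Bool.rec (motive := fun _ => ℕ) (m_174) (m_175) (Nat.ble 175 b)) (Nat.ble 174 b)) (Nat.ble 172 b)) (Nat.ble 168 b)) (Bool.rec (motive := fun _ => ℕ) (Bool.rec (motive := fun _ => ℕ) (Bool.rec (motive := fun _ => ℕ) (Bool.rec (motive := fun _ => ℕ) (m_176) (m_177) (Nat.ble 177 b)) (Bool.rec (motive := fun _ => ℕ) (m_178) (m_179) (Nat.ble 179 b)) (Nat.ble 178 b)) (Bool.rec (motive := fun _ => ℕ) (Bool.rec (motive := fun _ => ℕ) (m_180) (m_181) (Nat.ble 181 b)) (Bool.rec (motive := fun _ => ℕ) (m_182) (m_183) (Nat.ble 183 b)) (Nat.ble 182 b)) (Nat.ble 180 b)) (Bool.rec (motive := fun _ => ℕ) (Bool.rec (motive := fun _ => ℕ)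 (Bool.rec (motive := fun _ => ℕ) (m_184) (m_185) (Nat.ble 185 b)) (Bool.rec (motive := fun _ => ℕ) (m_186) (m_187) (Nat.ble 187 b)) (Nat.ble 186 b)) (Bool.rec (motive := fun _ => ℕ) (Bool.rec (motive := fun _ => ℕ) (m_188) (m_189) (Nat.ble 189 b)) (Bool.rec (motive := fun _ => ℕ) (m_190) (m_191) (Nat.ble 191 b)) (Nat.ble 190 b)) (Nat.ble 188 b)) (Nat.ble 184 b)) (Nat.ble 176 b)) (Nat.ble 160 b)) (Bool.rec (motive := fun _ => ℕ) (Bool.rec (motive := fun _ => ℕ) (Bool.rec (motive := fun _ => ℕ) (Bool.rec (motive := fun _ => ℕ) (Bool.rec (motive := fun _ => ℕ) (Bool.rec (motive := fun _ => ℕ) (m_192) (m_193) (Nat.ble 193 b)) (Bool.rec (motive := fun _ => ℕ) (m_194) (m_195) (Nat.ble 195 b)) (Nat.ble 194 b)) (Bool.rec (motive := fun _ => ℕ) (Bool.rec (motive := fun _ => ℕ) (m_196) (m_197) (Nat.ble 197 b)) (Bool.rec (motive := fun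 _ => ℕ) (m_198) (m_199) (Nat.ble 199 b)) (Nat.ble 198 b)) (Nat.ble 196 b)) (Bool.rec (motive := fun _ => ℕ) (Bool.rec (motive := fun _ => ℕ) (Bool.rec (motive := fun _ => ℕ) (m_200) (m_201) (Nat.ble 201 b)) (Bool.rec (motive := fun _ => ℕ) (m_202) (m_203) (Nat.ble 203 b)) (Nat.ble 202 b)) (Bool.rec (motive := fun _ => ℕ) (Bool.rec (motive := fun _ => ℕ) (m_204) (m_205) (Nat.ble 205 b)) (Bool.rec (motive := fun _ => ℕ) (m_206) (m_207) (Nat.ble 207 b)) (Nat.ble 206 b)) (Nat.ble 204 b)) (Nat.ble 200 b)) (Bool.rec (motive := fun _ => ℕ) (Bool.rec (motive := fun _ => ℕ) (Bool.rec (motive := fun _ => ℕ) (Bool.rec (motive := fun _ => ℕ) (m_208) (m_209) (Nat.ble 209 b)) (Bool.rec (motive := fun _ => ℕ) (m_210) (m_211) (Nat.ble 211 b)) (Nat.ble 210 b)) (Bool.rec (motive := fun _ => ℕ) (Bool.rec (motive := fun _ => ℕ) (m_212) (m_213) (Nat.ble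 213 b)) (Bool.rec (motive := fun _ => ℕ) (m_214) (m_215) (Nat.ble 215 b)) (Nat.ble 214 b)) (Nat.ble 212 b)) (Bool.rec (motive := fun _ => ℕ) (Bool.rec (motive := fun _ => ℕ) (Bool.rec (motive := fun _ => ℕ) (m_216) (m_217) (Nat.ble 217 b)) (Bool.rec (motive := fun _ => ℕ) (m_218) (m_219) (Nat.ble 219 b)) (Nat.ble 218 b)) (Bool.rec (motive := fun _ => ℕ) (Bool.rec (motive := fun _ => ℕ) (m_220) (m_221) (Nat.ble 221 b)) (Bool.rec (motive := fun _ => ℕ) (m_222) (m_223) (Nat.ble 223 b)) (Nat.ble 222 b)) (Nat.ble 220 b)) (Nat.ble 216 b)) (Nat.ble 208 b)) (Bool.rec (motive := fun _ => ℕ) (Bool.rec (motive := fun _ => ℕ) (Bool.rec (motive := fun _ => ℕ) (Bool.rec (motive := fun _ => ℕ) (Bool.rec (motive := fun _ => ℕ) (m_224) (m_225) (Nat.ble 225 b)) (Bool.rec (motive := fun _ => ℕ) (m_226) (m_227) (Nat.ble 227 b)) (Nat.ble 226 b))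 (Bool.rec (motive := fun _ => ℕ) (Bool.rec (motive := fun _ => ℕ) (m_228) (m_229) (Nat.ble 229 b)) (Bool.rec (motive := fun _ => ℕ) (m_230) (m_231) (Nat.ble 231 b)) (Nat.ble 230 b)) (Nat.ble 228 b)) (Bool.rec (motive := fun _ => ℕ) (Bool.rec (motive := fun _ => ℕ) (Bool.rec (motive := fun _ => ℕ) (m_232) (m_233) (Nat.ble 233 b)) (Bool.rec (motive := fun _ => ℕ) (m_234) (m_235) (Nat.ble 235 b)) (Nat.ble 234 b)) (Bool.rec (motive := fun _ => ℕ) (Bool.rec (motive := fun _ => ℕ) (m_236) (m_237) (Nat.ble 237 b)) (Bool.rec (motive := fun _ => ℕ) (m_238) (m_239) (Nat.ble 239 b)) (Nat.ble 238 b)) (Nat.ble 236 b)) (Nat.ble 232 b)) (Bool.rec (motive := fun _ => ℕ) (Bool.rec (motive := fun _ => ℕ) (Bool.rec (motive := fun _ => ℕ) (Bool.rec (motive := fun _ => ℕ) (m_240) (m_241) (Nat.ble 241 b)) (Bool.rec (motive := fun _ => ℕ) (m_242) (m_243)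 (Nat.ble 243 b)) (Nat.ble 242 b)) (Bool.rec (motive := fun _ => ℕ) (Bool.rec (motive := fun _ => ℕ) (m_244) (m_245) (Nat.ble 245 b)) (Bool.rec (motive := fun _ => ℕ) (m_246) (m_247) (Nat.ble 247 b)) (Nat.ble 246 b)) (Nat.ble 244 b)) (Bool.rec (motive := fun _ => ℕ) (Bool.rec (motive := fun _ => ℕ) (Bool.rec (motive := fun _ => ℕ) (m_248) (m_249) (Nat.ble 249 b)) (Bool.rec (motive := fun _ => ℕ) (m_250) (m_251) (Nat.ble 251 b)) (Nat.ble 250 b)) (Bool.rec (motive := fun _ => ℕ) (Bool.rec (motive := fun _ => ℕ) (m_252) (m_253) (Nat.ble 253 b)) (Bool.rec (motive := fun _ => ℕ) (m_254) (m_255) (Nat.ble 255 b)) (Nat.ble 254 b)) (Nat.ble 252 b)) (Nat.ble 248 b)) (Nat.ble 240 b)) (Nat.ble 224 b)) (Nat.ble 192 b)) (Nat.ble 128 b)) (Bool.rec (motive := fun _ => ℕ) (Bool.rec (motive := fun _ => ℕ) (Bool.rec (motive := fun _ => ℕ) (Bool.rec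 (motive := fun _ => ℕ) (Bool.rec (motive := fun _ => ℕ) (Bool.rec (motive := fun _ => ℕ) (Bool.rec (motive := fun _ => ℕ) (Bool.rec (motive := fun _ => ℕ) (m_256) (m_257) (Nat.ble 257 b)) (Bool.rec (motive := fun _ => ℕ) (m_258) (m_259) (Nat.ble 259 b)) (Nat.ble 258 b)) (Bool.rec (motive := fun _ => ℕ) (Bool.rec (motive := fun _ => ℕ) (m_260) (m_261) (Nat.ble 261 b)) (Bool.rec (motive := fun _ => ℕ) (m_262) (m_263) (Nat.ble 263 b)) (Nat.ble 262 b)) (Nat.ble 260 b)) (Bool.rec (motive := fun _ => ℕ) (Bool.rec (motive := fun _ => ℕ) (Bool.rec (motive := fun _ => ℕ) (m_264) (m_265) (Nat.ble 265 b)) (Bool.rec (motive := fun _ => ℕ) (m_266) (0) (Nat.ble 267 b)) (Nat.ble 266 b)) (0) (Nat.ble 268 b)) (Nat.ble 264 b)) (0) (Nat.ble 272 b)) (0) (Nat.ble 288 b)) (0) (Nat.ble 320 b)) (0) (Nat.ble 384 b)) (Nat.ble 256 b))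
noncomputable def jmT (b : ℕ) : ℕ := (Bool.rec (motive := fun _ => ℕ) (Bool.rec (motive := fun _ => ℕ) (Bool.rec (motive := fun _ => ℕ) (Bool.rec (motive := fun _ => ℕ) (Bool.rec (motive := fun _ => ℕ) (Bool.rec (motive := fun _ => ℕ) (Bool.rec (motive := fun _ => ℕ) (Bool.rec (motive := fun _ => ℕ) (Bool.rec (motive := fun _ => ℕ) (jm_0) (jm_1) (Nat.ble 1 b)) (Bool.rec (motive := fun _ => ℕ) (jm_2) (jm_3) (Nat.ble 3 b)) (Nat.ble 2 b)) (Bool.rec (motive := fun _ => ℕ) (Bool.rec (motive := fun _ => ℕ) (jm_4) (jm_5) (Nat.ble 5 b)) (Bool.rec (motive := fun _ => ℕ) (jm_6) (jm_7) (Nat.ble 7 b)) (Nat.ble 6 b)) (Nat.ble 4 b)) (Bool.rec (motive := fun _ => ℕ) (Bool.rec (motive := fun _ => ℕ) (Bool.rec (motive := fun _ => ℕ) (jm_8) (jm_9) (Nat.ble 9 b)) (Bool.rec (motive := fun _ => ℕ) (jm_10) (jm_11) (Nat.ble 11 b)) (Nat.ble 10 b)) (Bool.rec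 (motive := fun _ => ℕ) (Bool.rec (motive := fun _ => ℕ) (jm_12) (jm_13) (Nat.ble 13 b)) (Bool.rec (motive := fun _ => ℕ) (jm_14) (jm_15) (Nat.ble 15 b)) (Nat.ble 14 b)) (Nat.ble 12 b)) (Nat.ble 8 b)) (Bool.rec (motive := fun _ => ℕ) (Bool.rec (motive := fun _ => ℕ) (Bool.rec (motive := fun _ => ℕ) (Bool.rec (motive := fun _ => ℕ) (jm_16) (jm_17) (Nat.ble 17 b)) (Bool.rec (motive := fun _ => ℕ) (jm_18) (jm_19) (Nat.ble 19 b)) (Nat.ble 18 b)) (Bool.rec (motive := fun _ => ℕ) (Bool.rec (motive := fun _ => ℕ) (jm_20) (jm_21) (Nat.ble 21 b)) (Bool.rec (motive := fun _ => ℕ) (jm_22) (jm_23) (Nat.ble 23 b)) (Nat.ble 22 b)) (Nat.ble 20 b)) (Bool.rec (motive := fun _ => ℕ) (Bool.rec (motive := fun _ => ℕ) (Bool.rec (motive := fun _ => ℕ) (jm_24) (jm_25) (Nat.ble 25 b)) (Bool.rec (motive := fun _ => ℕ) (jm_26) (jm_27) (Nat.ble 27 b)) (Nat.ble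 26 b)) (Bool.rec (motive := fun _ => ℕ) (Bool.rec (motive := fun _ => ℕ) (jm_28) (jm_29) (Nat.ble 29 b)) (Bool.rec (motive := fun _ => ℕ) (jm_30) (jm_31) (Nat.ble 31 b)) (Nat.ble 30 b)) (Nat.ble 28 b)) (Nat.ble 24 b)) (Nat.ble 16 b)) (Bool.rec (motive := fun _ => ℕ) (Bool.rec (motive := fun _ => ℕ) (Bool.rec (motive := fun _ => ℕ) (Bool.rec (motive := fun _ => ℕ) (Bool.rec (motive := fun _ => ℕ) (jm_32) (jm_33) (Nat.ble 33 b)) (Bool.rec (motive := fun _ => ℕ) (jm_34) (jm_35) (Nat.ble 35 b)) (Nat.ble 34 b)) (Bool.rec (motive := fun _ => ℕ) (Bool.rec (motive := fun _ => ℕ) (jm_36) (jm_37) (Nat.ble 37 b)) (Bool.rec (motive := fun _ => ℕ) (jm_38) (jm_39) (Nat.ble 39 b)) (Nat.ble 38 b)) (Nat.ble 36 b)) (Bool.rec (motive := fun _ => ℕ) (Bool.rec (motive := fun _ => ℕ) (Bool.rec (motive := fun _ => ℕ) (jm_40) (jm_41) (Nat.ble 41 b))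 (Bool.rec (motive := fun _ => ℕ) (jm_42) (jm_43) (Nat.ble 43 b)) (Nat.ble 42 b)) (Bool.rec (motive := fun _ => ℕ) (Bool.rec (motive := fun _ => ℕ) (jm_44) (jm_45) (Nat.ble 45 b)) (Bool.rec (motive := fun _ => ℕ) (jm_46) (jm_47) (Nat.ble 47 b)) (Nat.ble 46 b)) (Nat.ble 44 b)) (Nat.ble 40 b)) (Bool.rec (motive := fun _ => ℕ) (Bool.rec (motive := fun _ => ℕ) (Bool.rec (motive := fun _ => ℕ) (Bool.rec (motive := fun _ => ℕ) (jm_48) (jm_49) (Nat.ble 49 b)) (Bool.rec (motive := fun _ => ℕ) (jm_50) (jm_51) (Nat.ble 51 b)) (Nat.ble 50 b)) (Bool.rec (motive := fun _ => ℕ) (Bool.rec (motive := fun _ => ℕ) (jm_52) (jm_53) (Nat.ble 53 b)) (Bool.rec (motive := fun _ => ℕ) (jm_54) (jm_55) (Nat.ble 55 b)) (Nat.ble 54 b)) (Nat.ble 52 b)) (Bool.rec (motive := fun _ => ℕ) (Bool.rec (motive := fun _ => ℕ) (Bool.rec (motive := fun _ => ℕ) (jm_56)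 (jm_57) (Nat.ble 57 b)) (Bool.rec (motive := fun _ => ℕ) (jm_58) (jm_59) (Nat.ble 59 b)) (Nat.ble 58 b)) (Bool.rec (motive := fun _ => ℕ) (Bool.rec (motive := fun _ => ℕ) (jm_60) (jm_61) (Nat.ble 61 b)) (Bool.rec (motive := fun _ => ℕ) (jm_62) (jm_63) (Nat.ble 63 b)) (Nat.ble 62 b)) (Nat.ble 60 b)) (Nat.ble 56 b)) (Nat.ble 48 b)) (Nat.ble 32 b)) (Bool.rec (motive := fun _ => ℕ) (Bool.rec (motive := fun _ => ℕ) (Bool.rec (motive := fun _ => ℕ) (Bool.rec (motive := fun _ => ℕ) (Bool.rec (motive := fun _ => ℕ) (Bool.rec (motive := fun _ => ℕ) (jm_64) (jm_65) (Nat.ble 65 b)) (Bool.rec (motive := fun _ => ℕ) (jm_66) (jm_67) (Nat.ble 67 b)) (Nat.ble 66 b)) (Bool.rec (motive := fun _ => ℕ) (Bool.rec (motive := fun _ => ℕ) (jm_68) (jm_69) (Nat.ble 69 b)) (Bool.rec (motive := fun _ => ℕ) (jm_70) (jm_71) (Nat.ble 71 b)) (Nat.ble 70 b))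 (Nat.ble 68 b)) (Bool.rec (motive := fun _ => ℕ) (Bool.rec (motive := fun _ => ℕ) (Bool.rec (motive := fun _ => ℕ) (jm_72) (jm_73) (Nat.ble 73 b)) (Bool.rec (motive := fun _ => ℕ) (jm_74) (jm_75) (Nat.ble 75 b)) (Nat.ble 74 b)) (Bool.rec (motive := fun _ => ℕ) (Bool.rec (motive := fun _ => ℕ) (jm_76) (jm_77) (Nat.ble 77 b)) (Bool.rec (motive := fun _ => ℕ) (jm_78) (jm_79) (Nat.ble 79 b)) (Nat.ble 78 b)) (Nat.ble 76 b)) (Nat.ble 72 b)) (Bool.rec (motive := fun _ => ℕ) (Bool.rec (motive := fun _ => ℕ) (Bool.rec (motive := fun _ => ℕ) (Bool.rec (motive := fun _ => ℕ) (jm_80) (jm_81) (Nat.ble 81 b)) (Bool.rec (motive := fun _ => ℕ) (jm_82) (jm_83) (Nat.ble 83 b)) (Nat.ble 82 b)) (Bool.rec (motive := fun _ => ℕ) (Bool.rec (motive := fun _ => ℕ) (jm_84) (jm_85) (Nat.ble 85 b)) (Bool.rec (motive := fun _ => ℕ) (jm_86) (jm_87) (Nat.ble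 87 b)) (Nat.ble 86 b)) (Nat.ble 84 b)) (Bool.rec (motive := fun _ => ℕ) (Bool.rec (motive := fun _ => ℕ) (Bool.rec (motive := fun _ => ℕ) (jm_88) (jm_89) (Nat.ble 89 b)) (Bool.rec (motive := fun _ => ℕ) (jm_90) (jm_91) (Nat.ble 91 b)) (Nat.ble 90 b)) (Bool.rec (motive := fun _ => ℕ) (Bool.rec (motive := fun _ => ℕ) (jm_92) (jm_93) (Nat.ble 93 b)) (Bool.rec (motive := fun _ => ℕ) (jm_94) (jm_95) (Nat.ble 95 b)) (Nat.ble 94 b)) (Nat.ble 92 b)) (Nat.ble 88 b)) (Nat.ble 80 b)) (Bool.rec (motive := fun _ => ℕ) (Bool.rec (motive := fun _ => ℕ) (Bool.rec (motive := fun _ => ℕ) (Bool.rec (motive := fun _ => ℕ) (Bool.rec (motive := fun _ => ℕ) (jm_96) (jm_97) (Nat.ble 97 b)) (Bool.rec (motive := fun _ => ℕ) (jm_98) (jm_99) (Nat.ble 99 b)) (Nat.ble 98 b)) (Bool.rec (motive := fun _ => ℕ) (Bool.rec (motive := fun _ => ℕ) (jm_100) (jm_101)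 (Nat.ble 101 b)) (Bool.rec (motive := fun _ => ℕ) (jm_102) (jm_103) (Nat.ble 103 b)) (Nat.ble 102 b)) (Nat.ble 100 b)) (Bool.rec (motive := fun _ => ℕ) (Bool.rec (motive := fun _ => ℕ) (Bool.rec (motive := fun _ => ℕ) (jm_104) (jm_105) (Nat.ble 105 b)) (Bool.rec (motive := fun _ => ℕ) (jm_106) (jm_107) (Nat.ble 107 b)) (Nat.ble 106 b)) (Bool.rec (motive := fun _ => ℕ) (Bool.rec (motive := fun _ => ℕ) (jm_108) (jm_109) (Nat.ble 109 b)) (Bool.rec (motive := fun _ => ℕ) (jm_110) (jm_111) (Nat.ble 111 b)) (Nat.ble 110 b)) (Nat.ble 108 b)) (Nat.ble 104 b)) (Bool.rec (motive := fun _ => ℕ) (Bool.rec (motive := fun _ => ℕ) (Bool.rec (motive := fun _ => ℕ) (Bool.rec (motive := fun _ => ℕ) (jm_112) (jm_113) (Nat.ble 113 b)) (Bool.rec (motive := fun _ => ℕ) (jm_114) (jm_115) (Nat.ble 115 b)) (Nat.ble 114 b)) (Bool.rec (motive := fun _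 => ℕ) (Bool.rec (motive := fun _ => ℕ) (jm_116) (jm_117) (Nat.ble 117 b)) (Bool.rec (motive := fun _ => ℕ) (jm_118) (jm_119) (Nat.ble 119 b)) (Nat.ble 118 b)) (Nat.ble 116 b)) (Bool.rec (motive := fun _ => ℕ) (Bool.rec (motive := fun _ => ℕ) (Bool.rec (motive := fun _ => ℕ) (jm_120) (jm_121) (Nat.ble 121 b)) (Bool.rec (motive := fun _ => ℕ) (jm_122) (jm_123) (Nat.ble 123 b)) (Nat.ble 122 b)) (Bool.rec (motive := fun _ => ℕ) (Bool.rec (motive := fun _ => ℕ) (jm_124) (jm_125) (Nat.ble 125 b)) (Bool.rec (motive := fun _ => ℕ) (jm_126) (jm_127) (Nat.ble 127 b)) (Nat.ble 126 b)) (Nat.ble 124 b)) (Nat.ble 120 b)) (Nat.ble 112 b)) (Nat.ble 96 b)) (Nat.ble 64 b)) (Bool.rec (motive := fun _ => ℕ) (Bool.rec (motive := fun _ => ℕ) (Bool.rec (motive := fun _ => ℕ) (Bool.rec (motive := fun _ => ℕ) (Bool.rec (motive := fun _ => ℕ) (Bool.rec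 (motive := fun _ => ℕ) (Bool.rec (motive := fun _ => ℕ) (jm_128) (jm_129) (Nat.ble 129 b)) (Bool.rec (motive := fun _ => ℕ) (jm_130) (jm_131) (Nat.ble 131 b)) (Nat.ble 130 b)) (Bool.rec (motive := fun _ => ℕ) (Bool.rec (motive := fun _ => ℕ) (jm_132) (jm_133) (Nat.ble 133 b)) (Bool.rec (motive := fun _ => ℕ) (jm_134) (jm_135) (Nat.ble 135 b)) (Nat.ble 134 b)) (Nat.ble 132 b)) (Bool.rec (motive := fun _ => ℕ) (Bool.rec (motive := fun _ => ℕ) (Bool.rec (motive := fun _ => ℕ) (jm_136) (jm_137) (Nat.ble 137 b)) (Bool.rec (motive := fun _ => ℕ) (jm_138) (jm_139) (Nat.ble 139 b)) (Nat.ble 138 b)) (Bool.rec (motive := fun _ => ℕ) (Bool.rec (motive := fun _ => ℕ) (jm_140) (jm_141) (Nat.ble 141 b)) (Bool.rec (motive := fun _ => ℕ) (jm_142) (jm_143) (Nat.ble 143 b)) (Nat.ble 142 b)) (Nat.ble 140 b)) (Nat.ble 136 b)) (Bool.rec (motive :=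 fun _ => ℕ) (Bool.rec (motive := fun _ => ℕ) (Bool.rec (motive := fun _ => ℕ) (Bool.rec (motive := fun _ => ℕ) (jm_144) (jm_145) (Nat.ble 145 b)) (Bool.rec (motive := fun _ => ℕ) (jm_146) (jm_147) (Nat.ble 147 b)) (Nat.ble 146 b)) (Bool.rec (motive := fun _ => ℕ) (Bool.rec (motive := fun _ => ℕ) (jm_148) (jm_149) (Nat.ble 149 b)) (Bool.rec (motive := fun _ => ℕ) (jm_150) (jm_151) (Nat.ble 151 b)) (Nat.ble 150 b)) (Nat.ble 148 b)) (Bool.rec (motive := fun _ => ℕ) (Bool.rec (motive := fun _ => ℕ) (Bool.rec (motive := fun _ => ℕ) (jm_152) (jm_153) (Nat.ble 153 b)) (Bool.rec (motive := fun _ => ℕ) (jm_154) (jm_155) (Nat.ble 155 b)) (Nat.ble 154 b)) (Bool.rec (motive := fun _ => ℕ) (Bool.rec (motive := fun _ => ℕ) (jm_156) (jm_157) (Nat.ble 157 b)) (Bool.rec (motive := fun _ => ℕ) (jm_158) (jm_159) (Nat.ble 159 b)) (Nat.ble 158 b))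 (Nat.ble 156 b)) (Nat.ble 152 b)) (Nat.ble 144 b)) (Bool.rec (motive := fun _ => ℕ) (Bool.rec (motive := fun _ => ℕ) (Bool.rec (motive := fun _ => ℕ) (Bool.rec (motive := fun _ => ℕ) (Bool.rec (motive := fun _ => ℕ) (jm_160) (jm_161) (Nat.ble 161 b)) (Bool.rec (motive := fun _ => ℕ) (jm_162) (jm_163) (Nat.ble 163 b)) (Nat.ble 162 b)) (Bool.rec (motive := fun _ => ℕ) (Bool.rec (motive := fun _ => ℕ) (jm_164) (jm_165) (Nat.ble 165 b)) (Bool.rec (motive := fun _ => ℕ) (jm_166) (jm_167) (Nat.ble 167 b)) (Nat.ble 166 b)) (Nat.ble 164 b)) (Bool.rec (motive := fun _ => ℕ) (Bool.rec (motive := fun _ => ℕ) (Bool.rec (motive := fun _ => ℕ) (jm_168) (jm_169) (Nat.ble 169 b)) (Bool.rec (motive := fun _ => ℕ) (jm_170) (jm_171) (Nat.ble 171 b)) (Nat.ble 170 b)) (Bool.rec (motive := fun _ => ℕ) (Bool.rec (motive := fun _ => ℕ) (jm_172) (jm_173)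 (Nat.ble 173 b)) (Bool.rec (motive := fun _ => ℕ) (jm_174) (jm_175) (Nat.ble 175 b)) (Nat.ble 174 b)) (Nat.ble 172 b)) (Nat.ble 168 b)) (Bool.rec (motive := fun _ => ℕ) (Bool.rec (motive := fun _ => ℕ) (Bool.rec (motive := fun _ => ℕ) (Bool.rec (motive := fun _ => ℕ) (jm_176) (jm_177) (Nat.ble 177 b)) (Bool.rec (motive := fun _ => ℕ) (jm_178) (jm_179) (Nat.ble 179 b)) (Nat.ble 178 b)) (Bool.rec (motive := fun _ => ℕ) (Bool.rec (motive := fun _ => ℕ) (jm_180) (jm_181) (Nat.ble 181 b)) (Bool.rec (motive := fun _ => ℕ) (jm_182) (jm_183) (Nat.ble 183 b)) (Nat.ble 182 b)) (Nat.ble 180 b)) (Bool.rec (motive := fun _ => ℕ) (Bool.rec (motive := fun _ => ℕ) (Bool.rec (motive := fun _ => ℕ) (jm_184) (jm_185) (Nat.ble 185 b)) (Bool.rec (motive := fun _ => ℕ) (jm_186) (jm_187) (Nat.ble 187 b)) (Nat.ble 186 b)) (Bool.rec (motive := fun _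 => ℕ) (Bool.rec (motive := fun _ => ℕ) (jm_188) (jm_189) (Nat.ble 189 b)) (Bool.rec (motive := fun _ => ℕ) (jm_190) (jm_191) (Nat.ble 191 b)) (Nat.ble 190 b)) (Nat.ble 188 b)) (Nat.ble 184 b)) (Nat.ble 176 b)) (Nat.ble 160 b)) (Bool.rec (motive := fun _ => ℕ) (Bool.rec (motive := fun _ => ℕ) (Bool.rec (motive := fun _ => ℕ) (Bool.rec (motive := fun _ => ℕ) (Bool.rec (motive := fun _ => ℕ) (Bool.rec (motive := fun _ => ℕ) (jm_192) (jm_193) (Nat.ble 193 b)) (Bool.rec (motive := fun _ => ℕ) (jm_194) (jm_195) (Nat.ble 195 b)) (Nat.ble 194 b)) (Bool.rec (motive := fun _ => ℕ) (Bool.rec (motive := fun _ => ℕ) (jm_196) (jm_197) (Nat.ble 197 b)) (Bool.rec (motive := fun _ => ℕ) (jm_198) (jm_199) (Nat.ble 199 b)) (Nat.ble 198 b)) (Nat.ble 196 b)) (Bool.rec (motive := fun _ => ℕ) (Bool.rec (motive := fun _ => ℕ) (Bool.rec (motive := fun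 _ => ℕ) (jm_200) (jm_201) (Nat.ble 201 b)) (Bool.rec (motive := fun _ => ℕ) (jm_202) (jm_203) (Nat.ble 203 b)) (Nat.ble 202 b)) (Bool.rec (motive := fun _ => ℕ) (Bool.rec (motive := fun _ => ℕ) (jm_204) (jm_205) (Nat.ble 205 b)) (Bool.rec (motive := fun _ => ℕ) (jm_206) (jm_207) (Nat.ble 207 b)) (Nat.ble 206 b)) (Nat.ble 204 b)) (Nat.ble 200 b)) (Bool.rec (motive := fun _ => ℕ) (Bool.rec (motive := fun _ => ℕ) (Bool.rec (motive := fun _ => ℕ) (Bool.rec (motive := fun _ => ℕ) (jm_208) (jm_209) (Nat.ble 209 b)) (Bool.rec (motive := fun _ => ℕ) (jm_210) (jm_211) (Nat.ble 211 b)) (Nat.ble 210 b)) (Bool.rec (motive := fun _ => ℕ) (Bool.rec (motive := fun _ => ℕ) (jm_212) (jm_213) (Nat.ble 213 b)) (Bool.rec (motive := fun _ => ℕ) (jm_214) (jm_215) (Nat.ble 215 b)) (Nat.ble 214 b)) (Nat.ble 212 b)) (Bool.rec (motive := fun _ => ℕ) (Bool.rec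 (motive := fun _ => ℕ) (Bool.rec (motive := fun _ => ℕ) (jm_216) (jm_217) (Nat.ble 217 b)) (Bool.rec (motive := fun _ => ℕ) (jm_218) (jm_219) (Nat.ble 219 b)) (Nat.ble 218 b)) (Bool.rec (motive := fun _ => ℕ) (Bool.rec (motive := fun _ => ℕ) (jm_220) (jm_221) (Nat.ble 221 b)) (Bool.rec (motive := fun _ => ℕ) (jm_222) (jm_223) (Nat.ble 223 b)) (Nat.ble 222 b)) (Nat.ble 220 b)) (Nat.ble 216 b)) (Nat.ble 208 b)) (Bool.rec (motive := fun _ => ℕ) (Bool.rec (motive := fun _ => ℕ) (Bool.rec (motive := fun _ => ℕ) (Bool.rec (motive := fun _ => ℕ) (Bool.rec (motive := fun _ => ℕ) (jm_224) (jm_225) (Nat.ble 225 b)) (Bool.rec (motive := fun _ => ℕ) (jm_226) (jm_227) (Nat.ble 227 b)) (Nat.ble 226 b)) (Bool.rec (motive := fun _ => ℕ) (Bool.rec (motive := fun _ => ℕ) (jm_228) (jm_229) (Nat.ble 229 b)) (Bool.rec (motive := fun _ => ℕ) (jm_230)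 (jm_231) (Nat.ble 231 b)) (Nat.ble 230 b)) (Nat.ble 228 b)) (Bool.rec (motive := fun _ => ℕ) (Bool.rec (motive := fun _ => ℕ) (Bool.rec (motive := fun _ => ℕ) (jm_232) (jm_233) (Nat.ble 233 b)) (Bool.rec (motive := fun _ => ℕ) (jm_234) (jm_235) (Nat.ble 235 b)) (Nat.ble 234 b)) (Bool.rec (motive := fun _ => ℕ) (Bool.rec (motive := fun _ => ℕ) (jm_236) (jm_237) (Nat.ble 237 b)) (Bool.rec (motive := fun _ => ℕ) (jm_238) (jm_239) (Nat.ble 239 b)) (Nat.ble 238 b)) (Nat.ble 236 b)) (Nat.ble 232 b)) (Bool.rec (motive := fun _ => ℕ) (Bool.rec (motive := fun _ => ℕ) (Bool.rec (motive := fun _ => ℕ) (Bool.rec (motive := fun _ => ℕ) (jm_240) (jm_241) (Nat.ble 241 b)) (Bool.rec (motive := fun _ => ℕ) (jm_242) (jm_243) (Nat.ble 243 b)) (Nat.ble 242 b)) (Bool.rec (motive := fun _ => ℕ) (Bool.rec (motive := fun _ => ℕ) (jm_244) (jm_245) (Nat.ble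 245 b)) (Bool.rec (motive := fun _ => ℕ) (jm_246) (jm_247) (Nat.ble 247 b)) (Nat.ble 246 b)) (Nat.ble 244 b)) (Bool.rec (motive := fun _ => ℕ) (Bool.rec (motive := fun _ => ℕ) (Bool.rec (motive := fun _ => ℕ) (jm_248) (jm_249) (Nat.ble 249 b)) (Bool.rec (motive := fun _ => ℕ) (jm_250) (jm_251) (Nat.ble 251 b)) (Nat.ble 250 b)) (Bool.rec (motive := fun _ => ℕ) (Bool.rec (motive := fun _ => ℕ) (jm_252) (jm_253) (Nat.ble 253 b)) (Bool.rec (motive := fun _ => ℕ) (jm_254) (jm_255) (Nat.ble 255 b)) (Nat.ble 254 b)) (Nat.ble 252 b)) (Nat.ble 248 b)) (Nat.ble 240 b)) (Nat.ble 224 b)) (Nat.ble 192 b)) (Nat.ble 128 b)) (Bool.rec (motive := fun _ => ℕ) (Bool.rec (motive := fun _ => ℕ) (Bool.rec (motive := fun _ => ℕ) (Bool.rec (motive := fun _ => ℕ) (Bool.rec (motive := fun _ => ℕ) (Bool.rec (motive := fun _ => ℕ) (Bool.rec (motive := fun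 _ => ℕ) (Bool.rec (motive := fun _ => ℕ) (jm_256) (jm_257) (Nat.ble 257 b)) (Bool.rec (motive := fun _ => ℕ) (jm_258) (jm_259) (Nat.ble 259 b)) (Nat.ble 258 b)) (Bool.rec (motive := fun _ => ℕ) (Bool.rec (motive := fun _ => ℕ) (jm_260) (jm_261) (Nat.ble 261 b)) (Bool.rec (motive := fun _ => ℕ) (jm_262) (jm_263) (Nat.ble 263 b)) (Nat.ble 262 b)) (Nat.ble 260 b)) (Bool.rec (motive := fun _ => ℕ) (Bool.rec (motive := fun _ => ℕ) (Bool.rec (motive := fun _ => ℕ) (jm_264) (jm_265) (Nat.ble 265 b)) (Bool.rec (motive := fun _ => ℕ) (jm_266) (0) (Nat.ble 267 b)) (Nat.ble 266 b)) (0) (Nat.ble 268 b)) (Nat.ble 264 b)) (0) (Nat.ble 272 b)) (0) (Nat.ble 288 b)) (0) (Nat.ble 320 b)) (0) (Nat.ble 384 b)) (Nat.ble 256 b))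
def rw0 : List ℕ := [0, 3, 13, 0]
def rw1 : List ℕ := [0, 6, 0, 6, 0, 6, 0, 6, 3]
def rw2 : List ℕ := [0, 6, 0, 6, 0, 6, 3, 0, 6]
def rw3 : List ℕ := [0, 0, 3, 13]
def rw4 : List ℕ := [0, 7, 4, 0, 5, 6, 0, 7, 4, 0, 1, 1, 5, 6, 1, 7, 4, 1, 5, 6, 1, 7, 0, 6]
def rw5 : List ℕ := [0, 6, 3, 0, 6, 0, 6, 0, 6]
def rw6 : List ℕ := [0, 5, 6, 0, 7, 4, 0, 1, 1, 5, 6, 1, 7, 4, 1, 5, 6, 1, 7, 0, 6, 0, 7, 4]
def rw7 : List ℕ := [0, 6, 0, 6, 3, 0, 6, 0, 6]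
def rw8 : List ℕ := [0, 6, 8, 7, 1, 7, 1, 8, 0, 6]
def rw9 : List ℕ := [0, 8, 0, 8, 6, 9, 1, 9, 1, 6]
def rw10 : List ℕ := [0, 6, 0, 6, 8, 7, 1, 7, 1, 8]
def rw11 : List ℕ := [0, 5, 6, 0, 7, 4, 0, 3, 1, 5, 6, 1, 7, 4, 1, 5, 6, 1, 7, 2, 6, 0, 7, 4]
def rw12 : List ℕ := [0, 5, 6, 0, 7, 4, 0, 7, 1, 5, 6, 1, 7, 4, 1, 5, 6, 1, 7, 6, 6, 0, 7, 4]
def rw13 : List ℕ := [0, 7, 4, 0, 1, 1, 5, 6, 1, 7, 4, 1, 5, 6, 1, 7, 0, 6, 0, 7, 4, 0, 5, 6]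
def rw14 : List ℕ := [0, 11, 1, 11, 8, 1, 9, 10, 1, 11, 8, 1, 9, 10, 8, 0, 9, 10, 0, 11, 8, 0, 9, 10]
def rw15 : List ℕ := [0, 7, 1, 11, 8, 1, 9, 10, 1, 11, 8, 1, 9, 6, 8, 0, 9, 10, 0, 11, 8, 0, 9, 10]
def rw16 : List ℕ := [0, 8, 0, 9, 10, 0, 11, 8, 0, 9, 10, 0, 1, 1, 11, 8, 1, 9, 10, 1, 11, 8, 1, 9]
def rw17 : List ℕ := [0, 8, 6, 9, 1, 9, 1, 6, 0, 8]
def rw18 : List ℕ := [0, 9, 10, 0, 11, 8, 0, 9, 10, 0, 11, 1, 11, 8, 1, 9, 10, 1, 11, 8, 1, 9, 10, 8]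
def rw19 : List ℕ := [0, 5, 6, 0, 7, 4, 0, 0, 1, 5, 6, 1, 7, 4, 1, 5, 6, 1, 7, 1, 6, 0, 7, 4]
def rw20 : List ℕ := [0, 7, 4, 0, 5, 6, 0, 7, 4, 0, 5, 1, 5, 6, 1, 7, 4, 1, 5, 6, 1, 7, 4, 6]
def rw21 : List ℕ := [0, 7, 4, 0, 5, 6, 0, 7, 4, 0, 8, 1, 5, 6, 1, 7, 4, 1, 5, 6, 1, 7, 9, 6]
def rw22 : List ℕ := [0, 7, 4, 0, 9, 1, 5, 6, 1, 7, 4, 1, 5, 6, 1, 7, 8, 6, 0, 7, 4, 0, 5, 6]
def rw23 : List ℕ := [0, 9, 10, 0, 11, 8, 0, 9, 10, 0, 3, 1, 11, 8, 1, 9, 10, 1, 11, 8, 1, 9, 2, 8]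
def rw24 : List ℕ := [0, 9, 10, 0, 11, 8, 0, 9, 10, 0, 10, 1, 11, 8, 1, 9, 10, 1, 11, 8, 1, 9, 11, 8]
def rw25 : List ℕ := [0, 11, 8, 0, 9, 10, 0, 9, 1, 11, 8, 1, 9, 10, 1, 11, 8, 1, 9, 8, 8, 0, 9, 10]
def rw26 : List ℕ := [0, 11, 8, 0, 9, 10, 0, 0, 1, 11, 8, 1, 9, 10, 1, 11, 8, 1, 9, 1, 8, 0, 9, 10]
def rw27 : List ℕ := [0, 7, 4, 0, 13, 1, 5, 6, 1, 7, 4, 1, 5, 6, 1, 7, 12, 6, 0, 7, 4, 0, 5, 6]
def rw28 : List ℕ := [0, 5, 1, 5, 6, 1, 7, 4, 1, 5, 6, 1, 7, 4, 6, 0, 7, 4, 0, 5, 6, 0, 7, 4]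
def rw29 : List ℕ := [0, 7, 4, 0, 0, 1, 5, 6, 1, 7, 4, 1, 5, 6, 1, 7, 1, 6, 0, 7, 4, 0, 5, 6]
def rw30 : List ℕ := [0, 6, 0, 6, 9, 7, 1, 7, 1, 9]
def rw31 : List ℕ := [0, 11, 8, 0, 9, 10, 0, 3, 1, 11, 8, 1, 9, 10, 1, 11, 8, 1, 9, 2, 8, 0, 9, 10]
def rw32 : List ℕ := [0, 0, 1, 5, 6, 1, 7, 4, 1, 5, 6, 1, 7, 1, 6, 0, 7, 4, 0, 5, 6, 0, 7, 4]
def rw33 : List ℕ := [0, 13, 1, 5, 6, 1, 7, 4, 1, 5, 6, 1, 7, 12, 6, 0, 7, 4, 0, 5, 6, 0, 7, 4]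
def rw34 : List ℕ := [0, 9, 10, 0, 1, 1, 11, 8, 1, 9, 10, 1, 11, 8, 1, 9, 0, 8, 0, 9, 10, 0, 11, 8]
def rw35 : List ℕ := [0, 9, 10, 0, 11, 8, 0, 9, 10, 0, 1, 1, 11, 8, 1, 9, 10, 1, 11, 8, 1, 9, 0, 8]
def rw36 : List ℕ := [0, 11, 8, 0, 9, 10, 0, 7, 1, 11, 8, 1, 9, 10, 1, 11, 8, 1, 9, 6, 8, 0, 9, 10]
def rw37 : List ℕ := [0, 9, 10, 0, 7, 1, 11, 8, 1, 9, 10, 1, 11, 8, 1, 9, 6, 8, 0, 9, 10, 0, 11, 8]
def rw38 : List ℕ := [0, 7, 4, 0, 5, 6, 0, 7, 4, 0, 9, 1, 5, 6, 1, 7, 4, 1, 5, 6, 1, 7, 8, 6]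
def rw39 : List ℕ := [0, 5, 6, 0, 7, 4, 0, 13, 1, 5, 6, 1, 7, 4, 1, 5, 6, 1, 7, 12, 6, 0, 7, 4]
def rw40 : List ℕ := [0, 7, 4, 0, 7, 1, 5, 6, 1, 7, 4, 1, 5, 6, 1, 7, 6, 6, 0, 7, 4, 0, 5, 6]
def rw41 : List ℕ := [0, 5, 6, 0, 7, 4, 0, 11, 1, 5, 6, 1, 7, 4, 1, 5, 6, 1, 7, 10, 6, 0, 7, 4]
def rw42 : List ℕ := [0, 9, 10, 0, 11, 8, 0, 9, 10, 0, 6, 1, 11, 8, 1, 9, 10, 1, 11, 8, 1, 9, 7, 8]
def rw43 : List ℕ := [0, 11, 1, 5, 6, 1, 7, 4, 1, 5, 6, 1, 7, 10, 6, 0, 7, 4, 0, 5, 6, 0, 7, 4]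
def rw44 : List ℕ := [0, 12, 1, 5, 6, 1, 7, 4, 1, 5, 6, 1, 7, 13, 6, 0, 7, 4, 0, 5, 6, 0, 7, 4]
def rw45 : List ℕ := [0, 9, 1, 5, 6, 1, 7, 4, 1, 5, 6, 1, 7, 8, 6, 0, 7, 4, 0, 5, 6, 0, 7, 4]
def rw46 : List ℕ := [0, 9, 10, 0, 11, 1, 11, 8, 1, 9, 10, 1, 11, 8, 1, 9, 10, 8, 0, 9, 10, 0, 11, 8]
def rw47 : List ℕ := [0, 11, 8, 0, 9, 10, 0, 5, 1, 11, 8, 1, 9, 10, 1, 11, 8, 1, 9, 4, 8, 0, 9, 10]
def rw48 : List ℕ := [0, 5, 1, 11, 8, 1, 9, 10, 1, 11, 8, 1, 9, 4, 8, 0, 9, 10, 0, 11, 8, 0, 9, 10]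
def rw49 : List ℕ := [0, 11, 8, 0, 9, 10, 0, 10, 1, 11, 8, 1, 9, 10, 1, 11, 8, 1, 9, 11, 8, 0, 9, 10]
def rw50 : List ℕ := [0, 9, 10, 0, 11, 8, 0, 9, 10, 0, 0, 1, 11, 8, 1, 9, 10, 1, 11, 8, 1, 9, 1, 8]
def rw51 : List ℕ := [0, 5, 6, 0, 7, 4, 0, 8, 1, 5, 6, 1, 7, 4, 1, 5, 6, 1, 7, 9, 6, 0, 7, 4]
def rw52 : List ℕ := [0, 9, 10, 0, 9, 1, 11, 8, 1, 9, 10, 1, 11, 8, 1, 9, 8, 8, 0, 9, 10, 0, 11, 8]
def rw53 : List ℕ := [0, 7, 4, 0, 3, 1, 5, 6, 1, 7, 4, 1, 5, 6, 1, 7, 2, 6, 0, 7, 4, 0, 5, 6]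
def rw54 : List ℕ := [0, 7, 4, 0, 5, 6, 0, 7, 4, 0, 7, 1, 5, 6, 1, 7, 4, 1, 5, 6, 1, 7, 6, 6]
def rw55 : List ℕ := [0, 9, 10, 0, 11, 8, 0, 9, 10, 0, 7, 1, 11, 8, 1, 9, 10, 1, 11, 8, 1, 9, 6, 8]
def rw56 : List ℕ := [0, 7, 4, 0, 5, 6, 0, 7, 4, 0, 11, 1, 5, 6, 1, 7, 4, 1, 5, 6, 1, 7, 10, 6]
def rw57 : List ℕ := [0, 11, 8, 0, 9, 10, 0, 1, 1, 11, 8, 1, 9, 10, 1, 11, 8, 1, 9, 0, 8, 0, 9, 10]
def rw58 : List ℕ := [0, 9, 10, 0, 11, 8, 0, 9, 10, 0, 5, 1, 11, 8, 1, 9, 10, 1, 11, 8, 1, 9, 4, 8]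
def rw59 : List ℕ := [0, 5, 6, 0, 7, 4, 0, 9, 1, 5, 6, 1, 7, 4, 1, 5, 6, 1, 7, 8, 6, 0, 7, 4]
def rw60 : List ℕ := [0, 5, 6, 0, 7, 4, 0, 5, 1, 5, 6, 1, 7, 4, 1, 5, 6, 1, 7, 4, 6, 0, 7, 4]
def rw61 : List ℕ := [0, 10, 1, 11, 8, 1, 9, 10, 1, 11, 8, 1, 9, 11, 8, 0, 9, 10, 0, 11, 8, 0, 9, 10]
def rw62 : List ℕ := [0, 8, 0, 8, 7, 9, 1, 9, 1, 7]
def rw63 : List ℕ := [0, 7, 4, 0, 5, 6, 0, 7, 4, 0, 3, 1, 5, 6, 1, 7, 4, 1, 5, 6, 1, 7, 2, 6]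
def rw64 : List ℕ := [0, 9, 1, 11, 8, 1, 9, 10, 1, 11, 8, 1, 9, 8, 8, 0, 9, 10, 0, 11, 8, 0, 9, 10]
def rw65 : List ℕ := [0, 9, 10, 0, 13, 1, 11, 8, 1, 9, 10, 1, 11, 8, 1, 9, 12, 8, 0, 9, 10, 0, 11, 8]
def rw66 : List ℕ := [0, 7, 1, 5, 6, 1, 7, 4, 1, 5, 6, 1, 7, 6, 6, 0, 7, 4, 0, 5, 6, 0, 7, 4]
def rw67 : List ℕ := [0, 2, 1, 11, 8, 1, 9, 10, 1, 11, 8, 1, 9, 3, 8, 0, 9, 10, 0, 11, 8, 0, 9, 10]
def rw68 : List ℕ := [0, 7, 4, 0, 5, 6, 0, 7, 4, 0, 4, 1, 5, 6, 1, 7, 4, 1, 5, 6, 1, 7, 5, 6]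
def rw69 : List ℕ := [0, 6, 0, 7, 4, 0, 5, 6, 0, 7, 4, 0, 1, 1, 5, 6, 1, 7, 4, 1, 5, 6, 1, 7]
def rw70 : List ℕ := [0, 11, 8, 0, 9, 10, 0, 13, 1, 11, 8, 1, 9, 10, 1, 11, 8, 1, 9, 12, 8, 0, 9, 10]
def rw71 : List ℕ := [0, 7, 4, 0, 11, 1, 5, 6, 1, 7, 4, 1, 5, 6, 1, 7, 10, 6, 0, 7, 4, 0, 5, 6]
def rw72 : List ℕ := [0, 9, 10, 0, 3, 1, 11, 8, 1, 9, 10, 1, 11, 8, 1, 9, 2, 8, 0, 9, 10, 0, 11, 8]
def rw73 : List ℕ := [0, 3, 1, 5, 6, 1, 7, 4, 1, 5, 6, 1, 7, 2, 6, 0, 7, 4, 0, 5, 6, 0, 7, 4]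
def rw74 : List ℕ := [0, 8, 6, 4, 0, 8, 6, 4, 2, 5, 7, 9, 1, 5, 7, 9, 1, 5, 7, 9, 1, 5, 7, 9, 1, 5, 7, 9, 1, 3, 0, 8, 6, 4, 0, 8, 6, 4, 0, 8, 6, 4]
def rw75 : List ℕ := [0, 8, 6, 4, 0, 8, 6, 4, 1, 5, 7, 9, 1, 5, 7, 9, 1, 5, 7, 9, 1, 5, 7, 9, 1, 5, 7, 9, 1, 0, 0, 8, 6, 4, 0, 8, 6, 4, 0, 8, 6, 4]
def rw76 : List ℕ := [0, 13, 1, 11, 8, 1, 9, 10, 1, 11, 8, 1, 9, 12, 8, 0, 9, 10, 0, 11, 8, 0, 9, 10]
def rw77 : List ℕ := [0, 6, 9, 7, 1, 7, 1, 9, 0, 6]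
def rw78 : List ℕ := [0, 8, 6, 4, 0, 8, 6, 4, 0, 8, 6, 4, 0, 8, 6, 4, 0, 8, 6, 4, 7, 5, 7, 9, 1, 5, 7, 9, 1, 5, 7, 9, 1, 5, 7, 9, 1, 5, 7, 9, 1, 6]
def rw79 : List ℕ := [0, 8, 6, 4, 0, 8, 6, 4, 0, 8, 6, 4, 0, 8, 6, 4, 0, 8, 6, 4, 5, 5, 7, 9, 1, 5, 7, 9, 1, 5, 7, 9, 1, 5, 7, 9, 1, 5, 7, 9, 1, 4]
def rw80 : List ℕ := [0, 7, 4, 0, 5, 6, 0, 7, 4, 0, 0, 1, 5, 6, 1, 7, 4, 1, 5, 6, 1, 7, 1, 6]
def rw81 : List ℕ := [0, 8, 6, 4, 0, 8, 6, 4, 0, 8, 6, 4, 0, 8, 6, 4, 5, 5, 7, 9, 1, 5, 7, 9, 1, 5, 7, 9, 1, 5, 7, 9, 1, 5, 7, 9, 1, 4, 0, 8, 6, 4]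
def rw82 : List ℕ := [0, 9, 10, 0, 5, 1, 11, 8, 1, 9, 10, 1, 11, 8, 1, 9, 4, 8, 0, 9, 10, 0, 11, 8]
def rw83 : List ℕ := [0, 9, 10, 0, 11, 8, 0, 9, 10, 0, 13, 1, 11, 8, 1, 9, 10, 1, 11, 8, 1, 9, 12, 8]
def rw84 : List ℕ := [0, 5, 7, 9, 1, 5, 7, 9, 1, 5, 7, 9, 1, 5, 7, 9, 1, 5, 7, 9, 1, 1, 0, 8, 6, 4, 0, 8, 6, 4, 0, 8, 6, 4, 0, 8, 6, 4, 0, 8, 6, 4]
def rw85 : List ℕ := [0, 6, 1, 11, 8, 1, 9, 10, 1, 11, 8, 1, 9, 7, 8, 0, 9, 10, 0, 11, 8, 0, 9, 10]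
def rw86 : List ℕ := [0, 9, 10, 0, 0, 1, 11, 8, 1, 9, 10, 1, 11, 8, 1, 9, 1, 8, 0, 9, 10, 0, 11, 8]
def rw87 : List ℕ := [0, 11, 8, 0, 9, 10, 0, 12, 1, 11, 8, 1, 9, 10, 1, 11, 8, 1, 9, 13, 8, 0, 9, 10]
def rw88 : List ℕ := [0, 7, 4, 0, 5, 1, 5, 6, 1, 7, 4, 1, 5, 6, 1, 7, 4, 6, 0, 7, 4, 0, 5, 6]
def rw89 : List ℕ := [0, 6, 9, 11, 9, 7, 9, 7, 1, 10, 8, 7, 1, 11, 9, 0, 11, 9, 7, 9, 6, 8, 6, 8, 10, 1, 8, 10]
def rw90 : List ℕ := [0, 11, 8, 0, 9, 10, 0, 11, 1, 11, 8, 1, 9, 10, 1, 11, 8, 1, 9, 10, 8, 0, 9, 10]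
def rw91 : List ℕ := [0, 10, 1, 5, 6, 1, 7, 4, 1, 5, 6, 1, 7, 11, 6, 0, 7, 4, 0, 5, 6, 0, 7, 4]
def rw92 : List ℕ := [0, 4, 1, 11, 8, 1, 9, 10, 1, 11, 8, 1, 9, 5, 8, 0, 9, 10, 0, 11, 8, 0, 9, 10]
def rw93 : List ℕ := [0, 7, 4, 0, 5, 6, 0, 7, 4, 0, 13, 1, 5, 6, 1, 7, 4, 1, 5, 6, 1, 7, 12, 6]
def rw94 : List ℕ := [0, 8, 6, 4, 0, 8, 6, 4, 0, 8, 6, 4, 0, 8, 6, 4, 0, 8, 6, 4, 3, 5, 7, 9, 1, 5, 7, 9, 1, 5, 7, 9, 1, 5, 7, 9, 1, 5, 7, 9, 1, 2]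
def rw95 : List ℕ := [0, 5, 6, 0, 7, 4, 0, 4, 1, 5, 6, 1, 7, 4, 1, 5, 6, 1, 7, 5, 6, 0, 7, 4]
def rw96 : List ℕ := [0, 3, 1, 11, 8, 1, 9, 10, 1, 11, 8, 1, 9, 2, 8, 0, 9, 10, 0, 11, 8, 0, 9, 10]
def rw97 : List ℕ := [0, 6, 1, 5, 6, 1, 7, 4, 1, 5, 6, 1, 7, 7, 6, 0, 7, 4, 0, 5, 6, 0, 7, 4]
def rw98 : List ℕ := [0, 8, 6, 4, 0, 8, 6, 4, 0, 8, 6, 4, 0, 8, 6, 4, 7, 5, 7, 9, 1, 5, 7, 9, 1, 5, 7, 9, 1, 5, 7, 9, 1, 5, 7, 9, 1, 6, 0, 8, 6, 4]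
def rw99 : List ℕ := [0, 8, 6, 4, 3, 5, 7, 9, 1, 5, 7, 9, 1, 5, 7, 9, 1, 5, 7, 9, 1, 5, 7, 9, 1, 2, 0, 8, 6, 4, 0, 8, 6, 4, 0, 8, 6, 4, 0, 8, 6, 4]
def rw100 : List ℕ := [0, 8, 1, 5, 6, 1, 7, 4, 1, 5, 6, 1, 7, 9, 6, 0, 7, 4, 0, 5, 6, 0, 7, 4]
def rw101 : List ℕ := [0, 5, 6, 0, 7, 4, 0, 12, 1, 5, 6, 1, 7, 4, 1, 5, 6, 1, 7, 13, 6, 0, 7, 4]
def rw102 : List ℕ := [0, 8, 6, 4, 0, 8, 6, 4, 0, 8, 6, 4, 1, 5, 7, 9, 1, 5, 7, 9, 1, 5, 7, 9, 1, 5, 7, 9, 1, 5, 7, 9, 1, 0, 0, 8, 6, 4, 0, 8, 6, 4]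
def rw103 : List ℕ := [0, 8, 6, 4, 1, 5, 7, 9, 1, 5, 7, 9, 1, 5, 7, 9, 1, 5, 7, 9, 1, 5, 7, 9, 1, 0, 0, 8, 6, 4, 0, 8, 6, 4, 0, 8, 6, 4, 0, 8, 6, 4]
def rw104 : List ℕ := [0, 6, 8, 6, 8, 10, 8, 7, 1, 11, 9, 0, 11, 9, 7, 9, 7, 8, 6, 8, 10, 1, 8, 10, 0, 6, 9, 11]
def rw105 : List ℕ := [0, 4, 1, 5, 6, 1, 7, 4, 1, 5, 6, 1, 7, 5, 6, 0, 7, 4, 0, 5, 6, 0, 7, 4]
def rw106 : List ℕ := [0, 8, 7, 9, 1, 9, 1, 7, 0, 8]
def rw107 : List ℕ := [0, 9, 10, 0, 11, 8, 0, 9, 10, 0, 9, 1, 11, 8, 1, 9, 10, 1, 11, 8, 1, 9, 8, 8]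
def rw108 : List ℕ := [0, 7, 4, 0, 12, 1, 5, 6, 1, 7, 4, 1, 5, 6, 1, 7, 13, 6, 0, 7, 4, 0, 5, 6]
def rw109 : List ℕ := [0, 12, 1, 11, 8, 1, 9, 10, 1, 11, 8, 1, 9, 13, 8, 0, 9, 10, 0, 11, 8, 0, 9, 10]
def rw110 : List ℕ := [0, 11, 9, 7, 9, 6, 8, 6, 8, 10, 1, 8, 10, 0, 6, 9, 11, 9, 7, 9, 7, 1, 10, 8, 7, 1, 11, 9]
def rw111 : List ℕ := [0, 7, 4, 0, 5, 6, 0, 7, 4, 0, 2, 1, 5, 6, 1, 7, 4, 1, 5, 6, 1, 7, 3, 6]
def rw112 : List ℕ := [0, 2, 1, 5, 6, 1, 7, 4, 1, 5, 6, 1, 7, 3, 6, 0, 7, 4, 0, 5, 6, 0, 7, 4]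
def rw113 : List ℕ := [0, 8, 6, 4, 0, 8, 6, 4, 0, 8, 6, 4, 0, 5, 7, 9, 1, 5, 7, 9, 1, 5, 7, 9, 1, 5, 7, 9, 1, 5, 7, 9, 1, 1, 0, 8, 6, 4, 0, 8, 6, 4]
def rw114 : List ℕ := [0, 5, 6, 0, 7, 4, 0, 6, 1, 5, 6, 1, 7, 4, 1, 5, 6, 1, 7, 7, 6, 0, 7, 4]
def rw115 : List ℕ := [0, 6, 9, 11, 0, 6, 8, 6, 8, 10, 8, 7, 1, 11, 9, 0, 11, 9, 7, 9, 7, 8, 6, 8, 10, 1, 8, 10]
def rw116 : List ℕ := [0, 5, 6, 0, 7, 4, 0, 10, 1, 5, 6, 1, 7, 4, 1, 5, 6, 1, 7, 11, 6, 0, 7, 4]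
def rw117 : List ℕ := [0, 8, 6, 4, 0, 8, 6, 4, 5, 5, 7, 9, 1, 5, 7, 9, 1, 5, 7, 9, 1, 5, 7, 9, 1, 5, 7, 9, 1, 4, 0, 8, 6, 4, 0, 8, 6, 4, 0, 8, 6, 4]
def rw118 : List ℕ := [0, 8, 6, 4, 0, 8, 6, 4, 11, 5, 7, 9, 1, 5, 7, 9, 1, 5, 7, 9, 1, 5, 7, 9, 1, 5, 7, 9, 1, 10, 0, 8, 6, 4, 0, 8, 6, 4, 0, 8, 6, 4]
def rw119 : List ℕ := [0, 9, 10, 0, 11, 8, 0, 9, 10, 0, 4, 1, 11, 8, 1, 9, 10, 1, 11, 8, 1, 9, 5, 8]
def rw120 : List ℕ := [0, 8, 6, 4, 0, 8, 6, 4, 0, 8, 6, 4, 5, 5, 7, 9, 1, 5, 7, 9, 1, 5, 7, 9, 1, 5, 7, 9, 1, 5, 7, 9, 1, 4, 0, 8, 6, 4, 0, 8, 6, 4]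
def rw121 : List ℕ := [0, 8, 6, 4, 13, 5, 7, 9, 1, 5, 7, 9, 1, 5, 7, 9, 1, 5, 7, 9, 1, 5, 7, 9, 1, 12, 0, 8, 6, 4, 0, 8, 6, 4, 0, 8, 6, 4, 0, 8, 6, 4]
def rw122 : List ℕ := [0, 7, 4, 0, 5, 6, 0, 7, 4, 0, 10, 1, 5, 6, 1, 7, 4, 1, 5, 6, 1, 7, 11, 6]
def rw123 : List ℕ := [0, 8, 6, 4, 0, 8, 6, 4, 0, 8, 6, 4, 0, 8, 6, 4, 13, 5, 7, 9, 1, 5, 7, 9, 1, 5, 7, 9, 1, 5, 7, 9, 1, 5, 7, 9, 1, 12, 0, 8, 6, 4]
def rw124 : List ℕ := [0, 8, 6, 4, 0, 8, 6, 4, 7, 5, 7, 9, 1, 5, 7, 9, 1, 5, 7, 9, 1, 5, 7, 9, 1, 5, 7, 9, 1, 6, 0, 8, 6, 4, 0, 8, 6, 4, 0, 8, 6, 4]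
def rw125 : List ℕ := [0, 8, 1, 11, 8, 1, 9, 10, 1, 11, 8, 1, 9, 9, 8, 0, 9, 10, 0, 11, 8, 0, 9, 10]
def rw126 : List ℕ := [0, 9, 10, 0, 11, 8, 0, 9, 10, 0, 12, 1, 11, 8, 1, 9, 10, 1, 11, 8, 1, 9, 13, 8]
def rw127 : List ℕ := [0, 8, 6, 4, 0, 8, 6, 4, 0, 8, 6, 4, 0, 8, 6, 4, 3, 5, 7, 9, 1, 5, 7, 9, 1, 5, 7, 9, 1, 5, 7, 9, 1, 5, 7, 9, 1, 2, 0, 8, 6, 4]
def rw128 : List ℕ := [0, 7, 4, 0, 6, 1, 5, 6, 1, 7, 4, 1, 5, 6, 1, 7, 7, 6, 0, 7, 4, 0, 5, 6]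
def rw129 : List ℕ := [0, 8, 6, 4, 0, 8, 6, 4, 0, 5, 7, 9, 1, 5, 7, 9, 1, 5, 7, 9, 1, 5, 7, 9, 1, 5, 7, 9, 1, 1, 0, 8, 6, 4, 0, 8, 6, 4, 0, 8, 6, 4]
def rw130 : List ℕ := [0, 8, 6, 4, 0, 8, 6, 4, 0, 8, 6, 4, 0, 8, 6, 4, 11, 5, 7, 9, 1, 5, 7, 9, 1, 5, 7, 9, 1, 5, 7, 9, 1, 5, 7, 9, 1, 10, 0, 8, 6, 4]
def rw131 : List ℕ := [0, 0, 1, 11, 8, 1, 9, 10, 1, 11, 8, 1, 9, 1, 8, 0, 9, 10, 0, 11, 8, 0, 9, 10]
def rw132 : List ℕ := [0, 8, 6, 4, 0, 8, 6, 4, 0, 8, 6, 4, 11, 5, 7, 9, 1, 5, 7, 9, 1, 5, 7, 9, 1, 5, 7, 9, 1, 5, 7, 9, 1, 10, 0, 8, 6, 4, 0, 8, 6, 4]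
def rw133 : List ℕ := [0, 11, 8, 0, 9, 10, 0, 8, 1, 11, 8, 1, 9, 10, 1, 11, 8, 1, 9, 9, 8, 0, 9, 10]
def rw134 : List ℕ := [0, 7, 4, 0, 8, 1, 5, 6, 1, 7, 4, 1, 5, 6, 1, 7, 9, 6, 0, 7, 4, 0, 5, 6]
def rw135 : List ℕ := [0, 9, 10, 0, 2, 1, 11, 8, 1, 9, 10, 1, 11, 8, 1, 9, 3, 8, 0, 9, 10, 0, 11, 8]
def rw136 : List ℕ := [0, 8, 6, 4, 0, 8, 6, 4, 0, 8, 6, 4, 3, 5, 7, 9, 1, 5, 7, 9, 1, 5, 7, 9, 1, 5, 7, 9, 1, 5, 7, 9, 1, 2, 0, 8, 6, 4, 0, 8, 6, 4]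
def rw137 : List ℕ := [0, 9, 10, 0, 11, 8, 0, 9, 10, 0, 2, 1, 11, 8, 1, 9, 10, 1, 11, 8, 1, 9, 3, 8]
def rw138 : List ℕ := [0, 11, 8, 0, 9, 10, 0, 4, 1, 11, 8, 1, 9, 10, 1, 11, 8, 1, 9, 5, 8, 0, 9, 10]
def rw139 : List ℕ := [0, 9, 10, 0, 8, 1, 11, 8, 1, 9, 10, 1, 11, 8, 1, 9, 9, 8, 0, 9, 10, 0, 11, 8]
def rw140 : List ℕ := [0, 8, 6, 4, 0, 8, 6, 4, 0, 8, 6, 4, 0, 8, 6, 4, 0, 8, 6, 4, 1, 5, 7, 9, 1, 5, 7, 9, 1, 5, 7, 9, 1, 5, 7, 9, 1, 5, 7, 9, 1, 0]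
def rw141 : List ℕ := [0, 7, 4, 0, 2, 1, 5, 6, 1, 7, 4, 1, 5, 6, 1, 7, 3, 6, 0, 7, 4, 0, 5, 6]
def rw142 : List ℕ := [0, 8, 6, 4, 0, 5, 7, 9, 1, 5, 7, 9, 1, 5, 7, 9, 1, 5, 7, 9, 1, 5, 7, 9, 1, 1, 0, 8, 6, 4, 0, 8, 6, 4, 0, 8, 6, 4, 0, 8, 6, 4]
def rw143 : List ℕ := [0, 8, 6, 4, 0, 8, 6, 4, 0, 8, 6, 4, 0, 8, 6, 4, 0, 5, 7, 9, 1, 5, 7, 9, 1, 5, 7, 9, 1, 5, 7, 9, 1, 5, 7, 9, 1, 1, 0, 8, 6, 4]
def rw144 : List ℕ := [0, 9, 10, 0, 10, 1, 11, 8, 1, 9, 10, 1, 11, 8, 1, 9, 11, 8, 0, 9, 10, 0, 11, 8]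
def rw145 : List ℕ := [0, 8, 6, 4, 0, 8, 6, 4, 0, 8, 6, 4, 0, 8, 6, 4, 9, 5, 7, 9, 1, 5, 7, 9, 1, 5, 7, 9, 1, 5, 7, 9, 1, 5, 7, 9, 1, 8, 0, 8, 6, 4]
def rw146 : List ℕ := [0, 8, 6, 4, 0, 8, 6, 4, 3, 5, 7, 9, 1, 5, 7, 9, 1, 5, 7, 9, 1, 5, 7, 9, 1, 5, 7, 9, 1, 2, 0, 8, 6, 4, 0, 8, 6, 4, 0, 8, 6, 4]
def rw147 : List ℕ := [0, 9, 10, 0, 12, 1, 11, 8, 1, 9, 10, 1, 11, 8, 1, 9, 13, 8, 0, 9, 10, 0, 11, 8]
def rw148 : List ℕ := [0, 8, 6, 4, 0, 8, 6, 4, 13, 5, 7, 9, 1, 5, 7, 9, 1, 5, 7, 9, 1, 5, 7, 9, 1, 5, 7, 9, 1, 12, 0, 8, 6, 4, 0, 8, 6, 4, 0, 8, 6, 4]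
def rw149 : List ℕ := [0, 7, 4, 0, 5, 6, 0, 7, 4, 0, 12, 1, 5, 6, 1, 7, 4, 1, 5, 6, 1, 7, 13, 6]
def rw150 : List ℕ := [0, 8, 6, 4, 0, 8, 6, 4, 0, 8, 6, 4, 9, 5, 7, 9, 1, 5, 7, 9, 1, 5, 7, 9, 1, 5, 7, 9, 1, 5, 7, 9, 1, 8, 0, 8, 6, 4, 0, 8, 6, 4]
def rw151 : List ℕ := [0, 9, 10, 0, 4, 1, 11, 8, 1, 9, 10, 1, 11, 8, 1, 9, 5, 8, 0, 9, 10, 0, 11, 8]
def rw152 : List ℕ := [0, 8, 6, 4, 0, 8, 6, 4, 0, 8, 6, 4, 0, 8, 6, 4, 0, 8, 6, 4, 13, 5, 7, 9, 1, 5, 7, 9, 1, 5, 7, 9, 1, 5, 7, 9, 1, 5, 7, 9, 1, 12]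
def rw153 : List ℕ := [0, 11, 9, 7, 9, 7, 8, 6, 8, 10, 1, 8, 10, 0, 6, 9, 11, 0, 6, 8, 6, 8, 10, 8, 7, 1, 11, 9]
def rw154 : List ℕ := [0, 11, 8, 0, 9, 10, 0, 2, 1, 11, 8, 1, 9, 10, 1, 11, 8, 1, 9, 3, 8, 0, 9, 10]
def rw155 : List ℕ := [0, 8, 6, 4, 7, 5, 7, 9, 1, 5, 7, 9, 1, 5, 7, 9, 1, 5, 7, 9, 1, 5, 7, 9, 1, 6, 0, 8, 6, 4, 0, 8, 6, 4, 0, 8, 6, 4, 0, 8, 6, 4]
def rw156 : List ℕ := [0, 9, 10, 0, 11, 8, 0, 9, 10, 0, 8, 1, 11, 8, 1, 9, 10, 1, 11, 8, 1, 9, 9, 8]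
def rw157 : List ℕ := [0, 8, 6, 4, 11, 5, 7, 9, 1, 5, 7, 9, 1, 5, 7, 9, 1, 5, 7, 9, 1, 5, 7, 9, 1, 10, 0, 8, 6, 4, 0, 8, 6, 4, 0, 8, 6, 4, 0, 8, 6, 4]
def rw158 : List ℕ := [0, 8, 6, 4, 0, 8, 6, 4, 0, 8, 6, 4, 0, 8, 6, 4, 1, 5, 7, 9, 1, 5, 7, 9, 1, 5, 7, 9, 1, 5, 7, 9, 1, 5, 7, 9, 1, 0, 0, 8, 6, 4]
def rw159 : List ℕ := [0, 8, 6, 4, 0, 8, 6, 4, 0, 8, 6, 4, 7, 5, 7, 9, 1, 5, 7, 9, 1, 5, 7, 9, 1, 5, 7, 9, 1, 5, 7, 9, 1, 6, 0, 8, 6, 4, 0, 8, 6, 4]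
def rw160 : List ℕ := [0, 7, 4, 0, 4, 1, 5, 6, 1, 7, 4, 1, 5, 6, 1, 7, 5, 6, 0, 7, 4, 0, 5, 6]
def rw161 : List ℕ := [0, 8, 6, 4, 0, 8, 6, 4, 9, 5, 7, 9, 1, 5, 7, 9, 1, 5, 7, 9, 1, 5, 7, 9, 1, 5, 7, 9, 1, 8, 0, 8, 6, 4, 0, 8, 6, 4, 0, 8, 6, 4]
def rw162 : List ℕ := [0, 8, 6, 4, 0, 8, 6, 4, 0, 8, 6, 4, 0, 8, 6, 4, 0, 8, 6, 4, 11, 5, 7, 9, 1, 5, 7, 9, 1, 5, 7, 9, 1, 5, 7, 9, 1, 5, 7, 9, 1, 10]
def rw163 : List ℕ := [0, 8, 6, 4, 0, 8, 6, 4, 0, 8, 6, 4, 13, 5, 7, 9, 1, 5, 7, 9, 1, 5, 7, 9, 1, 5, 7, 9, 1, 5, 7, 9, 1, 12, 0, 8, 6, 4, 0, 8, 6, 4]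
def rw164 : List ℕ := [0, 9, 10, 0, 6, 1, 11, 8, 1, 9, 10, 1, 11, 8, 1, 9, 7, 8, 0, 9, 10, 0, 11, 8]
def rw165 : List ℕ := [0, 7, 4, 0, 5, 6, 0, 7, 4, 0, 6, 1, 5, 6, 1, 7, 4, 1, 5, 6, 1, 7, 7, 6]
def rw166 : List ℕ := [0, 8, 6, 4, 0, 8, 6, 4, 0, 8, 6, 4, 0, 8, 6, 4, 0, 8, 6, 4, 9, 5, 7, 9, 1, 5, 7, 9, 1, 5, 7, 9, 1, 5, 7, 9, 1, 5, 7, 9, 1, 8]
def rw167 : List ℕ := [0, 11, 8, 0, 9, 10, 0, 6, 1, 11, 8, 1, 9, 10, 1, 11, 8, 1, 9, 7, 8, 0, 9, 10]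
def rw168 : List ℕ := [0, 8, 6, 4, 5, 5, 7, 9, 1, 5, 7, 9, 1, 5, 7, 9, 1, 5, 7, 9, 1, 5, 7, 9, 1, 4, 0, 8, 6, 4, 0, 8, 6, 4, 0, 8, 6, 4, 0, 8, 6, 4]
def rw169 : List ℕ := [0, 5, 6, 0, 7, 4, 0, 2, 1, 5, 6, 1, 7, 4, 1, 5, 6, 1, 7, 3, 6, 0, 7, 4]
def rw170 : List ℕ := [0, 8, 6, 4, 9, 5, 7, 9, 1, 5, 7, 9, 1, 5, 7, 9, 1, 5, 7, 9, 1, 5, 7, 9, 1, 8, 0, 8, 6, 4, 0, 8, 6, 4, 0, 8, 6, 4, 0, 8, 6, 4]
def rw171 : List ℕ := [0, 8, 6, 4, 0, 8, 6, 4, 10, 5, 7, 9, 1, 5, 7, 9, 1, 5, 7, 9, 1, 5, 7, 9, 1, 5, 7, 9, 1, 11, 0, 8, 6, 4, 0, 8, 6, 4, 0, 8, 6, 4]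
def rw172 : List ℕ := [0, 8, 6, 4, 4, 5, 7, 9, 1, 5, 7, 9, 1, 5, 7, 9, 1, 5, 7, 9, 1, 5, 7, 9, 1, 5, 0, 8, 6, 4, 0, 8, 6, 4, 0, 8, 6, 4, 0, 8, 6, 4]
def rw173 : List ℕ := [0, 8, 6, 4, 2, 5, 7, 9, 1, 5, 7, 9, 1, 5, 7, 9, 1, 5, 7, 9, 1, 5, 7, 9, 1, 3, 0, 8, 6, 4, 0, 8, 6, 4, 0, 8, 6, 4, 0, 8, 6, 4]
def rw174 : List ℕ := [0, 8, 6, 4, 0, 8, 6, 4, 0, 8, 6, 4, 0, 8, 6, 4, 2, 5, 7, 9, 1, 5, 7, 9, 1, 5, 7, 9, 1, 5, 7, 9, 1, 5, 7, 9, 1, 3, 0, 8, 6, 4]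
def rw175 : List ℕ := [0, 8, 6, 4, 0, 8, 6, 4, 0, 8, 6, 4, 0, 8, 6, 4, 0, 8, 6, 4, 2, 5, 7, 9, 1, 5, 7, 9, 1, 5, 7, 9, 1, 5, 7, 9, 1, 5, 7, 9, 1, 3]
def rw176 : List ℕ := [0, 8, 6, 4, 0, 8, 6, 4, 0, 8, 6, 4, 0, 8, 6, 4, 0, 8, 6, 4, 8, 5, 7, 9, 1, 5, 7, 9, 1, 5, 7, 9, 1, 5, 7, 9, 1, 5, 7, 9, 1, 9]
def rw177 : List ℕ := [0, 8, 6, 4, 10, 5, 7, 9, 1, 5, 7, 9, 1, 5, 7, 9, 1, 5, 7, 9, 1, 5, 7, 9, 1, 11, 0, 8, 6, 4, 0, 8, 6, 4, 0, 8, 6, 4, 0, 8, 6, 4]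
def rw178 : List ℕ := [0, 8, 6, 4, 0, 8, 6, 4, 0, 8, 6, 4, 0, 8, 6, 4, 0, 8, 6, 4, 4, 5, 7, 9, 1, 5, 7, 9, 1, 5, 7, 9, 1, 5, 7, 9, 1, 5, 7, 9, 1, 5]
def rw179 : List ℕ := [1, 1, 12, 2]
def rw180 : List ℕ := [1, 12, 2, 1]
def rw181 : List ℕ := [1, 7, 1, 6, 0, 7, 4, 0, 5, 6, 0, 7, 4, 0, 0, 1, 5, 6, 1, 7, 4, 1, 5, 6]
def rw182 : List ℕ := [1, 5, 6, 1, 7, 4, 6, 0, 7, 4, 0, 5, 6, 0, 7, 4, 0, 5, 1, 5, 6, 1, 7, 4]
def rw183 : List ℕ := [1, 9, 1, 7, 0, 8, 0, 8, 7, 9]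
def rw184 : List ℕ := [1, 6, 0, 8, 0, 8, 6, 9, 1, 9]
def rw185 : List ℕ := [1, 7, 1, 8, 0, 6, 0, 6, 8, 7]
def rw186 : List ℕ := [1, 5, 6, 1, 7, 4, 1, 5, 6, 1, 7, 5, 6, 0, 7, 4, 0, 5, 6, 0, 7, 4, 0, 4]
def rw187 : List ℕ := [1, 7, 4, 1, 5, 6, 1, 7, 0, 6, 0, 7, 4, 0, 5, 6, 0, 7, 4, 0, 1, 1, 5, 6]
def rw188 : List ℕ := [1, 8, 0, 6, 0, 6, 8, 7, 1, 7]
def rw189 : List ℕ := [1, 5, 6, 1, 7, 1, 6, 0, 7, 4, 0, 5, 6, 0, 7, 4, 0, 0, 1, 5, 6, 1, 7, 4]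
def rw190 : List ℕ := [1, 7, 1, 7, 1, 2, 7, 1, 7]
def rw191 : List ℕ := [1, 7, 4, 1, 5, 6, 1, 7, 6, 6, 0, 7, 4, 0, 5, 6, 0, 7, 4, 0, 7, 1, 5, 6]
def rw192 : List ℕ := [1, 5, 6, 1, 7, 6, 6, 0, 7, 4, 0, 5, 6, 0, 7, 4, 0, 7, 1, 5, 6, 1, 7, 4]
def rw193 : List ℕ := [1, 5, 6, 1, 7, 4, 1, 5, 6, 1, 7, 0, 6, 0, 7, 4, 0, 5, 6, 0, 7, 4, 0, 1]
def rw194 : List ℕ := [1, 7, 1, 7, 1, 7, 1, 2, 7]
def rw195 : List ℕ := [1, 9, 1, 6, 0, 8, 0, 8, 6, 9]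
def rw196 : List ℕ := [1, 9, 1, 8, 0, 9, 10, 0, 11, 8, 0, 9, 10, 0, 0, 1, 11, 8, 1, 9, 10, 1, 11, 8]
def rw197 : List ℕ := [1, 7, 1, 2, 7, 1, 7, 1, 7]
def rw198 : List ℕ := [1, 5, 6, 1, 7, 0, 6, 0, 7, 4, 0, 5, 6, 0, 7, 4, 0, 1, 1, 5, 6, 1, 7, 4]
def rw199 : List ℕ := [1, 7, 4, 1, 5, 6, 1, 7, 2, 6, 0, 7, 4, 0, 5, 6, 0, 7, 4, 0, 3, 1, 5, 6]
def rw200 : List ℕ := [1, 2, 7, 1, 7, 1, 7, 1, 7]
def rw201 : List ℕ := [1, 5, 6, 1, 7, 12, 6, 0, 7, 4, 0, 5, 6, 0, 7, 4, 0, 13, 1, 5, 6, 1, 7, 4]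
def rw202 : List ℕ := [1, 6, 0, 7, 4, 0, 5, 6, 0, 7, 4, 0, 0, 1, 5, 6, 1, 7, 4, 1, 5, 6, 1, 7]
def rw203 : List ℕ := [1, 9, 10, 8, 0, 9, 10, 0, 11, 8, 0, 9, 10, 0, 11, 1, 11, 8, 1, 9, 10, 1, 11, 8]
def rw204 : List ℕ := [1, 5, 6, 1, 7, 8, 6, 0, 7, 4, 0, 5, 6, 0, 7, 4, 0, 9, 1, 5, 6, 1, 7, 4]
def rw205 : List ℕ := [1, 11, 8, 1, 9, 10, 1, 11, 8, 1, 9, 8, 8, 0, 9, 10, 0, 11, 8, 0, 9, 10, 0, 9]
def rw206 : List ℕ := [1, 8, 0, 9, 10, 0, 11, 8, 0, 9, 10, 0, 0, 1, 11, 8, 1, 9, 10, 1, 11, 8, 1, 9]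
def rw207 : List ℕ := [1, 7, 12, 6, 0, 7, 4, 0, 5, 6, 0, 7, 4, 0, 13, 1, 5, 6, 1, 7, 4, 1, 5, 6]
def rw208 : List ℕ := [1, 5, 6, 1, 7, 4, 1, 5, 6, 1, 7, 4, 6, 0, 7, 4, 0, 5, 6, 0, 7, 4, 0, 5]
def rw209 : List ℕ := [1, 5, 6, 1, 7, 4, 1, 5, 6, 1, 7, 8, 6, 0, 7, 4, 0, 5, 6, 0, 7, 4, 0, 9]
def rw210 : List ℕ := [1, 7, 0, 6, 0, 7, 4, 0, 5, 6, 0, 7, 4, 0, 1, 1, 5, 6, 1, 7, 4, 1, 5, 6]
def rw211 : List ℕ := [1, 9, 10, 1, 11, 8, 1, 9, 2, 8, 0, 9, 10, 0, 11, 8, 0, 9, 10, 0, 3, 1, 11, 8]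
def rw212 : List ℕ := [1, 9, 2, 8, 0, 9, 10, 0, 11, 8, 0, 9, 10, 0, 3, 1, 11, 8, 1, 9, 10, 1, 11, 8]
def rw213 : List ℕ := [1, 11, 8, 1, 9, 10, 1, 11, 8, 1, 9, 2, 8, 0, 9, 10, 0, 11, 8, 0, 9, 10, 0, 3]
def rw214 : List ℕ := [1, 11, 8, 1, 9, 2, 8, 0, 9, 10, 0, 11, 8, 0, 9, 10, 0, 3, 1, 11, 8, 1, 9, 10]
def rw215 : List ℕ := [1, 9, 4, 8, 0, 9, 10, 0, 11, 8, 0, 9, 10, 0, 5, 1, 11, 8, 1, 9, 10, 1, 11, 8]
def rw216 : List ℕ := [1, 5, 6, 1, 7, 4, 1, 5, 6, 1, 7, 6, 6, 0, 7, 4, 0, 5, 6, 0, 7, 4, 0, 7]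
def rw217 : List ℕ := [1, 11, 8, 1, 9, 6, 8, 0, 9, 10, 0, 11, 8, 0, 9, 10, 0, 7, 1, 11, 8, 1, 9, 10]
def rw218 : List ℕ := [1, 11, 8, 1, 9, 10, 1, 11, 8, 1, 9, 10, 8, 0, 9, 10, 0, 11, 8, 0, 9, 10, 0, 11]
def rw219 : List ℕ := [1, 11, 8, 1, 9, 10, 1, 11, 8, 1, 9, 6, 8, 0, 9, 10, 0, 11, 8, 0, 9, 10, 0, 7]
def rw220 : List ℕ := [1, 9, 10, 1, 11, 8, 1, 9, 0, 8, 0, 9, 10, 0, 11, 8, 0, 9, 10, 0, 1, 1, 11, 8]
def rw221 : List ℕ := [1, 9, 0, 8, 0, 9, 10, 0, 11, 8, 0, 9, 10, 0, 1, 1, 11, 8, 1, 9, 10, 1, 11, 8]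
def rw222 : List ℕ := [1, 11, 8, 1, 9, 0, 8, 0, 9, 10, 0, 11, 8, 0, 9, 10, 0, 1, 1, 11, 8, 1, 9, 10]
def rw223 : List ℕ := [1, 10, 8, 7, 1, 11, 9, 0, 11, 9, 7, 9, 6, 8, 6, 8, 10, 1, 8, 10, 0, 6, 9, 11, 9, 7, 9, 7]
def rw224 : List ℕ := [1, 11, 8, 1, 9, 12, 8, 0, 9, 10, 0, 11, 8, 0, 9, 10, 0, 13, 1, 11, 8, 1, 9, 10]
def rw225 : List ℕ := [1, 11, 8, 1, 9, 10, 1, 11, 8, 1, 9, 13, 8, 0, 9, 10, 0, 11, 8, 0, 9, 10, 0, 12]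
def rw226 : List ℕ := [1, 7, 4, 1, 5, 6, 1, 7, 1, 6, 0, 7, 4, 0, 5, 6, 0, 7, 4, 0, 0, 1, 5, 6]
def rw227 : List ℕ := [1, 7, 8, 6, 0, 7, 4, 0, 5, 6, 0, 7, 4, 0, 9, 1, 5, 6, 1, 7, 4, 1, 5, 6]
def rw228 : List ℕ := [1, 9, 10, 1, 11, 8, 1, 9, 12, 8, 0, 9, 10, 0, 11, 8, 0, 9, 10, 0, 13, 1, 11, 8]
def rw229 : List ℕ := [1, 11, 8, 1, 9, 10, 1, 11, 8, 1, 9, 4, 8, 0, 9, 10, 0, 11, 8, 0, 9, 10, 0, 5]
def rw230 : List ℕ := [1, 5, 6, 1, 7, 4, 1, 5, 6, 1, 7, 10, 6, 0, 7, 4, 0, 5, 6, 0, 7, 4, 0, 11]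
def rw231 : List ℕ := [1, 9, 10, 1, 11, 8, 1, 9, 8, 8, 0, 9, 10, 0, 11, 8, 0, 9, 10, 0, 9, 1, 11, 8]
def rw232 : List ℕ := [1, 7, 4, 6, 0, 7, 4, 0, 5, 6, 0, 7, 4, 0, 5, 1, 5, 6, 1, 7, 4, 1, 5, 6]
def rw233 : List ℕ := [1, 9, 10, 1, 11, 8, 1, 9, 1, 8, 0, 9, 10, 0, 11, 8, 0, 9, 10, 0, 0, 1, 11, 8]
def rw234 : List ℕ := [1, 7, 13, 6, 0, 7, 4, 0, 5, 6, 0, 7, 4, 0, 12, 1, 5, 6, 1, 7, 4, 1, 5, 6]
def rw235 : List ℕ := [1, 11, 8, 1, 9, 10, 8, 0, 9, 10, 0, 11, 8, 0, 9, 10, 0, 11, 1, 11, 8, 1, 9, 10]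
def rw236 : List ℕ := [1, 11, 8, 1, 9, 1, 8, 0, 9, 10, 0, 11, 8, 0, 9, 10, 0, 0, 1, 11, 8, 1, 9, 10]
def rw237 : List ℕ := [1, 7, 11, 6, 0, 7, 4, 0, 5, 6, 0, 7, 4, 0, 10, 1, 5, 6, 1, 7, 4, 1, 5, 6]
def rw238 : List ℕ := [1, 7, 4, 1, 5, 6, 1, 7, 10, 6, 0, 7, 4, 0, 5, 6, 0, 7, 4, 0, 11, 1, 5, 6]
def rw239 : List ℕ := [1, 11, 8, 1, 9, 10, 1, 11, 8, 1, 9, 3, 8, 0, 9, 10, 0, 11, 8, 0, 9, 10, 0, 2]
def rw240 : List ℕ := [1, 8, 0, 8, 6, 4, 0, 8, 6, 4, 0, 8, 6, 4, 0, 8, 6, 4, 0, 8, 6, 4, 9, 5, 7, 9, 1, 5, 7, 9, 1, 5, 7, 9, 1, 5, 7, 9, 1, 5, 7, 9]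
def rw241 : List ℕ := [1, 11, 8, 1, 9, 8, 8, 0, 9, 10, 0, 11, 8, 0, 9, 10, 0, 9, 1, 11, 8, 1, 9, 10]
def rw242 : List ℕ := [1, 9, 10, 1, 11, 8, 1, 9, 5, 8, 0, 9, 10, 0, 11, 8, 0, 9, 10, 0, 4, 1, 11, 8]
def rw243 : List ℕ := [1, 7, 10, 6, 0, 7, 4, 0, 5, 6, 0, 7, 4, 0, 11, 1, 5, 6, 1, 7, 4, 1, 5, 6]
def rw244 : List ℕ := [1, 5, 7, 9, 1, 5, 7, 9, 1, 5, 7, 9, 1, 5, 7, 9, 1, 5, 7, 9, 1, 0, 0, 8, 6, 4, 0, 8, 6, 4, 0, 8, 6, 4, 0, 8, 6, 4, 0, 8, 6, 4]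
def rw245 : List ℕ := [1, 9, 13, 8, 0, 9, 10, 0, 11, 8, 0, 9, 10, 0, 12, 1, 11, 8, 1, 9, 10, 1, 11, 8]
def rw246 : List ℕ := [1, 7, 0, 8, 0, 8, 7, 9, 1, 9]
def rw247 : List ℕ := [1, 11, 8, 1, 9, 4, 8, 0, 9, 10, 0, 11, 8, 0, 9, 10, 0, 5, 1, 11, 8, 1, 9, 10]
def rw248 : List ℕ := [1, 9, 6, 8, 0, 9, 10, 0, 11, 8, 0, 9, 10, 0, 7, 1, 11, 8, 1, 9, 10, 1, 11, 8]
def rw249 : List ℕ := [1, 5, 6, 1, 7, 4, 1, 5, 6, 1, 7, 13, 6, 0, 7, 4, 0, 5, 6, 0, 7, 4, 0, 12]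
def rw250 : List ℕ := [1, 9, 10, 1, 11, 8, 1, 9, 4, 8, 0, 9, 10, 0, 11, 8, 0, 9, 10, 0, 5, 1, 11, 8]
def rw251 : List ℕ := [1, 11, 8, 1, 9, 10, 1, 11, 8, 1, 9, 5, 8, 0, 9, 10, 0, 11, 8, 0, 9, 10, 0, 4]
def rw252 : List ℕ := [1, 11, 8, 1, 9, 10, 1, 11, 8, 1, 9, 11, 8, 0, 9, 10, 0, 11, 8, 0, 9, 10, 0, 10]
def rw253 : List ℕ := [1, 7, 4, 1, 5, 6, 1, 7, 8, 6, 0, 7, 4, 0, 5, 6, 0, 7, 4, 0, 9, 1, 5, 6]
def rw254 : List ℕ := [1, 5, 6, 1, 7, 4, 1, 5, 6, 1, 7, 9, 6, 0, 7, 4, 0, 5, 6, 0, 7, 4, 0, 8]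
def rw255 : List ℕ := [1, 7, 2, 6, 0, 7, 4, 0, 5, 6, 0, 7, 4, 0, 3, 1, 5, 6, 1, 7, 4, 1, 5, 6]
def rw256 : List ℕ := [1, 9, 10, 1, 11, 8, 1, 9, 6, 8, 0, 9, 10, 0, 11, 8, 0, 9, 10, 0, 7, 1, 11, 8]
def rw257 : List ℕ := [1, 11, 8, 1, 9, 10, 1, 11, 8, 1, 9, 7, 8, 0, 9, 10, 0, 11, 8, 0, 9, 10, 0, 6]
def rw258 : List ℕ := [1, 8, 10, 0, 6, 9, 11, 9, 7, 9, 7, 1, 10, 8, 7, 1, 11, 9, 0, 11, 9, 7, 9, 6, 8, 6, 8, 10]
def rw259 : List ℕ := [1, 7, 1, 9, 0, 6, 0, 6, 9, 7]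
def rw260 : List ℕ := [1, 7, 4, 1, 5, 6, 1, 7, 4, 6, 0, 7, 4, 0, 5, 6, 0, 7, 4, 0, 5, 1, 5, 6]
def rw261 : List ℕ := [1, 4, 0, 8, 6, 4, 0, 8, 6, 4, 0, 8, 6, 4, 0, 8, 6, 4, 0, 8, 6, 4, 5, 5, 7, 9, 1, 5, 7, 9, 1, 5, 7, 9, 1, 5, 7, 9, 1, 5, 7, 9]
def rw262 : List ℕ := [1, 5, 6, 1, 7, 4, 1, 5, 6, 1, 7, 11, 6, 0, 7, 4, 0, 5, 6, 0, 7, 4, 0, 10]
def rw263 : List ℕ := [1, 5, 6, 1, 7, 10, 6, 0, 7, 4, 0, 5, 6, 0, 7, 4, 0, 11, 1, 5, 6, 1, 7, 4]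
def rw264 : List ℕ := [1, 11, 8, 1, 9, 9, 8, 0, 9, 10, 0, 11, 8, 0, 9, 10, 0, 8, 1, 11, 8, 1, 9, 10]
def rw265 : List ℕ := [1, 9, 10, 1, 11, 8, 1, 9, 10, 8, 0, 9, 10, 0, 11, 8, 0, 9, 10, 0, 11, 1, 11, 8]
def rw266 : List ℕ := [1, 5, 6, 1, 7, 2, 6, 0, 7, 4, 0, 5, 6, 0, 7, 4, 0, 3, 1, 5, 6, 1, 7, 4]
def rw267 : List ℕ := [1, 5, 6, 1, 7, 4, 1, 5, 6, 1, 7, 2, 6, 0, 7, 4, 0, 5, 6, 0, 7, 4, 0, 3]
def rw268 : List ℕ := [1, 7, 4, 1, 5, 6, 1, 7, 12, 6, 0, 7, 4, 0, 5, 6, 0, 7, 4, 0, 13, 1, 5, 6]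
def rw269 : List ℕ := [1, 9, 8, 8, 0, 9, 10, 0, 11, 8, 0, 9, 10, 0, 9, 1, 11, 8, 1, 9, 10, 1, 11, 8]
def rw270 : List ℕ := [1, 7, 5, 6, 0, 7, 4, 0, 5, 6, 0, 7, 4, 0, 4, 1, 5, 6, 1, 7, 4, 1, 5, 6]
def rw271 : List ℕ := [1, 7, 4, 1, 5, 6, 1, 7, 9, 6, 0, 7, 4, 0, 5, 6, 0, 7, 4, 0, 8, 1, 5, 6]
def rw272 : List ℕ := [1, 5, 6, 1, 7, 4, 1, 5, 6, 1, 7, 3, 6, 0, 7, 4, 0, 5, 6, 0, 7, 4, 0, 2]
def rw273 : List ℕ := [1, 11, 8, 1, 9, 10, 1, 11, 8, 1, 9, 9, 8, 0, 9, 10, 0, 11, 8, 0, 9, 10, 0, 8]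
def rw274 : List ℕ := [1, 5, 6, 1, 7, 5, 6, 0, 7, 4, 0, 5, 6, 0, 7, 4, 0, 4, 1, 5, 6, 1, 7, 4]
def rw275 : List ℕ := [1, 7, 4, 1, 5, 6, 1, 7, 3, 6, 0, 7, 4, 0, 5, 6, 0, 7, 4, 0, 2, 1, 5, 6]
def rw276 : List ℕ := [1, 11, 8, 1, 9, 10, 1, 11, 8, 1, 9, 0, 8, 0, 9, 10, 0, 11, 8, 0, 9, 10, 0, 1]
def rw277 : List ℕ := [1, 5, 6, 1, 7, 4, 1, 5, 6, 1, 7, 7, 6, 0, 7, 4, 0, 5, 6, 0, 7, 4, 0, 6]
def rw278 : List ℕ := [1, 5, 6, 1, 7, 4, 1, 5, 6, 1, 7, 12, 6, 0, 7, 4, 0, 5, 6, 0, 7, 4, 0, 13]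
def rw279 : List ℕ := [1, 11, 8, 1, 9, 11, 8, 0, 9, 10, 0, 11, 8, 0, 9, 10, 0, 10, 1, 11, 8, 1, 9, 10]
def rw280 : List ℕ := [1, 5, 6, 1, 7, 3, 6, 0, 7, 4, 0, 5, 6, 0, 7, 4, 0, 2, 1, 5, 6, 1, 7, 4]
def rw281 : List ℕ := [1, 9, 12, 8, 0, 9, 10, 0, 11, 8, 0, 9, 10, 0, 13, 1, 11, 8, 1, 9, 10, 1, 11, 8]
def rw282 : List ℕ := [1, 5, 7, 9, 1, 5, 7, 9, 1, 5, 7, 9, 1, 5, 7, 9, 1, 1, 0, 8, 6, 4, 0, 8, 6, 4, 0, 8, 6, 4, 0, 8, 6, 4, 0, 8, 6, 4, 0, 5, 7, 9]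
def rw283 : List ℕ := [1, 11, 8, 1, 9, 3, 8, 0, 9, 10, 0, 11, 8, 0, 9, 10, 0, 2, 1, 11, 8, 1, 9, 10]
def rw284 : List ℕ := [1, 11, 9, 0, 11, 9, 7, 9, 7, 8, 6, 8, 10, 1, 8, 10, 0, 6, 9, 11, 0, 6, 8, 6, 8, 10, 8, 7]
def rw285 : List ℕ := [1, 11, 8, 1, 9, 10, 1, 11, 8, 1, 9, 12, 8, 0, 9, 10, 0, 11, 8, 0, 9, 10, 0, 13]
def rw286 : List ℕ := [1, 11, 9, 0, 11, 9, 7, 9, 6, 8, 6, 8, 10, 1, 8, 10, 0, 6, 9, 11, 9, 7, 9, 7, 1, 10, 8, 7]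
def rw287 : List ℕ := [1, 5, 7, 9, 1, 5, 7, 9, 1, 8, 0, 8, 6, 4, 0, 8, 6, 4, 0, 8, 6, 4, 0, 8, 6, 4, 0, 8, 6, 4, 9, 5, 7, 9, 1, 5, 7, 9, 1, 5, 7, 9]
def rw288 : List ℕ := [1, 5, 7, 9, 1, 5, 7, 9, 1, 5, 7, 9, 1, 5, 7, 9, 1, 6, 0, 8, 6, 4, 0, 8, 6, 4, 0, 8, 6, 4, 0, 8, 6, 4, 0, 8, 6, 4, 7, 5, 7, 9]
def rw289 : List ℕ := [1, 7, 6, 6, 0, 7, 4, 0, 5, 6, 0, 7, 4, 0, 7, 1, 5, 6, 1, 7, 4, 1, 5, 6]
def rw290 : List ℕ := [1, 5, 7, 9, 1, 8, 0, 8, 6, 4, 0, 8, 6, 4, 0, 8, 6, 4, 0, 8, 6, 4, 0, 8, 6, 4, 9, 5, 7, 9, 1, 5, 7, 9, 1, 5, 7, 9, 1, 5, 7, 9]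
def rw291 : List ℕ := [1, 5, 7, 9, 1, 10, 0, 8, 6, 4, 0, 8, 6, 4, 0, 8, 6, 4, 0, 8, 6, 4, 0, 8, 6, 4, 11, 5, 7, 9, 1, 5, 7, 9, 1, 5, 7, 9, 1, 5, 7, 9]
def rw292 : List ℕ := [1, 5, 7, 9, 1, 6, 0, 8, 6, 4, 0, 8, 6, 4, 0, 8, 6, 4, 0, 8, 6, 4, 0, 8, 6, 4, 7, 5, 7, 9, 1, 5, 7, 9, 1, 5, 7, 9, 1, 5, 7, 9]
def rw293 : List ℕ := [1, 7, 4, 1, 5, 6, 1, 7, 7, 6, 0, 7, 4, 0, 5, 6, 0, 7, 4, 0, 6, 1, 5, 6]
def rw294 : List ℕ := [1, 5, 6, 1, 7, 13, 6, 0, 7, 4, 0, 5, 6, 0, 7, 4, 0, 12, 1, 5, 6, 1, 7, 4]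
def rw295 : List ℕ := [1, 9, 10, 1, 11, 8, 1, 9, 9, 8, 0, 9, 10, 0, 11, 8, 0, 9, 10, 0, 8, 1, 11, 8]
def rw296 : List ℕ := [1, 5, 7, 9, 1, 5, 7, 9, 1, 5, 7, 9, 1, 2, 0, 8, 6, 4, 0, 8, 6, 4, 0, 8, 6, 4, 0, 8, 6, 4, 0, 8, 6, 4, 3, 5, 7, 9, 1, 5, 7, 9]
def rw297 : List ℕ := [1, 9, 11, 8, 0, 9, 10, 0, 11, 8, 0, 9, 10, 0, 10, 1, 11, 8, 1, 9, 10, 1, 11, 8]
def rw298 : List ℕ := [1, 12, 0, 8, 6, 4, 0, 8, 6, 4, 0, 8, 6, 4, 0, 8, 6, 4, 0, 8, 6, 4, 13, 5, 7, 9, 1, 5, 7, 9, 1, 5, 7, 9, 1, 5, 7, 9, 1, 5, 7, 9]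
def rw299 : List ℕ := [1, 5, 7, 9, 1, 5, 7, 9, 1, 5, 7, 9, 1, 5, 7, 9, 1, 12, 0, 8, 6, 4, 0, 8, 6, 4, 0, 8, 6, 4, 0, 8, 6, 4, 0, 8, 6, 4, 13, 5, 7, 9]
def rw300 : List ℕ := [1, 5, 7, 9, 1, 5, 7, 9, 1, 1, 0, 8, 6, 4, 0, 8, 6, 4, 0, 8, 6, 4, 0, 8, 6, 4, 0, 8, 6, 4, 0, 5, 7, 9, 1, 5, 7, 9, 1, 5, 7, 9]
def rw301 : List ℕ := [1, 5, 7, 9, 1, 5, 7, 9, 1, 5, 7, 9, 1, 5, 7, 9, 1, 2, 0, 8, 6, 4, 0, 8, 6, 4, 0, 8, 6, 4, 0, 8, 6, 4, 0, 8, 6, 4, 3, 5, 7, 9]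
def rw302 : List ℕ := [1, 5, 6, 1, 7, 11, 6, 0, 7, 4, 0, 5, 6, 0, 7, 4, 0, 10, 1, 5, 6, 1, 7, 4]
def rw303 : List ℕ := [1, 9, 0, 6, 0, 6, 9, 7, 1, 7]
def rw304 : List ℕ := [1, 7, 9, 6, 0, 7, 4, 0, 5, 6, 0, 7, 4, 0, 8, 1, 5, 6, 1, 7, 4, 1, 5, 6]
def rw305 : List ℕ := [1, 5, 6, 1, 7, 9, 6, 0, 7, 4, 0, 5, 6, 0, 7, 4, 0, 8, 1, 5, 6, 1, 7, 4]
def rw306 : List ℕ := [1, 9, 10, 1, 11, 8, 1, 9, 11, 8, 0, 9, 10, 0, 11, 8, 0, 9, 10, 0, 10, 1, 11, 8]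
def rw307 : List ℕ := [1, 5, 7, 9, 1, 5, 7, 9, 1, 5, 7, 9, 1, 6, 0, 8, 6, 4, 0, 8, 6, 4, 0, 8, 6, 4, 0, 8, 6, 4, 0, 8, 6, 4, 7, 5, 7, 9, 1, 5, 7, 9]
def rw308 : List ℕ := [1, 11, 8, 1, 9, 13, 8, 0, 9, 10, 0, 11, 8, 0, 9, 10, 0, 12, 1, 11, 8, 1, 9, 10]
def rw309 : List ℕ := [1, 7, 7, 6, 0, 7, 4, 0, 5, 6, 0, 7, 4, 0, 6, 1, 5, 6, 1, 7, 4, 1, 5, 6]
def rw310 : List ℕ := [1, 5, 7, 9, 1, 12, 0, 8, 6, 4, 0, 8, 6, 4, 0, 8, 6, 4, 0, 8, 6, 4, 0, 8, 6, 4, 13, 5, 7, 9, 1, 5, 7, 9, 1, 5, 7, 9, 1, 5, 7, 9]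
def rw311 : List ℕ := [1, 9, 3, 8, 0, 9, 10, 0, 11, 8, 0, 9, 10, 0, 2, 1, 11, 8, 1, 9, 10, 1, 11, 8]
def rw312 : List ℕ := [1, 11, 8, 1, 9, 7, 8, 0, 9, 10, 0, 11, 8, 0, 9, 10, 0, 6, 1, 11, 8, 1, 9, 10]
def rw313 : List ℕ := [1, 9, 10, 1, 11, 8, 1, 9, 13, 8, 0, 9, 10, 0, 11, 8, 0, 9, 10, 0, 12, 1, 11, 8]
def rw314 : List ℕ := [1, 11, 8, 1, 9, 5, 8, 0, 9, 10, 0, 11, 8, 0, 9, 10, 0, 4, 1, 11, 8, 1, 9, 10]
def rw315 : List ℕ := [1, 9, 5, 8, 0, 9, 10, 0, 11, 8, 0, 9, 10, 0, 4, 1, 11, 8, 1, 9, 10, 1, 11, 8]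
def rw316 : List ℕ := [1, 8, 10, 0, 6, 9, 11, 0, 6, 8, 6, 8, 10, 8, 7, 1, 11, 9, 0, 11, 9, 7, 9, 7, 8, 6, 8, 10]
def rw317 : List ℕ := [1, 5, 7, 9, 1, 5, 7, 9, 1, 5, 7, 9, 1, 8, 0, 8, 6, 4, 0, 8, 6, 4, 0, 8, 6, 4, 0, 8, 6, 4, 0, 8, 6, 4, 9, 5, 7, 9, 1, 5, 7, 9]
def rw318 : List ℕ := [1, 5, 7, 9, 1, 1, 0, 8, 6, 4, 0, 8, 6, 4, 0, 8, 6, 4, 0, 8, 6, 4, 0, 8, 6, 4, 0, 5, 7, 9, 1, 5, 7, 9, 1, 5, 7, 9, 1, 5, 7, 9]
def rw319 : List ℕ := [1, 5, 6, 1, 7, 7, 6, 0, 7, 4, 0, 5, 6, 0, 7, 4, 0, 6, 1, 5, 6, 1, 7, 4]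
def rw320 : List ℕ := [1, 9, 7, 8, 0, 9, 10, 0, 11, 8, 0, 9, 10, 0, 6, 1, 11, 8, 1, 9, 10, 1, 11, 8]
def rw321 : List ℕ := [1, 5, 7, 9, 1, 5, 7, 9, 1, 5, 7, 9, 1, 5, 7, 9, 1, 8, 0, 8, 6, 4, 0, 8, 6, 4, 0, 8, 6, 4, 0, 8, 6, 4, 0, 8, 6, 4, 9, 5, 7, 9]
def rw322 : List ℕ := [1, 5, 7, 9, 1, 5, 7, 9, 1, 5, 7, 9, 1, 1, 0, 8, 6, 4, 0, 8, 6, 4, 0, 8, 6, 4, 0, 8, 6, 4, 0, 8, 6, 4, 0, 5, 7, 9, 1, 5, 7, 9]
def rw323 : List ℕ := [1, 5, 7, 9, 1, 5, 7, 9, 1, 5, 7, 9, 1, 5, 7, 9, 1, 0, 0, 8, 6, 4, 0, 8, 6, 4, 0, 8, 6, 4, 0, 8, 6, 4, 0, 8, 6, 4, 1, 5, 7, 9]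
def rw324 : List ℕ := [1, 5, 7, 9, 1, 5, 7, 9, 1, 5, 7, 9, 1, 0, 0, 8, 6, 4, 0, 8, 6, 4, 0, 8, 6, 4, 0, 8, 6, 4, 0, 8, 6, 4, 1, 5, 7, 9, 1, 5, 7, 9]
def rw325 : List ℕ := [1, 9, 9, 8, 0, 9, 10, 0, 11, 8, 0, 9, 10, 0, 8, 1, 11, 8, 1, 9, 10, 1, 11, 8]
def rw326 : List ℕ := [1, 5, 7, 9, 1, 2, 0, 8, 6, 4, 0, 8, 6, 4, 0, 8, 6, 4, 0, 8, 6, 4, 0, 8, 6, 4, 3, 5, 7, 9, 1, 5, 7, 9, 1, 5, 7, 9, 1, 5, 7, 9]
def rw327 : List ℕ := [1, 7, 4, 1, 5, 6, 1, 7, 5, 6, 0, 7, 4, 0, 5, 6, 0, 7, 4, 0, 4, 1, 5, 6]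
def rw328 : List ℕ := [1, 7, 3, 6, 0, 7, 4, 0, 5, 6, 0, 7, 4, 0, 2, 1, 5, 6, 1, 7, 4, 1, 5, 6]
def rw329 : List ℕ := [1, 2, 0, 8, 6, 4, 0, 8, 6, 4, 0, 8, 6, 4, 0, 8, 6, 4, 0, 8, 6, 4, 3, 5, 7, 9, 1, 5, 7, 9, 1, 5, 7, 9, 1, 5, 7, 9, 1, 5, 7, 9]
def rw330 : List ℕ := [1, 7, 0, 8, 6, 4, 0, 8, 6, 4, 0, 8, 6, 4, 0, 8, 6, 4, 0, 8, 6, 4, 6, 5, 7, 9, 1, 5, 7, 9, 1, 5, 7, 9, 1, 5, 7, 9, 1, 5, 7, 9]
def rw331 : List ℕ := [1, 9, 10, 1, 11, 8, 1, 9, 7, 8, 0, 9, 10, 0, 11, 8, 0, 9, 10, 0, 6, 1, 11, 8]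
def rw332 : List ℕ := [1, 9, 10, 1, 11, 8, 1, 9, 3, 8, 0, 9, 10, 0, 11, 8, 0, 9, 10, 0, 2, 1, 11, 8]
def rw333 : List ℕ := [1, 6, 0, 8, 6, 4, 0, 8, 6, 4, 0, 8, 6, 4, 0, 8, 6, 4, 0, 8, 6, 4, 7, 5, 7, 9, 1, 5, 7, 9, 1, 5, 7, 9, 1, 5, 7, 9, 1, 5, 7, 9]
def rw334 : List ℕ := [1, 1, 0, 8, 6, 4, 0, 8, 6, 4, 0, 8, 6, 4, 0, 8, 6, 4, 0, 8, 6, 4, 0, 5, 7, 9, 1, 5, 7, 9, 1, 5, 7, 9, 1, 5, 7, 9, 1, 5, 7, 9]
def rw335 : List ℕ := [1, 5, 7, 9, 1, 5, 7, 9, 1, 5, 7, 9, 1, 10, 0, 8, 6, 4, 0, 8, 6, 4, 0, 8, 6, 4, 0, 8, 6, 4, 0, 8, 6, 4, 11, 5, 7, 9, 1, 5, 7, 9]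
def rw336 : List ℕ := [1, 5, 7, 9, 1, 5, 7, 9, 1, 5, 7, 9, 1, 5, 7, 9, 1, 4, 0, 8, 6, 4, 0, 8, 6, 4, 0, 8, 6, 4, 0, 8, 6, 4, 0, 8, 6, 4, 5, 5, 7, 9]
def rw337 : List ℕ := [1, 5, 7, 9, 1, 4, 0, 8, 6, 4, 0, 8, 6, 4, 0, 8, 6, 4, 0, 8, 6, 4, 0, 8, 6, 4, 5, 5, 7, 9, 1, 5, 7, 9, 1, 5, 7, 9, 1, 5, 7, 9]
def rw338 : List ℕ := [1, 5, 7, 9, 1, 5, 7, 9, 1, 0, 0, 8, 6, 4, 0, 8, 6, 4, 0, 8, 6, 4, 0, 8, 6, 4, 0, 8, 6, 4, 1, 5, 7, 9, 1, 5, 7, 9, 1, 5, 7, 9]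
def rw339 : List ℕ := [1, 5, 7, 9, 1, 5, 7, 9, 1, 5, 7, 9, 1, 4, 0, 8, 6, 4, 0, 8, 6, 4, 0, 8, 6, 4, 0, 8, 6, 4, 0, 8, 6, 4, 5, 5, 7, 9, 1, 5, 7, 9]
def rw340 : List ℕ := [1, 5, 7, 9, 1, 5, 7, 9, 1, 5, 7, 9, 1, 5, 7, 9, 1, 10, 0, 8, 6, 4, 0, 8, 6, 4, 0, 8, 6, 4, 0, 8, 6, 4, 0, 8, 6, 4, 11, 5, 7, 9]
def rw341 : List ℕ := [1, 5, 7, 9, 1, 0, 0, 8, 6, 4, 0, 8, 6, 4, 0, 8, 6, 4, 0, 8, 6, 4, 0, 8, 6, 4, 1, 5, 7, 9, 1, 5, 7, 9, 1, 5, 7, 9, 1, 5, 7, 9]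
def rw342 : List ℕ := [1, 5, 7, 9, 1, 5, 7, 9, 1, 4, 0, 8, 6, 4, 0, 8, 6, 4, 0, 8, 6, 4, 0, 8, 6, 4, 0, 8, 6, 4, 5, 5, 7, 9, 1, 5, 7, 9, 1, 5, 7, 9]
def rw343 : List ℕ := [1, 5, 7, 9, 1, 5, 7, 9, 1, 10, 0, 8, 6, 4, 0, 8, 6, 4, 0, 8, 6, 4, 0, 8, 6, 4, 0, 8, 6, 4, 11, 5, 7, 9, 1, 5, 7, 9, 1, 5, 7, 9]
def rw344 : List ℕ := [1, 10, 0, 8, 6, 4, 0, 8, 6, 4, 0, 8, 6, 4, 0, 8, 6, 4, 0, 8, 6, 4, 11, 5, 7, 9, 1, 5, 7, 9, 1, 5, 7, 9, 1, 5, 7, 9, 1, 5, 7, 9]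
def rw345 : List ℕ := [1, 5, 7, 9, 1, 5, 7, 9, 1, 2, 0, 8, 6, 4, 0, 8, 6, 4, 0, 8, 6, 4, 0, 8, 6, 4, 0, 8, 6, 4, 3, 5, 7, 9, 1, 5, 7, 9, 1, 5, 7, 9]
def rw346 : List ℕ := [1, 5, 7, 9, 1, 5, 7, 9, 1, 11, 0, 8, 6, 4, 0, 8, 6, 4, 0, 8, 6, 4, 0, 8, 6, 4, 0, 8, 6, 4, 10, 5, 7, 9, 1, 5, 7, 9, 1, 5, 7, 9]
def rw347 : List ℕ := [1, 5, 7, 9, 1, 5, 7, 9, 1, 5, 7, 9, 1, 11, 0, 8, 6, 4, 0, 8, 6, 4, 0, 8, 6, 4, 0, 8, 6, 4, 0, 8, 6, 4, 10, 5, 7, 9, 1, 5, 7, 9]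
def rw348 : List ℕ := [1, 5, 7, 9, 1, 5, 7, 9, 1, 5, 7, 9, 1, 5, 0, 8, 6, 4, 0, 8, 6, 4, 0, 8, 6, 4, 0, 8, 6, 4, 0, 8, 6, 4, 4, 5, 7, 9, 1, 5, 7, 9]
def rw349 : List ℕ := [1, 11, 0, 8, 6, 4, 0, 8, 6, 4, 0, 8, 6, 4, 0, 8, 6, 4, 0, 8, 6, 4, 10, 5, 7, 9, 1, 5, 7, 9, 1, 5, 7, 9, 1, 5, 7, 9, 1, 5, 7, 9]
def rw350 : List ℕ := [1, 5, 0, 8, 6, 4, 0, 8, 6, 4, 0, 8, 6, 4, 0, 8, 6, 4, 0, 8, 6, 4, 4, 5, 7, 9, 1, 5, 7, 9, 1, 5, 7, 9, 1, 5, 7, 9, 1, 5, 7, 9]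
def rw351 : List ℕ := [1, 5, 7, 9, 1, 7, 0, 8, 6, 4, 0, 8, 6, 4, 0, 8, 6, 4, 0, 8, 6, 4, 0, 8, 6, 4, 6, 5, 7, 9, 1, 5, 7, 9, 1, 5, 7, 9, 1, 5, 7, 9]
def rw352 : List ℕ := [2, 2]
def rw353 : List ℕ := [2, 6, 2, 6]
def rw354 : List ℕ := [2, 8, 2, 8]
def rw355 : List ℕ := [2, 10, 2, 10]
def rw356 : List ℕ := [2, 12, 2, 12]
def rw357 : List ℕ := [2, 7, 1, 7, 1, 7, 1, 7, 1]
def rw358 : List ℕ := [2, 6, 0, 7, 4, 0, 5, 6, 0, 7, 4, 0, 3, 1, 5, 6, 1, 7, 4, 1, 5, 6, 1, 7]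
def rw359 : List ℕ := [2, 12, 2, 12]
def rw360 : List ℕ := [2, 1, 1, 12]
def rw361 : List ℕ := [2, 6, 2, 6]
def rw362 : List ℕ := [2, 8, 2, 8]
def rw363 : List ℕ := [2, 4, 2, 4, 2, 4]
def rw364 : List ℕ := [2, 7, 9, 7, 9, 7, 9, 7, 9, 12]
def rw365 : List ℕ := [2, 10, 2, 10]
def rw366 : List ℕ := [2, 8, 0, 9, 10, 0, 11, 8, 0, 9, 10, 0, 3, 1, 11, 8, 1, 9, 10, 1, 11, 8, 1, 9]
def rw367 : List ℕ := [2, 1, 11, 8, 1, 9, 10, 1, 11, 8, 1, 9, 3, 8, 0, 9, 10, 0, 11, 8, 0, 9, 10, 0]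
def rw368 : List ℕ := [2, 4, 2, 4, 2, 4]
def rw369 : List ℕ := [2, 4, 2, 4, 2, 4]
def rw370 : List ℕ := [2, 1, 5, 6, 1, 7, 4, 1, 5, 6, 1, 7, 3, 6, 0, 7, 4, 0, 5, 6, 0, 7, 4, 0]
def rw371 : List ℕ := [2, 0, 8, 6, 4, 0, 8, 6, 4, 0, 8, 6, 4, 0, 8, 6, 4, 0, 8, 6, 4, 3, 5, 7, 9, 1, 5, 7, 9, 1, 5, 7, 9, 1, 5, 7, 9, 1, 5, 7, 9, 1]
def rw372 : List ℕ := [2, 5, 7, 9, 1, 5, 7, 9, 1, 5, 7, 9, 1, 5, 7, 9, 1, 5, 7, 9, 1, 3, 0, 8, 6, 4, 0, 8, 6, 4, 0, 8, 6, 4, 0, 8, 6, 4, 0, 8, 6, 4]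
def rw373 : List ℕ := [3, 0, 6, 0, 6, 0, 6, 0, 6]
def rw374 : List ℕ := [3, 9, 3, 9]
def rw375 : List ℕ := [3, 11, 3, 11]
def rw376 : List ℕ := [3, 13, 3, 13]
def rw377 : List ℕ := [3, 7, 3, 7]
def rw378 : List ℕ := [3, 3]
def rw379 : List ℕ := [3, 13, 0, 0]
def rw380 : List ℕ := [3, 7, 3, 7]
def rw381 : List ℕ := [3, 13, 8, 6, 8, 6, 8, 6, 8, 6]
def rw382 : List ℕ := [3, 13, 3, 13]
def rw383 : List ℕ := [3, 1, 5, 6, 1, 7, 4, 1, 5, 6, 1, 7, 2, 6, 0, 7, 4, 0, 5, 6, 0, 7, 4, 0]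
def rw384 : List ℕ := [3, 5, 3, 5, 3, 5]
def rw385 : List ℕ := [3, 1, 11, 8, 1, 9, 10, 1, 11, 8, 1, 9, 2, 8, 0, 9, 10, 0, 11, 8, 0, 9, 10, 0]
def rw386 : List ℕ := [3, 11, 3, 11]
def rw387 : List ℕ := [3, 5, 3, 5, 3, 5]
def rw388 : List ℕ := [3, 5, 3, 5, 3, 5]
def rw389 : List ℕ := [3, 9, 3, 9]
def rw390 : List ℕ := [3, 8, 0, 9, 10, 0, 11, 8, 0, 9, 10, 0, 2, 1, 11, 8, 1, 9, 10, 1, 11, 8, 1, 9]
def rw391 : List ℕ := [3, 6, 0, 7, 4, 0, 5, 6, 0, 7, 4, 0, 2, 1, 5, 6, 1, 7, 4, 1, 5, 6, 1, 7]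
def rw392 : List ℕ := [3, 5, 7, 9, 1, 5, 7, 9, 1, 5, 7, 9, 1, 5, 7, 9, 1, 5, 7, 9, 1, 2, 0, 8, 6, 4, 0, 8, 6, 4, 0, 8, 6, 4, 0, 8, 6, 4, 0, 8, 6, 4]
def rw393 : List ℕ := [3, 0, 8, 6, 4, 0, 8, 6, 4, 0, 8, 6, 4, 0, 8, 6, 4, 0, 8, 6, 4, 2, 5, 7, 9, 1, 5, 7, 9, 1, 5, 7, 9, 1, 5, 7, 9, 1, 5, 7, 9, 1]
def rw394 : List ℕ := [4, 4]
def rw395 : List ℕ := [4, 8, 4, 8]
def rw396 : List ℕ := [4, 10, 4, 10]
def rw397 : List ℕ := [4, 12, 4, 12]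
def rw398 : List ℕ := [4, 2, 4, 2, 4, 2]
def rw399 : List ℕ := [4, 2, 4, 2, 4, 2]
def rw400 : List ℕ := [4, 2, 4, 2, 4, 2]
def rw401 : List ℕ := [4, 12, 4, 12]
def rw402 : List ℕ := [4, 6, 4, 6, 4, 6]
def rw403 : List ℕ := [4, 0, 5, 6, 0, 7, 4, 0, 5, 1, 5, 6, 1, 7, 4, 1, 5, 6, 1, 7, 4, 6, 0, 7]
def rw404 : List ℕ := [4, 0, 5, 6, 0, 7, 4, 0, 1, 1, 5, 6, 1, 7, 4, 1, 5, 6, 1, 7, 0, 6, 0, 7]
def rw405 : List ℕ := [4, 8, 4, 8]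
def rw406 : List ℕ := [4, 0, 0, 1, 5, 6, 1, 7, 4, 1, 5, 6, 1, 7, 1, 6, 0, 7, 4, 0, 5, 6, 0, 7]
def rw407 : List ℕ := [4, 6, 4, 6, 4, 6]
def rw408 : List ℕ := [4, 8, 0, 9, 10, 0, 11, 8, 0, 9, 10, 0, 5, 1, 11, 8, 1, 9, 10, 1, 11, 8, 1, 9]
def rw409 : List ℕ := [4, 0, 5, 6, 0, 7, 4, 0, 4, 1, 5, 6, 1, 7, 4, 1, 5, 6, 1, 7, 5, 6, 0, 7]
def rw410 : List ℕ := [4, 0, 5, 6, 0, 7, 4, 0, 8, 1, 5, 6, 1, 7, 4, 1, 5, 6, 1, 7, 9, 6, 0, 7]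
def rw411 : List ℕ := [4, 0, 5, 1, 5, 6, 1, 7, 4, 1, 5, 6, 1, 7, 4, 6, 0, 7, 4, 0, 5, 6, 0, 7]
def rw412 : List ℕ := [4, 6, 0, 7, 4, 0, 5, 6, 0, 7, 4, 0, 5, 1, 5, 6, 1, 7, 4, 1, 5, 6, 1, 7]
def rw413 : List ℕ := [4, 1, 5, 6, 1, 7, 7, 6, 0, 7, 4, 0, 5, 6, 0, 7, 4, 0, 6, 1, 5, 6, 1, 7]
def rw414 : List ℕ := [4, 0, 7, 1, 5, 6, 1, 7, 4, 1, 5, 6, 1, 7, 6, 6, 0, 7, 4, 0, 5, 6, 0, 7]
def rw415 : List ℕ := [4, 0, 13, 1, 5, 6, 1, 7, 4, 1, 5, 6, 1, 7, 12, 6, 0, 7, 4, 0, 5, 6, 0, 7]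
def rw416 : List ℕ := [4, 1, 11, 8, 1, 9, 10, 1, 11, 8, 1, 9, 5, 8, 0, 9, 10, 0, 11, 8, 0, 9, 10, 0]
def rw417 : List ℕ := [4, 1, 5, 6, 1, 7, 4, 1, 5, 6, 1, 7, 5, 6, 0, 7, 4, 0, 5, 6, 0, 7, 4, 0]
def rw418 : List ℕ := [4, 0, 5, 6, 0, 7, 4, 0, 0, 1, 5, 6, 1, 7, 4, 1, 5, 6, 1, 7, 1, 6, 0, 7]
def rw419 : List ℕ := [4, 10, 4, 10]
def rw420 : List ℕ := [4, 0, 1, 1, 5, 6, 1, 7, 4, 1, 5, 6, 1, 7, 0, 6, 0, 7, 4, 0, 5, 6, 0, 7]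
def rw421 : List ℕ := [4, 0, 5, 6, 0, 7, 4, 0, 7, 1, 5, 6, 1, 7, 4, 1, 5, 6, 1, 7, 6, 6, 0, 7]
def rw422 : List ℕ := [4, 0, 2, 1, 5, 6, 1, 7, 4, 1, 5, 6, 1, 7, 3, 6, 0, 7, 4, 0, 5, 6, 0, 7]
def rw423 : List ℕ := [4, 0, 12, 1, 5, 6, 1, 7, 4, 1, 5, 6, 1, 7, 13, 6, 0, 7, 4, 0, 5, 6, 0, 7]
def rw424 : List ℕ := [4, 1, 5, 6, 1, 7, 12, 6, 0, 7, 4, 0, 5, 6, 0, 7, 4, 0, 13, 1, 5, 6, 1, 7]
def rw425 : List ℕ := [4, 6, 4, 6, 4, 6]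
def rw426 : List ℕ := [4, 1, 5, 6, 1, 7, 0, 6, 0, 7, 4, 0, 5, 6, 0, 7, 4, 0, 1, 1, 5, 6, 1, 7]
def rw427 : List ℕ := [4, 0, 5, 6, 0, 7, 4, 0, 13, 1, 5, 6, 1, 7, 4, 1, 5, 6, 1, 7, 12, 6, 0, 7]
def rw428 : List ℕ := [4, 1, 5, 6, 1, 7, 6, 6, 0, 7, 4, 0, 5, 6, 0, 7, 4, 0, 7, 1, 5, 6, 1, 7]
def rw429 : List ℕ := [4, 0, 5, 6, 0, 7, 4, 0, 3, 1, 5, 6, 1, 7, 4, 1, 5, 6, 1, 7, 2, 6, 0, 7]
def rw430 : List ℕ := [4, 0, 8, 1, 5, 6, 1, 7, 4, 1, 5, 6, 1, 7, 9, 6, 0, 7, 4, 0, 5, 6, 0, 7]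
def rw431 : List ℕ := [4, 1, 5, 6, 1, 7, 1, 6, 0, 7, 4, 0, 5, 6, 0, 7, 4, 0, 0, 1, 5, 6, 1, 7]
def rw432 : List ℕ := [4, 1, 5, 6, 1, 7, 13, 6, 0, 7, 4, 0, 5, 6, 0, 7, 4, 0, 12, 1, 5, 6, 1, 7]
def rw433 : List ℕ := [4, 0, 9, 1, 5, 6, 1, 7, 4, 1, 5, 6, 1, 7, 8, 6, 0, 7, 4, 0, 5, 6, 0, 7]
def rw434 : List ℕ := [4, 0, 5, 6, 0, 7, 4, 0, 9, 1, 5, 6, 1, 7, 4, 1, 5, 6, 1, 7, 8, 6, 0, 7]
def rw435 : List ℕ := [4, 1, 5, 6, 1, 7, 2, 6, 0, 7, 4, 0, 5, 6, 0, 7, 4, 0, 3, 1, 5, 6, 1, 7]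
def rw436 : List ℕ := [4, 1, 5, 6, 1, 7, 8, 6, 0, 7, 4, 0, 5, 6, 0, 7, 4, 0, 9, 1, 5, 6, 1, 7]
def rw437 : List ℕ := [4, 0, 8, 6, 4, 3, 5, 7, 9, 1, 5, 7, 9, 1, 5, 7, 9, 1, 5, 7, 9, 1, 5, 7, 9, 1, 2, 0, 8, 6, 4, 0, 8, 6, 4, 0, 8, 6, 4, 0, 8, 6]
def rw438 : List ℕ := [4, 1, 5, 7, 9, 1, 5, 7, 9, 1, 5, 7, 9, 1, 5, 7, 9, 1, 5, 7, 9, 1, 0, 0, 8, 6, 4, 0, 8, 6, 4, 0, 8, 6, 4, 0, 8, 6, 4, 0, 8, 6]
def rw439 : List ℕ := [4, 0, 3, 1, 5, 6, 1, 7, 4, 1, 5, 6, 1, 7, 2, 6, 0, 7, 4, 0, 5, 6, 0, 7]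
def rw440 : List ℕ := [4, 9, 5, 7, 9, 1, 5, 7, 9, 1, 5, 7, 9, 1, 5, 7, 9, 1, 5, 7, 9, 1, 8, 0, 8, 6, 4, 0, 8, 6, 4, 0, 8, 6, 4, 0, 8, 6, 4, 0, 8, 6]
def rw441 : List ℕ := [4, 0, 8, 6, 4, 0, 8, 6, 4, 0, 8, 6, 4, 0, 8, 6, 4, 1, 5, 7, 9, 1, 5, 7, 9, 1, 5, 7, 9, 1, 5, 7, 9, 1, 5, 7, 9, 1, 0, 0, 8, 6]
def rw442 : List ℕ := [4, 1, 5, 6, 1, 7, 4, 6, 0, 7, 4, 0, 5, 6, 0, 7, 4, 0, 5, 1, 5, 6, 1, 7]
def rw443 : List ℕ := [4, 0, 5, 6, 0, 7, 4, 0, 11, 1, 5, 6, 1, 7, 4, 1, 5, 6, 1, 7, 10, 6, 0, 7]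
def rw444 : List ℕ := [4, 0, 8, 6, 4, 0, 8, 6, 4, 0, 8, 6, 4, 1, 5, 7, 9, 1, 5, 7, 9, 1, 5, 7, 9, 1, 5, 7, 9, 1, 5, 7, 9, 1, 0, 0, 8, 6, 4, 0, 8, 6]
def rw445 : List ℕ := [4, 0, 11, 1, 5, 6, 1, 7, 4, 1, 5, 6, 1, 7, 10, 6, 0, 7, 4, 0, 5, 6, 0, 7]
def rw446 : List ℕ := [4, 0, 8, 6, 4, 0, 8, 6, 4, 0, 8, 6, 4, 3, 5, 7, 9, 1, 5, 7, 9, 1, 5, 7, 9, 1, 5, 7, 9, 1, 5, 7, 9, 1, 2, 0, 8, 6, 4, 0, 8, 6]
def rw447 : List ℕ := [4, 0, 8, 6, 4, 7, 5, 7, 9, 1, 5, 7, 9, 1, 5, 7, 9, 1, 5, 7, 9, 1, 5, 7, 9, 1, 6, 0, 8, 6, 4, 0, 8, 6, 4, 0, 8, 6, 4, 0, 8, 6]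
def rw448 : List ℕ := [4, 1, 5, 6, 1, 7, 10, 6, 0, 7, 4, 0, 5, 6, 0, 7, 4, 0, 11, 1, 5, 6, 1, 7]
def rw449 : List ℕ := [4, 0, 8, 6, 4, 1, 5, 7, 9, 1, 5, 7, 9, 1, 5, 7, 9, 1, 5, 7, 9, 1, 5, 7, 9, 1, 0, 0, 8, 6, 4, 0, 8, 6, 4, 0, 8, 6, 4, 0, 8, 6]
def rw450 : List ℕ := [4, 0, 8, 6, 4, 0, 8, 6, 4, 0, 8, 6, 4, 7, 5, 7, 9, 1, 5, 7, 9, 1, 5, 7, 9, 1, 5, 7, 9, 1, 5, 7, 9, 1, 6, 0, 8, 6, 4, 0, 8, 6]
def rw451 : List ℕ := [4, 0, 8, 6, 4, 0, 5, 7, 9, 1, 5, 7, 9, 1, 5, 7, 9, 1, 5, 7, 9, 1, 5, 7, 9, 1, 1, 0, 8, 6, 4, 0, 8, 6, 4, 0, 8, 6, 4, 0, 8, 6]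
def rw452 : List ℕ := [4, 0, 8, 6, 4, 0, 8, 6, 4, 11, 5, 7, 9, 1, 5, 7, 9, 1, 5, 7, 9, 1, 5, 7, 9, 1, 5, 7, 9, 1, 10, 0, 8, 6, 4, 0, 8, 6, 4, 0, 8, 6]
def rw453 : List ℕ := [4, 0, 8, 6, 4, 0, 8, 6, 4, 0, 8, 6, 4, 0, 5, 7, 9, 1, 5, 7, 9, 1, 5, 7, 9, 1, 5, 7, 9, 1, 5, 7, 9, 1, 1, 0, 8, 6, 4, 0, 8, 6]
def rw454 : List ℕ := [4, 1, 5, 6, 1, 7, 9, 6, 0, 7, 4, 0, 5, 6, 0, 7, 4, 0, 8, 1, 5, 6, 1, 7]
def rw455 : List ℕ := [4, 0, 8, 6, 4, 0, 8, 6, 4, 0, 8, 6, 4, 0, 8, 6, 4, 7, 5, 7, 9, 1, 5, 7, 9, 1, 5, 7, 9, 1, 5, 7, 9, 1, 5, 7, 9, 1, 6, 0, 8, 6]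
def rw456 : List ℕ := [4, 0, 8, 6, 4, 0, 8, 6, 4, 0, 8, 6, 4, 0, 8, 6, 4, 13, 5, 7, 9, 1, 5, 7, 9, 1, 5, 7, 9, 1, 5, 7, 9, 1, 5, 7, 9, 1, 12, 0, 8, 6]
def rw457 : List ℕ := [4, 0, 8, 6, 4, 0, 8, 6, 4, 0, 8, 6, 4, 11, 5, 7, 9, 1, 5, 7, 9, 1, 5, 7, 9, 1, 5, 7, 9, 1, 5, 7, 9, 1, 10, 0, 8, 6, 4, 0, 8, 6]
def rw458 : List ℕ := [4, 1, 5, 6, 1, 7, 5, 6, 0, 7, 4, 0, 5, 6, 0, 7, 4, 0, 4, 1, 5, 6, 1, 7]
def rw459 : List ℕ := [4, 0, 5, 6, 0, 7, 4, 0, 6, 1, 5, 6, 1, 7, 4, 1, 5, 6, 1, 7, 7, 6, 0, 7]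
def rw460 : List ℕ := [4, 13, 5, 7, 9, 1, 5, 7, 9, 1, 5, 7, 9, 1, 5, 7, 9, 1, 5, 7, 9, 1, 12, 0, 8, 6, 4, 0, 8, 6, 4, 0, 8, 6, 4, 0, 8, 6, 4, 0, 8, 6]
def rw461 : List ℕ := [4, 0, 8, 6, 4, 0, 8, 6, 4, 0, 8, 6, 4, 0, 8, 6, 4, 11, 5, 7, 9, 1, 5, 7, 9, 1, 5, 7, 9, 1, 5, 7, 9, 1, 5, 7, 9, 1, 10, 0, 8, 6]
def rw462 : List ℕ := [4, 0, 8, 6, 4, 0, 8, 6, 4, 1, 5, 7, 9, 1, 5, 7, 9, 1, 5, 7, 9, 1, 5, 7, 9, 1, 5, 7, 9, 1, 0, 0, 8, 6, 4, 0, 8, 6, 4, 0, 8, 6]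
def rw463 : List ℕ := [4, 0, 8, 6, 4, 0, 8, 6, 4, 7, 5, 7, 9, 1, 5, 7, 9, 1, 5, 7, 9, 1, 5, 7, 9, 1, 5, 7, 9, 1, 6, 0, 8, 6, 4, 0, 8, 6, 4, 0, 8, 6]
def rw464 : List ℕ := [4, 0, 8, 6, 4, 0, 8, 6, 4, 0, 5, 7, 9, 1, 5, 7, 9, 1, 5, 7, 9, 1, 5, 7, 9, 1, 5, 7, 9, 1, 1, 0, 8, 6, 4, 0, 8, 6, 4, 0, 8, 6]
def rw465 : List ℕ := [4, 0, 8, 6, 4, 0, 8, 6, 4, 0, 8, 6, 4, 0, 8, 6, 4, 0, 8, 6, 4, 5, 5, 7, 9, 1, 5, 7, 9, 1, 5, 7, 9, 1, 5, 7, 9, 1, 5, 7, 9, 1]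
def rw466 : List ℕ := [4, 0, 8, 6, 4, 13, 5, 7, 9, 1, 5, 7, 9, 1, 5, 7, 9, 1, 5, 7, 9, 1, 5, 7, 9, 1, 12, 0, 8, 6, 4, 0, 8, 6, 4, 0, 8, 6, 4, 0, 8, 6]
def rw467 : List ℕ := [4, 0, 8, 6, 4, 0, 8, 6, 4, 0, 8, 6, 4, 9, 5, 7, 9, 1, 5, 7, 9, 1, 5, 7, 9, 1, 5, 7, 9, 1, 5, 7, 9, 1, 8, 0, 8, 6, 4, 0, 8, 6]
def rw468 : List ℕ := [4, 3, 5, 7, 9, 1, 5, 7, 9, 1, 5, 7, 9, 1, 5, 7, 9, 1, 5, 7, 9, 1, 2, 0, 8, 6, 4, 0, 8, 6, 4, 0, 8, 6, 4, 0, 8, 6, 4, 0, 8, 6]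
def rw469 : List ℕ := [4, 4, 5, 7, 9, 1, 5, 7, 9, 1, 5, 7, 9, 1, 5, 7, 9, 1, 5, 7, 9, 1, 5, 0, 8, 6, 4, 0, 8, 6, 4, 0, 8, 6, 4, 0, 8, 6, 4, 0, 8, 6]
def rw470 : List ℕ := [4, 12, 5, 7, 9, 1, 5, 7, 9, 1, 5, 7, 9, 1, 5, 7, 9, 1, 5, 7, 9, 1, 13, 0, 8, 6, 4, 0, 8, 6, 4, 0, 8, 6, 4, 0, 8, 6, 4, 0, 8, 6]
def rw471 : List ℕ := [4, 0, 8, 6, 4, 0, 8, 6, 4, 0, 8, 6, 4, 5, 5, 7, 9, 1, 5, 7, 9, 1, 5, 7, 9, 1, 5, 7, 9, 1, 5, 7, 9, 1, 4, 0, 8, 6, 4, 0, 8, 6]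
def rw472 : List ℕ := [4, 1, 5, 6, 1, 7, 3, 6, 0, 7, 4, 0, 5, 6, 0, 7, 4, 0, 2, 1, 5, 6, 1, 7]
def rw473 : List ℕ := [4, 0, 4, 1, 5, 6, 1, 7, 4, 1, 5, 6, 1, 7, 5, 6, 0, 7, 4, 0, 5, 6, 0, 7]
def rw474 : List ℕ := [4, 0, 8, 6, 4, 0, 8, 6, 4, 0, 8, 6, 4, 0, 8, 6, 4, 0, 5, 7, 9, 1, 5, 7, 9, 1, 5, 7, 9, 1, 5, 7, 9, 1, 5, 7, 9, 1, 1, 0, 8, 6]
def rw475 : List ℕ := [4, 0, 8, 6, 4, 9, 5, 7, 9, 1, 5, 7, 9, 1, 5, 7, 9, 1, 5, 7, 9, 1, 5, 7, 9, 1, 8, 0, 8, 6, 4, 0, 8, 6, 4, 0, 8, 6, 4, 0, 8, 6]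
def rw476 : List ℕ := [4, 6, 5, 7, 9, 1, 5, 7, 9, 1, 5, 7, 9, 1, 5, 7, 9, 1, 5, 7, 9, 1, 7, 0, 8, 6, 4, 0, 8, 6, 4, 0, 8, 6, 4, 0, 8, 6, 4, 0, 8, 6]
def rw477 : List ℕ := [4, 0, 8, 6, 4, 0, 8, 6, 4, 3, 5, 7, 9, 1, 5, 7, 9, 1, 5, 7, 9, 1, 5, 7, 9, 1, 5, 7, 9, 1, 2, 0, 8, 6, 4, 0, 8, 6, 4, 0, 8, 6]
def rw478 : List ℕ := [4, 0, 8, 6, 4, 0, 8, 6, 4, 0, 8, 6, 4, 0, 8, 6, 4, 3, 5, 7, 9, 1, 5, 7, 9, 1, 5, 7, 9, 1, 5, 7, 9, 1, 5, 7, 9, 1, 2, 0, 8, 6]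
def rw479 : List ℕ := [4, 11, 5, 7, 9, 1, 5, 7, 9, 1, 5, 7, 9, 1, 5, 7, 9, 1, 5, 7, 9, 1, 10, 0, 8, 6, 4, 0, 8, 6, 4, 0, 8, 6, 4, 0, 8, 6, 4, 0, 8, 6]
def rw480 : List ℕ := [4, 0, 6, 1, 5, 6, 1, 7, 4, 1, 5, 6, 1, 7, 7, 6, 0, 7, 4, 0, 5, 6, 0, 7]
def rw481 : List ℕ := [4, 0, 5, 6, 0, 7, 4, 0, 10, 1, 5, 6, 1, 7, 4, 1, 5, 6, 1, 7, 11, 6, 0, 7]
def rw482 : List ℕ := [4, 7, 5, 7, 9, 1, 5, 7, 9, 1, 5, 7, 9, 1, 5, 7, 9, 1, 5, 7, 9, 1, 6, 0, 8, 6, 4, 0, 8, 6, 4, 0, 8, 6, 4, 0, 8, 6, 4, 0, 8, 6]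
def rw483 : List ℕ := [4, 0, 5, 7, 9, 1, 5, 7, 9, 1, 5, 7, 9, 1, 5, 7, 9, 1, 5, 7, 9, 1, 1, 0, 8, 6, 4, 0, 8, 6, 4, 0, 8, 6, 4, 0, 8, 6, 4, 0, 8, 6]
def rw484 : List ℕ := [4, 0, 8, 6, 4, 0, 8, 6, 4, 0, 8, 6, 4, 0, 8, 6, 4, 9, 5, 7, 9, 1, 5, 7, 9, 1, 5, 7, 9, 1, 5, 7, 9, 1, 5, 7, 9, 1, 8, 0, 8, 6]
def rw485 : List ℕ := [4, 0, 8, 6, 4, 0, 8, 6, 4, 5, 5, 7, 9, 1, 5, 7, 9, 1, 5, 7, 9, 1, 5, 7, 9, 1, 5, 7, 9, 1, 4, 0, 8, 6, 4, 0, 8, 6, 4, 0, 8, 6]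
def rw486 : List ℕ := [4, 0, 8, 6, 4, 5, 5, 7, 9, 1, 5, 7, 9, 1, 5, 7, 9, 1, 5, 7, 9, 1, 5, 7, 9, 1, 4, 0, 8, 6, 4, 0, 8, 6, 4, 0, 8, 6, 4, 0, 8, 6]
def rw487 : List ℕ := [4, 2, 5, 7, 9, 1, 5, 7, 9, 1, 5, 7, 9, 1, 5, 7, 9, 1, 5, 7, 9, 1, 3, 0, 8, 6, 4, 0, 8, 6, 4, 0, 8, 6, 4, 0, 8, 6, 4, 0, 8, 6]
def rw488 : List ℕ := [4, 0, 8, 6, 4, 11, 5, 7, 9, 1, 5, 7, 9, 1, 5, 7, 9, 1, 5, 7, 9, 1, 5, 7, 9, 1, 10, 0, 8, 6, 4, 0, 8, 6, 4, 0, 8, 6, 4, 0, 8, 6]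
def rw489 : List ℕ := [4, 0, 8, 6, 4, 0, 8, 6, 4, 0, 8, 6, 4, 0, 8, 6, 4, 5, 5, 7, 9, 1, 5, 7, 9, 1, 5, 7, 9, 1, 5, 7, 9, 1, 5, 7, 9, 1, 4, 0, 8, 6]
def rw490 : List ℕ := [4, 0, 5, 6, 0, 7, 4, 0, 12, 1, 5, 6, 1, 7, 4, 1, 5, 6, 1, 7, 13, 6, 0, 7]
def rw491 : List ℕ := [4, 0, 8, 6, 4, 6, 5, 7, 9, 1, 5, 7, 9, 1, 5, 7, 9, 1, 5, 7, 9, 1, 5, 7, 9, 1, 7, 0, 8, 6, 4, 0, 8, 6, 4, 0, 8, 6, 4, 0, 8, 6]
def rw492 : List ℕ := [4, 0, 8, 6, 4, 0, 8, 6, 4, 9, 5, 7, 9, 1, 5, 7, 9, 1, 5, 7, 9, 1, 5, 7, 9, 1, 5, 7, 9, 1, 8, 0, 8, 6, 4, 0, 8, 6, 4, 0, 8, 6]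
def rw493 : List ℕ := [4, 0, 10, 1, 5, 6, 1, 7, 4, 1, 5, 6, 1, 7, 11, 6, 0, 7, 4, 0, 5, 6, 0, 7]
def rw494 : List ℕ := [4, 0, 8, 6, 4, 0, 8, 6, 4, 0, 8, 6, 4, 13, 5, 7, 9, 1, 5, 7, 9, 1, 5, 7, 9, 1, 5, 7, 9, 1, 5, 7, 9, 1, 12, 0, 8, 6, 4, 0, 8, 6]
def rw495 : List ℕ := [5, 9, 5, 9]
def rw496 : List ℕ := [5, 11, 5, 11]
def rw497 : List ℕ := [5, 3, 5, 3, 5, 3]
def rw498 : List ℕ := [5, 13, 5, 13]
def rw499 : List ℕ := [5, 3, 5, 3, 5, 3]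
def rw500 : List ℕ := [5, 7, 5, 7, 5, 7]
def rw501 : List ℕ := [5, 6, 0, 7, 4, 0, 7, 1, 5, 6, 1, 7, 4, 1, 5, 6, 1, 7, 6, 6, 0, 7, 4, 0]
def rw502 : List ℕ := [5, 3, 5, 3, 5, 3]
def rw503 : List ℕ := [5, 6, 1, 7, 4, 6, 0, 7, 4, 0, 5, 6, 0, 7, 4, 0, 5, 1, 5, 6, 1, 7, 4, 1]
def rw504 : List ℕ := [5, 5]
def rw505 : List ℕ := [5, 6, 0, 7, 4, 0, 1, 1, 5, 6, 1, 7, 4, 1, 5, 6, 1, 7, 0, 6, 0, 7, 4, 0]
def rw506 : List ℕ := [5, 6, 1, 7, 8, 6, 0, 7, 4, 0, 5, 6, 0, 7, 4, 0, 9, 1, 5, 6, 1, 7, 4, 1]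
def rw507 : List ℕ := [5, 11, 5, 11]
def rw508 : List ℕ := [5, 1, 5, 6, 1, 7, 4, 1, 5, 6, 1, 7, 4, 6, 0, 7, 4, 0, 5, 6, 0, 7, 4, 0]
def rw509 : List ℕ := [5, 6, 1, 7, 0, 6, 0, 7, 4, 0, 5, 6, 0, 7, 4, 0, 1, 1, 5, 6, 1, 7, 4, 1]
def rw510 : List ℕ := [5, 6, 0, 7, 4, 0, 5, 6, 0, 7, 4, 0, 4, 1, 5, 6, 1, 7, 4, 1, 5, 6, 1, 7]
def rw511 : List ℕ := [5, 6, 1, 7, 4, 1, 5, 6, 1, 7, 0, 6, 0, 7, 4, 0, 5, 6, 0, 7, 4, 0, 1, 1]
def rw512 : List ℕ := [5, 6, 1, 7, 4, 1, 5, 6, 1, 7, 4, 6, 0, 7, 4, 0, 5, 6, 0, 7, 4, 0, 5, 1]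
def rw513 : List ℕ := [5, 13, 5, 13]
def rw514 : List ℕ := [5, 7, 5, 7, 5, 7]
def rw515 : List ℕ := [5, 6, 0, 7, 4, 0, 13, 1, 5, 6, 1, 7, 4, 1, 5, 6, 1, 7, 12, 6, 0, 7, 4, 0]
def rw516 : List ℕ := [5, 6, 1, 7, 4, 1, 5, 6, 1, 7, 1, 6, 0, 7, 4, 0, 5, 6, 0, 7, 4, 0, 0, 1]
def rw517 : List ℕ := [5, 7, 5, 7, 5, 7]
def rw518 : List ℕ := [5, 9, 5, 9]
def rw519 : List ℕ := [5, 6, 1, 7, 4, 1, 5, 6, 1, 7, 8, 6, 0, 7, 4, 0, 5, 6, 0, 7, 4, 0, 9, 1]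
def rw520 : List ℕ := [5, 6, 0, 7, 4, 0, 3, 1, 5, 6, 1, 7, 4, 1, 5, 6, 1, 7, 2, 6, 0, 7, 4, 0]
def rw521 : List ℕ := [5, 6, 1, 7, 4, 1, 5, 6, 1, 7, 6, 6, 0, 7, 4, 0, 5, 6, 0, 7, 4, 0, 7, 1]
def rw522 : List ℕ := [5, 6, 1, 7, 4, 1, 5, 6, 1, 7, 2, 6, 0, 7, 4, 0, 5, 6, 0, 7, 4, 0, 3, 1]
def rw523 : List ℕ := [5, 1, 11, 8, 1, 9, 10, 1, 11, 8, 1, 9, 4, 8, 0, 9, 10, 0, 11, 8, 0, 9, 10, 0]
def rw524 : List ℕ := [5, 6, 1, 7, 10, 6, 0, 7, 4, 0, 5, 6, 0, 7, 4, 0, 11, 1, 5, 6, 1, 7, 4, 1]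
def rw525 : List ℕ := [5, 6, 1, 7, 1, 6, 0, 7, 4, 0, 5, 6, 0, 7, 4, 0, 0, 1, 5, 6, 1, 7, 4, 1]
def rw526 : List ℕ := [5, 6, 1, 7, 6, 6, 0, 7, 4, 0, 5, 6, 0, 7, 4, 0, 7, 1, 5, 6, 1, 7, 4, 1]
def rw527 : List ℕ := [5, 6, 1, 7, 4, 1, 5, 6, 1, 7, 5, 6, 0, 7, 4, 0, 5, 6, 0, 7, 4, 0, 4, 1]
def rw528 : List ℕ := [5, 6, 0, 7, 4, 0, 0, 1, 5, 6, 1, 7, 4, 1, 5, 6, 1, 7, 1, 6, 0, 7, 4, 0]
def rw529 : List ℕ := [5, 7, 9, 1, 5, 7, 9, 1, 5, 7, 9, 1, 5, 7, 9, 1, 5, 7, 9, 1, 6, 0, 8, 6, 4, 0, 8, 6, 4, 0, 8, 6, 4, 0, 8, 6, 4, 0, 8, 6, 4, 7]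
def rw530 : List ℕ := [5, 6, 1, 7, 12, 6, 0, 7, 4, 0, 5, 6, 0, 7, 4, 0, 13, 1, 5, 6, 1, 7, 4, 1]
def rw531 : List ℕ := [5, 8, 0, 9, 10, 0, 11, 8, 0, 9, 10, 0, 4, 1, 11, 8, 1, 9, 10, 1, 11, 8, 1, 9]
def rw532 : List ℕ := [5, 6, 0, 7, 4, 0, 5, 1, 5, 6, 1, 7, 4, 1, 5, 6, 1, 7, 4, 6, 0, 7, 4, 0]
def rw533 : List ℕ := [5, 7, 9, 1, 5, 7, 9, 1, 5, 7, 9, 1, 5, 7, 9, 1, 5, 7, 9, 1, 7, 0, 8, 6, 4, 0, 8, 6, 4, 0, 8, 6, 4, 0, 8, 6, 4, 0, 8, 6, 4, 6]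
def rw534 : List ℕ := [5, 6, 1, 7, 2, 6, 0, 7, 4, 0, 5, 6, 0, 7, 4, 0, 3, 1, 5, 6, 1, 7, 4, 1]
def rw535 : List ℕ := [5, 6, 1, 7, 4, 1, 5, 6, 1, 7, 7, 6, 0, 7, 4, 0, 5, 6, 0, 7, 4, 0, 6, 1]
def rw536 : List ℕ := [5, 6, 0, 7, 4, 0, 2, 1, 5, 6, 1, 7, 4, 1, 5, 6, 1, 7, 3, 6, 0, 7, 4, 0]
def rw537 : List ℕ := [5, 7, 9, 1, 5, 7, 9, 1, 5, 7, 9, 1, 5, 7, 9, 1, 5, 7, 9, 1, 9, 0, 8, 6, 4, 0, 8, 6, 4, 0, 8, 6, 4, 0, 8, 6, 4, 0, 8, 6, 4, 8]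
def rw538 : List ℕ := [5, 6, 1, 7, 4, 1, 5, 6, 1, 7, 10, 6, 0, 7, 4, 0, 5, 6, 0, 7, 4, 0, 11, 1]
def rw539 : List ℕ := [5, 6, 0, 7, 4, 0, 9, 1, 5, 6, 1, 7, 4, 1, 5, 6, 1, 7, 8, 6, 0, 7, 4, 0]
def rw540 : List ℕ := [5, 6, 1, 7, 4, 1, 5, 6, 1, 7, 12, 6, 0, 7, 4, 0, 5, 6, 0, 7, 4, 0, 13, 1]
def rw541 : List ℕ := [5, 7, 9, 1, 8, 0, 8, 6, 4, 0, 8, 6, 4, 0, 8, 6, 4, 0, 8, 6, 4, 0, 8, 6, 4, 9, 5, 7, 9, 1, 5, 7, 9, 1, 5, 7, 9, 1, 5, 7, 9, 1]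
def rw542 : List ℕ := [5, 6, 1, 7, 5, 6, 0, 7, 4, 0, 5, 6, 0, 7, 4, 0, 4, 1, 5, 6, 1, 7, 4, 1]
def rw543 : List ℕ := [5, 7, 9, 1, 2, 0, 8, 6, 4, 0, 8, 6, 4, 0, 8, 6, 4, 0, 8, 6, 4, 0, 8, 6, 4, 3, 5, 7, 9, 1, 5, 7, 9, 1, 5, 7, 9, 1, 5, 7, 9, 1]
def rw544 : List ℕ := [5, 7, 9, 1, 5, 7, 9, 1, 5, 7, 9, 1, 5, 7, 9, 1, 2, 0, 8, 6, 4, 0, 8, 6, 4, 0, 8, 6, 4, 0, 8, 6, 4, 0, 8, 6, 4, 3, 5, 7, 9, 1]
def rw545 : List ℕ := [5, 7, 9, 1, 5, 7, 9, 1, 5, 7, 9, 1, 5, 7, 9, 1, 5, 7, 9, 1, 4, 0, 8, 6, 4, 0, 8, 6, 4, 0, 8, 6, 4, 0, 8, 6, 4, 0, 8, 6, 4, 5]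
def rw546 : List ℕ := [5, 7, 9, 1, 6, 0, 8, 6, 4, 0, 8, 6, 4, 0, 8, 6, 4, 0, 8, 6, 4, 0, 8, 6, 4, 7, 5, 7, 9, 1, 5, 7, 9, 1, 5, 7, 9, 1, 5, 7, 9, 1]
def rw547 : List ℕ := [5, 7, 9, 1, 5, 7, 9, 1, 5, 7, 9, 1, 5, 7, 9, 1, 5, 7, 9, 1, 0, 0, 8, 6, 4, 0, 8, 6, 4, 0, 8, 6, 4, 0, 8, 6, 4, 0, 8, 6, 4, 1]
def rw548 : List ℕ := [5, 6, 1, 7, 9, 6, 0, 7, 4, 0, 5, 6, 0, 7, 4, 0, 8, 1, 5, 6, 1, 7, 4, 1]
def rw549 : List ℕ := [5, 7, 9, 1, 5, 7, 9, 1, 5, 7, 9, 1, 5, 7, 9, 1, 5, 7, 9, 1, 1, 0, 8, 6, 4, 0, 8, 6, 4, 0, 8, 6, 4, 0, 8, 6, 4, 0, 8, 6, 4, 0]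
def rw550 : List ℕ := [5, 6, 0, 7, 4, 0, 11, 1, 5, 6, 1, 7, 4, 1, 5, 6, 1, 7, 10, 6, 0, 7, 4, 0]
def rw551 : List ℕ := [5, 6, 1, 7, 7, 6, 0, 7, 4, 0, 5, 6, 0, 7, 4, 0, 6, 1, 5, 6, 1, 7, 4, 1]
def rw552 : List ℕ := [5, 7, 9, 1, 12, 0, 8, 6, 4, 0, 8, 6, 4, 0, 8, 6, 4, 0, 8, 6, 4, 0, 8, 6, 4, 13, 5, 7, 9, 1, 5, 7, 9, 1, 5, 7, 9, 1, 5, 7, 9, 1]
def rw553 : List ℕ := [5, 6, 1, 7, 4, 1, 5, 6, 1, 7, 13, 6, 0, 7, 4, 0, 5, 6, 0, 7, 4, 0, 12, 1]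
def rw554 : List ℕ := [5, 7, 9, 1, 5, 7, 9, 1, 6, 0, 8, 6, 4, 0, 8, 6, 4, 0, 8, 6, 4, 0, 8, 6, 4, 0, 8, 6, 4, 7, 5, 7, 9, 1, 5, 7, 9, 1, 5, 7, 9, 1]
def rw555 : List ℕ := [5, 7, 9, 1, 5, 7, 9, 1, 5, 7, 9, 1, 5, 7, 9, 1, 0, 0, 8, 6, 4, 0, 8, 6, 4, 0, 8, 6, 4, 0, 8, 6, 4, 0, 8, 6, 4, 1, 5, 7, 9, 1]
def rw556 : List ℕ := [5, 6, 1, 7, 13, 6, 0, 7, 4, 0, 5, 6, 0, 7, 4, 0, 12, 1, 5, 6, 1, 7, 4, 1]
def rw557 : List ℕ := [5, 7, 9, 1, 5, 7, 9, 1, 0, 0, 8, 6, 4, 0, 8, 6, 4, 0, 8, 6, 4, 0, 8, 6, 4, 0, 8, 6, 4, 1, 5, 7, 9, 1, 5, 7, 9, 1, 5, 7, 9, 1]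
def rw558 : List ℕ := [5, 7, 9, 1, 5, 7, 9, 1, 5, 7, 9, 1, 5, 7, 9, 1, 5, 7, 9, 1, 13, 0, 8, 6, 4, 0, 8, 6, 4, 0, 8, 6, 4, 0, 8, 6, 4, 0, 8, 6, 4, 12]
def rw559 : List ℕ := [5, 6, 1, 7, 3, 6, 0, 7, 4, 0, 5, 6, 0, 7, 4, 0, 2, 1, 5, 6, 1, 7, 4, 1]
def rw560 : List ℕ := [5, 6, 0, 7, 4, 0, 12, 1, 5, 6, 1, 7, 4, 1, 5, 6, 1, 7, 13, 6, 0, 7, 4, 0]
def rw561 : List ℕ := [5, 7, 9, 1, 5, 7, 9, 1, 2, 0, 8, 6, 4, 0, 8, 6, 4, 0, 8, 6, 4, 0, 8, 6, 4, 0, 8, 6, 4, 3, 5, 7, 9, 1, 5, 7, 9, 1, 5, 7, 9, 1]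
def rw562 : List ℕ := [5, 6, 1, 7, 11, 6, 0, 7, 4, 0, 5, 6, 0, 7, 4, 0, 10, 1, 5, 6, 1, 7, 4, 1]
def rw563 : List ℕ := [5, 7, 9, 1, 5, 7, 9, 1, 5, 7, 9, 1, 5, 7, 9, 1, 5, 7, 9, 1, 3, 0, 8, 6, 4, 0, 8, 6, 4, 0, 8, 6, 4, 0, 8, 6, 4, 0, 8, 6, 4, 2]
def rw564 : List ℕ := [5, 7, 9, 1, 4, 0, 8, 6, 4, 0, 8, 6, 4, 0, 8, 6, 4, 0, 8, 6, 4, 0, 8, 6, 4, 5, 5, 7, 9, 1, 5, 7, 9, 1, 5, 7, 9, 1, 5, 7, 9, 1]
def rw565 : List ℕ := [5, 7, 9, 1, 5, 7, 9, 1, 5, 7, 9, 1, 5, 7, 9, 1, 1, 0, 8, 6, 4, 0, 8, 6, 4, 0, 8, 6, 4, 0, 8, 6, 4, 0, 8, 6, 4, 0, 5, 7, 9, 1]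
def rw566 : List ℕ := [5, 6, 1, 7, 4, 1, 5, 6, 1, 7, 3, 6, 0, 7, 4, 0, 5, 6, 0, 7, 4, 0, 2, 1]
def rw567 : List ℕ := [5, 7, 9, 1, 5, 7, 9, 1, 5, 7, 9, 1, 2, 0, 8, 6, 4, 0, 8, 6, 4, 0, 8, 6, 4, 0, 8, 6, 4, 0, 8, 6, 4, 3, 5, 7, 9, 1, 5, 7, 9, 1]
def rw568 : List ℕ := [5, 7, 9, 1, 5, 7, 9, 1, 5, 7, 9, 1, 5, 7, 9, 1, 6, 0, 8, 6, 4, 0, 8, 6, 4, 0, 8, 6, 4, 0, 8, 6, 4, 0, 8, 6, 4, 7, 5, 7, 9, 1]
def rw569 : List ℕ := [5, 7, 9, 1, 5, 7, 9, 1, 1, 0, 8, 6, 4, 0, 8, 6, 4, 0, 8, 6, 4, 0, 8, 6, 4, 0, 8, 6, 4, 0, 5, 7, 9, 1, 5, 7, 9, 1, 5, 7, 9, 1]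
def rw570 : List ℕ := [5, 7, 9, 1, 5, 7, 9, 1, 5, 7, 9, 1, 4, 0, 8, 6, 4, 0, 8, 6, 4, 0, 8, 6, 4, 0, 8, 6, 4, 0, 8, 6, 4, 5, 5, 7, 9, 1, 5, 7, 9, 1]
def rw571 : List ℕ := [5, 7, 9, 1, 5, 7, 9, 1, 5, 7, 9, 1, 0, 0, 8, 6, 4, 0, 8, 6, 4, 0, 8, 6, 4, 0, 8, 6, 4, 0, 8, 6, 4, 1, 5, 7, 9, 1, 5, 7, 9, 1]
def rw572 : List ℕ := [5, 7, 9, 1, 5, 7, 9, 1, 5, 7, 9, 1, 8, 0, 8, 6, 4, 0, 8, 6, 4, 0, 8, 6, 4, 0, 8, 6, 4, 0, 8, 6, 4, 9, 5, 7, 9, 1, 5, 7, 9, 1]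
def rw573 : List ℕ := [5, 6, 0, 7, 4, 0, 8, 1, 5, 6, 1, 7, 4, 1, 5, 6, 1, 7, 9, 6, 0, 7, 4, 0]
def rw574 : List ℕ := [5, 7, 9, 1, 5, 7, 9, 1, 5, 7, 9, 1, 5, 7, 9, 1, 5, 7, 9, 1, 12, 0, 8, 6, 4, 0, 8, 6, 4, 0, 8, 6, 4, 0, 8, 6, 4, 0, 8, 6, 4, 13]
def rw575 : List ℕ := [5, 6, 1, 7, 4, 1, 5, 6, 1, 7, 11, 6, 0, 7, 4, 0, 5, 6, 0, 7, 4, 0, 10, 1]
def rw576 : List ℕ := [5, 6, 0, 7, 4, 0, 6, 1, 5, 6, 1, 7, 4, 1, 5, 6, 1, 7, 7, 6, 0, 7, 4, 0]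
def rw577 : List ℕ := [5, 7, 9, 1, 5, 7, 9, 1, 5, 7, 9, 1, 5, 7, 9, 1, 4, 0, 8, 6, 4, 0, 8, 6, 4, 0, 8, 6, 4, 0, 8, 6, 4, 0, 8, 6, 4, 5, 5, 7, 9, 1]
def rw578 : List ℕ := [5, 7, 9, 1, 10, 0, 8, 6, 4, 0, 8, 6, 4, 0, 8, 6, 4, 0, 8, 6, 4, 0, 8, 6, 4, 11, 5, 7, 9, 1, 5, 7, 9, 1, 5, 7, 9, 1, 5, 7, 9, 1]
def rw579 : List ℕ := [5, 7, 9, 1, 5, 7, 9, 1, 8, 0, 8, 6, 4, 0, 8, 6, 4, 0, 8, 6, 4, 0, 8, 6, 4, 0, 8, 6, 4, 9, 5, 7, 9, 1, 5, 7, 9, 1, 5, 7, 9, 1]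
def rw580 : List ℕ := [5, 7, 9, 1, 5, 7, 9, 1, 10, 0, 8, 6, 4, 0, 8, 6, 4, 0, 8, 6, 4, 0, 8, 6, 4, 0, 8, 6, 4, 11, 5, 7, 9, 1, 5, 7, 9, 1, 5, 7, 9, 1]
def rw581 : List ℕ := [5, 0, 8, 6, 4, 0, 8, 6, 4, 0, 8, 6, 4, 0, 8, 6, 4, 0, 8, 6, 4, 4, 5, 7, 9, 1, 5, 7, 9, 1, 5, 7, 9, 1, 5, 7, 9, 1, 5, 7, 9, 1]
def rw582 : List ℕ := [5, 7, 9, 1, 5, 7, 9, 1, 4, 0, 8, 6, 4, 0, 8, 6, 4, 0, 8, 6, 4, 0, 8, 6, 4, 0, 8, 6, 4, 5, 5, 7, 9, 1, 5, 7, 9, 1, 5, 7, 9, 1]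
def rw583 : List ℕ := [5, 7, 9, 1, 5, 7, 9, 1, 5, 7, 9, 1, 5, 7, 9, 1, 5, 7, 9, 1, 11, 0, 8, 6, 4, 0, 8, 6, 4, 0, 8, 6, 4, 0, 8, 6, 4, 0, 8, 6, 4, 10]
def rw584 : List ℕ := [5, 7, 9, 1, 5, 7, 9, 1, 5, 7, 9, 1, 5, 7, 9, 1, 5, 7, 9, 1, 2, 0, 8, 6, 4, 0, 8, 6, 4, 0, 8, 6, 4, 0, 8, 6, 4, 0, 8, 6, 4, 3]
def rw585 : List ℕ := [5, 7, 9, 1, 5, 7, 9, 1, 5, 7, 9, 1, 5, 7, 9, 1, 12, 0, 8, 6, 4, 0, 8, 6, 4, 0, 8, 6, 4, 0, 8, 6, 4, 0, 8, 6, 4, 13, 5, 7, 9, 1]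
def rw586 : List ℕ := [5, 7, 9, 1, 1, 0, 8, 6, 4, 0, 8, 6, 4, 0, 8, 6, 4, 0, 8, 6, 4, 0, 8, 6, 4, 0, 5, 7, 9, 1, 5, 7, 9, 1, 5, 7, 9, 1, 5, 7, 9, 1]
def rw587 : List ℕ := [5, 7, 9, 1, 5, 7, 9, 1, 5, 7, 9, 1, 1, 0, 8, 6, 4, 0, 8, 6, 4, 0, 8, 6, 4, 0, 8, 6, 4, 0, 8, 6, 4, 0, 5, 7, 9, 1, 5, 7, 9, 1]
def rw588 : List ℕ := [5, 6, 1, 7, 4, 1, 5, 6, 1, 7, 9, 6, 0, 7, 4, 0, 5, 6, 0, 7, 4, 0, 8, 1]
def rw589 : List ℕ := [5, 7, 9, 1, 0, 0, 8, 6, 4, 0, 8, 6, 4, 0, 8, 6, 4, 0, 8, 6, 4, 0, 8, 6, 4, 1, 5, 7, 9, 1, 5, 7, 9, 1, 5, 7, 9, 1, 5, 7, 9, 1]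
def rw590 : List ℕ := [5, 7, 9, 1, 5, 7, 9, 1, 5, 7, 9, 1, 6, 0, 8, 6, 4, 0, 8, 6, 4, 0, 8, 6, 4, 0, 8, 6, 4, 0, 8, 6, 4, 7, 5, 7, 9, 1, 5, 7, 9, 1]
def rw591 : List ℕ := [5, 7, 9, 1, 5, 7, 9, 1, 5, 7, 9, 1, 5, 7, 9, 1, 5, 7, 9, 1, 10, 0, 8, 6, 4, 0, 8, 6, 4, 0, 8, 6, 4, 0, 8, 6, 4, 0, 8, 6, 4, 11]
def rw592 : List ℕ := [5, 6, 0, 7, 4, 0, 4, 1, 5, 6, 1, 7, 4, 1, 5, 6, 1, 7, 5, 6, 0, 7, 4, 0]
def rw593 : List ℕ := [5, 7, 9, 1, 5, 7, 9, 1, 5, 7, 9, 1, 10, 0, 8, 6, 4, 0, 8, 6, 4, 0, 8, 6, 4, 0, 8, 6, 4, 0, 8, 6, 4, 11, 5, 7, 9, 1, 5, 7, 9, 1]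
def rw594 : List ℕ := [5, 7, 9, 1, 5, 7, 9, 1, 5, 7, 9, 1, 5, 7, 9, 1, 10, 0, 8, 6, 4, 0, 8, 6, 4, 0, 8, 6, 4, 0, 8, 6, 4, 0, 8, 6, 4, 11, 5, 7, 9, 1]
def rw595 : List ℕ := [5, 7, 9, 1, 5, 7, 9, 1, 12, 0, 8, 6, 4, 0, 8, 6, 4, 0, 8, 6, 4, 0, 8, 6, 4, 0, 8, 6, 4, 13, 5, 7, 9, 1, 5, 7, 9, 1, 5, 7, 9, 1]
def rw596 : List ℕ := [5, 7, 9, 1, 5, 7, 9, 1, 5, 7, 9, 1, 5, 7, 9, 1, 8, 0, 8, 6, 4, 0, 8, 6, 4, 0, 8, 6, 4, 0, 8, 6, 4, 0, 8, 6, 4, 9, 5, 7, 9, 1]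
def rw597 : List ℕ := [5, 7, 9, 1, 5, 7, 9, 1, 5, 7, 9, 1, 5, 7, 9, 1, 5, 7, 9, 1, 8, 0, 8, 6, 4, 0, 8, 6, 4, 0, 8, 6, 4, 0, 8, 6, 4, 0, 8, 6, 4, 9]
def rw598 : List ℕ := [5, 7, 9, 1, 5, 7, 9, 1, 5, 7, 9, 1, 12, 0, 8, 6, 4, 0, 8, 6, 4, 0, 8, 6, 4, 0, 8, 6, 4, 0, 8, 6, 4, 13, 5, 7, 9, 1, 5, 7, 9, 1]
def rw599 : List ℕ := [5, 7, 9, 1, 3, 0, 8, 6, 4, 0, 8, 6, 4, 0, 8, 6, 4, 0, 8, 6, 4, 0, 8, 6, 4, 2, 5, 7, 9, 1, 5, 7, 9, 1, 5, 7, 9, 1, 5, 7, 9, 1]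
def rw600 : List ℕ := [6, 6]
def rw601 : List ℕ := [6, 2, 6, 2]
def rw602 : List ℕ := [6, 0, 6, 0, 6, 3, 0, 6, 0]
def rw603 : List ℕ := [6, 4, 6, 4, 6, 4]
def rw604 : List ℕ := [6, 9, 1, 9, 1, 6, 0, 8, 0, 8]
def rw605 : List ℕ := [6, 10, 6, 10]
def rw606 : List ℕ := [6, 0, 6, 8, 7, 1, 7, 1, 8, 0]
def rw607 : List ℕ := [6, 2, 6, 2]
def rw608 : List ℕ := [6, 4, 6, 4, 6, 4]
def rw609 : List ℕ := [6, 12, 6, 12]
def rw610 : List ℕ := [6, 1, 7, 4, 1, 5, 6, 1, 7, 0, 6, 0, 7, 4, 0, 5, 6, 0, 7, 4, 0, 1, 1, 5]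
def rw611 : List ℕ := [6, 4, 6, 4, 6, 4]
def rw612 : List ℕ := [6, 0, 6, 3, 0, 6, 0, 6, 0]
def rw613 : List ℕ := [6, 0, 7, 4, 0, 3, 1, 5, 6, 1, 7, 4, 1, 5, 6, 1, 7, 2, 6, 0, 7, 4, 0, 5]
def rw614 : List ℕ := [6, 8, 6, 8, 6, 8, 6, 3, 13, 8]
def rw615 : List ℕ := [6, 0, 8, 0, 8, 6, 9, 1, 9, 1]
def rw616 : List ℕ := [6, 3, 13, 8, 6, 8, 6, 8, 6, 8]
def rw617 : List ℕ := [6, 12, 6, 12]
def rw618 : List ℕ := [6, 8, 6, 3, 13, 8, 6, 8, 6, 8]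
def rw619 : List ℕ := [6, 0, 6, 0, 6, 0, 6, 3, 0]
def rw620 : List ℕ := [6, 8, 6, 8, 6, 8, 6, 8, 6, 8, 6, 8, 6, 8, 6, 8]
def rw621 : List ℕ := [6, 8, 6, 8, 6, 8, 6, 8, 6, 8, 6, 8, 6, 8, 6, 8]
def rw622 : List ℕ := [6, 8, 7, 1, 7, 1, 8, 0, 6, 0]
def rw623 : List ℕ := [6, 10, 6, 10]
def rw624 : List ℕ := [6, 8, 6, 8, 6, 3, 13, 8, 6, 8]
def rw625 : List ℕ := [6, 1, 7, 4, 1, 5, 6, 1, 7, 2, 6, 0, 7, 4, 0, 5, 6, 0, 7, 4, 0, 3, 1, 5]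
def rw626 : List ℕ := [6, 1, 7, 4, 6, 0, 7, 4, 0, 5, 6, 0, 7, 4, 0, 5, 1, 5, 6, 1, 7, 4, 1, 5]
def rw627 : List ℕ := [6, 3, 0, 6, 0, 6, 0, 6, 0]
def rw628 : List ℕ := [6, 0, 7, 4, 0, 5, 6, 0, 7, 4, 0, 3, 1, 5, 6, 1, 7, 4, 1, 5, 6, 1, 7, 2]
def rw629 : List ℕ := [6, 1, 7, 4, 1, 5, 6, 1, 7, 4, 6, 0, 7, 4, 0, 5, 6, 0, 7, 4, 0, 5, 1, 5]
def rw630 : List ℕ := [6, 0, 7, 4, 0, 7, 1, 5, 6, 1, 7, 4, 1, 5, 6, 1, 7, 6, 6, 0, 7, 4, 0, 5]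
def rw631 : List ℕ := [6, 0, 6, 9, 7, 1, 7, 1, 9, 0]
def rw632 : List ℕ := [6, 0, 7, 4, 0, 1, 1, 5, 6, 1, 7, 4, 1, 5, 6, 1, 7, 0, 6, 0, 7, 4, 0, 5]
def rw633 : List ℕ := [6, 0, 7, 4, 0, 5, 6, 0, 7, 4, 0, 1, 1, 5, 6, 1, 7, 4, 1, 5, 6, 1, 7, 0]
def rw634 : List ℕ := [6, 0, 7, 4, 0, 5, 6, 0, 7, 4, 0, 0, 1, 5, 6, 1, 7, 4, 1, 5, 6, 1, 7, 1]
def rw635 : List ℕ := [6, 8, 0, 9, 10, 0, 11, 8, 0, 9, 10, 0, 7, 1, 11, 8, 1, 9, 10, 1, 11, 8, 1, 9]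
def rw636 : List ℕ := [6, 1, 11, 8, 1, 9, 10, 1, 11, 8, 1, 9, 7, 8, 0, 9, 10, 0, 11, 8, 0, 9, 10, 0]
def rw637 : List ℕ := [6, 0, 7, 4, 0, 5, 6, 0, 7, 4, 0, 2, 1, 5, 6, 1, 7, 4, 1, 5, 6, 1, 7, 3]
def rw638 : List ℕ := [6, 8, 6, 8, 10, 8, 7, 1, 11, 9, 0, 11, 9, 7, 9, 7, 8, 6, 8, 10, 1, 8, 10, 0, 6, 9, 11, 0]
def rw639 : List ℕ := [6, 0, 7, 4, 0, 13, 1, 5, 6, 1, 7, 4, 1, 5, 6, 1, 7, 12, 6, 0, 7, 4, 0, 5]
def rw640 : List ℕ := [6, 0, 7, 4, 0, 5, 6, 0, 7, 4, 0, 13, 1, 5, 6, 1, 7, 4, 1, 5, 6, 1, 7, 12]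
def rw641 : List ℕ := [6, 1, 7, 4, 1, 5, 6, 1, 7, 3, 6, 0, 7, 4, 0, 5, 6, 0, 7, 4, 0, 2, 1, 5]
def rw642 : List ℕ := [6, 0, 7, 4, 0, 5, 6, 0, 7, 4, 0, 5, 1, 5, 6, 1, 7, 4, 1, 5, 6, 1, 7, 4]
def rw643 : List ℕ := [6, 0, 7, 4, 0, 0, 1, 5, 6, 1, 7, 4, 1, 5, 6, 1, 7, 1, 6, 0, 7, 4, 0, 5]
def rw644 : List ℕ := [6, 4, 0, 8, 6, 4, 0, 8, 6, 4, 0, 8, 6, 4, 0, 8, 6, 4, 7, 5, 7, 9, 1, 5, 7, 9, 1, 5, 7, 9, 1, 5, 7, 9, 1, 5, 7, 9, 1, 6, 0, 8]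
def rw645 : List ℕ := [6, 0, 7, 4, 0, 5, 1, 5, 6, 1, 7, 4, 1, 5, 6, 1, 7, 4, 6, 0, 7, 4, 0, 5]
def rw646 : List ℕ := [6, 1, 7, 0, 6, 0, 7, 4, 0, 5, 6, 0, 7, 4, 0, 1, 1, 5, 6, 1, 7, 4, 1, 5]
def rw647 : List ℕ := [6, 8, 10, 8, 7, 1, 11, 9, 0, 11, 9, 7, 9, 7, 8, 6, 8, 10, 1, 8, 10, 0, 6, 9, 11, 0, 6, 8]
def rw648 : List ℕ := [6, 9, 11, 9, 7, 9, 7, 1, 10, 8, 7, 1, 11, 9, 0, 11, 9, 7, 9, 6, 8, 6, 8, 10, 1, 8, 10, 0]
def rw649 : List ℕ := [6, 4, 0, 8, 6, 4, 3, 5, 7, 9, 1, 5, 7, 9, 1, 5, 7, 9, 1, 5, 7, 9, 1, 5, 7, 9, 1, 2, 0, 8, 6, 4, 0, 8, 6, 4, 0, 8, 6, 4, 0, 8]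
def rw650 : List ℕ := [6, 4, 0, 8, 6, 4, 9, 5, 7, 9, 1, 5, 7, 9, 1, 5, 7, 9, 1, 5, 7, 9, 1, 5, 7, 9, 1, 8, 0, 8, 6, 4, 0, 8, 6, 4, 0, 8, 6, 4, 0, 8]
def rw651 : List ℕ := [6, 1, 7, 4, 1, 5, 6, 1, 7, 1, 6, 0, 7, 4, 0, 5, 6, 0, 7, 4, 0, 0, 1, 5]
def rw652 : List ℕ := [6, 1, 7, 1, 6, 0, 7, 4, 0, 5, 6, 0, 7, 4, 0, 0, 1, 5, 6, 1, 7, 4, 1, 5]
def rw653 : List ℕ := [6, 1, 5, 6, 1, 7, 4, 1, 5, 6, 1, 7, 7, 6, 0, 7, 4, 0, 5, 6, 0, 7, 4, 0]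
def rw654 : List ℕ := [6, 4, 1, 5, 7, 9, 1, 5, 7, 9, 1, 5, 7, 9, 1, 5, 7, 9, 1, 5, 7, 9, 1, 0, 0, 8, 6, 4, 0, 8, 6, 4, 0, 8, 6, 4, 0, 8, 6, 4, 0, 8]
def rw655 : List ℕ := [6, 0, 7, 4, 0, 5, 6, 0, 7, 4, 0, 7, 1, 5, 6, 1, 7, 4, 1, 5, 6, 1, 7, 6]
def rw656 : List ℕ := [6, 8, 6, 8, 6, 8, 6, 8, 6, 8, 6, 8, 6, 8, 6, 8]
def rw657 : List ℕ := [6, 0, 7, 4, 0, 5, 6, 0, 7, 4, 0, 9, 1, 5, 6, 1, 7, 4, 1, 5, 6, 1, 7, 8]
def rw658 : List ℕ := [6, 1, 7, 6, 6, 0, 7, 4, 0, 5, 6, 0, 7, 4, 0, 7, 1, 5, 6, 1, 7, 4, 1, 5]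
def rw659 : List ℕ := [6, 1, 7, 4, 1, 5, 6, 1, 7, 10, 6, 0, 7, 4, 0, 5, 6, 0, 7, 4, 0, 11, 1, 5]
def rw660 : List ℕ := [6, 1, 7, 12, 6, 0, 7, 4, 0, 5, 6, 0, 7, 4, 0, 13, 1, 5, 6, 1, 7, 4, 1, 5]
def rw661 : List ℕ := [6, 1, 7, 4, 1, 5, 6, 1, 7, 8, 6, 0, 7, 4, 0, 5, 6, 0, 7, 4, 0, 9, 1, 5]
def rw662 : List ℕ := [6, 9, 7, 1, 7, 1, 9, 0, 6, 0]
def rw663 : List ℕ := [6, 1, 7, 8, 6, 0, 7, 4, 0, 5, 6, 0, 7, 4, 0, 9, 1, 5, 6, 1, 7, 4, 1, 5]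
def rw664 : List ℕ := [6, 1, 7, 4, 1, 5, 6, 1, 7, 12, 6, 0, 7, 4, 0, 5, 6, 0, 7, 4, 0, 13, 1, 5]
def rw665 : List ℕ := [6, 0, 7, 4, 0, 5, 6, 0, 7, 4, 0, 12, 1, 5, 6, 1, 7, 4, 1, 5, 6, 1, 7, 13]
def rw666 : List ℕ := [6, 1, 7, 10, 6, 0, 7, 4, 0, 5, 6, 0, 7, 4, 0, 11, 1, 5, 6, 1, 7, 4, 1, 5]
def rw667 : List ℕ := [6, 1, 7, 4, 1, 5, 6, 1, 7, 6, 6, 0, 7, 4, 0, 5, 6, 0, 7, 4, 0, 7, 1, 5]
def rw668 : List ℕ := [6, 4, 0, 8, 6, 4, 0, 8, 6, 4, 0, 8, 6, 4, 7, 5, 7, 9, 1, 5, 7, 9, 1, 5, 7, 9, 1, 5, 7, 9, 1, 5, 7, 9, 1, 6, 0, 8, 6, 4, 0, 8]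
def rw669 : List ℕ := [6, 4, 0, 8, 6, 4, 1, 5, 7, 9, 1, 5, 7, 9, 1, 5, 7, 9, 1, 5, 7, 9, 1, 5, 7, 9, 1, 0, 0, 8, 6, 4, 0, 8, 6, 4, 0, 8, 6, 4, 0, 8]
def rw670 : List ℕ := [6, 9, 11, 0, 6, 8, 6, 8, 10, 8, 7, 1, 11, 9, 0, 11, 9, 7, 9, 7, 8, 6, 8, 10, 1, 8, 10, 0]
def rw671 : List ℕ := [6, 0, 8, 6, 4, 0, 8, 6, 4, 0, 8, 6, 4, 0, 8, 6, 4, 0, 8, 6, 4, 7, 5, 7, 9, 1, 5, 7, 9, 1, 5, 7, 9, 1, 5, 7, 9, 1, 5, 7, 9, 1]
def rw672 : List ℕ := [6, 8, 6, 8, 6, 8, 6, 8, 6, 8, 6, 8, 6, 8, 6, 8]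
def rw673 : List ℕ := [6, 4, 0, 8, 6, 4, 0, 5, 7, 9, 1, 5, 7, 9, 1, 5, 7, 9, 1, 5, 7, 9, 1, 5, 7, 9, 1, 1, 0, 8, 6, 4, 0, 8, 6, 4, 0, 8, 6, 4, 0, 8]
def rw674 : List ℕ := [6, 4, 0, 8, 6, 4, 7, 5, 7, 9, 1, 5, 7, 9, 1, 5, 7, 9, 1, 5, 7, 9, 1, 5, 7, 9, 1, 6, 0, 8, 6, 4, 0, 8, 6, 4, 0, 8, 6, 4, 0, 8]
def rw675 : List ℕ := [6, 1, 7, 2, 6, 0, 7, 4, 0, 5, 6, 0, 7, 4, 0, 3, 1, 5, 6, 1, 7, 4, 1, 5]
def rw676 : List ℕ := [6, 0, 7, 4, 0, 11, 1, 5, 6, 1, 7, 4, 1, 5, 6, 1, 7, 10, 6, 0, 7, 4, 0, 5]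
def rw677 : List ℕ := [6, 1, 7, 5, 6, 0, 7, 4, 0, 5, 6, 0, 7, 4, 0, 4, 1, 5, 6, 1, 7, 4, 1, 5]
def rw678 : List ℕ := [6, 0, 7, 4, 0, 9, 1, 5, 6, 1, 7, 4, 1, 5, 6, 1, 7, 8, 6, 0, 7, 4, 0, 5]
def rw679 : List ℕ := [6, 1, 7, 4, 1, 5, 6, 1, 7, 5, 6, 0, 7, 4, 0, 5, 6, 0, 7, 4, 0, 4, 1, 5]
def rw680 : List ℕ := [6, 0, 7, 4, 0, 4, 1, 5, 6, 1, 7, 4, 1, 5, 6, 1, 7, 5, 6, 0, 7, 4, 0, 5]
def rw681 : List ℕ := [6, 5, 7, 9, 1, 5, 7, 9, 1, 5, 7, 9, 1, 5, 7, 9, 1, 5, 7, 9, 1, 7, 0, 8, 6, 4, 0, 8, 6, 4, 0, 8, 6, 4, 0, 8, 6, 4, 0, 8, 6, 4]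
def rw682 : List ℕ := [6, 8, 6, 8, 6, 8, 6, 8, 6, 8, 6, 8, 6, 8, 6, 8]
def rw683 : List ℕ := [6, 4, 0, 8, 6, 4, 5, 5, 7, 9, 1, 5, 7, 9, 1, 5, 7, 9, 1, 5, 7, 9, 1, 5, 7, 9, 1, 4, 0, 8, 6, 4, 0, 8, 6, 4, 0, 8, 6, 4, 0, 8]
def rw684 : List ℕ := [6, 4, 0, 8, 6, 4, 0, 8, 6, 4, 0, 8, 6, 4, 11, 5, 7, 9, 1, 5, 7, 9, 1, 5, 7, 9, 1, 5, 7, 9, 1, 5, 7, 9, 1, 10, 0, 8, 6, 4, 0, 8]
def rw685 : List ℕ := [6, 0, 7, 4, 0, 5, 6, 0, 7, 4, 0, 11, 1, 5, 6, 1, 7, 4, 1, 5, 6, 1, 7, 10]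
def rw686 : List ℕ := [6, 4, 0, 8, 6, 4, 0, 8, 6, 4, 1, 5, 7, 9, 1, 5, 7, 9, 1, 5, 7, 9, 1, 5, 7, 9, 1, 5, 7, 9, 1, 0, 0, 8, 6, 4, 0, 8, 6, 4, 0, 8]
def rw687 : List ℕ := [6, 4, 0, 8, 6, 4, 13, 5, 7, 9, 1, 5, 7, 9, 1, 5, 7, 9, 1, 5, 7, 9, 1, 5, 7, 9, 1, 12, 0, 8, 6, 4, 0, 8, 6, 4, 0, 8, 6, 4, 0, 8]
def rw688 : List ℕ := [6, 4, 0, 5, 7, 9, 1, 5, 7, 9, 1, 5, 7, 9, 1, 5, 7, 9, 1, 5, 7, 9, 1, 1, 0, 8, 6, 4, 0, 8, 6, 4, 0, 8, 6, 4, 0, 8, 6, 4, 0, 8]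
def rw689 : List ℕ := [6, 4, 0, 8, 6, 4, 0, 8, 6, 4, 0, 8, 6, 4, 9, 5, 7, 9, 1, 5, 7, 9, 1, 5, 7, 9, 1, 5, 7, 9, 1, 5, 7, 9, 1, 8, 0, 8, 6, 4, 0, 8]
def rw690 : List ℕ := [6, 4, 0, 8, 6, 4, 0, 8, 6, 4, 9, 5, 7, 9, 1, 5, 7, 9, 1, 5, 7, 9, 1, 5, 7, 9, 1, 5, 7, 9, 1, 8, 0, 8, 6, 4, 0, 8, 6, 4, 0, 8]
def rw691 : List ℕ := [6, 4, 0, 8, 6, 4, 0, 8, 6, 4, 0, 8, 6, 4, 0, 8, 6, 4, 11, 5, 7, 9, 1, 5, 7, 9, 1, 5, 7, 9, 1, 5, 7, 9, 1, 5, 7, 9, 1, 10, 0, 8]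
def rw692 : List ℕ := [6, 4, 0, 8, 6, 4, 0, 8, 6, 4, 0, 8, 6, 4, 0, 8, 6, 4, 1, 5, 7, 9, 1, 5, 7, 9, 1, 5, 7, 9, 1, 5, 7, 9, 1, 5, 7, 9, 1, 0, 0, 8]
def rw693 : List ℕ := [6, 4, 0, 8, 6, 4, 0, 8, 6, 4, 0, 8, 6, 4, 1, 5, 7, 9, 1, 5, 7, 9, 1, 5, 7, 9, 1, 5, 7, 9, 1, 5, 7, 9, 1, 0, 0, 8, 6, 4, 0, 8]
def rw694 : List ℕ := [6, 4, 0, 8, 6, 4, 0, 8, 6, 4, 0, 8, 6, 4, 3, 5, 7, 9, 1, 5, 7, 9, 1, 5, 7, 9, 1, 5, 7, 9, 1, 5, 7, 9, 1, 2, 0, 8, 6, 4, 0, 8]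
def rw695 : List ℕ := [6, 4, 0, 8, 6, 4, 0, 8, 6, 4, 0, 8, 6, 4, 0, 8, 6, 4, 5, 5, 7, 9, 1, 5, 7, 9, 1, 5, 7, 9, 1, 5, 7, 9, 1, 5, 7, 9, 1, 4, 0, 8]
def rw696 : List ℕ := [6, 0, 7, 4, 0, 12, 1, 5, 6, 1, 7, 4, 1, 5, 6, 1, 7, 13, 6, 0, 7, 4, 0, 5]
def rw697 : List ℕ := [6, 4, 0, 8, 6, 4, 0, 8, 6, 4, 0, 8, 6, 4, 0, 8, 6, 4, 3, 5, 7, 9, 1, 5, 7, 9, 1, 5, 7, 9, 1, 5, 7, 9, 1, 5, 7, 9, 1, 2, 0, 8]
def rw698 : List ℕ := [6, 1, 7, 11, 6, 0, 7, 4, 0, 5, 6, 0, 7, 4, 0, 10, 1, 5, 6, 1, 7, 4, 1, 5]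
def rw699 : List ℕ := [6, 8, 6, 8, 6, 8, 6, 8, 6, 8, 6, 8, 6, 8, 6, 8]
def rw700 : List ℕ := [6, 8, 6, 8, 10, 1, 8, 10, 0, 6, 9, 11, 9, 7, 9, 7, 1, 10, 8, 7, 1, 11, 9, 0, 11, 9, 7, 9]
def rw701 : List ℕ := [6, 8, 6, 8, 6, 8, 6, 8, 6, 8, 6, 8, 6, 8, 6, 8]
def rw702 : List ℕ := [6, 8, 6, 8, 6, 8, 6, 8, 6, 8, 6, 8, 6, 8, 6, 8]
def rw703 : List ℕ := [6, 4, 0, 8, 6, 4, 0, 8, 6, 4, 0, 5, 7, 9, 1, 5, 7, 9, 1, 5, 7, 9, 1, 5, 7, 9, 1, 5, 7, 9, 1, 1, 0, 8, 6, 4, 0, 8, 6, 4, 0, 8]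
def rw704 : List ℕ := [6, 4, 0, 8, 6, 4, 0, 8, 6, 4, 5, 5, 7, 9, 1, 5, 7, 9, 1, 5, 7, 9, 1, 5, 7, 9, 1, 5, 7, 9, 1, 4, 0, 8, 6, 4, 0, 8, 6, 4, 0, 8]
def rw705 : List ℕ := [6, 4, 0, 8, 6, 4, 0, 8, 6, 4, 11, 5, 7, 9, 1, 5, 7, 9, 1, 5, 7, 9, 1, 5, 7, 9, 1, 5, 7, 9, 1, 10, 0, 8, 6, 4, 0, 8, 6, 4, 0, 8]
def rw706 : List ℕ := [6, 0, 7, 4, 0, 8, 1, 5, 6, 1, 7, 4, 1, 5, 6, 1, 7, 9, 6, 0, 7, 4, 0, 5]
def rw707 : List ℕ := [6, 1, 7, 7, 6, 0, 7, 4, 0, 5, 6, 0, 7, 4, 0, 6, 1, 5, 6, 1, 7, 4, 1, 5]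
def rw708 : List ℕ := [6, 4, 0, 8, 6, 4, 0, 8, 6, 4, 7, 5, 7, 9, 1, 5, 7, 9, 1, 5, 7, 9, 1, 5, 7, 9, 1, 5, 7, 9, 1, 6, 0, 8, 6, 4, 0, 8, 6, 4, 0, 8]
def rw709 : List ℕ := [6, 1, 7, 4, 1, 5, 6, 1, 7, 11, 6, 0, 7, 4, 0, 5, 6, 0, 7, 4, 0, 10, 1, 5]
def rw710 : List ℕ := [6, 4, 0, 8, 6, 4, 0, 8, 6, 4, 3, 5, 7, 9, 1, 5, 7, 9, 1, 5, 7, 9, 1, 5, 7, 9, 1, 5, 7, 9, 1, 2, 0, 8, 6, 4, 0, 8, 6, 4, 0, 8]
def rw711 : List ℕ := [6, 4, 13, 5, 7, 9, 1, 5, 7, 9, 1, 5, 7, 9, 1, 5, 7, 9, 1, 5, 7, 9, 1, 12, 0, 8, 6, 4, 0, 8, 6, 4, 0, 8, 6, 4, 0, 8, 6, 4, 0, 8]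
def rw712 : List ℕ := [6, 4, 0, 8, 6, 4, 0, 8, 6, 4, 0, 8, 6, 4, 0, 8, 6, 4, 13, 5, 7, 9, 1, 5, 7, 9, 1, 5, 7, 9, 1, 5, 7, 9, 1, 5, 7, 9, 1, 12, 0, 8]
def rw713 : List ℕ := [6, 4, 0, 8, 6, 4, 11, 5, 7, 9, 1, 5, 7, 9, 1, 5, 7, 9, 1, 5, 7, 9, 1, 5, 7, 9, 1, 10, 0, 8, 6, 4, 0, 8, 6, 4, 0, 8, 6, 4, 0, 8]
def rw714 : List ℕ := [6, 8, 10, 1, 8, 10, 0, 6, 9, 11, 9, 7, 9, 7, 1, 10, 8, 7, 1, 11, 9, 0, 11, 9, 7, 9, 6, 8]
def rw715 : List ℕ := [6, 0, 7, 4, 0, 5, 6, 0, 7, 4, 0, 8, 1, 5, 6, 1, 7, 4, 1, 5, 6, 1, 7, 9]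
def rw716 : List ℕ := [6, 1, 7, 4, 1, 5, 6, 1, 7, 13, 6, 0, 7, 4, 0, 5, 6, 0, 7, 4, 0, 12, 1, 5]
def rw717 : List ℕ := [6, 4, 0, 8, 6, 4, 0, 8, 6, 4, 0, 8, 6, 4, 5, 5, 7, 9, 1, 5, 7, 9, 1, 5, 7, 9, 1, 5, 7, 9, 1, 5, 7, 9, 1, 4, 0, 8, 6, 4, 0, 8]
def rw718 : List ℕ := [6, 1, 7, 9, 6, 0, 7, 4, 0, 5, 6, 0, 7, 4, 0, 8, 1, 5, 6, 1, 7, 4, 1, 5]
def rw719 : List ℕ := [6, 4, 0, 8, 6, 4, 0, 8, 6, 4, 0, 8, 6, 4, 0, 8, 6, 4, 0, 5, 7, 9, 1, 5, 7, 9, 1, 5, 7, 9, 1, 5, 7, 9, 1, 5, 7, 9, 1, 1, 0, 8]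
def rw720 : List ℕ := [6, 4, 7, 5, 7, 9, 1, 5, 7, 9, 1, 5, 7, 9, 1, 5, 7, 9, 1, 5, 7, 9, 1, 6, 0, 8, 6, 4, 0, 8, 6, 4, 0, 8, 6, 4, 0, 8, 6, 4, 0, 8]
def rw721 : List ℕ := [6, 0, 7, 4, 0, 5, 6, 0, 7, 4, 0, 10, 1, 5, 6, 1, 7, 4, 1, 5, 6, 1, 7, 11]
def rw722 : List ℕ := [6, 4, 3, 5, 7, 9, 1, 5, 7, 9, 1, 5, 7, 9, 1, 5, 7, 9, 1, 5, 7, 9, 1, 2, 0, 8, 6, 4, 0, 8, 6, 4, 0, 8, 6, 4, 0, 8, 6, 4, 0, 8]
def rw723 : List ℕ := [6, 1, 7, 4, 1, 5, 6, 1, 7, 7, 6, 0, 7, 4, 0, 5, 6, 0, 7, 4, 0, 6, 1, 5]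
def rw724 : List ℕ := [6, 4, 0, 8, 6, 4, 0, 8, 6, 4, 0, 8, 6, 4, 0, 5, 7, 9, 1, 5, 7, 9, 1, 5, 7, 9, 1, 5, 7, 9, 1, 5, 7, 9, 1, 1, 0, 8, 6, 4, 0, 8]
def rw725 : List ℕ := [6, 0, 7, 4, 0, 6, 1, 5, 6, 1, 7, 4, 1, 5, 6, 1, 7, 7, 6, 0, 7, 4, 0, 5]
def rw726 : List ℕ := [6, 4, 0, 8, 6, 4, 0, 8, 6, 4, 13, 5, 7, 9, 1, 5, 7, 9, 1, 5, 7, 9, 1, 5, 7, 9, 1, 5, 7, 9, 1, 12, 0, 8, 6, 4, 0, 8, 6, 4, 0, 8]
def rw727 : List ℕ := [6, 4, 11, 5, 7, 9, 1, 5, 7, 9, 1, 5, 7, 9, 1, 5, 7, 9, 1, 5, 7, 9, 1, 10, 0, 8, 6, 4, 0, 8, 6, 4, 0, 8, 6, 4, 0, 8, 6, 4, 0, 8]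
def rw728 : List ℕ := [6, 4, 0, 8, 6, 4, 0, 8, 6, 4, 0, 8, 6, 4, 0, 8, 6, 4, 6, 5, 7, 9, 1, 5, 7, 9, 1, 5, 7, 9, 1, 5, 7, 9, 1, 5, 7, 9, 1, 7, 0, 8]
def rw729 : List ℕ := [6, 4, 0, 8, 6, 4, 6, 5, 7, 9, 1, 5, 7, 9, 1, 5, 7, 9, 1, 5, 7, 9, 1, 5, 7, 9, 1, 7, 0, 8, 6, 4, 0, 8, 6, 4, 0, 8, 6, 4, 0, 8]
def rw730 : List ℕ := [6, 4, 9, 5, 7, 9, 1, 5, 7, 9, 1, 5, 7, 9, 1, 5, 7, 9, 1, 5, 7, 9, 1, 8, 0, 8, 6, 4, 0, 8, 6, 4, 0, 8, 6, 4, 0, 8, 6, 4, 0, 8]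
def rw731 : List ℕ := [6, 4, 5, 5, 7, 9, 1, 5, 7, 9, 1, 5, 7, 9, 1, 5, 7, 9, 1, 5, 7, 9, 1, 4, 0, 8, 6, 4, 0, 8, 6, 4, 0, 8, 6, 4, 0, 8, 6, 4, 0, 8]
def rw732 : List ℕ := [6, 8, 10, 1, 8, 10, 0, 6, 9, 11, 0, 6, 8, 6, 8, 10, 8, 7, 1, 11, 9, 0, 11, 9, 7, 9, 7, 8]
def rw733 : List ℕ := [6, 4, 0, 8, 6, 4, 0, 8, 6, 4, 0, 8, 6, 4, 0, 8, 6, 4, 9, 5, 7, 9, 1, 5, 7, 9, 1, 5, 7, 9, 1, 5, 7, 9, 1, 5, 7, 9, 1, 8, 0, 8]
def rw734 : List ℕ := [7, 9, 1, 9, 1, 7, 0, 8, 0, 8]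
def rw735 : List ℕ := [7, 11, 7, 11]
def rw736 : List ℕ := [7, 3, 7, 3]
def rw737 : List ℕ := [7, 3, 7, 3]
def rw738 : List ℕ := [7, 7]
def rw739 : List ℕ := [7, 13, 7, 13]
def rw740 : List ℕ := [7, 5, 7, 5, 7, 5]
def rw741 : List ℕ := [7, 1, 7, 1, 7, 1, 7, 1, 2]
def rw742 : List ℕ := [7, 5, 7, 5, 7, 5]
def rw743 : List ℕ := [7, 1, 2, 7, 1, 7, 1, 7, 1]
def rw744 : List ℕ := [7, 1, 7, 1, 2, 7, 1, 7, 1]
def rw745 : List ℕ := [7, 1, 5, 6, 1, 7, 4, 1, 5, 6, 1, 7, 6, 6, 0, 7, 4, 0, 5, 6, 0, 7, 4, 0]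
def rw746 : List ℕ := [7, 1, 8, 0, 6, 0, 6, 8, 7, 1]
def rw747 : List ℕ := [7, 4, 0, 1, 1, 5, 6, 1, 7, 4, 1, 5, 6, 1, 7, 0, 6, 0, 7, 4, 0, 5, 6, 0]
def rw748 : List ℕ := [7, 1, 7, 1, 7, 1, 2, 7, 1]
def rw749 : List ℕ := [7, 1, 7, 1, 8, 0, 6, 0, 6, 8]
def rw750 : List ℕ := [7, 0, 8, 0, 8, 7, 9, 1, 9, 1]
def rw751 : List ℕ := [7, 4, 0, 3, 1, 5, 6, 1, 7, 4, 1, 5, 6, 1, 7, 2, 6, 0, 7, 4, 0, 5, 6, 0]
def rw752 : List ℕ := [7, 4, 0, 5, 1, 5, 6, 1, 7, 4, 1, 5, 6, 1, 7, 4, 6, 0, 7, 4, 0, 5, 6, 0]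
def rw753 : List ℕ := [7, 9, 12, 2, 7, 9, 7, 9, 7, 9]
def rw754 : List ℕ := [7, 8, 0, 9, 10, 0, 11, 8, 0, 9, 10, 0, 6, 1, 11, 8, 1, 9, 10, 1, 11, 8, 1, 9]
def rw755 : List ℕ := [7, 4, 0, 6, 1, 5, 6, 1, 7, 4, 1, 5, 6, 1, 7, 7, 6, 0, 7, 4, 0, 5, 6, 0]
def rw756 : List ℕ := [7, 4, 0, 5, 6, 0, 7, 4, 0, 3, 1, 5, 6, 1, 7, 4, 1, 5, 6, 1, 7, 2, 6, 0]
def rw757 : List ℕ := [7, 12, 6, 0, 7, 4, 0, 5, 6, 0, 7, 4, 0, 13, 1, 5, 6, 1, 7, 4, 1, 5, 6, 1]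
def rw758 : List ℕ := [7, 9, 7, 9, 7, 9, 7, 9, 7, 9, 7, 9, 7, 9, 7, 9]
def rw759 : List ℕ := [7, 1, 6, 0, 7, 4, 0, 5, 6, 0, 7, 4, 0, 0, 1, 5, 6, 1, 7, 4, 1, 5, 6, 1]
def rw760 : List ℕ := [7, 0, 6, 0, 7, 4, 0, 5, 6, 0, 7, 4, 0, 1, 1, 5, 6, 1, 7, 4, 1, 5, 6, 1]
def rw761 : List ℕ := [7, 4, 1, 5, 6, 1, 7, 0, 6, 0, 7, 4, 0, 5, 6, 0, 7, 4, 0, 1, 1, 5, 6, 1]
def rw762 : List ℕ := [7, 9, 7, 9, 7, 9, 12, 2, 7, 9]
def rw763 : List ℕ := [7, 4, 0, 0, 1, 5, 6, 1, 7, 4, 1, 5, 6, 1, 7, 1, 6, 0, 7, 4, 0, 5, 6, 0]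
def rw764 : List ℕ := [7, 1, 11, 8, 1, 9, 10, 1, 11, 8, 1, 9, 6, 8, 0, 9, 10, 0, 11, 8, 0, 9, 10, 0]
def rw765 : List ℕ := [7, 11, 7, 11]
def rw766 : List ℕ := [7, 1, 11, 9, 0, 11, 9, 7, 9, 6, 8, 6, 8, 10, 1, 8, 10, 0, 6, 9, 11, 9, 7, 9, 7, 1, 10, 8]
def rw767 : List ℕ := [7, 4, 1, 5, 6, 1, 7, 12, 6, 0, 7, 4, 0, 5, 6, 0, 7, 4, 0, 13, 1, 5, 6, 1]
def rw768 : List ℕ := [7, 4, 1, 5, 6, 1, 7, 6, 6, 0, 7, 4, 0, 5, 6, 0, 7, 4, 0, 7, 1, 5, 6, 1]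
def rw769 : List ℕ := [7, 13, 7, 13]
def rw770 : List ℕ := [7, 9, 7, 1, 10, 8, 7, 1, 11, 9, 0, 11, 9, 7, 9, 6, 8, 6, 8, 10, 1, 8, 10, 0, 6, 9, 11, 9]
def rw771 : List ℕ := [7, 4, 0, 5, 6, 0, 7, 4, 0, 1, 1, 5, 6, 1, 7, 4, 1, 5, 6, 1, 7, 0, 6, 0]
def rw772 : List ℕ := [7, 4, 0, 5, 6, 0, 7, 4, 0, 0, 1, 5, 6, 1, 7, 4, 1, 5, 6, 1, 7, 1, 6, 0]
def rw773 : List ℕ := [7, 9, 7, 9, 7, 9, 7, 9, 7, 9, 7, 9, 7, 9, 7, 9]
def rw774 : List ℕ := [7, 4, 1, 5, 6, 1, 7, 1, 6, 0, 7, 4, 0, 5, 6, 0, 7, 4, 0, 0, 1, 5, 6, 1]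
def rw775 : List ℕ := [7, 4, 0, 7, 1, 5, 6, 1, 7, 4, 1, 5, 6, 1, 7, 6, 6, 0, 7, 4, 0, 5, 6, 0]
def rw776 : List ℕ := [7, 9, 7, 9, 12, 2, 7, 9, 7, 9]
def rw777 : List ℕ := [7, 4, 1, 5, 6, 1, 7, 2, 6, 0, 7, 4, 0, 5, 6, 0, 7, 4, 0, 3, 1, 5, 6, 1]
def rw778 : List ℕ := [7, 9, 7, 9, 7, 9, 7, 9, 7, 9, 7, 9, 7, 9, 7, 9]
def rw779 : List ℕ := [7, 4, 0, 5, 6, 0, 7, 4, 0, 9, 1, 5, 6, 1, 7, 4, 1, 5, 6, 1, 7, 8, 6, 0]
def rw780 : List ℕ := [7, 2, 6, 0, 7, 4, 0, 5, 6, 0, 7, 4, 0, 3, 1, 5, 6, 1, 7, 4, 1, 5, 6, 1]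
def rw781 : List ℕ := [7, 4, 1, 5, 6, 1, 7, 7, 6, 0, 7, 4, 0, 5, 6, 0, 7, 4, 0, 6, 1, 5, 6, 1]
def rw782 : List ℕ := [7, 4, 0, 5, 6, 0, 7, 4, 0, 13, 1, 5, 6, 1, 7, 4, 1, 5, 6, 1, 7, 12, 6, 0]
def rw783 : List ℕ := [7, 4, 1, 5, 6, 1, 7, 10, 6, 0, 7, 4, 0, 5, 6, 0, 7, 4, 0, 11, 1, 5, 6, 1]
def rw784 : List ℕ := [7, 1, 9, 0, 6, 0, 6, 9, 7, 1]
def rw785 : List ℕ := [7, 10, 6, 0, 7, 4, 0, 5, 6, 0, 7, 4, 0, 11, 1, 5, 6, 1, 7, 4, 1, 5, 6, 1]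
def rw786 : List ℕ := [7, 9, 7, 9, 7, 9, 7, 9, 12, 2]
def rw787 : List ℕ := [7, 1, 10, 8, 7, 1, 11, 9, 0, 11, 9, 7, 9, 6, 8, 6, 8, 10, 1, 8, 10, 0, 6, 9, 11, 9, 7, 9]
def rw788 : List ℕ := [7, 4, 6, 0, 7, 4, 0, 5, 6, 0, 7, 4, 0, 5, 1, 5, 6, 1, 7, 4, 1, 5, 6, 1]
def rw789 : List ℕ := [7, 5, 7, 5, 7, 5]
def rw790 : List ℕ := [7, 5, 7, 9, 1, 5, 7, 9, 1, 5, 7, 9, 1, 5, 7, 9, 1, 5, 7, 9, 1, 6, 0, 8, 6, 4, 0, 8, 6, 4, 0, 8, 6, 4, 0, 8, 6, 4, 0, 8, 6, 4]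
def rw791 : List ℕ := [7, 9, 7, 9, 7, 9, 7, 9, 7, 9, 7, 9, 7, 9, 7, 9]
def rw792 : List ℕ := [7, 4, 0, 5, 6, 0, 7, 4, 0, 5, 1, 5, 6, 1, 7, 4, 1, 5, 6, 1, 7, 4, 6, 0]
def rw793 : List ℕ := [7, 5, 6, 0, 7, 4, 0, 5, 6, 0, 7, 4, 0, 4, 1, 5, 6, 1, 7, 4, 1, 5, 6, 1]
def rw794 : List ℕ := [7, 4, 1, 5, 6, 1, 7, 8, 6, 0, 7, 4, 0, 5, 6, 0, 7, 4, 0, 9, 1, 5, 6, 1]
def rw795 : List ℕ := [7, 1, 7, 1, 9, 0, 6, 0, 6, 9]
def rw796 : List ℕ := [7, 4, 0, 9, 1, 5, 6, 1, 7, 4, 1, 5, 6, 1, 7, 8, 6, 0, 7, 4, 0, 5, 6, 0]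
def rw797 : List ℕ := [7, 4, 0, 5, 6, 0, 7, 4, 0, 11, 1, 5, 6, 1, 7, 4, 1, 5, 6, 1, 7, 10, 6, 0]
def rw798 : List ℕ := [7, 4, 1, 5, 6, 1, 7, 4, 6, 0, 7, 4, 0, 5, 6, 0, 7, 4, 0, 5, 1, 5, 6, 1]
def rw799 : List ℕ := [7, 8, 6, 0, 7, 4, 0, 5, 6, 0, 7, 4, 0, 9, 1, 5, 6, 1, 7, 4, 1, 5, 6, 1]
def rw800 : List ℕ := [7, 9, 1, 5, 7, 9, 1, 5, 7, 9, 1, 5, 7, 9, 1, 5, 7, 9, 1, 4, 0, 8, 6, 4, 0, 8, 6, 4, 0, 8, 6, 4, 0, 8, 6, 4, 0, 8, 6, 4, 5, 5]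
def rw801 : List ℕ := [7, 9, 7, 9, 7, 9, 7, 9, 7, 9, 7, 9, 7, 9, 7, 9]
def rw802 : List ℕ := [7, 4, 0, 13, 1, 5, 6, 1, 7, 4, 1, 5, 6, 1, 7, 12, 6, 0, 7, 4, 0, 5, 6, 0]
def rw803 : List ℕ := [7, 4, 0, 11, 1, 5, 6, 1, 7, 4, 1, 5, 6, 1, 7, 10, 6, 0, 7, 4, 0, 5, 6, 0]
def rw804 : List ℕ := [7, 4, 0, 5, 6, 0, 7, 4, 0, 12, 1, 5, 6, 1, 7, 4, 1, 5, 6, 1, 7, 13, 6, 0]
def rw805 : List ℕ := [7, 4, 0, 5, 6, 0, 7, 4, 0, 7, 1, 5, 6, 1, 7, 4, 1, 5, 6, 1, 7, 6, 6, 0]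
def rw806 : List ℕ := [7, 9, 6, 8, 6, 8, 10, 1, 8, 10, 0, 6, 9, 11, 9, 7, 9, 7, 1, 10, 8, 7, 1, 11, 9, 0, 11, 9]
def rw807 : List ℕ := [7, 8, 6, 8, 10, 1, 8, 10, 0, 6, 9, 11, 0, 6, 8, 6, 8, 10, 8, 7, 1, 11, 9, 0, 11, 9, 7, 9]
def rw808 : List ℕ := [7, 9, 7, 9, 7, 9, 7, 9, 7, 9, 7, 9, 7, 9, 7, 9]
def rw809 : List ℕ := [7, 1, 11, 9, 0, 11, 9, 7, 9, 7, 8, 6, 8, 10, 1, 8, 10, 0, 6, 9, 11, 0, 6, 8, 6, 8, 10, 8]
def rw810 : List ℕ := [7, 13, 6, 0, 7, 4, 0, 5, 6, 0, 7, 4, 0, 12, 1, 5, 6, 1, 7, 4, 1, 5, 6, 1]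
def rw811 : List ℕ := [7, 9, 1, 5, 7, 9, 1, 2, 0, 8, 6, 4, 0, 8, 6, 4, 0, 8, 6, 4, 0, 8, 6, 4, 0, 8, 6, 4, 3, 5, 7, 9, 1, 5, 7, 9, 1, 5, 7, 9, 1, 5]
def rw812 : List ℕ := [7, 9, 1, 5, 7, 9, 1, 5, 7, 9, 1, 5, 7, 9, 1, 5, 7, 9, 1, 6, 0, 8, 6, 4, 0, 8, 6, 4, 0, 8, 6, 4, 0, 8, 6, 4, 0, 8, 6, 4, 7, 5]
def rw813 : List ℕ := [7, 9, 1, 5, 7, 9, 1, 5, 7, 9, 1, 5, 7, 9, 1, 4, 0, 8, 6, 4, 0, 8, 6, 4, 0, 8, 6, 4, 0, 8, 6, 4, 0, 8, 6, 4, 5, 5, 7, 9, 1, 5]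
def rw814 : List ℕ := [7, 7, 6, 0, 7, 4, 0, 5, 6, 0, 7, 4, 0, 6, 1, 5, 6, 1, 7, 4, 1, 5, 6, 1]
def rw815 : List ℕ := [7, 0, 8, 6, 4, 0, 8, 6, 4, 0, 8, 6, 4, 0, 8, 6, 4, 0, 8, 6, 4, 6, 5, 7, 9, 1, 5, 7, 9, 1, 5, 7, 9, 1, 5, 7, 9, 1, 5, 7, 9, 1]
def rw816 : List ℕ := [7, 9, 1, 5, 7, 9, 1, 5, 7, 9, 1, 5, 7, 9, 1, 0, 0, 8, 6, 4, 0, 8, 6, 4, 0, 8, 6, 4, 0, 8, 6, 4, 0, 8, 6, 4, 1, 5, 7, 9, 1, 5]
def rw817 : List ℕ := [7, 9, 1, 5, 7, 9, 1, 5, 7, 9, 1, 0, 0, 8, 6, 4, 0, 8, 6, 4, 0, 8, 6, 4, 0, 8, 6, 4, 0, 8, 6, 4, 1, 5, 7, 9, 1, 5, 7, 9, 1, 5]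
def rw818 : List ℕ := [7, 4, 1, 5, 6, 1, 7, 11, 6, 0, 7, 4, 0, 5, 6, 0, 7, 4, 0, 10, 1, 5, 6, 1]
def rw819 : List ℕ := [7, 4, 1, 5, 6, 1, 7, 3, 6, 0, 7, 4, 0, 5, 6, 0, 7, 4, 0, 2, 1, 5, 6, 1]
def rw820 : List ℕ := [7, 9, 6, 0, 7, 4, 0, 5, 6, 0, 7, 4, 0, 8, 1, 5, 6, 1, 7, 4, 1, 5, 6, 1]
def rw821 : List ℕ := [7, 9, 1, 12, 0, 8, 6, 4, 0, 8, 6, 4, 0, 8, 6, 4, 0, 8, 6, 4, 0, 8, 6, 4, 13, 5, 7, 9, 1, 5, 7, 9, 1, 5, 7, 9, 1, 5, 7, 9, 1, 5]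
def rw822 : List ℕ := [7, 4, 0, 4, 1, 5, 6, 1, 7, 4, 1, 5, 6, 1, 7, 5, 6, 0, 7, 4, 0, 5, 6, 0]
def rw823 : List ℕ := [7, 9, 1, 5, 7, 9, 1, 6, 0, 8, 6, 4, 0, 8, 6, 4, 0, 8, 6, 4, 0, 8, 6, 4, 0, 8, 6, 4, 7, 5, 7, 9, 1, 5, 7, 9, 1, 5, 7, 9, 1, 5]
def rw824 : List ℕ := [7, 9, 1, 5, 7, 9, 1, 3, 0, 8, 6, 4, 0, 8, 6, 4, 0, 8, 6, 4, 0, 8, 6, 4, 0, 8, 6, 4, 2, 5, 7, 9, 1, 5, 7, 9, 1, 5, 7, 9, 1, 5]
def rw825 : List ℕ := [7, 9, 1, 5, 7, 9, 1, 12, 0, 8, 6, 4, 0, 8, 6, 4, 0, 8, 6, 4, 0, 8, 6, 4, 0, 8, 6, 4, 13, 5, 7, 9, 1, 5, 7, 9, 1, 5, 7, 9, 1, 5]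
def rw826 : List ℕ := [7, 3, 6, 0, 7, 4, 0, 5, 6, 0, 7, 4, 0, 2, 1, 5, 6, 1, 7, 4, 1, 5, 6, 1]
def rw827 : List ℕ := [7, 9, 1, 5, 7, 9, 1, 5, 7, 9, 1, 5, 7, 9, 1, 5, 7, 9, 1, 10, 0, 8, 6, 4, 0, 8, 6, 4, 0, 8, 6, 4, 0, 8, 6, 4, 0, 8, 6, 4, 11, 5]
def rw828 : List ℕ := [7, 9, 1, 5, 7, 9, 1, 5, 7, 9, 1, 5, 7, 9, 1, 6, 0, 8, 6, 4, 0, 8, 6, 4, 0, 8, 6, 4, 0, 8, 6, 4, 0, 8, 6, 4, 7, 5, 7, 9, 1, 5]
def rw829 : List ℕ := [7, 9, 7, 9, 7, 9, 7, 9, 7, 9, 7, 9, 7, 9, 7, 9]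
def rw830 : List ℕ := [7, 9, 1, 5, 7, 9, 1, 5, 7, 9, 1, 5, 7, 9, 1, 5, 7, 9, 1, 3, 0, 8, 6, 4, 0, 8, 6, 4, 0, 8, 6, 4, 0, 8, 6, 4, 0, 8, 6, 4, 2, 5]
def rw831 : List ℕ := [7, 9, 1, 5, 7, 9, 1, 5, 7, 9, 1, 8, 0, 8, 6, 4, 0, 8, 6, 4, 0, 8, 6, 4, 0, 8, 6, 4, 0, 8, 6, 4, 9, 5, 7, 9, 1, 5, 7, 9, 1, 5]
def rw832 : List ℕ := [7, 9, 1, 6, 0, 8, 6, 4, 0, 8, 6, 4, 0, 8, 6, 4, 0, 8, 6, 4, 0, 8, 6, 4, 7, 5, 7, 9, 1, 5, 7, 9, 1, 5, 7, 9, 1, 5, 7, 9, 1, 5]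
def rw833 : List ℕ := [7, 9, 7, 8, 6, 8, 10, 1, 8, 10, 0, 6, 9, 11, 0, 6, 8, 6, 8, 10, 8, 7, 1, 11, 9, 0, 11, 9]
def rw834 : List ℕ := [7, 9, 1, 2, 0, 8, 6, 4, 0, 8, 6, 4, 0, 8, 6, 4, 0, 8, 6, 4, 0, 8, 6, 4, 3, 5, 7, 9, 1, 5, 7, 9, 1, 5, 7, 9, 1, 5, 7, 9, 1, 5]
def rw835 : List ℕ := [7, 9, 1, 5, 7, 9, 1, 5, 7, 9, 1, 5, 7, 9, 1, 8, 0, 8, 6, 4, 0, 8, 6, 4, 0, 8, 6, 4, 0, 8, 6, 4, 0, 8, 6, 4, 9, 5, 7, 9, 1, 5]
def rw836 : List ℕ := [7, 9, 1, 5, 7, 9, 1, 5, 7, 9, 1, 6, 0, 8, 6, 4, 0, 8, 6, 4, 0, 8, 6, 4, 0, 8, 6, 4, 0, 8, 6, 4, 7, 5, 7, 9, 1, 5, 7, 9, 1, 5]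
def rw837 : List ℕ := [7, 11, 6, 0, 7, 4, 0, 5, 6, 0, 7, 4, 0, 10, 1, 5, 6, 1, 7, 4, 1, 5, 6, 1]
def rw838 : List ℕ := [7, 9, 1, 5, 7, 9, 1, 1, 0, 8, 6, 4, 0, 8, 6, 4, 0, 8, 6, 4, 0, 8, 6, 4, 0, 8, 6, 4, 0, 5, 7, 9, 1, 5, 7, 9, 1, 5, 7, 9, 1, 5]
def rw839 : List ℕ := [7, 9, 1, 5, 7, 9, 1, 5, 7, 9, 1, 5, 7, 9, 1, 5, 7, 9, 1, 0, 0, 8, 6, 4, 0, 8, 6, 4, 0, 8, 6, 4, 0, 8, 6, 4, 0, 8, 6, 4, 1, 5]
def rw840 : List ℕ := [7, 9, 1, 5, 7, 9, 1, 5, 7, 9, 1, 5, 7, 9, 1, 5, 7, 9, 1, 12, 0, 8, 6, 4, 0, 8, 6, 4, 0, 8, 6, 4, 0, 8, 6, 4, 0, 8, 6, 4, 13, 5]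
def rw841 : List ℕ := [7, 4, 0, 5, 6, 0, 7, 4, 0, 10, 1, 5, 6, 1, 7, 4, 1, 5, 6, 1, 7, 11, 6, 0]
def rw842 : List ℕ := [7, 9, 1, 0, 0, 8, 6, 4, 0, 8, 6, 4, 0, 8, 6, 4, 0, 8, 6, 4, 0, 8, 6, 4, 1, 5, 7, 9, 1, 5, 7, 9, 1, 5, 7, 9, 1, 5, 7, 9, 1, 5]
def rw843 : List ℕ := [7, 9, 1, 5, 7, 9, 1, 5, 7, 9, 1, 1, 0, 8, 6, 4, 0, 8, 6, 4, 0, 8, 6, 4, 0, 8, 6, 4, 0, 8, 6, 4, 0, 5, 7, 9, 1, 5, 7, 9, 1, 5]
def rw844 : List ℕ := [7, 9, 7, 9, 7, 9, 7, 9, 7, 9, 7, 9, 7, 9, 7, 9]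
def rw845 : List ℕ := [7, 9, 1, 8, 0, 8, 6, 4, 0, 8, 6, 4, 0, 8, 6, 4, 0, 8, 6, 4, 0, 8, 6, 4, 9, 5, 7, 9, 1, 5, 7, 9, 1, 5, 7, 9, 1, 5, 7, 9, 1, 5]
def rw846 : List ℕ := [7, 9, 1, 10, 0, 8, 6, 4, 0, 8, 6, 4, 0, 8, 6, 4, 0, 8, 6, 4, 0, 8, 6, 4, 11, 5, 7, 9, 1, 5, 7, 9, 1, 5, 7, 9, 1, 5, 7, 9, 1, 5]
def rw847 : List ℕ := [7, 9, 1, 5, 7, 9, 1, 5, 7, 9, 1, 5, 7, 9, 1, 5, 7, 9, 1, 2, 0, 8, 6, 4, 0, 8, 6, 4, 0, 8, 6, 4, 0, 8, 6, 4, 0, 8, 6, 4, 3, 5]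
def rw848 : List ℕ := [7, 9, 1, 5, 7, 9, 1, 5, 7, 9, 1, 5, 7, 9, 1, 5, 7, 9, 1, 1, 0, 8, 6, 4, 0, 8, 6, 4, 0, 8, 6, 4, 0, 8, 6, 4, 0, 8, 6, 4, 0, 5]
def rw849 : List ℕ := [7, 4, 0, 12, 1, 5, 6, 1, 7, 4, 1, 5, 6, 1, 7, 13, 6, 0, 7, 4, 0, 5, 6, 0]
def rw850 : List ℕ := [7, 9, 1, 5, 7, 9, 1, 5, 7, 9, 1, 2, 0, 8, 6, 4, 0, 8, 6, 4, 0, 8, 6, 4, 0, 8, 6, 4, 0, 8, 6, 4, 3, 5, 7, 9, 1, 5, 7, 9, 1, 5]
def rw851 : List ℕ := [7, 4, 0, 8, 1, 5, 6, 1, 7, 4, 1, 5, 6, 1, 7, 9, 6, 0, 7, 4, 0, 5, 6, 0]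
def rw852 : List ℕ := [7, 9, 1, 5, 7, 9, 1, 8, 0, 8, 6, 4, 0, 8, 6, 4, 0, 8, 6, 4, 0, 8, 6, 4, 0, 8, 6, 4, 9, 5, 7, 9, 1, 5, 7, 9, 1, 5, 7, 9, 1, 5]
def rw853 : List ℕ := [7, 9, 1, 5, 7, 9, 1, 5, 7, 9, 1, 5, 7, 9, 1, 5, 7, 9, 1, 8, 0, 8, 6, 4, 0, 8, 6, 4, 0, 8, 6, 4, 0, 8, 6, 4, 0, 8, 6, 4, 9, 5]
def rw854 : List ℕ := [7, 9, 1, 5, 7, 9, 1, 5, 7, 9, 1, 4, 0, 8, 6, 4, 0, 8, 6, 4, 0, 8, 6, 4, 0, 8, 6, 4, 0, 8, 6, 4, 5, 5, 7, 9, 1, 5, 7, 9, 1, 5]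
def rw855 : List ℕ := [7, 9, 1, 5, 7, 9, 1, 5, 7, 9, 1, 5, 7, 9, 1, 2, 0, 8, 6, 4, 0, 8, 6, 4, 0, 8, 6, 4, 0, 8, 6, 4, 0, 8, 6, 4, 3, 5, 7, 9, 1, 5]
def rw856 : List ℕ := [7, 9, 1, 5, 7, 9, 1, 5, 7, 9, 1, 10, 0, 8, 6, 4, 0, 8, 6, 4, 0, 8, 6, 4, 0, 8, 6, 4, 0, 8, 6, 4, 11, 5, 7, 9, 1, 5, 7, 9, 1, 5]
def rw857 : List ℕ := [7, 9, 1, 5, 7, 9, 1, 5, 7, 9, 1, 5, 7, 9, 1, 1, 0, 8, 6, 4, 0, 8, 6, 4, 0, 8, 6, 4, 0, 8, 6, 4, 0, 8, 6, 4, 0, 5, 7, 9, 1, 5]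
def rw858 : List ℕ := [7, 9, 1, 5, 7, 9, 1, 10, 0, 8, 6, 4, 0, 8, 6, 4, 0, 8, 6, 4, 0, 8, 6, 4, 0, 8, 6, 4, 11, 5, 7, 9, 1, 5, 7, 9, 1, 5, 7, 9, 1, 5]
def rw859 : List ℕ := [7, 9, 1, 5, 7, 9, 1, 4, 0, 8, 6, 4, 0, 8, 6, 4, 0, 8, 6, 4, 0, 8, 6, 4, 0, 8, 6, 4, 5, 5, 7, 9, 1, 5, 7, 9, 1, 5, 7, 9, 1, 5]
def rw860 : List ℕ := [7, 9, 1, 5, 7, 9, 1, 0, 0, 8, 6, 4, 0, 8, 6, 4, 0, 8, 6, 4, 0, 8, 6, 4, 0, 8, 6, 4, 1, 5, 7, 9, 1, 5, 7, 9, 1, 5, 7, 9, 1, 5]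
def rw861 : List ℕ := [7, 4, 0, 5, 6, 0, 7, 4, 0, 4, 1, 5, 6, 1, 7, 4, 1, 5, 6, 1, 7, 5, 6, 0]
def rw862 : List ℕ := [7, 4, 0, 10, 1, 5, 6, 1, 7, 4, 1, 5, 6, 1, 7, 11, 6, 0, 7, 4, 0, 5, 6, 0]
def rw863 : List ℕ := [7, 4, 1, 5, 6, 1, 7, 5, 6, 0, 7, 4, 0, 5, 6, 0, 7, 4, 0, 4, 1, 5, 6, 1]
def rw864 : List ℕ := [7, 9, 1, 5, 7, 9, 1, 5, 7, 9, 1, 5, 7, 9, 1, 10, 0, 8, 6, 4, 0, 8, 6, 4, 0, 8, 6, 4, 0, 8, 6, 4, 0, 8, 6, 4, 11, 5, 7, 9, 1, 5]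
def rw865 : List ℕ := [8, 8]
def rw866 : List ℕ := [8, 7, 1, 7, 1, 8, 0, 6, 0, 6]
def rw867 : List ℕ := [8, 2, 8, 2]
def rw868 : List ℕ := [8, 4, 8, 4]
def rw869 : List ℕ := [8, 4, 8, 4]
def rw870 : List ℕ := [8, 2, 8, 2]
def rw871 : List ℕ := [8, 12, 8, 12]
def rw872 : List ℕ := [8, 6, 0, 7, 4, 0, 5, 6, 0, 7, 4, 0, 9, 1, 5, 6, 1, 7, 4, 1, 5, 6, 1, 7]
def rw873 : List ℕ := [8, 6, 8, 6, 8, 6, 8, 6, 8, 6, 8, 6, 8, 6, 8, 6]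
def rw874 : List ℕ := [8, 6, 9, 1, 9, 1, 6, 0, 8, 0]
def rw875 : List ℕ := [8, 0, 8, 6, 9, 1, 9, 1, 6, 0]
def rw876 : List ℕ := [8, 6, 8, 6, 8, 6, 8, 6, 8, 6, 8, 6, 8, 6, 8, 6]
def rw877 : List ℕ := [8, 6, 8, 6, 8, 6, 8, 6, 3, 13]
def rw878 : List ℕ := [8, 10, 8, 10, 8, 10]
def rw879 : List ℕ := [8, 6, 8, 6, 8, 6, 3, 13, 8, 6]
def rw880 : List ℕ := [8, 6, 3, 13, 8, 6, 8, 6, 8, 6]
def rw881 : List ℕ := [8, 0, 6, 0, 6, 8, 7, 1, 7, 1]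
def rw882 : List ℕ := [8, 10, 8, 10, 8, 10]
def rw883 : List ℕ := [8, 10, 8, 10, 8, 10]
def rw884 : List ℕ := [8, 0, 9, 10, 0, 13, 1, 11, 8, 1, 9, 10, 1, 11, 8, 1, 9, 12, 8, 0, 9, 10, 0, 11]
def rw885 : List ℕ := [8, 1, 9, 10, 1, 11, 8, 1, 9, 2, 8, 0, 9, 10, 0, 11, 8, 0, 9, 10, 0, 3, 1, 11]
def rw886 : List ℕ := [8, 0, 9, 10, 0, 11, 8, 0, 9, 10, 0, 0, 1, 11, 8, 1, 9, 10, 1, 11, 8, 1, 9, 1]
def rw887 : List ℕ := [8, 1, 9, 10, 1, 11, 8, 1, 9, 12, 8, 0, 9, 10, 0, 11, 8, 0, 9, 10, 0, 13, 1, 11]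
def rw888 : List ℕ := [8, 12, 8, 12]
def rw889 : List ℕ := [8, 1, 9, 2, 8, 0, 9, 10, 0, 11, 8, 0, 9, 10, 0, 3, 1, 11, 8, 1, 9, 10, 1, 11]
def rw890 : List ℕ := [8, 1, 9, 4, 8, 0, 9, 10, 0, 11, 8, 0, 9, 10, 0, 5, 1, 11, 8, 1, 9, 10, 1, 11]
def rw891 : List ℕ := [8, 1, 9, 10, 1, 11, 8, 1, 9, 0, 8, 0, 9, 10, 0, 11, 8, 0, 9, 10, 0, 1, 1, 11]
def rw892 : List ℕ := [8, 1, 11, 8, 1, 9, 10, 1, 11, 8, 1, 9, 9, 8, 0, 9, 10, 0, 11, 8, 0, 9, 10, 0]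
def rw893 : List ℕ := [8, 7, 1, 11, 9, 0, 11, 9, 7, 9, 6, 8, 6, 8, 10, 1, 8, 10, 0, 6, 9, 11, 9, 7, 9, 7, 1, 10]
def rw894 : List ℕ := [8, 6, 8, 6, 3, 13, 8, 6, 8, 6]
def rw895 : List ℕ := [8, 6, 8, 10, 8, 7, 1, 11, 9, 0, 11, 9, 7, 9, 7, 8, 6, 8, 10, 1, 8, 10, 0, 6, 9, 11, 0, 6]
def rw896 : List ℕ := [8, 1, 9, 10, 1, 11, 8, 1, 9, 1, 8, 0, 9, 10, 0, 11, 8, 0, 9, 10, 0, 0, 1, 11]
def rw897 : List ℕ := [8, 10, 1, 8, 10, 0, 6, 9, 11, 9, 7, 9, 7, 1, 10, 8, 7, 1, 11, 9, 0, 11, 9, 7, 9, 6, 8, 6]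
def rw898 : List ℕ := [8, 1, 5, 6, 1, 7, 4, 1, 5, 6, 1, 7, 9, 6, 0, 7, 4, 0, 5, 6, 0, 7, 4, 0]
def rw899 : List ℕ := [8, 1, 9, 1, 8, 0, 9, 10, 0, 11, 8, 0, 9, 10, 0, 0, 1, 11, 8, 1, 9, 10, 1, 11]
def rw900 : List ℕ := [8, 0, 9, 10, 0, 1, 1, 11, 8, 1, 9, 10, 1, 11, 8, 1, 9, 0, 8, 0, 9, 10, 0, 11]
def rw901 : List ℕ := [8, 0, 9, 10, 0, 11, 8, 0, 9, 10, 0, 13, 1, 11, 8, 1, 9, 10, 1, 11, 8, 1, 9, 12]
def rw902 : List ℕ := [8, 0, 9, 10, 0, 11, 8, 0, 9, 10, 0, 3, 1, 11, 8, 1, 9, 10, 1, 11, 8, 1, 9, 2]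
def rw903 : List ℕ := [8, 0, 9, 10, 0, 3, 1, 11, 8, 1, 9, 10, 1, 11, 8, 1, 9, 2, 8, 0, 9, 10, 0, 11]
def rw904 : List ℕ := [8, 0, 9, 10, 0, 11, 8, 0, 9, 10, 0, 11, 1, 11, 8, 1, 9, 10, 1, 11, 8, 1, 9, 10]
def rw905 : List ℕ := [8, 6, 4, 0, 8, 6, 4, 0, 8, 6, 4, 0, 8, 6, 4, 0, 8, 6, 4, 5, 5, 7, 9, 1, 5, 7, 9, 1, 5, 7, 9, 1, 5, 7, 9, 1, 5, 7, 9, 1, 4, 0]
def rw906 : List ℕ := [8, 1, 9, 0, 8, 0, 9, 10, 0, 11, 8, 0, 9, 10, 0, 1, 1, 11, 8, 1, 9, 10, 1, 11]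
def rw907 : List ℕ := [8, 0, 9, 10, 0, 0, 1, 11, 8, 1, 9, 10, 1, 11, 8, 1, 9, 1, 8, 0, 9, 10, 0, 11]
def rw908 : List ℕ := [8, 7, 9, 1, 9, 1, 7, 0, 8, 0]
def rw909 : List ℕ := [8, 0, 9, 10, 0, 11, 8, 0, 9, 10, 0, 1, 1, 11, 8, 1, 9, 10, 1, 11, 8, 1, 9, 0]
def rw910 : List ℕ := [8, 0, 9, 10, 0, 10, 1, 11, 8, 1, 9, 10, 1, 11, 8, 1, 9, 11, 8, 0, 9, 10, 0, 11]
def rw911 : List ℕ := [8, 1, 9, 10, 8, 0, 9, 10, 0, 11, 8, 0, 9, 10, 0, 11, 1, 11, 8, 1, 9, 10, 1, 11]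
def rw912 : List ℕ := [8, 0, 9, 10, 0, 11, 8, 0, 9, 10, 0, 7, 1, 11, 8, 1, 9, 10, 1, 11, 8, 1, 9, 6]
def rw913 : List ℕ := [8, 0, 9, 10, 0, 11, 8, 0, 9, 10, 0, 6, 1, 11, 8, 1, 9, 10, 1, 11, 8, 1, 9, 7]
def rw914 : List ℕ := [8, 0, 9, 10, 0, 11, 8, 0, 9, 10, 0, 9, 1, 11, 8, 1, 9, 10, 1, 11, 8, 1, 9, 8]
def rw915 : List ℕ := [8, 0, 9, 10, 0, 11, 8, 0, 9, 10, 0, 5, 1, 11, 8, 1, 9, 10, 1, 11, 8, 1, 9, 4]
def rw916 : List ℕ := [8, 10, 0, 6, 9, 11, 9, 7, 9, 7, 1, 10, 8, 7, 1, 11, 9, 0, 11, 9, 7, 9, 6, 8, 6, 8, 10, 1]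
def rw917 : List ℕ := [8, 6, 4, 1, 5, 7, 9, 1, 5, 7, 9, 1, 5, 7, 9, 1, 5, 7, 9, 1, 5, 7, 9, 1, 0, 0, 8, 6, 4, 0, 8, 6, 4, 0, 8, 6, 4, 0, 8, 6, 4, 0]
def rw918 : List ℕ := [8, 6, 4, 0, 8, 6, 4, 1, 5, 7, 9, 1, 5, 7, 9, 1, 5, 7, 9, 1, 5, 7, 9, 1, 5, 7, 9, 1, 0, 0, 8, 6, 4, 0, 8, 6, 4, 0, 8, 6, 4, 0]
def rw919 : List ℕ := [8, 6, 4, 0, 8, 6, 4, 0, 8, 6, 4, 5, 5, 7, 9, 1, 5, 7, 9, 1, 5, 7, 9, 1, 5, 7, 9, 1, 5, 7, 9, 1, 4, 0, 8, 6, 4, 0, 8, 6, 4, 0]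
def rw920 : List ℕ := [8, 1, 9, 8, 8, 0, 9, 10, 0, 11, 8, 0, 9, 10, 0, 9, 1, 11, 8, 1, 9, 10, 1, 11]
def rw921 : List ℕ := [8, 0, 9, 10, 0, 11, 1, 11, 8, 1, 9, 10, 1, 11, 8, 1, 9, 10, 8, 0, 9, 10, 0, 11]
def rw922 : List ℕ := [8, 0, 9, 10, 0, 7, 1, 11, 8, 1, 9, 10, 1, 11, 8, 1, 9, 6, 8, 0, 9, 10, 0, 11]
def rw923 : List ℕ := [8, 1, 9, 10, 1, 11, 8, 1, 9, 10, 8, 0, 9, 10, 0, 11, 8, 0, 9, 10, 0, 11, 1, 11]
def rw924 : List ℕ := [8, 0, 9, 10, 0, 11, 8, 0, 9, 10, 0, 12, 1, 11, 8, 1, 9, 10, 1, 11, 8, 1, 9, 13]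
def rw925 : List ℕ := [8, 0, 9, 10, 0, 9, 1, 11, 8, 1, 9, 10, 1, 11, 8, 1, 9, 8, 8, 0, 9, 10, 0, 11]
def rw926 : List ℕ := [8, 6, 8, 6, 8, 6, 8, 6, 8, 6, 8, 6, 8, 6, 8, 6]
def rw927 : List ℕ := [8, 1, 9, 10, 1, 11, 8, 1, 9, 8, 8, 0, 9, 10, 0, 11, 8, 0, 9, 10, 0, 9, 1, 11]
def rw928 : List ℕ := [8, 0, 9, 10, 0, 11, 8, 0, 9, 10, 0, 10, 1, 11, 8, 1, 9, 10, 1, 11, 8, 1, 9, 11]
def rw929 : List ℕ := [8, 10, 0, 6, 9, 11, 0, 6, 8, 6, 8, 10, 8, 7, 1, 11, 9, 0, 11, 9, 7, 9, 7, 8, 6, 8, 10, 1]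
def rw930 : List ℕ := [8, 6, 4, 13, 5, 7, 9, 1, 5, 7, 9, 1, 5, 7, 9, 1, 5, 7, 9, 1, 5, 7, 9, 1, 12, 0, 8, 6, 4, 0, 8, 6, 4, 0, 8, 6, 4, 0, 8, 6, 4, 0]
def rw931 : List ℕ := [8, 0, 8, 6, 4, 0, 8, 6, 4, 0, 8, 6, 4, 0, 8, 6, 4, 0, 8, 6, 4, 9, 5, 7, 9, 1, 5, 7, 9, 1, 5, 7, 9, 1, 5, 7, 9, 1, 5, 7, 9, 1]
def rw932 : List ℕ := [8, 6, 4, 0, 8, 6, 4, 0, 8, 6, 4, 0, 8, 6, 4, 0, 8, 6, 4, 7, 5, 7, 9, 1, 5, 7, 9, 1, 5, 7, 9, 1, 5, 7, 9, 1, 5, 7, 9, 1, 6, 0]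
def rw933 : List ℕ := [8, 0, 9, 10, 0, 11, 8, 0, 9, 10, 0, 2, 1, 11, 8, 1, 9, 10, 1, 11, 8, 1, 9, 3]
def rw934 : List ℕ := [8, 6, 4, 0, 8, 6, 4, 0, 8, 6, 4, 0, 8, 6, 4, 0, 5, 7, 9, 1, 5, 7, 9, 1, 5, 7, 9, 1, 5, 7, 9, 1, 5, 7, 9, 1, 1, 0, 8, 6, 4, 0]
def rw935 : List ℕ := [8, 6, 4, 0, 5, 7, 9, 1, 5, 7, 9, 1, 5, 7, 9, 1, 5, 7, 9, 1, 5, 7, 9, 1, 1, 0, 8, 6, 4, 0, 8, 6, 4, 0, 8, 6, 4, 0, 8, 6, 4, 0]
def rw936 : List ℕ := [8, 5, 7, 9, 1, 5, 7, 9, 1, 5, 7, 9, 1, 5, 7, 9, 1, 5, 7, 9, 1, 9, 0, 8, 6, 4, 0, 8, 6, 4, 0, 8, 6, 4, 0, 8, 6, 4, 0, 8, 6, 4]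
def rw937 : List ℕ := [8, 1, 9, 10, 1, 11, 8, 1, 9, 4, 8, 0, 9, 10, 0, 11, 8, 0, 9, 10, 0, 5, 1, 11]
def rw938 : List ℕ := [8, 6, 8, 6, 8, 6, 8, 6, 8, 6, 8, 6, 8, 6, 8, 6]
def rw939 : List ℕ := [8, 0, 9, 10, 0, 5, 1, 11, 8, 1, 9, 10, 1, 11, 8, 1, 9, 4, 8, 0, 9, 10, 0, 11]
def rw940 : List ℕ := [8, 1, 9, 10, 1, 11, 8, 1, 9, 6, 8, 0, 9, 10, 0, 11, 8, 0, 9, 10, 0, 7, 1, 11]
def rw941 : List ℕ := [8, 0, 9, 10, 0, 12, 1, 11, 8, 1, 9, 10, 1, 11, 8, 1, 9, 13, 8, 0, 9, 10, 0, 11]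
def rw942 : List ℕ := [8, 10, 8, 7, 1, 11, 9, 0, 11, 9, 7, 9, 7, 8, 6, 8, 10, 1, 8, 10, 0, 6, 9, 11, 0, 6, 8, 6]
def rw943 : List ℕ := [8, 6, 8, 6, 8, 6, 8, 6, 8, 6, 8, 6, 8, 6, 8, 6]
def rw944 : List ℕ := [8, 6, 4, 0, 8, 6, 4, 0, 8, 6, 4, 0, 8, 6, 4, 5, 5, 7, 9, 1, 5, 7, 9, 1, 5, 7, 9, 1, 5, 7, 9, 1, 5, 7, 9, 1, 4, 0, 8, 6, 4, 0]
def rw945 : List ℕ := [8, 6, 4, 0, 8, 6, 4, 0, 8, 6, 4, 0, 8, 6, 4, 7, 5, 7, 9, 1, 5, 7, 9, 1, 5, 7, 9, 1, 5, 7, 9, 1, 5, 7, 9, 1, 6, 0, 8, 6, 4, 0]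
def rw946 : List ℕ := [8, 6, 4, 0, 8, 6, 4, 5, 5, 7, 9, 1, 5, 7, 9, 1, 5, 7, 9, 1, 5, 7, 9, 1, 5, 7, 9, 1, 4, 0, 8, 6, 4, 0, 8, 6, 4, 0, 8, 6, 4, 0]
def rw947 : List ℕ := [8, 1, 9, 5, 8, 0, 9, 10, 0, 11, 8, 0, 9, 10, 0, 4, 1, 11, 8, 1, 9, 10, 1, 11]
def rw948 : List ℕ := [8, 1, 9, 12, 8, 0, 9, 10, 0, 11, 8, 0, 9, 10, 0, 13, 1, 11, 8, 1, 9, 10, 1, 11]
def rw949 : List ℕ := [8, 0, 8, 7, 9, 1, 9, 1, 7, 0]
def rw950 : List ℕ := [8, 6, 4, 0, 8, 6, 4, 0, 8, 6, 4, 1, 5, 7, 9, 1, 5, 7, 9, 1, 5, 7, 9, 1, 5, 7, 9, 1, 5, 7, 9, 1, 0, 0, 8, 6, 4, 0, 8, 6, 4, 0]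
def rw951 : List ℕ := [8, 6, 8, 6, 8, 6, 8, 6, 8, 6, 8, 6, 8, 6, 8, 6]
def rw952 : List ℕ := [8, 6, 4, 0, 8, 6, 4, 0, 8, 6, 4, 0, 5, 7, 9, 1, 5, 7, 9, 1, 5, 7, 9, 1, 5, 7, 9, 1, 5, 7, 9, 1, 1, 0, 8, 6, 4, 0, 8, 6, 4, 0]
def rw953 : List ℕ := [8, 1, 9, 6, 8, 0, 9, 10, 0, 11, 8, 0, 9, 10, 0, 7, 1, 11, 8, 1, 9, 10, 1, 11]
def rw954 : List ℕ := [8, 6, 4, 0, 8, 6, 4, 0, 8, 6, 4, 0, 8, 6, 4, 11, 5, 7, 9, 1, 5, 7, 9, 1, 5, 7, 9, 1, 5, 7, 9, 1, 5, 7, 9, 1, 10, 0, 8, 6, 4, 0]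
def rw955 : List ℕ := [8, 6, 8, 10, 1, 8, 10, 0, 6, 9, 11, 0, 6, 8, 6, 8, 10, 8, 7, 1, 11, 9, 0, 11, 9, 7, 9, 7]
def rw956 : List ℕ := [8, 6, 4, 0, 8, 6, 4, 0, 8, 6, 4, 13, 5, 7, 9, 1, 5, 7, 9, 1, 5, 7, 9, 1, 5, 7, 9, 1, 5, 7, 9, 1, 12, 0, 8, 6, 4, 0, 8, 6, 4, 0]
def rw957 : List ℕ := [8, 6, 4, 0, 8, 6, 4, 9, 5, 7, 9, 1, 5, 7, 9, 1, 5, 7, 9, 1, 5, 7, 9, 1, 5, 7, 9, 1, 8, 0, 8, 6, 4, 0, 8, 6, 4, 0, 8, 6, 4, 0]
def rw958 : List ℕ := [8, 6, 4, 0, 8, 6, 4, 7, 5, 7, 9, 1, 5, 7, 9, 1, 5, 7, 9, 1, 5, 7, 9, 1, 5, 7, 9, 1, 6, 0, 8, 6, 4, 0, 8, 6, 4, 0, 8, 6, 4, 0]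
def rw959 : List ℕ := [8, 6, 4, 0, 8, 6, 4, 0, 8, 6, 4, 0, 8, 6, 4, 3, 5, 7, 9, 1, 5, 7, 9, 1, 5, 7, 9, 1, 5, 7, 9, 1, 5, 7, 9, 1, 2, 0, 8, 6, 4, 0]
def rw960 : List ℕ := [8, 6, 4, 5, 5, 7, 9, 1, 5, 7, 9, 1, 5, 7, 9, 1, 5, 7, 9, 1, 5, 7, 9, 1, 4, 0, 8, 6, 4, 0, 8, 6, 4, 0, 8, 6, 4, 0, 8, 6, 4, 0]
def rw961 : List ℕ := [8, 1, 9, 11, 8, 0, 9, 10, 0, 11, 8, 0, 9, 10, 0, 10, 1, 11, 8, 1, 9, 10, 1, 11]
def rw962 : List ℕ := [8, 7, 1, 11, 9, 0, 11, 9, 7, 9, 7, 8, 6, 8, 10, 1, 8, 10, 0, 6, 9, 11, 0, 6, 8, 6, 8, 10]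
def rw963 : List ℕ := [8, 6, 4, 0, 8, 6, 4, 0, 5, 7, 9, 1, 5, 7, 9, 1, 5, 7, 9, 1, 5, 7, 9, 1, 5, 7, 9, 1, 1, 0, 8, 6, 4, 0, 8, 6, 4, 0, 8, 6, 4, 0]
def rw964 : List ℕ := [8, 6, 4, 0, 8, 6, 4, 0, 8, 6, 4, 0, 8, 6, 4, 1, 5, 7, 9, 1, 5, 7, 9, 1, 5, 7, 9, 1, 5, 7, 9, 1, 5, 7, 9, 1, 0, 0, 8, 6, 4, 0]
def rw965 : List ℕ := [8, 6, 4, 0, 8, 6, 4, 0, 8, 6, 4, 9, 5, 7, 9, 1, 5, 7, 9, 1, 5, 7, 9, 1, 5, 7, 9, 1, 5, 7, 9, 1, 8, 0, 8, 6, 4, 0, 8, 6, 4, 0]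
def rw966 : List ℕ := [8, 1, 9, 7, 8, 0, 9, 10, 0, 11, 8, 0, 9, 10, 0, 6, 1, 11, 8, 1, 9, 10, 1, 11]
def rw967 : List ℕ := [8, 6, 4, 3, 5, 7, 9, 1, 5, 7, 9, 1, 5, 7, 9, 1, 5, 7, 9, 1, 5, 7, 9, 1, 2, 0, 8, 6, 4, 0, 8, 6, 4, 0, 8, 6, 4, 0, 8, 6, 4, 0]
def rw968 : List ℕ := [8, 0, 9, 10, 0, 2, 1, 11, 8, 1, 9, 10, 1, 11, 8, 1, 9, 3, 8, 0, 9, 10, 0, 11]
def rw969 : List ℕ := [8, 6, 4, 0, 8, 6, 4, 3, 5, 7, 9, 1, 5, 7, 9, 1, 5, 7, 9, 1, 5, 7, 9, 1, 5, 7, 9, 1, 2, 0, 8, 6, 4, 0, 8, 6, 4, 0, 8, 6, 4, 0]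
def rw970 : List ℕ := [8, 0, 9, 10, 0, 8, 1, 11, 8, 1, 9, 10, 1, 11, 8, 1, 9, 9, 8, 0, 9, 10, 0, 11]
def rw971 : List ℕ := [8, 0, 9, 10, 0, 4, 1, 11, 8, 1, 9, 10, 1, 11, 8, 1, 9, 5, 8, 0, 9, 10, 0, 11]
def rw972 : List ℕ := [8, 6, 4, 0, 8, 6, 4, 11, 5, 7, 9, 1, 5, 7, 9, 1, 5, 7, 9, 1, 5, 7, 9, 1, 5, 7, 9, 1, 10, 0, 8, 6, 4, 0, 8, 6, 4, 0, 8, 6, 4, 0]
def rw973 : List ℕ := [8, 6, 8, 6, 8, 6, 8, 6, 8, 6, 8, 6, 8, 6, 8, 6]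
def rw974 : List ℕ := [8, 1, 9, 10, 1, 11, 8, 1, 9, 9, 8, 0, 9, 10, 0, 11, 8, 0, 9, 10, 0, 8, 1, 11]
def rw975 : List ℕ := [8, 6, 4, 0, 8, 6, 4, 0, 8, 6, 4, 3, 5, 7, 9, 1, 5, 7, 9, 1, 5, 7, 9, 1, 5, 7, 9, 1, 5, 7, 9, 1, 2, 0, 8, 6, 4, 0, 8, 6, 4, 0]
def rw976 : List ℕ := [8, 6, 4, 11, 5, 7, 9, 1, 5, 7, 9, 1, 5, 7, 9, 1, 5, 7, 9, 1, 5, 7, 9, 1, 10, 0, 8, 6, 4, 0, 8, 6, 4, 0, 8, 6, 4, 0, 8, 6, 4, 0]
def rw977 : List ℕ := [8, 6, 4, 0, 8, 6, 4, 0, 8, 6, 4, 7, 5, 7, 9, 1, 5, 7, 9, 1, 5, 7, 9, 1, 5, 7, 9, 1, 5, 7, 9, 1, 6, 0, 8, 6, 4, 0, 8, 6, 4, 0]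
def rw978 : List ℕ := [8, 1, 9, 10, 1, 11, 8, 1, 9, 5, 8, 0, 9, 10, 0, 11, 8, 0, 9, 10, 0, 4, 1, 11]
def rw979 : List ℕ := [8, 6, 8, 6, 8, 6, 8, 6, 8, 6, 8, 6, 8, 6, 8, 6]
def rw980 : List ℕ := [8, 6, 4, 0, 8, 6, 4, 0, 8, 6, 4, 0, 8, 6, 4, 0, 8, 6, 4, 3, 5, 7, 9, 1, 5, 7, 9, 1, 5, 7, 9, 1, 5, 7, 9, 1, 5, 7, 9, 1, 2, 0]
def rw981 : List ℕ := [8, 6, 4, 0, 8, 6, 4, 0, 8, 6, 4, 0, 8, 6, 4, 13, 5, 7, 9, 1, 5, 7, 9, 1, 5, 7, 9, 1, 5, 7, 9, 1, 5, 7, 9, 1, 12, 0, 8, 6, 4, 0]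
def rw982 : List ℕ := [8, 6, 4, 9, 5, 7, 9, 1, 5, 7, 9, 1, 5, 7, 9, 1, 5, 7, 9, 1, 5, 7, 9, 1, 8, 0, 8, 6, 4, 0, 8, 6, 4, 0, 8, 6, 4, 0, 8, 6, 4, 0]
def rw983 : List ℕ := [8, 1, 9, 10, 1, 11, 8, 1, 9, 11, 8, 0, 9, 10, 0, 11, 8, 0, 9, 10, 0, 10, 1, 11]
def rw984 : List ℕ := [8, 6, 8, 10, 1, 8, 10, 0, 6, 9, 11, 9, 7, 9, 7, 1, 10, 8, 7, 1, 11, 9, 0, 11, 9, 7, 9, 6]
def rw985 : List ℕ := [8, 1, 9, 3, 8, 0, 9, 10, 0, 11, 8, 0, 9, 10, 0, 2, 1, 11, 8, 1, 9, 10, 1, 11]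
def rw986 : List ℕ := [8, 6, 4, 7, 5, 7, 9, 1, 5, 7, 9, 1, 5, 7, 9, 1, 5, 7, 9, 1, 5, 7, 9, 1, 6, 0, 8, 6, 4, 0, 8, 6, 4, 0, 8, 6, 4, 0, 8, 6, 4, 0]
def rw987 : List ℕ := [8, 6, 4, 0, 8, 6, 4, 0, 8, 6, 4, 0, 8, 6, 4, 9, 5, 7, 9, 1, 5, 7, 9, 1, 5, 7, 9, 1, 5, 7, 9, 1, 5, 7, 9, 1, 8, 0, 8, 6, 4, 0]
def rw988 : List ℕ := [8, 1, 9, 10, 1, 11, 8, 1, 9, 7, 8, 0, 9, 10, 0, 11, 8, 0, 9, 10, 0, 6, 1, 11]
def rw989 : List ℕ := [8, 6, 4, 0, 8, 6, 4, 2, 5, 7, 9, 1, 5, 7, 9, 1, 5, 7, 9, 1, 5, 7, 9, 1, 5, 7, 9, 1, 3, 0, 8, 6, 4, 0, 8, 6, 4, 0, 8, 6, 4, 0]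
def rw990 : List ℕ := [8, 6, 4, 0, 8, 6, 4, 0, 8, 6, 4, 0, 8, 6, 4, 0, 8, 6, 4, 1, 5, 7, 9, 1, 5, 7, 9, 1, 5, 7, 9, 1, 5, 7, 9, 1, 5, 7, 9, 1, 0, 0]
def rw991 : List ℕ := [8, 6, 4, 0, 8, 6, 4, 13, 5, 7, 9, 1, 5, 7, 9, 1, 5, 7, 9, 1, 5, 7, 9, 1, 5, 7, 9, 1, 12, 0, 8, 6, 4, 0, 8, 6, 4, 0, 8, 6, 4, 0]
def rw992 : List ℕ := [8, 0, 9, 10, 0, 11, 8, 0, 9, 10, 0, 4, 1, 11, 8, 1, 9, 10, 1, 11, 8, 1, 9, 5]
def rw993 : List ℕ := [8, 6, 4, 0, 8, 6, 4, 0, 8, 6, 4, 0, 8, 6, 4, 0, 8, 6, 4, 11, 5, 7, 9, 1, 5, 7, 9, 1, 5, 7, 9, 1, 5, 7, 9, 1, 5, 7, 9, 1, 10, 0]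
def rw994 : List ℕ := [8, 6, 4, 0, 8, 6, 4, 0, 8, 6, 4, 11, 5, 7, 9, 1, 5, 7, 9, 1, 5, 7, 9, 1, 5, 7, 9, 1, 5, 7, 9, 1, 10, 0, 8, 6, 4, 0, 8, 6, 4, 0]
def rw995 : List ℕ := [8, 1, 9, 9, 8, 0, 9, 10, 0, 11, 8, 0, 9, 10, 0, 8, 1, 11, 8, 1, 9, 10, 1, 11]
def rw996 : List ℕ := [8, 6, 4, 0, 8, 6, 4, 0, 8, 6, 4, 0, 8, 6, 4, 0, 8, 6, 4, 13, 5, 7, 9, 1, 5, 7, 9, 1, 5, 7, 9, 1, 5, 7, 9, 1, 5, 7, 9, 1, 12, 0]
def rw997 : List ℕ := [8, 6, 4, 0, 8, 6, 4, 0, 8, 6, 4, 0, 8, 6, 4, 0, 8, 6, 4, 0, 5, 7, 9, 1, 5, 7, 9, 1, 5, 7, 9, 1, 5, 7, 9, 1, 5, 7, 9, 1, 1, 0]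
def rw998 : List ℕ := [8, 6, 4, 0, 8, 6, 4, 0, 8, 6, 4, 2, 5, 7, 9, 1, 5, 7, 9, 1, 5, 7, 9, 1, 5, 7, 9, 1, 5, 7, 9, 1, 3, 0, 8, 6, 4, 0, 8, 6, 4, 0]
def rw999 : List ℕ := [8, 1, 9, 10, 1, 11, 8, 1, 9, 13, 8, 0, 9, 10, 0, 11, 8, 0, 9, 10, 0, 12, 1, 11]
def rw1000 : List ℕ := [8, 6, 4, 6, 5, 7, 9, 1, 5, 7, 9, 1, 5, 7, 9, 1, 5, 7, 9, 1, 5, 7, 9, 1, 7, 0, 8, 6, 4, 0, 8, 6, 4, 0, 8, 6, 4, 0, 8, 6, 4, 0]
def rw1001 : List ℕ := [8, 10, 1, 8, 10, 0, 6, 9, 11, 0, 6, 8, 6, 8, 10, 8, 7, 1, 11, 9, 0, 11, 9, 7, 9, 7, 8, 6]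
def rw1002 : List ℕ := [8, 6, 4, 0, 8, 6, 4, 0, 8, 6, 4, 0, 8, 6, 4, 0, 8, 6, 4, 12, 5, 7, 9, 1, 5, 7, 9, 1, 5, 7, 9, 1, 5, 7, 9, 1, 5, 7, 9, 1, 13, 0]
def rw1003 : List ℕ := [8, 6, 4, 0, 8, 6, 4, 0, 8, 6, 4, 0, 8, 6, 4, 0, 8, 6, 4, 9, 5, 7, 9, 1, 5, 7, 9, 1, 5, 7, 9, 1, 5, 7, 9, 1, 5, 7, 9, 1, 8, 0]
def rw1004 : List ℕ := [9, 11, 9, 11, 9, 11]
def rw1005 : List ℕ := [9, 9]
def rw1006 : List ℕ := [9, 1, 6, 0, 8, 0, 8, 6, 9, 1]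
def rw1007 : List ℕ := [9, 5, 9, 5]
def rw1008 : List ℕ := [9, 1, 5, 6, 1, 7, 4, 1, 5, 6, 1, 7, 8, 6, 0, 7, 4, 0, 5, 6, 0, 7, 4, 0]
def rw1009 : List ℕ := [9, 7, 1, 7, 1, 9, 0, 6, 0, 6]
def rw1010 : List ℕ := [9, 3, 9, 3]
def rw1011 : List ℕ := [9, 1, 9, 1, 6, 0, 8, 0, 8, 6]
def rw1012 : List ℕ := [9, 5, 9, 5]
def rw1013 : List ℕ := [9, 7, 9, 7, 9, 7, 9, 7, 9, 7, 9, 7, 9, 7, 9, 7]
def rw1014 : List ℕ := [9, 3, 9, 3]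
def rw1015 : List ℕ := [9, 11, 9, 11, 9, 11]
def rw1016 : List ℕ := [9, 1, 11, 8, 1, 9, 10, 1, 11, 8, 1, 9, 8, 8, 0, 9, 10, 0, 11, 8, 0, 9, 10, 0]
def rw1017 : List ℕ := [9, 10, 1, 11, 8, 1, 9, 12, 8, 0, 9, 10, 0, 11, 8, 0, 9, 10, 0, 13, 1, 11, 8, 1]
def rw1018 : List ℕ := [9, 11, 9, 11, 9, 11]
def rw1019 : List ℕ := [9, 0, 8, 0, 9, 10, 0, 11, 8, 0, 9, 10, 0, 1, 1, 11, 8, 1, 9, 10, 1, 11, 8, 1]
def rw1020 : List ℕ := [9, 12, 2, 7, 9, 7, 9, 7, 9, 7]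
def rw1021 : List ℕ := [9, 13, 9, 13]
def rw1022 : List ℕ := [9, 7, 9, 7, 9, 7, 9, 12, 2, 7]
def rw1023 : List ℕ := [9, 11, 0, 6, 8, 6, 8, 10, 8, 7, 1, 11, 9, 0, 11, 9, 7, 9, 7, 8, 6, 8, 10, 1, 8, 10, 0, 6]
def rw1024 : List ℕ := [9, 0, 11, 9, 7, 9, 6, 8, 6, 8, 10, 1, 8, 10, 0, 6, 9, 11, 9, 7, 9, 7, 1, 10, 8, 7, 1, 11]
def rw1025 : List ℕ := [9, 1, 7, 0, 8, 0, 8, 7, 9, 1]
def rw1026 : List ℕ := [9, 0, 6, 0, 6, 9, 7, 1, 7, 1]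
def rw1027 : List ℕ := [9, 10, 0, 11, 8, 0, 9, 10, 0, 1, 1, 11, 8, 1, 9, 10, 1, 11, 8, 1, 9, 0, 8, 0]
def rw1028 : List ℕ := [9, 10, 0, 13, 1, 11, 8, 1, 9, 10, 1, 11, 8, 1, 9, 12, 8, 0, 9, 10, 0, 11, 8, 0]
def rw1029 : List ℕ := [9, 10, 0, 11, 8, 0, 9, 10, 0, 3, 1, 11, 8, 1, 9, 10, 1, 11, 8, 1, 9, 2, 8, 0]
def rw1030 : List ℕ := [9, 10, 1, 11, 8, 1, 9, 1, 8, 0, 9, 10, 0, 11, 8, 0, 9, 10, 0, 0, 1, 11, 8, 1]
def rw1031 : List ℕ := [9, 13, 9, 13]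
def rw1032 : List ℕ := [9, 10, 0, 11, 8, 0, 9, 10, 0, 9, 1, 11, 8, 1, 9, 10, 1, 11, 8, 1, 9, 8, 8, 0]
def rw1033 : List ℕ := [9, 1, 8, 0, 9, 10, 0, 11, 8, 0, 9, 10, 0, 0, 1, 11, 8, 1, 9, 10, 1, 11, 8, 1]
def rw1034 : List ℕ := [9, 10, 1, 11, 8, 1, 9, 0, 8, 0, 9, 10, 0, 11, 8, 0, 9, 10, 0, 1, 1, 11, 8, 1]
def rw1035 : List ℕ := [9, 10, 0, 11, 8, 0, 9, 10, 0, 5, 1, 11, 8, 1, 9, 10, 1, 11, 8, 1, 9, 4, 8, 0]
def rw1036 : List ℕ := [9, 7, 9, 7, 9, 7, 9, 7, 9, 7, 9, 7, 9, 7, 9, 7]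
def rw1037 : List ℕ := [9, 6, 8, 6, 8, 10, 1, 8, 10, 0, 6, 9, 11, 9, 7, 9, 7, 1, 10, 8, 7, 1, 11, 9, 0, 11, 9, 7]
def rw1038 : List ℕ := [9, 1, 9, 1, 7, 0, 8, 0, 8, 7]
def rw1039 : List ℕ := [9, 7, 9, 7, 9, 7, 9, 7, 9, 7, 9, 7, 9, 7, 9, 7]
def rw1040 : List ℕ := [9, 10, 1, 11, 8, 1, 9, 8, 8, 0, 9, 10, 0, 11, 8, 0, 9, 10, 0, 9, 1, 11, 8, 1]
def rw1041 : List ℕ := [9, 10, 0, 7, 1, 11, 8, 1, 9, 10, 1, 11, 8, 1, 9, 6, 8, 0, 9, 10, 0, 11, 8, 0]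
def rw1042 : List ℕ := [9, 10, 8, 0, 9, 10, 0, 11, 8, 0, 9, 10, 0, 11, 1, 11, 8, 1, 9, 10, 1, 11, 8, 1]
def rw1043 : List ℕ := [9, 10, 1, 11, 8, 1, 9, 2, 8, 0, 9, 10, 0, 11, 8, 0, 9, 10, 0, 3, 1, 11, 8, 1]
def rw1044 : List ℕ := [9, 10, 0, 3, 1, 11, 8, 1, 9, 10, 1, 11, 8, 1, 9, 2, 8, 0, 9, 10, 0, 11, 8, 0]
def rw1045 : List ℕ := [9, 2, 8, 0, 9, 10, 0, 11, 8, 0, 9, 10, 0, 3, 1, 11, 8, 1, 9, 10, 1, 11, 8, 1]
def rw1046 : List ℕ := [9, 7, 9, 7, 9, 12, 2, 7, 9, 7]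
def rw1047 : List ℕ := [9, 7, 9, 12, 2, 7, 9, 7, 9, 7]
def rw1048 : List ℕ := [9, 12, 8, 0, 9, 10, 0, 11, 8, 0, 9, 10, 0, 13, 1, 11, 8, 1, 9, 10, 1, 11, 8, 1]
def rw1049 : List ℕ := [9, 10, 0, 11, 8, 0, 9, 10, 0, 0, 1, 11, 8, 1, 9, 10, 1, 11, 8, 1, 9, 1, 8, 0]
def rw1050 : List ℕ := [9, 10, 0, 11, 1, 11, 8, 1, 9, 10, 1, 11, 8, 1, 9, 10, 8, 0, 9, 10, 0, 11, 8, 0]
def rw1051 : List ℕ := [9, 9, 8, 0, 9, 10, 0, 11, 8, 0, 9, 10, 0, 8, 1, 11, 8, 1, 9, 10, 1, 11, 8, 1]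
def rw1052 : List ℕ := [9, 10, 0, 11, 8, 0, 9, 10, 0, 11, 1, 11, 8, 1, 9, 10, 1, 11, 8, 1, 9, 10, 8, 0]
def rw1053 : List ℕ := [9, 10, 0, 1, 1, 11, 8, 1, 9, 10, 1, 11, 8, 1, 9, 0, 8, 0, 9, 10, 0, 11, 8, 0]
def rw1054 : List ℕ := [9, 10, 0, 11, 8, 0, 9, 10, 0, 13, 1, 11, 8, 1, 9, 10, 1, 11, 8, 1, 9, 12, 8, 0]
def rw1055 : List ℕ := [9, 10, 0, 5, 1, 11, 8, 1, 9, 10, 1, 11, 8, 1, 9, 4, 8, 0, 9, 10, 0, 11, 8, 0]
def rw1056 : List ℕ := [9, 10, 1, 11, 8, 1, 9, 4, 8, 0, 9, 10, 0, 11, 8, 0, 9, 10, 0, 5, 1, 11, 8, 1]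
def rw1057 : List ℕ := [9, 10, 0, 0, 1, 11, 8, 1, 9, 10, 1, 11, 8, 1, 9, 1, 8, 0, 9, 10, 0, 11, 8, 0]
def rw1058 : List ℕ := [9, 7, 9, 7, 1, 10, 8, 7, 1, 11, 9, 0, 11, 9, 7, 9, 6, 8, 6, 8, 10, 1, 8, 10, 0, 6, 9, 11]
def rw1059 : List ℕ := [9, 1, 5, 7, 9, 1, 5, 7, 9, 1, 5, 7, 9, 1, 5, 7, 9, 1, 1, 0, 8, 6, 4, 0, 8, 6, 4, 0, 8, 6, 4, 0, 8, 6, 4, 0, 8, 6, 4, 0, 5, 7]
def rw1060 : List ℕ := [9, 5, 7, 9, 1, 5, 7, 9, 1, 5, 7, 9, 1, 5, 7, 9, 1, 5, 7, 9, 1, 8, 0, 8, 6, 4, 0, 8, 6, 4, 0, 8, 6, 4, 0, 8, 6, 4, 0, 8, 6, 4]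
def rw1061 : List ℕ := [9, 1, 5, 7, 9, 1, 5, 7, 9, 1, 0, 0, 8, 6, 4, 0, 8, 6, 4, 0, 8, 6, 4, 0, 8, 6, 4, 0, 8, 6, 4, 1, 5, 7, 9, 1, 5, 7, 9, 1, 5, 7]
def rw1062 : List ℕ := [9, 1, 6, 0, 8, 6, 4, 0, 8, 6, 4, 0, 8, 6, 4, 0, 8, 6, 4, 0, 8, 6, 4, 7, 5, 7, 9, 1, 5, 7, 9, 1, 5, 7, 9, 1, 5, 7, 9, 1, 5, 7]
def rw1063 : List ℕ := [9, 7, 9, 7, 9, 7, 9, 7, 9, 7, 9, 7, 9, 7, 9, 7]
def rw1064 : List ℕ := [9, 1, 5, 7, 9, 1, 5, 7, 9, 1, 5, 7, 9, 1, 1, 0, 8, 6, 4, 0, 8, 6, 4, 0, 8, 6, 4, 0, 8, 6, 4, 0, 8, 6, 4, 0, 5, 7, 9, 1, 5, 7]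
def rw1065 : List ℕ := [9, 7, 9, 7, 9, 7, 9, 7, 9, 7, 9, 7, 9, 7, 9, 7]
def rw1066 : List ℕ := [9, 1, 5, 7, 9, 1, 5, 7, 9, 1, 5, 7, 9, 1, 5, 7, 9, 1, 0, 0, 8, 6, 4, 0, 8, 6, 4, 0, 8, 6, 4, 0, 8, 6, 4, 0, 8, 6, 4, 1, 5, 7]
def rw1067 : List ℕ := [9, 10, 1, 11, 8, 1, 9, 6, 8, 0, 9, 10, 0, 11, 8, 0, 9, 10, 0, 7, 1, 11, 8, 1]
def rw1068 : List ℕ := [9, 11, 9, 7, 9, 7, 1, 10, 8, 7, 1, 11, 9, 0, 11, 9, 7, 9, 6, 8, 6, 8, 10, 1, 8, 10, 0, 6]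
def rw1069 : List ℕ := [9, 10, 0, 11, 8, 0, 9, 10, 0, 7, 1, 11, 8, 1, 9, 10, 1, 11, 8, 1, 9, 6, 8, 0]
def rw1070 : List ℕ := [9, 6, 8, 0, 9, 10, 0, 11, 8, 0, 9, 10, 0, 7, 1, 11, 8, 1, 9, 10, 1, 11, 8, 1]
def rw1071 : List ℕ := [9, 10, 1, 11, 8, 1, 9, 10, 8, 0, 9, 10, 0, 11, 8, 0, 9, 10, 0, 11, 1, 11, 8, 1]
def rw1072 : List ℕ := [9, 11, 8, 0, 9, 10, 0, 11, 8, 0, 9, 10, 0, 10, 1, 11, 8, 1, 9, 10, 1, 11, 8, 1]
def rw1073 : List ℕ := [9, 10, 0, 9, 1, 11, 8, 1, 9, 10, 1, 11, 8, 1, 9, 8, 8, 0, 9, 10, 0, 11, 8, 0]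
def rw1074 : List ℕ := [9, 6, 0, 7, 4, 0, 5, 6, 0, 7, 4, 0, 8, 1, 5, 6, 1, 7, 4, 1, 5, 6, 1, 7]
def rw1075 : List ℕ := [9, 0, 8, 6, 4, 0, 8, 6, 4, 0, 8, 6, 4, 0, 8, 6, 4, 0, 8, 6, 4, 8, 5, 7, 9, 1, 5, 7, 9, 1, 5, 7, 9, 1, 5, 7, 9, 1, 5, 7, 9, 1]
def rw1076 : List ℕ := [9, 10, 1, 11, 8, 1, 9, 9, 8, 0, 9, 10, 0, 11, 8, 0, 9, 10, 0, 8, 1, 11, 8, 1]
def rw1077 : List ℕ := [9, 1, 5, 7, 9, 1, 5, 7, 9, 1, 5, 7, 9, 1, 5, 7, 9, 1, 4, 0, 8, 6, 4, 0, 8, 6, 4, 0, 8, 6, 4, 0, 8, 6, 4, 0, 8, 6, 4, 5, 5, 7]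
def rw1078 : List ℕ := [9, 1, 5, 7, 9, 1, 5, 7, 9, 1, 8, 0, 8, 6, 4, 0, 8, 6, 4, 0, 8, 6, 4, 0, 8, 6, 4, 0, 8, 6, 4, 9, 5, 7, 9, 1, 5, 7, 9, 1, 5, 7]
def rw1079 : List ℕ := [9, 7, 1, 10, 8, 7, 1, 11, 9, 0, 11, 9, 7, 9, 6, 8, 6, 8, 10, 1, 8, 10, 0, 6, 9, 11, 9, 7]
def rw1080 : List ℕ := [9, 7, 9, 6, 8, 6, 8, 10, 1, 8, 10, 0, 6, 9, 11, 9, 7, 9, 7, 1, 10, 8, 7, 1, 11, 9, 0, 11]
def rw1081 : List ℕ := [9, 10, 0, 6, 1, 11, 8, 1, 9, 10, 1, 11, 8, 1, 9, 7, 8, 0, 9, 10, 0, 11, 8, 0]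
def rw1082 : List ℕ := [9, 10, 0, 4, 1, 11, 8, 1, 9, 10, 1, 11, 8, 1, 9, 5, 8, 0, 9, 10, 0, 11, 8, 0]
def rw1083 : List ℕ := [9, 1, 5, 7, 9, 1, 1, 0, 8, 6, 4, 0, 8, 6, 4, 0, 8, 6, 4, 0, 8, 6, 4, 0, 8, 6, 4, 0, 5, 7, 9, 1, 5, 7, 9, 1, 5, 7, 9, 1, 5, 7]
def rw1084 : List ℕ := [9, 4, 8, 0, 9, 10, 0, 11, 8, 0, 9, 10, 0, 5, 1, 11, 8, 1, 9, 10, 1, 11, 8, 1]
def rw1085 : List ℕ := [9, 5, 8, 0, 9, 10, 0, 11, 8, 0, 9, 10, 0, 4, 1, 11, 8, 1, 9, 10, 1, 11, 8, 1]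
def rw1086 : List ℕ := [9, 1, 5, 7, 9, 1, 6, 0, 8, 6, 4, 0, 8, 6, 4, 0, 8, 6, 4, 0, 8, 6, 4, 0, 8, 6, 4, 7, 5, 7, 9, 1, 5, 7, 9, 1, 5, 7, 9, 1, 5, 7]
def rw1087 : List ℕ := [9, 1, 5, 7, 9, 1, 5, 7, 9, 1, 6, 0, 8, 6, 4, 0, 8, 6, 4, 0, 8, 6, 4, 0, 8, 6, 4, 0, 8, 6, 4, 7, 5, 7, 9, 1, 5, 7, 9, 1, 5, 7]
def rw1088 : List ℕ := [9, 1, 5, 7, 9, 1, 3, 0, 8, 6, 4, 0, 8, 6, 4, 0, 8, 6, 4, 0, 8, 6, 4, 0, 8, 6, 4, 2, 5, 7, 9, 1, 5, 7, 9, 1, 5, 7, 9, 1, 5, 7]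
def rw1089 : List ℕ := [9, 7, 9, 7, 9, 7, 9, 7, 9, 7, 9, 7, 9, 7, 9, 7]
def rw1090 : List ℕ := [9, 10, 1, 11, 8, 1, 9, 3, 8, 0, 9, 10, 0, 11, 8, 0, 9, 10, 0, 2, 1, 11, 8, 1]
def rw1091 : List ℕ := [9, 1, 5, 7, 9, 1, 2, 0, 8, 6, 4, 0, 8, 6, 4, 0, 8, 6, 4, 0, 8, 6, 4, 0, 8, 6, 4, 3, 5, 7, 9, 1, 5, 7, 9, 1, 5, 7, 9, 1, 5, 7]
def rw1092 : List ℕ := [9, 3, 8, 0, 9, 10, 0, 11, 8, 0, 9, 10, 0, 2, 1, 11, 8, 1, 9, 10, 1, 11, 8, 1]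
def rw1093 : List ℕ := [9, 1, 1, 0, 8, 6, 4, 0, 8, 6, 4, 0, 8, 6, 4, 0, 8, 6, 4, 0, 8, 6, 4, 0, 5, 7, 9, 1, 5, 7, 9, 1, 5, 7, 9, 1, 5, 7, 9, 1, 5, 7]
def rw1094 : List ℕ := [9, 7, 8, 0, 9, 10, 0, 11, 8, 0, 9, 10, 0, 6, 1, 11, 8, 1, 9, 10, 1, 11, 8, 1]
def rw1095 : List ℕ := [9, 10, 0, 11, 8, 0, 9, 10, 0, 6, 1, 11, 8, 1, 9, 10, 1, 11, 8, 1, 9, 7, 8, 0]
def rw1096 : List ℕ := [9, 1, 5, 7, 9, 1, 10, 0, 8, 6, 4, 0, 8, 6, 4, 0, 8, 6, 4, 0, 8, 6, 4, 0, 8, 6, 4, 11, 5, 7, 9, 1, 5, 7, 9, 1, 5, 7, 9, 1, 5, 7]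
def rw1097 : List ℕ := [9, 1, 5, 7, 9, 1, 5, 7, 9, 1, 5, 7, 9, 1, 5, 7, 9, 1, 12, 0, 8, 6, 4, 0, 8, 6, 4, 0, 8, 6, 4, 0, 8, 6, 4, 0, 8, 6, 4, 13, 5, 7]
def rw1098 : List ℕ := [9, 1, 5, 7, 9, 1, 5, 7, 9, 1, 5, 7, 9, 1, 6, 0, 8, 6, 4, 0, 8, 6, 4, 0, 8, 6, 4, 0, 8, 6, 4, 0, 8, 6, 4, 7, 5, 7, 9, 1, 5, 7]
def rw1099 : List ℕ := [9, 1, 5, 7, 9, 1, 5, 7, 9, 1, 5, 7, 9, 1, 0, 0, 8, 6, 4, 0, 8, 6, 4, 0, 8, 6, 4, 0, 8, 6, 4, 0, 8, 6, 4, 1, 5, 7, 9, 1, 5, 7]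
def rw1100 : List ℕ := [9, 1, 5, 7, 9, 1, 5, 7, 9, 1, 1, 0, 8, 6, 4, 0, 8, 6, 4, 0, 8, 6, 4, 0, 8, 6, 4, 0, 8, 6, 4, 0, 5, 7, 9, 1, 5, 7, 9, 1, 5, 7]
def rw1101 : List ℕ := [9, 1, 5, 7, 9, 1, 12, 0, 8, 6, 4, 0, 8, 6, 4, 0, 8, 6, 4, 0, 8, 6, 4, 0, 8, 6, 4, 13, 5, 7, 9, 1, 5, 7, 9, 1, 5, 7, 9, 1, 5, 7]
def rw1102 : List ℕ := [9, 1, 5, 7, 9, 1, 5, 7, 9, 1, 5, 7, 9, 1, 4, 0, 8, 6, 4, 0, 8, 6, 4, 0, 8, 6, 4, 0, 8, 6, 4, 0, 8, 6, 4, 5, 5, 7, 9, 1, 5, 7]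
def rw1103 : List ℕ := [9, 1, 12, 0, 8, 6, 4, 0, 8, 6, 4, 0, 8, 6, 4, 0, 8, 6, 4, 0, 8, 6, 4, 13, 5, 7, 9, 1, 5, 7, 9, 1, 5, 7, 9, 1, 5, 7, 9, 1, 5, 7]
def rw1104 : List ℕ := [9, 1, 5, 7, 9, 1, 0, 0, 8, 6, 4, 0, 8, 6, 4, 0, 8, 6, 4, 0, 8, 6, 4, 0, 8, 6, 4, 1, 5, 7, 9, 1, 5, 7, 9, 1, 5, 7, 9, 1, 5, 7]
def rw1105 : List ℕ := [9, 10, 0, 8, 1, 11, 8, 1, 9, 10, 1, 11, 8, 1, 9, 9, 8, 0, 9, 10, 0, 11, 8, 0]
def rw1106 : List ℕ := [9, 10, 1, 11, 8, 1, 9, 11, 8, 0, 9, 10, 0, 11, 8, 0, 9, 10, 0, 10, 1, 11, 8, 1]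
def rw1107 : List ℕ := [9, 10, 1, 11, 8, 1, 9, 13, 8, 0, 9, 10, 0, 11, 8, 0, 9, 10, 0, 12, 1, 11, 8, 1]
def rw1108 : List ℕ := [9, 1, 0, 0, 8, 6, 4, 0, 8, 6, 4, 0, 8, 6, 4, 0, 8, 6, 4, 0, 8, 6, 4, 1, 5, 7, 9, 1, 5, 7, 9, 1, 5, 7, 9, 1, 5, 7, 9, 1, 5, 7]
def rw1109 : List ℕ := [9, 10, 0, 11, 8, 0, 9, 10, 0, 4, 1, 11, 8, 1, 9, 10, 1, 11, 8, 1, 9, 5, 8, 0]
def rw1110 : List ℕ := [9, 10, 0, 2, 1, 11, 8, 1, 9, 10, 1, 11, 8, 1, 9, 3, 8, 0, 9, 10, 0, 11, 8, 0]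
def rw1111 : List ℕ := [9, 10, 0, 11, 8, 0, 9, 10, 0, 2, 1, 11, 8, 1, 9, 10, 1, 11, 8, 1, 9, 3, 8, 0]
def rw1112 : List ℕ := [9, 7, 8, 6, 8, 10, 1, 8, 10, 0, 6, 9, 11, 0, 6, 8, 6, 8, 10, 8, 7, 1, 11, 9, 0, 11, 9, 7]
def rw1113 : List ℕ := [9, 7, 9, 7, 9, 7, 9, 7, 9, 7, 9, 7, 9, 7, 9, 7]
def rw1114 : List ℕ := [9, 1, 2, 0, 8, 6, 4, 0, 8, 6, 4, 0, 8, 6, 4, 0, 8, 6, 4, 0, 8, 6, 4, 3, 5, 7, 9, 1, 5, 7, 9, 1, 5, 7, 9, 1, 5, 7, 9, 1, 5, 7]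
def rw1115 : List ℕ := [9, 1, 5, 7, 9, 1, 5, 7, 9, 1, 4, 0, 8, 6, 4, 0, 8, 6, 4, 0, 8, 6, 4, 0, 8, 6, 4, 0, 8, 6, 4, 5, 5, 7, 9, 1, 5, 7, 9, 1, 5, 7]
def rw1116 : List ℕ := [9, 7, 9, 7, 9, 7, 9, 7, 9, 7, 9, 7, 9, 7, 9, 7]
def rw1117 : List ℕ := [9, 1, 4, 0, 8, 6, 4, 0, 8, 6, 4, 0, 8, 6, 4, 0, 8, 6, 4, 0, 8, 6, 4, 5, 5, 7, 9, 1, 5, 7, 9, 1, 5, 7, 9, 1, 5, 7, 9, 1, 5, 7]
def rw1118 : List ℕ := [9, 1, 5, 7, 9, 1, 8, 0, 8, 6, 4, 0, 8, 6, 4, 0, 8, 6, 4, 0, 8, 6, 4, 0, 8, 6, 4, 9, 5, 7, 9, 1, 5, 7, 9, 1, 5, 7, 9, 1, 5, 7]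
def rw1119 : List ℕ := [9, 7, 9, 7, 8, 6, 8, 10, 1, 8, 10, 0, 6, 9, 11, 0, 6, 8, 6, 8, 10, 8, 7, 1, 11, 9, 0, 11]
def rw1120 : List ℕ := [9, 1, 5, 7, 9, 1, 5, 7, 9, 1, 5, 7, 9, 1, 2, 0, 8, 6, 4, 0, 8, 6, 4, 0, 8, 6, 4, 0, 8, 6, 4, 0, 8, 6, 4, 3, 5, 7, 9, 1, 5, 7]
def rw1121 : List ℕ := [9, 10, 0, 11, 8, 0, 9, 10, 0, 10, 1, 11, 8, 1, 9, 10, 1, 11, 8, 1, 9, 11, 8, 0]
def rw1122 : List ℕ := [9, 1, 5, 7, 9, 1, 4, 0, 8, 6, 4, 0, 8, 6, 4, 0, 8, 6, 4, 0, 8, 6, 4, 0, 8, 6, 4, 5, 5, 7, 9, 1, 5, 7, 9, 1, 5, 7, 9, 1, 5, 7]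
def rw1123 : List ℕ := [9, 1, 5, 7, 9, 1, 5, 7, 9, 1, 10, 0, 8, 6, 4, 0, 8, 6, 4, 0, 8, 6, 4, 0, 8, 6, 4, 0, 8, 6, 4, 11, 5, 7, 9, 1, 5, 7, 9, 1, 5, 7]
def rw1124 : List ℕ := [9, 1, 5, 7, 9, 1, 5, 7, 9, 1, 2, 0, 8, 6, 4, 0, 8, 6, 4, 0, 8, 6, 4, 0, 8, 6, 4, 0, 8, 6, 4, 3, 5, 7, 9, 1, 5, 7, 9, 1, 5, 7]
def rw1125 : List ℕ := [9, 1, 5, 7, 9, 1, 5, 7, 9, 1, 5, 7, 9, 1, 5, 7, 9, 1, 8, 0, 8, 6, 4, 0, 8, 6, 4, 0, 8, 6, 4, 0, 8, 6, 4, 0, 8, 6, 4, 9, 5, 7]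
def rw1126 : List ℕ := [9, 10, 0, 10, 1, 11, 8, 1, 9, 10, 1, 11, 8, 1, 9, 11, 8, 0, 9, 10, 0, 11, 8, 0]
def rw1127 : List ℕ := [9, 10, 1, 11, 8, 1, 9, 7, 8, 0, 9, 10, 0, 11, 8, 0, 9, 10, 0, 6, 1, 11, 8, 1]
def rw1128 : List ℕ := [9, 1, 8, 0, 8, 6, 4, 0, 8, 6, 4, 0, 8, 6, 4, 0, 8, 6, 4, 0, 8, 6, 4, 9, 5, 7, 9, 1, 5, 7, 9, 1, 5, 7, 9, 1, 5, 7, 9, 1, 5, 7]
def rw1129 : List ℕ := [9, 0, 11, 9, 7, 9, 7, 8, 6, 8, 10, 1, 8, 10, 0, 6, 9, 11, 0, 6, 8, 6, 8, 10, 8, 7, 1, 11]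
def rw1130 : List ℕ := [9, 1, 10, 0, 8, 6, 4, 0, 8, 6, 4, 0, 8, 6, 4, 0, 8, 6, 4, 0, 8, 6, 4, 11, 5, 7, 9, 1, 5, 7, 9, 1, 5, 7, 9, 1, 5, 7, 9, 1, 5, 7]
def rw1131 : List ℕ := [9, 1, 5, 7, 9, 1, 5, 7, 9, 1, 5, 7, 9, 1, 5, 7, 9, 1, 2, 0, 8, 6, 4, 0, 8, 6, 4, 0, 8, 6, 4, 0, 8, 6, 4, 0, 8, 6, 4, 3, 5, 7]
def rw1132 : List ℕ := [9, 1, 5, 7, 9, 1, 5, 7, 9, 1, 5, 7, 9, 1, 10, 0, 8, 6, 4, 0, 8, 6, 4, 0, 8, 6, 4, 0, 8, 6, 4, 0, 8, 6, 4, 11, 5, 7, 9, 1, 5, 7]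
def rw1133 : List ℕ := [9, 1, 5, 7, 9, 1, 5, 7, 9, 1, 5, 7, 9, 1, 5, 7, 9, 1, 6, 0, 8, 6, 4, 0, 8, 6, 4, 0, 8, 6, 4, 0, 8, 6, 4, 0, 8, 6, 4, 7, 5, 7]
def rw1134 : List ℕ := [9, 1, 5, 7, 9, 1, 5, 7, 9, 1, 5, 0, 8, 6, 4, 0, 8, 6, 4, 0, 8, 6, 4, 0, 8, 6, 4, 0, 8, 6, 4, 4, 5, 7, 9, 1, 5, 7, 9, 1, 5, 7]
def rw1135 : List ℕ := [9, 13, 8, 0, 9, 10, 0, 11, 8, 0, 9, 10, 0, 12, 1, 11, 8, 1, 9, 10, 1, 11, 8, 1]
def rw1136 : List ℕ := [9, 1, 5, 7, 9, 1, 5, 7, 9, 1, 5, 7, 9, 1, 5, 7, 9, 1, 11, 0, 8, 6, 4, 0, 8, 6, 4, 0, 8, 6, 4, 0, 8, 6, 4, 0, 8, 6, 4, 10, 5, 7]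
def rw1137 : List ℕ := [9, 1, 5, 7, 9, 1, 5, 7, 9, 1, 5, 7, 9, 1, 5, 7, 9, 1, 10, 0, 8, 6, 4, 0, 8, 6, 4, 0, 8, 6, 4, 0, 8, 6, 4, 0, 8, 6, 4, 11, 5, 7]
def rw1138 : List ℕ := [9, 1, 5, 7, 9, 1, 5, 7, 9, 1, 5, 7, 9, 1, 8, 0, 8, 6, 4, 0, 8, 6, 4, 0, 8, 6, 4, 0, 8, 6, 4, 0, 8, 6, 4, 9, 5, 7, 9, 1, 5, 7]
def rw1139 : List ℕ := [9, 1, 5, 7, 9, 1, 5, 7, 9, 1, 5, 7, 9, 1, 12, 0, 8, 6, 4, 0, 8, 6, 4, 0, 8, 6, 4, 0, 8, 6, 4, 0, 8, 6, 4, 13, 5, 7, 9, 1, 5, 7]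
def rw1140 : List ℕ := [10, 10]
def rw1141 : List ℕ := [10, 8, 10, 8, 10, 8]
def rw1142 : List ℕ := [10, 4, 10, 4]
def rw1143 : List ℕ := [10, 8, 10, 8, 10, 8]
def rw1144 : List ℕ := [10, 6, 10, 6]
def rw1145 : List ℕ := [10, 2, 10, 2]
def rw1146 : List ℕ := [10, 6, 10, 6]
def rw1147 : List ℕ := [10, 12, 10, 12, 10, 12]
def rw1148 : List ℕ := [10, 2, 10, 2]
def rw1149 : List ℕ := [10, 4, 10, 4]
def rw1150 : List ℕ := [10, 12, 10, 12, 10, 12]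
def rw1151 : List ℕ := [10, 6, 0, 7, 4, 0, 5, 6, 0, 7, 4, 0, 11, 1, 5, 6, 1, 7, 4, 1, 5, 6, 1, 7]
def rw1152 : List ℕ := [10, 8, 10, 8, 10, 8]
def rw1153 : List ℕ := [10, 1, 11, 8, 1, 9, 10, 1, 11, 8, 1, 9, 11, 8, 0, 9, 10, 0, 11, 8, 0, 9, 10, 0]
def rw1154 : List ℕ := [10, 0, 11, 8, 0, 9, 10, 0, 1, 1, 11, 8, 1, 9, 10, 1, 11, 8, 1, 9, 0, 8, 0, 9]
def rw1155 : List ℕ := [10, 12, 10, 12, 10, 12]
def rw1156 : List ℕ := [10, 1, 11, 8, 1, 9, 0, 8, 0, 9, 10, 0, 11, 8, 0, 9, 10, 0, 1, 1, 11, 8, 1, 9]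
def rw1157 : List ℕ := [10, 1, 11, 8, 1, 9, 8, 8, 0, 9, 10, 0, 11, 8, 0, 9, 10, 0, 9, 1, 11, 8, 1, 9]
def rw1158 : List ℕ := [10, 0, 11, 1, 11, 8, 1, 9, 10, 1, 11, 8, 1, 9, 10, 8, 0, 9, 10, 0, 11, 8, 0, 9]
def rw1159 : List ℕ := [10, 0, 5, 1, 11, 8, 1, 9, 10, 1, 11, 8, 1, 9, 4, 8, 0, 9, 10, 0, 11, 8, 0, 9]
def rw1160 : List ℕ := [10, 0, 8, 1, 11, 8, 1, 9, 10, 1, 11, 8, 1, 9, 9, 8, 0, 9, 10, 0, 11, 8, 0, 9]
def rw1161 : List ℕ := [10, 0, 13, 1, 11, 8, 1, 9, 10, 1, 11, 8, 1, 9, 12, 8, 0, 9, 10, 0, 11, 8, 0, 9]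
def rw1162 : List ℕ := [10, 0, 11, 8, 0, 9, 10, 0, 7, 1, 11, 8, 1, 9, 10, 1, 11, 8, 1, 9, 6, 8, 0, 9]
def rw1163 : List ℕ := [10, 1, 11, 8, 1, 9, 1, 8, 0, 9, 10, 0, 11, 8, 0, 9, 10, 0, 0, 1, 11, 8, 1, 9]
def rw1164 : List ℕ := [10, 0, 3, 1, 11, 8, 1, 9, 10, 1, 11, 8, 1, 9, 2, 8, 0, 9, 10, 0, 11, 8, 0, 9]
def rw1165 : List ℕ := [10, 8, 0, 9, 10, 0, 11, 8, 0, 9, 10, 0, 11, 1, 11, 8, 1, 9, 10, 1, 11, 8, 1, 9]
def rw1166 : List ℕ := [10, 0, 11, 8, 0, 9, 10, 0, 9, 1, 11, 8, 1, 9, 10, 1, 11, 8, 1, 9, 8, 8, 0, 9]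
def rw1167 : List ℕ := [10, 1, 11, 8, 1, 9, 12, 8, 0, 9, 10, 0, 11, 8, 0, 9, 10, 0, 13, 1, 11, 8, 1, 9]
def rw1168 : List ℕ := [10, 1, 11, 8, 1, 9, 6, 8, 0, 9, 10, 0, 11, 8, 0, 9, 10, 0, 7, 1, 11, 8, 1, 9]
def rw1169 : List ℕ := [10, 1, 11, 8, 1, 9, 2, 8, 0, 9, 10, 0, 11, 8, 0, 9, 10, 0, 3, 1, 11, 8, 1, 9]
def rw1170 : List ℕ := [10, 0, 6, 1, 11, 8, 1, 9, 10, 1, 11, 8, 1, 9, 7, 8, 0, 9, 10, 0, 11, 8, 0, 9]
def rw1171 : List ℕ := [10, 0, 11, 8, 0, 9, 10, 0, 3, 1, 11, 8, 1, 9, 10, 1, 11, 8, 1, 9, 2, 8, 0, 9]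
def rw1172 : List ℕ := [10, 0, 9, 1, 11, 8, 1, 9, 10, 1, 11, 8, 1, 9, 8, 8, 0, 9, 10, 0, 11, 8, 0, 9]
def rw1173 : List ℕ := [10, 0, 11, 8, 0, 9, 10, 0, 11, 1, 11, 8, 1, 9, 10, 1, 11, 8, 1, 9, 10, 8, 0, 9]
def rw1174 : List ℕ := [10, 0, 11, 8, 0, 9, 10, 0, 2, 1, 11, 8, 1, 9, 10, 1, 11, 8, 1, 9, 3, 8, 0, 9]
def rw1175 : List ℕ := [10, 0, 11, 8, 0, 9, 10, 0, 13, 1, 11, 8, 1, 9, 10, 1, 11, 8, 1, 9, 12, 8, 0, 9]
def rw1176 : List ℕ := [10, 0, 11, 8, 0, 9, 10, 0, 0, 1, 11, 8, 1, 9, 10, 1, 11, 8, 1, 9, 1, 8, 0, 9]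
def rw1177 : List ℕ := [10, 0, 0, 1, 11, 8, 1, 9, 10, 1, 11, 8, 1, 9, 1, 8, 0, 9, 10, 0, 11, 8, 0, 9]
def rw1178 : List ℕ := [10, 0, 1, 1, 11, 8, 1, 9, 10, 1, 11, 8, 1, 9, 0, 8, 0, 9, 10, 0, 11, 8, 0, 9]
def rw1179 : List ℕ := [10, 0, 11, 8, 0, 9, 10, 0, 8, 1, 11, 8, 1, 9, 10, 1, 11, 8, 1, 9, 9, 8, 0, 9]
def rw1180 : List ℕ := [10, 1, 11, 8, 1, 9, 10, 8, 0, 9, 10, 0, 11, 8, 0, 9, 10, 0, 11, 1, 11, 8, 1, 9]
def rw1181 : List ℕ := [10, 1, 5, 6, 1, 7, 4, 1, 5, 6, 1, 7, 11, 6, 0, 7, 4, 0, 5, 6, 0, 7, 4, 0]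
def rw1182 : List ℕ := [10, 8, 7, 1, 11, 9, 0, 11, 9, 7, 9, 6, 8, 6, 8, 10, 1, 8, 10, 0, 6, 9, 11, 9, 7, 9, 7, 1]
def rw1183 : List ℕ := [10, 1, 8, 10, 0, 6, 9, 11, 9, 7, 9, 7, 1, 10, 8, 7, 1, 11, 9, 0, 11, 9, 7, 9, 6, 8, 6, 8]
def rw1184 : List ℕ := [10, 1, 11, 8, 1, 9, 4, 8, 0, 9, 10, 0, 11, 8, 0, 9, 10, 0, 5, 1, 11, 8, 1, 9]
def rw1185 : List ℕ := [10, 0, 2, 1, 11, 8, 1, 9, 10, 1, 11, 8, 1, 9, 3, 8, 0, 9, 10, 0, 11, 8, 0, 9]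
def rw1186 : List ℕ := [10, 0, 11, 8, 0, 9, 10, 0, 10, 1, 11, 8, 1, 9, 10, 1, 11, 8, 1, 9, 11, 8, 0, 9]
def rw1187 : List ℕ := [10, 0, 7, 1, 11, 8, 1, 9, 10, 1, 11, 8, 1, 9, 6, 8, 0, 9, 10, 0, 11, 8, 0, 9]
def rw1188 : List ℕ := [10, 8, 7, 1, 11, 9, 0, 11, 9, 7, 9, 7, 8, 6, 8, 10, 1, 8, 10, 0, 6, 9, 11, 0, 6, 8, 6, 8]
def rw1189 : List ℕ := [10, 0, 6, 9, 11, 9, 7, 9, 7, 1, 10, 8, 7, 1, 11, 9, 0, 11, 9, 7, 9, 6, 8, 6, 8, 10, 1, 8]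
def rw1190 : List ℕ := [10, 0, 11, 8, 0, 9, 10, 0, 5, 1, 11, 8, 1, 9, 10, 1, 11, 8, 1, 9, 4, 8, 0, 9]
def rw1191 : List ℕ := [10, 0, 11, 8, 0, 9, 10, 0, 12, 1, 11, 8, 1, 9, 10, 1, 11, 8, 1, 9, 13, 8, 0, 9]
def rw1192 : List ℕ := [10, 1, 11, 8, 1, 9, 13, 8, 0, 9, 10, 0, 11, 8, 0, 9, 10, 0, 12, 1, 11, 8, 1, 9]
def rw1193 : List ℕ := [10, 1, 11, 8, 1, 9, 11, 8, 0, 9, 10, 0, 11, 8, 0, 9, 10, 0, 10, 1, 11, 8, 1, 9]
def rw1194 : List ℕ := [10, 1, 11, 8, 1, 9, 9, 8, 0, 9, 10, 0, 11, 8, 0, 9, 10, 0, 8, 1, 11, 8, 1, 9]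
def rw1195 : List ℕ := [10, 0, 12, 1, 11, 8, 1, 9, 10, 1, 11, 8, 1, 9, 13, 8, 0, 9, 10, 0, 11, 8, 0, 9]
def rw1196 : List ℕ := [10, 0, 6, 9, 11, 0, 6, 8, 6, 8, 10, 8, 7, 1, 11, 9, 0, 11, 9, 7, 9, 7, 8, 6, 8, 10, 1, 8]
def rw1197 : List ℕ := [10, 0, 11, 8, 0, 9, 10, 0, 4, 1, 11, 8, 1, 9, 10, 1, 11, 8, 1, 9, 5, 8, 0, 9]
def rw1198 : List ℕ := [10, 1, 11, 8, 1, 9, 5, 8, 0, 9, 10, 0, 11, 8, 0, 9, 10, 0, 4, 1, 11, 8, 1, 9]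
def rw1199 : List ℕ := [10, 0, 10, 1, 11, 8, 1, 9, 10, 1, 11, 8, 1, 9, 11, 8, 0, 9, 10, 0, 11, 8, 0, 9]
def rw1200 : List ℕ := [10, 1, 11, 8, 1, 9, 7, 8, 0, 9, 10, 0, 11, 8, 0, 9, 10, 0, 6, 1, 11, 8, 1, 9]
def rw1201 : List ℕ := [10, 0, 11, 8, 0, 9, 10, 0, 6, 1, 11, 8, 1, 9, 10, 1, 11, 8, 1, 9, 7, 8, 0, 9]
def rw1202 : List ℕ := [10, 1, 11, 8, 1, 9, 3, 8, 0, 9, 10, 0, 11, 8, 0, 9, 10, 0, 2, 1, 11, 8, 1, 9]
def rw1203 : List ℕ := [10, 0, 4, 1, 11, 8, 1, 9, 10, 1, 11, 8, 1, 9, 5, 8, 0, 9, 10, 0, 11, 8, 0, 9]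
def rw1204 : List ℕ := [10, 1, 8, 10, 0, 6, 9, 11, 0, 6, 8, 6, 8, 10, 8, 7, 1, 11, 9, 0, 11, 9, 7, 9, 7, 8, 6, 8]
def rw1205 : List ℕ := [10, 5, 7, 9, 1, 5, 7, 9, 1, 5, 7, 9, 1, 5, 7, 9, 1, 5, 7, 9, 1, 11, 0, 8, 6, 4, 0, 8, 6, 4, 0, 8, 6, 4, 0, 8, 6, 4, 0, 8, 6, 4]
def rw1206 : List ℕ := [10, 0, 8, 6, 4, 0, 8, 6, 4, 0, 8, 6, 4, 0, 8, 6, 4, 0, 8, 6, 4, 11, 5, 7, 9, 1, 5, 7, 9, 1, 5, 7, 9, 1, 5, 7, 9, 1, 5, 7, 9, 1]
def rw1207 : List ℕ := [11, 13, 11, 13, 11, 13]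
def rw1208 : List ℕ := [11, 3, 11, 3]
def rw1209 : List ℕ := [11, 1, 5, 6, 1, 7, 4, 1, 5, 6, 1, 7, 10, 6, 0, 7, 4, 0, 5, 6, 0, 7, 4, 0]
def rw1210 : List ℕ := [11, 3, 11, 3]
def rw1211 : List ℕ := [11, 8, 1, 9, 0, 8, 0, 9, 10, 0, 11, 8, 0, 9, 10, 0, 1, 1, 11, 8, 1, 9, 10, 1]
def rw1212 : List ℕ := [11, 1, 11, 8, 1, 9, 10, 1, 11, 8, 1, 9, 10, 8, 0, 9, 10, 0, 11, 8, 0, 9, 10, 0]
def rw1213 : List ℕ := [11, 11]
def rw1214 : List ℕ := [11, 8, 0, 9, 10, 0, 9, 1, 11, 8, 1, 9, 10, 1, 11, 8, 1, 9, 8, 8, 0, 9, 10, 0]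
def rw1215 : List ℕ := [11, 8, 1, 9, 10, 1, 11, 8, 1, 9, 6, 8, 0, 9, 10, 0, 11, 8, 0, 9, 10, 0, 7, 1]
def rw1216 : List ℕ := [11, 8, 0, 9, 10, 0, 8, 1, 11, 8, 1, 9, 10, 1, 11, 8, 1, 9, 9, 8, 0, 9, 10, 0]
def rw1217 : List ℕ := [11, 5, 11, 5]
def rw1218 : List ℕ := [11, 8, 1, 9, 10, 1, 11, 8, 1, 9, 8, 8, 0, 9, 10, 0, 11, 8, 0, 9, 10, 0, 9, 1]
def rw1219 : List ℕ := [11, 7, 11, 7]
def rw1220 : List ℕ := [11, 8, 1, 9, 10, 1, 11, 8, 1, 9, 12, 8, 0, 9, 10, 0, 11, 8, 0, 9, 10, 0, 13, 1]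
def rw1221 : List ℕ := [11, 9, 11, 9, 11, 9]
def rw1222 : List ℕ := [11, 8, 1, 9, 8, 8, 0, 9, 10, 0, 11, 8, 0, 9, 10, 0, 9, 1, 11, 8, 1, 9, 10, 1]
def rw1223 : List ℕ := [11, 8, 1, 9, 2, 8, 0, 9, 10, 0, 11, 8, 0, 9, 10, 0, 3, 1, 11, 8, 1, 9, 10, 1]
def rw1224 : List ℕ := [11, 8, 0, 9, 10, 0, 12, 1, 11, 8, 1, 9, 10, 1, 11, 8, 1, 9, 13, 8, 0, 9, 10, 0]
def rw1225 : List ℕ := [11, 8, 1, 9, 10, 1, 11, 8, 1, 9, 4, 8, 0, 9, 10, 0, 11, 8, 0, 9, 10, 0, 5, 1]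
def rw1226 : List ℕ := [11, 8, 0, 9, 10, 0, 1, 1, 11, 8, 1, 9, 10, 1, 11, 8, 1, 9, 0, 8, 0, 9, 10, 0]
def rw1227 : List ℕ := [11, 13, 11, 13, 11, 13]
def rw1228 : List ℕ := [11, 7, 11, 7]
def rw1229 : List ℕ := [11, 9, 11, 9, 11, 9]
def rw1230 : List ℕ := [11, 8, 1, 9, 9, 8, 0, 9, 10, 0, 11, 8, 0, 9, 10, 0, 8, 1, 11, 8, 1, 9, 10, 1]
def rw1231 : List ℕ := [11, 8, 1, 9, 10, 1, 11, 8, 1, 9, 0, 8, 0, 9, 10, 0, 11, 8, 0, 9, 10, 0, 1, 1]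
def rw1232 : List ℕ := [11, 8, 1, 9, 12, 8, 0, 9, 10, 0, 11, 8, 0, 9, 10, 0, 13, 1, 11, 8, 1, 9, 10, 1]
def rw1233 : List ℕ := [11, 8, 0, 9, 10, 0, 7, 1, 11, 8, 1, 9, 10, 1, 11, 8, 1, 9, 6, 8, 0, 9, 10, 0]
def rw1234 : List ℕ := [11, 9, 11, 9, 11, 9]
def rw1235 : List ℕ := [11, 8, 0, 9, 10, 0, 3, 1, 11, 8, 1, 9, 10, 1, 11, 8, 1, 9, 2, 8, 0, 9, 10, 0]
def rw1236 : List ℕ := [11, 8, 0, 9, 10, 0, 11, 8, 0, 9, 10, 0, 10, 1, 11, 8, 1, 9, 10, 1, 11, 8, 1, 9]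
def rw1237 : List ℕ := [11, 8, 1, 9, 10, 1, 11, 8, 1, 9, 10, 8, 0, 9, 10, 0, 11, 8, 0, 9, 10, 0, 11, 1]
def rw1238 : List ℕ := [11, 13, 11, 13, 11, 13]
def rw1239 : List ℕ := [11, 8, 0, 9, 10, 0, 0, 1, 11, 8, 1, 9, 10, 1, 11, 8, 1, 9, 1, 8, 0, 9, 10, 0]
def rw1240 : List ℕ := [11, 8, 0, 9, 10, 0, 5, 1, 11, 8, 1, 9, 10, 1, 11, 8, 1, 9, 4, 8, 0, 9, 10, 0]
def rw1241 : List ℕ := [11, 8, 1, 9, 10, 8, 0, 9, 10, 0, 11, 8, 0, 9, 10, 0, 11, 1, 11, 8, 1, 9, 10, 1]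
def rw1242 : List ℕ := [11, 8, 0, 9, 10, 0, 11, 1, 11, 8, 1, 9, 10, 1, 11, 8, 1, 9, 10, 8, 0, 9, 10, 0]
def rw1243 : List ℕ := [11, 8, 1, 9, 1, 8, 0, 9, 10, 0, 11, 8, 0, 9, 10, 0, 0, 1, 11, 8, 1, 9, 10, 1]
def rw1244 : List ℕ := [11, 8, 1, 9, 10, 1, 11, 8, 1, 9, 2, 8, 0, 9, 10, 0, 11, 8, 0, 9, 10, 0, 3, 1]
def rw1245 : List ℕ := [11, 8, 0, 9, 10, 0, 13, 1, 11, 8, 1, 9, 10, 1, 11, 8, 1, 9, 12, 8, 0, 9, 10, 0]
def rw1246 : List ℕ := [11, 5, 11, 5]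
def rw1247 : List ℕ := [11, 8, 1, 9, 10, 1, 11, 8, 1, 9, 9, 8, 0, 9, 10, 0, 11, 8, 0, 9, 10, 0, 8, 1]
def rw1248 : List ℕ := [11, 9, 7, 9, 7, 1, 10, 8, 7, 1, 11, 9, 0, 11, 9, 7, 9, 6, 8, 6, 8, 10, 1, 8, 10, 0, 6, 9]
def rw1249 : List ℕ := [11, 9, 0, 11, 9, 7, 9, 6, 8, 6, 8, 10, 1, 8, 10, 0, 6, 9, 11, 9, 7, 9, 7, 1, 10, 8, 7, 1]
def rw1250 : List ℕ := [11, 0, 6, 8, 6, 8, 10, 8, 7, 1, 11, 9, 0, 11, 9, 7, 9, 7, 8, 6, 8, 10, 1, 8, 10, 0, 6, 9]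
def rw1251 : List ℕ := [11, 6, 0, 7, 4, 0, 5, 6, 0, 7, 4, 0, 10, 1, 5, 6, 1, 7, 4, 1, 5, 6, 1, 7]
def rw1252 : List ℕ := [11, 8, 1, 9, 4, 8, 0, 9, 10, 0, 11, 8, 0, 9, 10, 0, 5, 1, 11, 8, 1, 9, 10, 1]
def rw1253 : List ℕ := [11, 8, 1, 9, 10, 1, 11, 8, 1, 9, 1, 8, 0, 9, 10, 0, 11, 8, 0, 9, 10, 0, 0, 1]
def rw1254 : List ℕ := [11, 8, 1, 9, 3, 8, 0, 9, 10, 0, 11, 8, 0, 9, 10, 0, 2, 1, 11, 8, 1, 9, 10, 1]
def rw1255 : List ℕ := [11, 9, 7, 9, 6, 8, 6, 8, 10, 1, 8, 10, 0, 6, 9, 11, 9, 7, 9, 7, 1, 10, 8, 7, 1, 11, 9, 0]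
def rw1256 : List ℕ := [11, 8, 1, 9, 6, 8, 0, 9, 10, 0, 11, 8, 0, 9, 10, 0, 7, 1, 11, 8, 1, 9, 10, 1]
def rw1257 : List ℕ := [11, 9, 7, 9, 7, 8, 6, 8, 10, 1, 8, 10, 0, 6, 9, 11, 0, 6, 8, 6, 8, 10, 8, 7, 1, 11, 9, 0]
def rw1258 : List ℕ := [11, 8, 1, 9, 11, 8, 0, 9, 10, 0, 11, 8, 0, 9, 10, 0, 10, 1, 11, 8, 1, 9, 10, 1]
def rw1259 : List ℕ := [11, 8, 1, 9, 10, 1, 11, 8, 1, 9, 13, 8, 0, 9, 10, 0, 11, 8, 0, 9, 10, 0, 12, 1]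
def rw1260 : List ℕ := [11, 8, 1, 9, 10, 1, 11, 8, 1, 9, 5, 8, 0, 9, 10, 0, 11, 8, 0, 9, 10, 0, 4, 1]
def rw1261 : List ℕ := [11, 8, 0, 9, 10, 0, 10, 1, 11, 8, 1, 9, 10, 1, 11, 8, 1, 9, 11, 8, 0, 9, 10, 0]
def rw1262 : List ℕ := [11, 8, 0, 9, 10, 0, 2, 1, 11, 8, 1, 9, 10, 1, 11, 8, 1, 9, 3, 8, 0, 9, 10, 0]
def rw1263 : List ℕ := [11, 9, 0, 11, 9, 7, 9, 7, 8, 6, 8, 10, 1, 8, 10, 0, 6, 9, 11, 0, 6, 8, 6, 8, 10, 8, 7, 1]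
def rw1264 : List ℕ := [11, 8, 1, 9, 10, 1, 11, 8, 1, 9, 3, 8, 0, 9, 10, 0, 11, 8, 0, 9, 10, 0, 2, 1]
def rw1265 : List ℕ := [11, 8, 1, 9, 5, 8, 0, 9, 10, 0, 11, 8, 0, 9, 10, 0, 4, 1, 11, 8, 1, 9, 10, 1]
def rw1266 : List ℕ := [11, 8, 1, 9, 7, 8, 0, 9, 10, 0, 11, 8, 0, 9, 10, 0, 6, 1, 11, 8, 1, 9, 10, 1]
def rw1267 : List ℕ := [11, 8, 1, 9, 10, 1, 11, 8, 1, 9, 11, 8, 0, 9, 10, 0, 11, 8, 0, 9, 10, 0, 10, 1]
def rw1268 : List ℕ := [11, 0, 8, 6, 4, 0, 8, 6, 4, 0, 8, 6, 4, 0, 8, 6, 4, 0, 8, 6, 4, 10, 5, 7, 9, 1, 5, 7, 9, 1, 5, 7, 9, 1, 5, 7, 9, 1, 5, 7, 9, 1]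
def rw1269 : List ℕ := [11, 8, 0, 9, 10, 0, 6, 1, 11, 8, 1, 9, 10, 1, 11, 8, 1, 9, 7, 8, 0, 9, 10, 0]
def rw1270 : List ℕ := [11, 8, 1, 9, 13, 8, 0, 9, 10, 0, 11, 8, 0, 9, 10, 0, 12, 1, 11, 8, 1, 9, 10, 1]
def rw1271 : List ℕ := [11, 5, 7, 9, 1, 5, 7, 9, 1, 5, 7, 9, 1, 5, 7, 9, 1, 5, 7, 9, 1, 10, 0, 8, 6, 4, 0, 8, 6, 4, 0, 8, 6, 4, 0, 8, 6, 4, 0, 8, 6, 4]
def rw1272 : List ℕ := [11, 8, 1, 9, 10, 1, 11, 8, 1, 9, 7, 8, 0, 9, 10, 0, 11, 8, 0, 9, 10, 0, 6, 1]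
def rw1273 : List ℕ := [12, 2, 1, 1]
def rw1274 : List ℕ := [12, 12]
def rw1275 : List ℕ := [12, 4, 12, 4]
def rw1276 : List ℕ := [12, 6, 12, 6]
def rw1277 : List ℕ := [12, 8, 12, 8]
def rw1278 : List ℕ := [12, 4, 12, 4]
def rw1279 : List ℕ := [12, 6, 12, 6]
def rw1280 : List ℕ := [12, 8, 12, 8]
def rw1281 : List ℕ := [12, 2, 12, 2]
def rw1282 : List ℕ := [12, 2, 12, 2]
def rw1283 : List ℕ := [12, 6, 0, 7, 4, 0, 5, 6, 0, 7, 4, 0, 13, 1, 5, 6, 1, 7, 4, 1, 5, 6, 1, 7]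
def rw1284 : List ℕ := [12, 10, 12, 10, 12, 10]
def rw1285 : List ℕ := [12, 2, 7, 9, 7, 9, 7, 9, 7, 9]
def rw1286 : List ℕ := [12, 10, 12, 10, 12, 10]
def rw1287 : List ℕ := [12, 10, 12, 10, 12, 10]
def rw1288 : List ℕ := [12, 1, 11, 8, 1, 9, 10, 1, 11, 8, 1, 9, 13, 8, 0, 9, 10, 0, 11, 8, 0, 9, 10, 0]
def rw1289 : List ℕ := [12, 1, 5, 6, 1, 7, 4, 1, 5, 6, 1, 7, 13, 6, 0, 7, 4, 0, 5, 6, 0, 7, 4, 0]
def rw1290 : List ℕ := [12, 8, 0, 9, 10, 0, 11, 8, 0, 9, 10, 0, 13, 1, 11, 8, 1, 9, 10, 1, 11, 8, 1, 9]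
def rw1291 : List ℕ := [12, 0, 8, 6, 4, 0, 8, 6, 4, 0, 8, 6, 4, 0, 8, 6, 4, 0, 8, 6, 4, 13, 5, 7, 9, 1, 5, 7, 9, 1, 5, 7, 9, 1, 5, 7, 9, 1, 5, 7, 9, 1]
def rw1292 : List ℕ := [12, 5, 7, 9, 1, 5, 7, 9, 1, 5, 7, 9, 1, 5, 7, 9, 1, 5, 7, 9, 1, 13, 0, 8, 6, 4, 0, 8, 6, 4, 0, 8, 6, 4, 0, 8, 6, 4, 0, 8, 6, 4]
def rw1293 : List ℕ := [13, 0, 0, 3]
def rw1294 : List ℕ := [13, 3, 13, 3]
def rw1295 : List ℕ := [13, 1, 5, 6, 1, 7, 4, 1, 5, 6, 1, 7, 12, 6, 0, 7, 4, 0, 5, 6, 0, 7, 4, 0]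
def rw1296 : List ℕ := [13, 13]
def rw1297 : List ℕ := [13, 3, 13, 3]
def rw1298 : List ℕ := [13, 7, 13, 7]
def rw1299 : List ℕ := [13, 9, 13, 9]
def rw1300 : List ℕ := [13, 5, 13, 5]
def rw1301 : List ℕ := [13, 8, 6, 8, 6, 8, 6, 8, 6, 3]
def rw1302 : List ℕ := [13, 9, 13, 9]
def rw1303 : List ℕ := [13, 7, 13, 7]
def rw1304 : List ℕ := [13, 1, 11, 8, 1, 9, 10, 1, 11, 8, 1, 9, 12, 8, 0, 9, 10, 0, 11, 8, 0, 9, 10, 0]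
def rw1305 : List ℕ := [13, 6, 0, 7, 4, 0, 5, 6, 0, 7, 4, 0, 12, 1, 5, 6, 1, 7, 4, 1, 5, 6, 1, 7]
def rw1306 : List ℕ := [13, 11, 13, 11, 13, 11]
def rw1307 : List ℕ := [13, 11, 13, 11, 13, 11]
def rw1308 : List ℕ := [13, 8, 0, 9, 10, 0, 11, 8, 0, 9, 10, 0, 12, 1, 11, 8, 1, 9, 10, 1, 11, 8, 1, 9]
def rw1309 : List ℕ := [13, 5, 13, 5]
def rw1310 : List ℕ := [13, 5, 7, 9, 1, 5, 7, 9, 1, 5, 7, 9, 1, 5, 7, 9, 1, 5, 7, 9, 1, 12, 0, 8, 6, 4, 0, 8, 6, 4, 0, 8, 6, 4, 0, 8, 6, 4, 0, 8, 6, 4]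
def rw1311 : List ℕ := [13, 11, 13, 11, 13, 11]
def rw1312 : List ℕ := [13, 0, 8, 6, 4, 0, 8, 6, 4, 0, 8, 6, 4, 0, 8, 6, 4, 0, 8, 6, 4, 12, 5, 7, 9, 1, 5, 7, 9, 1, 5, 7, 9, 1, 5, 7, 9, 1, 5, 7, 9, 1]
def rw1313 : List ℕ := [6, 6, 0, 7, 4, 0, 5, 6, 0, 7, 4, 0, 7, 1, 5, 6, 1, 7, 4, 1, 5, 6, 1, 7]
def rw1314 : List ℕ := [0, 1, 1, 5, 6, 1, 7, 4, 1, 5, 6, 1, 7, 0, 6, 0, 7, 4, 0, 5, 6, 0, 7, 4]
def rw1315 : List ℕ := [0, 1, 1, 11, 8, 1, 9, 10, 1, 11, 8, 1, 9, 0, 8, 0, 9, 10, 0, 11, 8, 0, 9, 10]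
def rw1316 : List ℕ := [6, 0, 7, 4, 0, 5, 6, 0, 7, 4, 0, 4, 1, 5, 6, 1, 7, 4, 1, 5, 6, 1, 7, 5]
def rw1317 : List ℕ := [12, 12]
def rw1318 : List ℕ := [0, 1, 11, 8, 1, 9, 10, 1, 11, 8, 1, 9, 1, 8, 0, 9, 10, 0, 11, 8, 0, 9, 10, 0]
def rw1319 : List ℕ := [9, 8, 8, 0, 9, 10, 0, 11, 8, 0, 9, 10, 0, 9, 1, 11, 8, 1, 9, 10, 1, 11, 8, 1]
def rw1320 : List ℕ := [7, 4, 0, 2, 1, 5, 6, 1, 7, 4, 1, 5, 6, 1, 7, 3, 6, 0, 7, 4, 0, 5, 6, 0]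
def rw1321 : List ℕ := [0, 1, 5, 6, 1, 7, 4, 1, 5, 6, 1, 7, 1, 6, 0, 7, 4, 0, 5, 6, 0, 7, 4, 0]
def rw1322 : List ℕ := [1, 7, 4, 1, 5, 6, 1, 7, 13, 6, 0, 7, 4, 0, 5, 6, 0, 7, 4, 0, 12, 1, 5, 6]
def rw1323 : List ℕ := [8, 0, 9, 10, 0, 6, 1, 11, 8, 1, 9, 10, 1, 11, 8, 1, 9, 7, 8, 0, 9, 10, 0, 11]
def rw1324 : List ℕ := [9, 10, 0, 12, 1, 11, 8, 1, 9, 10, 1, 11, 8, 1, 9, 13, 8, 0, 9, 10, 0, 11, 8, 0]
def rw1325 : List ℕ := [9, 1, 5, 7, 9, 1, 5, 7, 9, 1, 5, 7, 9, 1, 5, 7, 9, 1, 9, 0, 8, 6, 4, 0, 8, 6, 4, 0, 8, 6, 4, 0, 8, 6, 4, 0, 8, 6, 4, 8, 5, 7]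
def rw1326 : List ℕ := [3, 3]
def rw1327 : List ℕ := [13, 13]
def rw1328 : List ℕ := [7, 6, 6, 0, 7, 4, 0, 5, 6, 0, 7, 4, 0, 7, 1, 5, 6, 1, 7, 4, 1, 5, 6, 1]
def rw1329 : List ℕ := [8, 6, 4, 2, 5, 7, 9, 1, 5, 7, 9, 1, 5, 7, 9, 1, 5, 7, 9, 1, 5, 7, 9, 1, 3, 0, 8, 6, 4, 0, 8, 6, 4, 0, 8, 6, 4, 0, 8, 6, 4, 0]
def rw1330 : List ℕ := [9, 8, 0, 9, 10, 0, 11, 8, 0, 9, 10, 0, 8, 1, 11, 8, 1, 9, 10, 1, 11, 8, 1, 9]
def rw1331 : List ℕ := [7, 4, 1, 5, 6, 1, 7, 9, 6, 0, 7, 4, 0, 5, 6, 0, 7, 4, 0, 8, 1, 5, 6, 1]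
def rw1332 : List ℕ := [5, 6, 0, 7, 4, 0, 10, 1, 5, 6, 1, 7, 4, 1, 5, 6, 1, 7, 11, 6, 0, 7, 4, 0]
def rw1333 : List ℕ := [6, 6]
def rw1334 : List ℕ := [5, 5]
def rw1335 : List ℕ := [4, 4]
def rw1336 : List ℕ := [8, 6, 4, 0, 8, 6, 4, 6, 5, 7, 9, 1, 5, 7, 9, 1, 5, 7, 9, 1, 5, 7, 9, 1, 5, 7, 9, 1, 7, 0, 8, 6, 4, 0, 8, 6, 4, 0, 8, 6, 4, 0]
def rw1337 : List ℕ := [7, 7]
def rw1338 : List ℕ := [1, 1, 11, 8, 1, 9, 10, 1, 11, 8, 1, 9, 0, 8, 0, 9, 10, 0, 11, 8, 0, 9, 10, 0]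
def rw1339 : List ℕ := [10, 10]
def rw1340 : List ℕ := [0, 8, 6, 4, 0, 8, 6, 4, 0, 8, 6, 4, 10, 5, 7, 9, 1, 5, 7, 9, 1, 5, 7, 9, 1, 5, 7, 9, 1, 5, 7, 9, 1, 11, 0, 8, 6, 4, 0, 8, 6, 4]
def rw1341 : List ℕ := [11, 8, 0, 9, 10, 0, 4, 1, 11, 8, 1, 9, 10, 1, 11, 8, 1, 9, 5, 8, 0, 9, 10, 0]
def rw1342 : List ℕ := [7, 6, 0, 7, 4, 0, 5, 6, 0, 7, 4, 0, 6, 1, 5, 6, 1, 7, 4, 1, 5, 6, 1, 7]
def rw1343 : List ℕ := [5, 7, 9, 1, 5, 7, 9, 1, 5, 7, 9, 1, 13, 0, 8, 6, 4, 0, 8, 6, 4, 0, 8, 6, 4, 0, 8, 6, 4, 0, 8, 6, 4, 12, 5, 7, 9, 1, 5, 7, 9, 1]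
def rw1344 : List ℕ := [6, 0, 7, 4, 0, 2, 1, 5, 6, 1, 7, 4, 1, 5, 6, 1, 7, 3, 6, 0, 7, 4, 0, 5]
def rw1345 : List ℕ := [1, 1, 5, 6, 1, 7, 4, 1, 5, 6, 1, 7, 0, 6, 0, 7, 4, 0, 5, 6, 0, 7, 4, 0]
def rw1346 : List ℕ := [0, 8, 6, 4, 12, 5, 7, 9, 1, 5, 7, 9, 1, 5, 7, 9, 1, 5, 7, 9, 1, 5, 7, 9, 1, 13, 0, 8, 6, 4, 0, 8, 6, 4, 0, 8, 6, 4, 0, 8, 6, 4]
def rw1347 : List ℕ := [7, 4, 0, 5, 6, 0, 7, 4, 0, 6, 1, 5, 6, 1, 7, 4, 1, 5, 6, 1, 7, 7, 6, 0]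
def rw1348 : List ℕ := [2, 2]
def rw1349 : List ℕ := [4, 0, 8, 6, 4, 0, 8, 6, 4, 13, 5, 7, 9, 1, 5, 7, 9, 1, 5, 7, 9, 1, 5, 7, 9, 1, 5, 7, 9, 1, 12, 0, 8, 6, 4, 0, 8, 6, 4, 0, 8, 6]
def rw1350 : List ℕ := [8, 8]
def rw1351 : List ℕ := [8, 6, 4, 0, 8, 6, 4, 12, 5, 7, 9, 1, 5, 7, 9, 1, 5, 7, 9, 1, 5, 7, 9, 1, 5, 7, 9, 1, 13, 0, 8, 6, 4, 0, 8, 6, 4, 0, 8, 6, 4, 0]
def rw1352 : List ℕ := [6, 4, 12, 5, 7, 9, 1, 5, 7, 9, 1, 5, 7, 9, 1, 5, 7, 9, 1, 5, 7, 9, 1, 13, 0, 8, 6, 4, 0, 8, 6, 4, 0, 8, 6, 4, 0, 8, 6, 4, 0, 8]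
def rw1353 : List ℕ := [11, 11]
def rw1354 : List ℕ := [7, 4, 0, 5, 6, 0, 7, 4, 0, 8, 1, 5, 6, 1, 7, 4, 1, 5, 6, 1, 7, 9, 6, 0]
def rw1355 : List ℕ := [9, 9]
def rw1356 : List ℕ := [5, 7, 9, 1, 11, 0, 8, 6, 4, 0, 8, 6, 4, 0, 8, 6, 4, 0, 8, 6, 4, 0, 8, 6, 4, 10, 5, 7, 9, 1, 5, 7, 9, 1, 5, 7, 9, 1, 5, 7, 9, 1]
def rw1357 : List ℕ := [9, 10, 0, 11, 8, 0, 9, 10, 0, 12, 1, 11, 8, 1, 9, 10, 1, 11, 8, 1, 9, 13, 8, 0]
def rw1358 : List ℕ := [9, 10, 1, 11, 8, 1, 9, 5, 8, 0, 9, 10, 0, 11, 8, 0, 9, 10, 0, 4, 1, 11, 8, 1]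
def rw1359 : List ℕ := [7, 9, 1, 5, 7, 9, 1, 5, 7, 9, 1, 5, 7, 9, 1, 12, 0, 8, 6, 4, 0, 8, 6, 4, 0, 8, 6, 4, 0, 8, 6, 4, 0, 8, 6, 4, 13, 5, 7, 9, 1, 5]
noncomputable def relW (i : ℕ) : List ℕ := (Bool.rec (motive := fun _ => List ℕ) (Bool.rec (motive := fun _ => List ℕ) (Bool.rec (motive := fun _ => List ℕ) (Bool.rec (motive := fun _ => List ℕ) (Bool.rec (motive := fun _ => List ℕ) (Bool.rec (motive := fun _ => List ℕ) (Bool.rec (motive := fun _ => List ℕ) (Bool.rec (motive := fun _ => List ℕ) (Bool.rec (motive := fun _ => List ℕ) (Bool.rec (motive := fun _ => List ℕ) (Bool.rec (motive := fun _ => List ℕ) (rw0) (rw1) (Nat.ble 1 i)) (Bool.rec (motive := fun _ => List ℕ) (rw2) (rw3) (Nat.ble 3 i)) (Nat.ble 2 i)) (Bool.rec (motive := fun _ => List ℕ) (Bool.rec (motive := fun _ => List ℕ) (rw4) (rw5) (Nat.ble 5 i)) (Bool.rec (motive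 := fun _ => List ℕ) (rw6) (rw7) (Nat.ble 7 i)) (Nat.ble 6 i)) (Nat.ble 4 i)) (Bool.rec (motive := fun _ => List ℕ) (Bool.rec (motive := fun _ => List ℕ) (Bool.rec (motive := fun _ => List ℕ) (rw8) (rw9) (Nat.ble 9 i)) (Bool.rec (motive := fun _ => List ℕ) (rw10) (rw11) (Nat.ble 11 i)) (Nat.ble 10 i)) (Bool.rec (motive := fun _ => List ℕ) (Bool.rec (motive := fun _ => List ℕ) (rw12) (rw13) (Nat.ble 13 i)) (Bool.rec (motive := fun _ => List ℕ) (rw14) (rw15) (Nat.ble 15 i)) (Nat.ble 14 i)) (Nat.ble 12 i)) (Nat.ble 8 i)) (Bool.rec (motive := fun _ => List ℕ) (Bool.rec (motive := fun _ => List ℕ) (Bool.rec (motive := fun _ => List ℕ) (Bool.rec (motive := fun _ => List ℕ) (rw16) (rw17) (Nat.ble 17 i)) (Bool.rec (motive := fun _ => List ℕ) (rw18) (rw19) (Nat.ble 19 i)) (Nat.ble 18 i)) (Bool.rec (motive := fun _ => List ℕ) (Bool.rec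 (motive := fun _ => List ℕ) (rw20) (rw21) (Nat.ble 21 i)) (Bool.rec (motive := fun _ => List ℕ) (rw22) (rw23) (Nat.ble 23 i)) (Nat.ble 22 i)) (Nat.ble 20 i)) (Bool.rec (motive := fun _ => List ℕ) (Bool.rec (motive := fun _ => List ℕ) (Bool.rec (motive := fun _ => List ℕ) (rw24) (rw25) (Nat.ble 25 i)) (Bool.rec (motive := fun _ => List ℕ) (rw26) (rw27) (Nat.ble 27 i)) (Nat.ble 26 i)) (Bool.rec (motive := fun _ => List ℕ) (Bool.rec (motive := fun _ => List ℕ) (rw28) (rw29) (Nat.ble 29 i)) (Bool.rec (motive := fun _ => List ℕ) (rw30) (rw31) (Nat.ble 31 i)) (Nat.ble 30 i)) (Nat.ble 28 i)) (Nat.ble 24 i)) (Nat.ble 16 i)) (Bool.rec (motive := fun _ => List ℕ) (Bool.rec (motive := fun _ => List ℕ) (Bool.rec (motive := fun _ => List ℕ) (Bool.rec (motive := fun _ => List ℕ) (Bool.rec (motive := fun _ => List ℕ) (rw32) (rw33) (Nat.ble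 33 i)) (Bool.rec (motive := fun _ => List ℕ) (rw34) (rw35) (Nat.ble 35 i)) (Nat.ble 34 i)) (Bool.rec (motive := fun _ => List ℕ) (Bool.rec (motive := fun _ => List ℕ) (rw36) (rw37) (Nat.ble 37 i)) (Bool.rec (motive := fun _ => List ℕ) (rw38) (rw39) (Nat.ble 39 i)) (Nat.ble 38 i)) (Nat.ble 36 i)) (Bool.rec (motive := fun _ => List ℕ) (Bool.rec (motive := fun _ => List ℕ) (Bool.rec (motive := fun _ => List ℕ) (rw40) (rw41) (Nat.ble 41 i)) (Bool.rec (motive := fun _ => List ℕ) (rw42) (rw43) (Nat.ble 43 i)) (Nat.ble 42 i)) (Bool.rec (motive := fun _ => List ℕ) (Bool.rec (motive := fun _ => List ℕ) (rw44) (rw45) (Nat.ble 45 i)) (Bool.rec (motive := fun _ => List ℕ) (rw46) (rw47) (Nat.ble 47 i)) (Nat.ble 46 i)) (Nat.ble 44 i)) (Nat.ble 40 i)) (Bool.rec (motive := fun _ => List ℕ) (Bool.rec (motive := fun _ => List ℕ) (Bool.rec (motive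 := fun _ => List ℕ) (Bool.rec (motive := fun _ => List ℕ) (rw48) (rw49) (Nat.ble 49 i)) (Bool.rec (motive := fun _ => List ℕ) (rw50) (rw51) (Nat.ble 51 i)) (Nat.ble 50 i)) (Bool.rec (motive := fun _ => List ℕ) (Bool.rec (motive := fun _ => List ℕ) (rw52) (rw53) (Nat.ble 53 i)) (Bool.rec (motive := fun _ => List ℕ) (rw54) (rw55) (Nat.ble 55 i)) (Nat.ble 54 i)) (Nat.ble 52 i)) (Bool.rec (motive := fun _ => List ℕ) (Bool.rec (motive := fun _ => List ℕ) (Bool.rec (motive := fun _ => List ℕ) (rw56) (rw57) (Nat.ble 57 i)) (Bool.rec (motive := fun _ => List ℕ) (rw58) (rw59) (Nat.ble 59 i)) (Nat.ble 58 i)) (Bool.rec (motive := fun _ => List ℕ) (Bool.rec (motive := fun _ => List ℕ) (rw60) (rw61) (Nat.ble 61 i)) (Bool.rec (motive := fun _ => List ℕ) (rw62) (rw63) (Nat.ble 63 i)) (Nat.ble 62 i)) (Nat.ble 60 i)) (Nat.ble 56 i)) (Nat.ble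 48 i)) (Nat.ble 32 i)) (Bool.rec (motive := fun _ => List ℕ) (Bool.rec (motive := fun _ => List ℕ) (Bool.rec (motive := fun _ => List ℕ) (Bool.rec (motive := fun _ => List ℕ) (Bool.rec (motive := fun _ => List ℕ) (Bool.rec (motive := fun _ => List ℕ) (rw64) (rw65) (Nat.ble 65 i)) (Bool.rec (motive := fun _ => List ℕ) (rw66) (rw67) (Nat.ble 67 i)) (Nat.ble 66 i)) (Bool.rec (motive := fun _ => List ℕ) (Bool.rec (motive := fun _ => List ℕ) (rw68) (rw69) (Nat.ble 69 i)) (Bool.rec (motive := fun _ => List ℕ) (rw70) (rw71) (Nat.ble 71 i)) (Nat.ble 70 i)) (Nat.ble 68 i)) (Bool.rec (motive := fun _ => List ℕ) (Bool.rec (motive := fun _ => List ℕ) (Bool.rec (motive := fun _ => List ℕ) (rw72) (rw73) (Nat.ble 73 i)) (Bool.rec (motive := fun _ => List ℕ) (rw74) (rw75) (Nat.ble 75 i)) (Nat.ble 74 i)) (Bool.rec (motive := fun _ => List ℕ)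 (Bool.rec (motive := fun _ => List ℕ) (rw76) (rw77) (Nat.ble 77 i)) (Bool.rec (motive := fun _ => List ℕ) (rw78) (rw79) (Nat.ble 79 i)) (Nat.ble 78 i)) (Nat.ble 76 i)) (Nat.ble 72 i)) (Bool.rec (motive := fun _ => List ℕ) (Bool.rec (motive := fun _ => List ℕ) (Bool.rec (motive := fun _ => List ℕ) (Bool.rec (motive := fun _ => List ℕ) (rw80) (rw81) (Nat.ble 81 i)) (Bool.rec (motive := fun _ => List ℕ) (rw82) (rw83) (Nat.ble 83 i)) (Nat.ble 82 i)) (Bool.rec (motive := fun _ => List ℕ) (Bool.rec (motive := fun _ => List ℕ) (rw84) (rw85) (Nat.ble 85 i)) (Bool.rec (motive := fun _ => List ℕ) (rw86) (rw87) (Nat.ble 87 i)) (Nat.ble 86 i)) (Nat.ble 84 i)) (Bool.rec (motive := fun _ => List ℕ) (Bool.rec (motive := fun _ => List ℕ) (Bool.rec (motive := fun _ => List ℕ) (rw88) (rw89) (Nat.ble 89 i)) (Bool.rec (motive := fun _ => List ℕ)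 (rw90) (rw91) (Nat.ble 91 i)) (Nat.ble 90 i)) (Bool.rec (motive := fun _ => List ℕ) (Bool.rec (motive := fun _ => List ℕ) (rw92) (rw93) (Nat.ble 93 i)) (Bool.rec (motive := fun _ => List ℕ) (rw94) (rw95) (Nat.ble 95 i)) (Nat.ble 94 i)) (Nat.ble 92 i)) (Nat.ble 88 i)) (Nat.ble 80 i)) (Bool.rec (motive := fun _ => List ℕ) (Bool.rec (motive := fun _ => List ℕ) (Bool.rec (motive := fun _ => List ℕ) (Bool.rec (motive := fun _ => List ℕ) (Bool.rec (motive := fun _ => List ℕ) (rw96) (rw97) (Nat.ble 97 i)) (Bool.rec (motive := fun _ => List ℕ) (rw98) (rw99) (Nat.ble 99 i)) (Nat.ble 98 i)) (Bool.rec (motive := fun _ => List ℕ) (Bool.rec (motive := fun _ => List ℕ) (rw100) (rw101) (Nat.ble 101 i)) (Bool.rec (motive := fun _ => List ℕ) (rw102) (rw103) (Nat.ble 103 i)) (Nat.ble 102 i)) (Nat.ble 100 i)) (Bool.rec (motive := fun _ => List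 ℕ) (Bool.rec (motive := fun _ => List ℕ) (Bool.rec (motive := fun _ => List ℕ) (rw104) (rw105) (Nat.ble 105 i)) (Bool.rec (motive := fun _ => List ℕ) (rw106) (rw107) (Nat.ble 107 i)) (Nat.ble 106 i)) (Bool.rec (motive := fun _ => List ℕ) (Bool.rec (motive := fun _ => List ℕ) (rw108) (rw109) (Nat.ble 109 i)) (Bool.rec (motive := fun _ => List ℕ) (rw110) (rw111) (Nat.ble 111 i)) (Nat.ble 110 i)) (Nat.ble 108 i)) (Nat.ble 104 i)) (Bool.rec (motive := fun _ => List ℕ) (Bool.rec (motive := fun _ => List ℕ) (Bool.rec (motive := fun _ => List ℕ) (Bool.rec (motive := fun _ => List ℕ) (rw112) (rw113) (Nat.ble 113 i)) (Bool.rec (motive := fun _ => List ℕ) (rw114) (rw115) (Nat.ble 115 i)) (Nat.ble 114 i)) (Bool.rec (motive := fun _ => List ℕ) (Bool.rec (motive := fun _ => List ℕ) (rw116) (rw117) (Nat.ble 117 i)) (Bool.rec (motive := fun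 _ => List ℕ) (rw118) (rw119) (Nat.ble 119 i)) (Nat.ble 118 i)) (Nat.ble 116 i)) (Bool.rec (motive := fun _ => List ℕ) (Bool.rec (motive := fun _ => List ℕ) (Bool.rec (motive := fun _ => List ℕ) (rw120) (rw121) (Nat.ble 121 i)) (Bool.rec (motive := fun _ => List ℕ) (rw122) (rw123) (Nat.ble 123 i)) (Nat.ble 122 i)) (Bool.rec (motive := fun _ => List ℕ) (Bool.rec (motive := fun _ => List ℕ) (rw124) (rw125) (Nat.ble 125 i)) (Bool.rec (motive := fun _ => List ℕ) (rw126) (rw127) (Nat.ble 127 i)) (Nat.ble 126 i)) (Nat.ble 124 i)) (Nat.ble 120 i)) (Nat.ble 112 i)) (Nat.ble 96 i)) (Nat.ble 64 i)) (Bool.rec (motive := fun _ => List ℕ) (Bool.rec (motive := fun _ => List ℕ) (Bool.rec (motive := fun _ => List ℕ) (Bool.rec (motive := fun _ => List ℕ) (Bool.rec (motive := fun _ => List ℕ) (Bool.rec (motive := fun _ => List ℕ) (Bool.rec (motive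 := fun _ => List ℕ) (rw128) (rw129) (Nat.ble 129 i)) (Bool.rec (motive := fun _ => List ℕ) (rw130) (rw131) (Nat.ble 131 i)) (Nat.ble 130 i)) (Bool.rec (motive := fun _ => List ℕ) (Bool.rec (motive := fun _ => List ℕ) (rw132) (rw133) (Nat.ble 133 i)) (Bool.rec (motive := fun _ => List ℕ) (rw134) (rw135) (Nat.ble 135 i)) (Nat.ble 134 i)) (Nat.ble 132 i)) (Bool.rec (motive := fun _ => List ℕ) (Bool.rec (motive := fun _ => List ℕ) (Bool.rec (motive := fun _ => List ℕ) (rw136) (rw137) (Nat.ble 137 i)) (Bool.rec (motive := fun _ => List ℕ) (rw138) (rw139) (Nat.ble 139 i)) (Nat.ble 138 i)) (Bool.rec (motive := fun _ => List ℕ) (Bool.rec (motive := fun _ => List ℕ) (rw140) (rw141) (Nat.ble 141 i)) (Bool.rec (motive := fun _ => List ℕ) (rw142) (rw143) (Nat.ble 143 i)) (Nat.ble 142 i)) (Nat.ble 140 i)) (Nat.ble 136 i)) (Bool.rec (motive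 := fun _ => List ℕ) (Bool.rec (motive := fun _ => List ℕ) (Bool.rec (motive := fun _ => List ℕ) (Bool.rec (motive := fun _ => List ℕ) (rw144) (rw145) (Nat.ble 145 i)) (Bool.rec (motive := fun _ => List ℕ) (rw146) (rw147) (Nat.ble 147 i)) (Nat.ble 146 i)) (Bool.rec (motive := fun _ => List ℕ) (Bool.rec (motive := fun _ => List ℕ) (rw148) (rw149) (Nat.ble 149 i)) (Bool.rec (motive := fun _ => List ℕ) (rw150) (rw151) (Nat.ble 151 i)) (Nat.ble 150 i)) (Nat.ble 148 i)) (Bool.rec (motive := fun _ => List ℕ) (Bool.rec (motive := fun _ => List ℕ) (Bool.rec (motive := fun _ => List ℕ) (rw152) (rw153) (Nat.ble 153 i)) (Bool.rec (motive := fun _ => List ℕ) (rw154) (rw155) (Nat.ble 155 i)) (Nat.ble 154 i)) (Bool.rec (motive := fun _ => List ℕ) (Bool.rec (motive := fun _ => List ℕ) (rw156) (rw157) (Nat.ble 157 i)) (Bool.rec (motive := fun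 _ => List ℕ) (rw158) (rw159) (Nat.ble 159 i)) (Nat.ble 158 i)) (Nat.ble 156 i)) (Nat.ble 152 i)) (Nat.ble 144 i)) (Bool.rec (motive := fun _ => List ℕ) (Bool.rec (motive := fun _ => List ℕ) (Bool.rec (motive := fun _ => List ℕ) (Bool.rec (motive := fun _ => List ℕ) (Bool.rec (motive := fun _ => List ℕ) (rw160) (rw161) (Nat.ble 161 i)) (Bool.rec (motive := fun _ => List ℕ) (rw162) (rw163) (Nat.ble 163 i)) (Nat.ble 162 i)) (Bool.rec (motive := fun _ => List ℕ) (Bool.rec (motive := fun _ => List ℕ) (rw164) (rw165) (Nat.ble 165 i)) (Bool.rec (motive := fun _ => List ℕ) (rw166) (rw167) (Nat.ble 167 i)) (Nat.ble 166 i)) (Nat.ble 164 i)) (Bool.rec (motive := fun _ => List ℕ) (Bool.rec (motive := fun _ => List ℕ) (Bool.rec (motive := fun _ => List ℕ) (rw168) (rw169) (Nat.ble 169 i)) (Bool.rec (motive := fun _ => List ℕ) (rw170) (rw171)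 (Nat.ble 171 i)) (Nat.ble 170 i)) (Bool.rec (motive := fun _ => List ℕ) (Bool.rec (motive := fun _ => List ℕ) (rw172) (rw173) (Nat.ble 173 i)) (Bool.rec (motive := fun _ => List ℕ) (rw174) (rw175) (Nat.ble 175 i)) (Nat.ble 174 i)) (Nat.ble 172 i)) (Nat.ble 168 i)) (Bool.rec (motive := fun _ => List ℕ) (Bool.rec (motive := fun _ => List ℕ) (Bool.rec (motive := fun _ => List ℕ) (Bool.rec (motive := fun _ => List ℕ) (rw176) (rw177) (Nat.ble 177 i)) (Bool.rec (motive := fun _ => List ℕ) (rw178) (rw179) (Nat.ble 179 i)) (Nat.ble 178 i)) (Bool.rec (motive := fun _ => List ℕ) (Bool.rec (motive := fun _ => List ℕ) (rw180) (rw181) (Nat.ble 181 i)) (Bool.rec (motive := fun _ => List ℕ) (rw182) (rw183) (Nat.ble 183 i)) (Nat.ble 182 i)) (Nat.ble 180 i)) (Bool.rec (motive := fun _ => List ℕ) (Bool.rec (motive := fun _ => List ℕ) (Bool.rec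 (motive := fun _ => List ℕ) (rw184) (rw185) (Nat.ble 185 i)) (Bool.rec (motive := fun _ => List ℕ) (rw186) (rw187) (Nat.ble 187 i)) (Nat.ble 186 i)) (Bool.rec (motive := fun _ => List ℕ) (Bool.rec (motive := fun _ => List ℕ) (rw188) (rw189) (Nat.ble 189 i)) (Bool.rec (motive := fun _ => List ℕ) (rw190) (rw191) (Nat.ble 191 i)) (Nat.ble 190 i)) (Nat.ble 188 i)) (Nat.ble 184 i)) (Nat.ble 176 i)) (Nat.ble 160 i)) (Bool.rec (motive := fun _ => List ℕ) (Bool.rec (motive := fun _ => List ℕ) (Bool.rec (motive := fun _ => List ℕ) (Bool.rec (motive := fun _ => List ℕ) (Bool.rec (motive := fun _ => List ℕ) (Bool.rec (motive := fun _ => List ℕ) (rw192) (rw193) (Nat.ble 193 i)) (Bool.rec (motive := fun _ => List ℕ) (rw194) (rw195) (Nat.ble 195 i)) (Nat.ble 194 i)) (Bool.rec (motive := fun _ => List ℕ) (Bool.rec (motive := fun _ => List ℕ)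 (rw196) (rw197) (Nat.ble 197 i)) (Bool.rec (motive := fun _ => List ℕ) (rw198) (rw199) (Nat.ble 199 i)) (Nat.ble 198 i)) (Nat.ble 196 i)) (Bool.rec (motive := fun _ => List ℕ) (Bool.rec (motive := fun _ => List ℕ) (Bool.rec (motive := fun _ => List ℕ) (rw200) (rw201) (Nat.ble 201 i)) (Bool.rec (motive := fun _ => List ℕ) (rw202) (rw203) (Nat.ble 203 i)) (Nat.ble 202 i)) (Bool.rec (motive := fun _ => List ℕ) (Bool.rec (motive := fun _ => List ℕ) (rw204) (rw205) (Nat.ble 205 i)) (Bool.rec (motive := fun _ => List ℕ) (rw206) (rw207) (Nat.ble 207 i)) (Nat.ble 206 i)) (Nat.ble 204 i)) (Nat.ble 200 i)) (Bool.rec (motive := fun _ => List ℕ) (Bool.rec (motive := fun _ => List ℕ) (Bool.rec (motive := fun _ => List ℕ) (Bool.rec (motive := fun _ => List ℕ) (rw208) (rw209) (Nat.ble 209 i)) (Bool.rec (motive := fun _ => List ℕ) (rw210) (rw211)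 (Nat.ble 211 i)) (Nat.ble 210 i)) (Bool.rec (motive := fun _ => List ℕ) (Bool.rec (motive := fun _ => List ℕ) (rw212) (rw213) (Nat.ble 213 i)) (Bool.rec (motive := fun _ => List ℕ) (rw214) (rw215) (Nat.ble 215 i)) (Nat.ble 214 i)) (Nat.ble 212 i)) (Bool.rec (motive := fun _ => List ℕ) (Bool.rec (motive := fun _ => List ℕ) (Bool.rec (motive := fun _ => List ℕ) (rw216) (rw217) (Nat.ble 217 i)) (Bool.rec (motive := fun _ => List ℕ) (rw218) (rw219) (Nat.ble 219 i)) (Nat.ble 218 i)) (Bool.rec (motive := fun _ => List ℕ) (Bool.rec (motive := fun _ => List ℕ) (rw220) (rw221) (Nat.ble 221 i)) (Bool.rec (motive := fun _ => List ℕ) (rw222) (rw223) (Nat.ble 223 i)) (Nat.ble 222 i)) (Nat.ble 220 i)) (Nat.ble 216 i)) (Nat.ble 208 i)) (Bool.rec (motive := fun _ => List ℕ) (Bool.rec (motive := fun _ => List ℕ) (Bool.rec (motive := fun _ =>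 List ℕ) (Bool.rec (motive := fun _ => List ℕ) (Bool.rec (motive := fun _ => List ℕ) (rw224) (rw225) (Nat.ble 225 i)) (Bool.rec (motive := fun _ => List ℕ) (rw226) (rw227) (Nat.ble 227 i)) (Nat.ble 226 i)) (Bool.rec (motive := fun _ => List ℕ) (Bool.rec (motive := fun _ => List ℕ) (rw228) (rw229) (Nat.ble 229 i)) (Bool.rec (motive := fun _ => List ℕ) (rw230) (rw231) (Nat.ble 231 i)) (Nat.ble 230 i)) (Nat.ble 228 i)) (Bool.rec (motive := fun _ => List ℕ) (Bool.rec (motive := fun _ => List ℕ) (Bool.rec (motive := fun _ => List ℕ) (rw232) (rw233) (Nat.ble 233 i)) (Bool.rec (motive := fun _ => List ℕ) (rw234) (rw235) (Nat.ble 235 i)) (Nat.ble 234 i)) (Bool.rec (motive := fun _ => List ℕ) (Bool.rec (motive := fun _ => List ℕ) (rw236) (rw237) (Nat.ble 237 i)) (Bool.rec (motive := fun _ => List ℕ) (rw238) (rw239) (Nat.ble 239 i)) (Nat.ble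 238 i)) (Nat.ble 236 i)) (Nat.ble 232 i)) (Bool.rec (motive := fun _ => List ℕ) (Bool.rec (motive := fun _ => List ℕ) (Bool.rec (motive := fun _ => List ℕ) (Bool.rec (motive := fun _ => List ℕ) (rw240) (rw241) (Nat.ble 241 i)) (Bool.rec (motive := fun _ => List ℕ) (rw242) (rw243) (Nat.ble 243 i)) (Nat.ble 242 i)) (Bool.rec (motive := fun _ => List ℕ) (Bool.rec (motive := fun _ => List ℕ) (rw244) (rw245) (Nat.ble 245 i)) (Bool.rec (motive := fun _ => List ℕ) (rw246) (rw247) (Nat.ble 247 i)) (Nat.ble 246 i)) (Nat.ble 244 i)) (Bool.rec (motive := fun _ => List ℕ) (Bool.rec (motive := fun _ => List ℕ) (Bool.rec (motive := fun _ => List ℕ) (rw248) (rw249) (Nat.ble 249 i)) (Bool.rec (motive := fun _ => List ℕ) (rw250) (rw251) (Nat.ble 251 i)) (Nat.ble 250 i)) (Bool.rec (motive := fun _ => List ℕ) (Bool.rec (motive := fun _ => List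 ℕ) (rw252) (rw253) (Nat.ble 253 i)) (Bool.rec (motive := fun _ => List ℕ) (rw254) (rw255) (Nat.ble 255 i)) (Nat.ble 254 i)) (Nat.ble 252 i)) (Nat.ble 248 i)) (Nat.ble 240 i)) (Nat.ble 224 i)) (Nat.ble 192 i)) (Nat.ble 128 i)) (Bool.rec (motive := fun _ => List ℕ) (Bool.rec (motive := fun _ => List ℕ) (Bool.rec (motive := fun _ => List ℕ) (Bool.rec (motive := fun _ => List ℕ) (Bool.rec (motive := fun _ => List ℕ) (Bool.rec (motive := fun _ => List ℕ) (Bool.rec (motive := fun _ => List ℕ) (Bool.rec (motive := fun _ => List ℕ) (rw256) (rw257) (Nat.ble 257 i)) (Bool.rec (motive := fun _ => List ℕ) (rw258) (rw259) (Nat.ble 259 i)) (Nat.ble 258 i)) (Bool.rec (motive := fun _ => List ℕ) (Bool.rec (motive := fun _ => List ℕ) (rw260) (rw261) (Nat.ble 261 i)) (Bool.rec (motive := fun _ => List ℕ) (rw262) (rw263) (Nat.ble 263 i)) (Nat.ble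 262 i)) (Nat.ble 260 i)) (Bool.rec (motive := fun _ => List ℕ) (Bool.rec (motive := fun _ => List ℕ) (Bool.rec (motive := fun _ => List ℕ) (rw264) (rw265) (Nat.ble 265 i)) (Bool.rec (motive := fun _ => List ℕ) (rw266) (rw267) (Nat.ble 267 i)) (Nat.ble 266 i)) (Bool.rec (motive := fun _ => List ℕ) (Bool.rec (motive := fun _ => List ℕ) (rw268) (rw269) (Nat.ble 269 i)) (Bool.rec (motive := fun _ => List ℕ) (rw270) (rw271) (Nat.ble 271 i)) (Nat.ble 270 i)) (Nat.ble 268 i)) (Nat.ble 264 i)) (Bool.rec (motive := fun _ => List ℕ) (Bool.rec (motive := fun _ => List ℕ) (Bool.rec (motive := fun _ => List ℕ) (Bool.rec (motive := fun _ => List ℕ) (rw272) (rw273) (Nat.ble 273 i)) (Bool.rec (motive := fun _ => List ℕ) (rw274) (rw275) (Nat.ble 275 i)) (Nat.ble 274 i)) (Bool.rec (motive := fun _ => List ℕ) (Bool.rec (motive := fun _ => List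 ℕ) (rw276) (rw277) (Nat.ble 277 i)) (Bool.rec (motive := fun _ => List ℕ) (rw278) (rw279) (Nat.ble 279 i)) (Nat.ble 278 i)) (Nat.ble 276 i)) (Bool.rec (motive := fun _ => List ℕ) (Bool.rec (motive := fun _ => List ℕ) (Bool.rec (motive := fun _ => List ℕ) (rw280) (rw281) (Nat.ble 281 i)) (Bool.rec (motive := fun _ => List ℕ) (rw282) (rw283) (Nat.ble 283 i)) (Nat.ble 282 i)) (Bool.rec (motive := fun _ => List ℕ) (Bool.rec (motive := fun _ => List ℕ) (rw284) (rw285) (Nat.ble 285 i)) (Bool.rec (motive := fun _ => List ℕ) (rw286) (rw287) (Nat.ble 287 i)) (Nat.ble 286 i)) (Nat.ble 284 i)) (Nat.ble 280 i)) (Nat.ble 272 i)) (Bool.rec (motive := fun _ => List ℕ) (Bool.rec (motive := fun _ => List ℕ) (Bool.rec (motive := fun _ => List ℕ) (Bool.rec (motive := fun _ => List ℕ) (Bool.rec (motive := fun _ => List ℕ) (rw288) (rw289) (Nat.ble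 289 i)) (Bool.rec (motive := fun _ => List ℕ) (rw290) (rw291) (Nat.ble 291 i)) (Nat.ble 290 i)) (Bool.rec (motive := fun _ => List ℕ) (Bool.rec (motive := fun _ => List ℕ) (rw292) (rw293) (Nat.ble 293 i)) (Bool.rec (motive := fun _ => List ℕ) (rw294) (rw295) (Nat.ble 295 i)) (Nat.ble 294 i)) (Nat.ble 292 i)) (Bool.rec (motive := fun _ => List ℕ) (Bool.rec (motive := fun _ => List ℕ) (Bool.rec (motive := fun _ => List ℕ) (rw296) (rw297) (Nat.ble 297 i)) (Bool.rec (motive := fun _ => List ℕ) (rw298) (rw299) (Nat.ble 299 i)) (Nat.ble 298 i)) (Bool.rec (motive := fun _ => List ℕ) (Bool.rec (motive := fun _ => List ℕ) (rw300) (rw301) (Nat.ble 301 i)) (Bool.rec (motive := fun _ => List ℕ) (rw302) (rw303) (Nat.ble 303 i)) (Nat.ble 302 i)) (Nat.ble 300 i)) (Nat.ble 296 i)) (Bool.rec (motive := fun _ => List ℕ) (Bool.rec (motive := fun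 _ => List ℕ) (Bool.rec (motive := fun _ => List ℕ) (Bool.rec (motive := fun _ => List ℕ) (rw304) (rw305) (Nat.ble 305 i)) (Bool.rec (motive := fun _ => List ℕ) (rw306) (rw307) (Nat.ble 307 i)) (Nat.ble 306 i)) (Bool.rec (motive := fun _ => List ℕ) (Bool.rec (motive := fun _ => List ℕ) (rw308) (rw309) (Nat.ble 309 i)) (Bool.rec (motive := fun _ => List ℕ) (rw310) (rw311) (Nat.ble 311 i)) (Nat.ble 310 i)) (Nat.ble 308 i)) (Bool.rec (motive := fun _ => List ℕ) (Bool.rec (motive := fun _ => List ℕ) (Bool.rec (motive := fun _ => List ℕ) (rw312) (rw313) (Nat.ble 313 i)) (Bool.rec (motive := fun _ => List ℕ) (rw314) (rw315) (Nat.ble 315 i)) (Nat.ble 314 i)) (Bool.rec (motive := fun _ => List ℕ) (Bool.rec (motive := fun _ => List ℕ) (rw316) (rw317) (Nat.ble 317 i)) (Bool.rec (motive := fun _ => List ℕ) (rw318) (rw319) (Nat.ble 319 i))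 (Nat.ble 318 i)) (Nat.ble 316 i)) (Nat.ble 312 i)) (Nat.ble 304 i)) (Nat.ble 288 i)) (Bool.rec (motive := fun _ => List ℕ) (Bool.rec (motive := fun _ => List ℕ) (Bool.rec (motive := fun _ => List ℕ) (Bool.rec (motive := fun _ => List ℕ) (Bool.rec (motive := fun _ => List ℕ) (Bool.rec (motive := fun _ => List ℕ) (rw320) (rw321) (Nat.ble 321 i)) (Bool.rec (motive := fun _ => List ℕ) (rw322) (rw323) (Nat.ble 323 i)) (Nat.ble 322 i)) (Bool.rec (motive := fun _ => List ℕ) (Bool.rec (motive := fun _ => List ℕ) (rw324) (rw325) (Nat.ble 325 i)) (Bool.rec (motive := fun _ => List ℕ) (rw326) (rw327) (Nat.ble 327 i)) (Nat.ble 326 i)) (Nat.ble 324 i)) (Bool.rec (motive := fun _ => List ℕ) (Bool.rec (motive := fun _ => List ℕ) (Bool.rec (motive := fun _ => List ℕ) (rw328) (rw329) (Nat.ble 329 i)) (Bool.rec (motive := fun _ => List ℕ) (rw330)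 (rw331) (Nat.ble 331 i)) (Nat.ble 330 i)) (Bool.rec (motive := fun _ => List ℕ) (Bool.rec (motive := fun _ => List ℕ) (rw332) (rw333) (Nat.ble 333 i)) (Bool.rec (motive := fun _ => List ℕ) (rw334) (rw335) (Nat.ble 335 i)) (Nat.ble 334 i)) (Nat.ble 332 i)) (Nat.ble 328 i)) (Bool.rec (motive := fun _ => List ℕ) (Bool.rec (motive := fun _ => List ℕ) (Bool.rec (motive := fun _ => List ℕ) (Bool.rec (motive := fun _ => List ℕ) (rw336) (rw337) (Nat.ble 337 i)) (Bool.rec (motive := fun _ => List ℕ) (rw338) (rw339) (Nat.ble 339 i)) (Nat.ble 338 i)) (Bool.rec (motive := fun _ => List ℕ) (Bool.rec (motive := fun _ => List ℕ) (rw340) (rw341) (Nat.ble 341 i)) (Bool.rec (motive := fun _ => List ℕ) (rw342) (rw343) (Nat.ble 343 i)) (Nat.ble 342 i)) (Nat.ble 340 i)) (Bool.rec (motive := fun _ => List ℕ) (Bool.rec (motive := fun _ => List ℕ) (Bool.rec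 (motive := fun _ => List ℕ) (rw344) (rw345) (Nat.ble 345 i)) (Bool.rec (motive := fun _ => List ℕ) (rw346) (rw347) (Nat.ble 347 i)) (Nat.ble 346 i)) (Bool.rec (motive := fun _ => List ℕ) (Bool.rec (motive := fun _ => List ℕ) (rw348) (rw349) (Nat.ble 349 i)) (Bool.rec (motive := fun _ => List ℕ) (rw350) (rw351) (Nat.ble 351 i)) (Nat.ble 350 i)) (Nat.ble 348 i)) (Nat.ble 344 i)) (Nat.ble 336 i)) (Bool.rec (motive := fun _ => List ℕ) (Bool.rec (motive := fun _ => List ℕ) (Bool.rec (motive := fun _ => List ℕ) (Bool.rec (motive := fun _ => List ℕ) (Bool.rec (motive := fun _ => List ℕ) (rw352) (rw353) (Nat.ble 353 i)) (Bool.rec (motive := fun _ => List ℕ) (rw354) (rw355) (Nat.ble 355 i)) (Nat.ble 354 i)) (Bool.rec (motive := fun _ => List ℕ) (Bool.rec (motive := fun _ => List ℕ) (rw356) (rw357) (Nat.ble 357 i)) (Bool.rec (motive :=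 fun _ => List ℕ) (rw358) (rw359) (Nat.ble 359 i)) (Nat.ble 358 i)) (Nat.ble 356 i)) (Bool.rec (motive := fun _ => List ℕ) (Bool.rec (motive := fun _ => List ℕ) (Bool.rec (motive := fun _ => List ℕ) (rw360) (rw361) (Nat.ble 361 i)) (Bool.rec (motive := fun _ => List ℕ) (rw362) (rw363) (Nat.ble 363 i)) (Nat.ble 362 i)) (Bool.rec (motive := fun _ => List ℕ) (Bool.rec (motive := fun _ => List ℕ) (rw364) (rw365) (Nat.ble 365 i)) (Bool.rec (motive := fun _ => List ℕ) (rw366) (rw367) (Nat.ble 367 i)) (Nat.ble 366 i)) (Nat.ble 364 i)) (Nat.ble 360 i)) (Bool.rec (motive := fun _ => List ℕ) (Bool.rec (motive := fun _ => List ℕ) (Bool.rec (motive := fun _ => List ℕ) (Bool.rec (motive := fun _ => List ℕ) (rw368) (rw369) (Nat.ble 369 i)) (Bool.rec (motive := fun _ => List ℕ) (rw370) (rw371) (Nat.ble 371 i)) (Nat.ble 370 i)) (Bool.rec (motive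 := fun _ => List ℕ) (Bool.rec (motive := fun _ => List ℕ) (rw372) (rw373) (Nat.ble 373 i)) (Bool.rec (motive := fun _ => List ℕ) (rw374) (rw375) (Nat.ble 375 i)) (Nat.ble 374 i)) (Nat.ble 372 i)) (Bool.rec (motive := fun _ => List ℕ) (Bool.rec (motive := fun _ => List ℕ) (Bool.rec (motive := fun _ => List ℕ) (rw376) (rw377) (Nat.ble 377 i)) (Bool.rec (motive := fun _ => List ℕ) (rw378) (rw379) (Nat.ble 379 i)) (Nat.ble 378 i)) (Bool.rec (motive := fun _ => List ℕ) (Bool.rec (motive := fun _ => List ℕ) (rw380) (rw381) (Nat.ble 381 i)) (Bool.rec (motive := fun _ => List ℕ) (rw382) (rw383) (Nat.ble 383 i)) (Nat.ble 382 i)) (Nat.ble 380 i)) (Nat.ble 376 i)) (Nat.ble 368 i)) (Nat.ble 352 i)) (Nat.ble 320 i)) (Bool.rec (motive := fun _ => List ℕ) (Bool.rec (motive := fun _ => List ℕ) (Bool.rec (motive := fun _ => List ℕ) (Bool.rec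 (motive := fun _ => List ℕ) (Bool.rec (motive := fun _ => List ℕ) (Bool.rec (motive := fun _ => List ℕ) (Bool.rec (motive := fun _ => List ℕ) (rw384) (rw385) (Nat.ble 385 i)) (Bool.rec (motive := fun _ => List ℕ) (rw386) (rw387) (Nat.ble 387 i)) (Nat.ble 386 i)) (Bool.rec (motive := fun _ => List ℕ) (Bool.rec (motive := fun _ => List ℕ) (rw388) (rw389) (Nat.ble 389 i)) (Bool.rec (motive := fun _ => List ℕ) (rw390) (rw391) (Nat.ble 391 i)) (Nat.ble 390 i)) (Nat.ble 388 i)) (Bool.rec (motive := fun _ => List ℕ) (Bool.rec (motive := fun _ => List ℕ) (Bool.rec (motive := fun _ => List ℕ) (rw392) (rw393) (Nat.ble 393 i)) (Bool.rec (motive := fun _ => List ℕ) (rw394) (rw395) (Nat.ble 395 i)) (Nat.ble 394 i)) (Bool.rec (motive := fun _ => List ℕ) (Bool.rec (motive := fun _ => List ℕ) (rw396) (rw397) (Nat.ble 397 i)) (Bool.rec (motive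 := fun _ => List ℕ) (rw398) (rw399) (Nat.ble 399 i)) (Nat.ble 398 i)) (Nat.ble 396 i)) (Nat.ble 392 i)) (Bool.rec (motive := fun _ => List ℕ) (Bool.rec (motive := fun _ => List ℕ) (Bool.rec (motive := fun _ => List ℕ) (Bool.rec (motive := fun _ => List ℕ) (rw400) (rw401) (Nat.ble 401 i)) (Bool.rec (motive := fun _ => List ℕ) (rw402) (rw403) (Nat.ble 403 i)) (Nat.ble 402 i)) (Bool.rec (motive := fun _ => List ℕ) (Bool.rec (motive := fun _ => List ℕ) (rw404) (rw405) (Nat.ble 405 i)) (Bool.rec (motive := fun _ => List ℕ) (rw406) (rw407) (Nat.ble 407 i)) (Nat.ble 406 i)) (Nat.ble 404 i)) (Bool.rec (motive := fun _ => List ℕ) (Bool.rec (motive := fun _ => List ℕ) (Bool.rec (motive := fun _ => List ℕ) (rw408) (rw409) (Nat.ble 409 i)) (Bool.rec (motive := fun _ => List ℕ) (rw410) (rw411) (Nat.ble 411 i)) (Nat.ble 410 i)) (Bool.rec (motive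 := fun _ => List ℕ) (Bool.rec (motive := fun _ => List ℕ) (rw412) (rw413) (Nat.ble 413 i)) (Bool.rec (motive := fun _ => List ℕ) (rw414) (rw415) (Nat.ble 415 i)) (Nat.ble 414 i)) (Nat.ble 412 i)) (Nat.ble 408 i)) (Nat.ble 400 i)) (Bool.rec (motive := fun _ => List ℕ) (Bool.rec (motive := fun _ => List ℕ) (Bool.rec (motive := fun _ => List ℕ) (Bool.rec (motive := fun _ => List ℕ) (Bool.rec (motive := fun _ => List ℕ) (rw416) (rw417) (Nat.ble 417 i)) (Bool.rec (motive := fun _ => List ℕ) (rw418) (rw419) (Nat.ble 419 i)) (Nat.ble 418 i)) (Bool.rec (motive := fun _ => List ℕ) (Bool.rec (motive := fun _ => List ℕ) (rw420) (rw421) (Nat.ble 421 i)) (Bool.rec (motive := fun _ => List ℕ) (rw422) (rw423) (Nat.ble 423 i)) (Nat.ble 422 i)) (Nat.ble 420 i)) (Bool.rec (motive := fun _ => List ℕ) (Bool.rec (motive := fun _ => List ℕ) (Bool.rec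 (motive := fun _ => List ℕ) (rw424) (rw425) (Nat.ble 425 i)) (Bool.rec (motive := fun _ => List ℕ) (rw426) (rw427) (Nat.ble 427 i)) (Nat.ble 426 i)) (Bool.rec (motive := fun _ => List ℕ) (Bool.rec (motive := fun _ => List ℕ) (rw428) (rw429) (Nat.ble 429 i)) (Bool.rec (motive := fun _ => List ℕ) (rw430) (rw431) (Nat.ble 431 i)) (Nat.ble 430 i)) (Nat.ble 428 i)) (Nat.ble 424 i)) (Bool.rec (motive := fun _ => List ℕ) (Bool.rec (motive := fun _ => List ℕ) (Bool.rec (motive := fun _ => List ℕ) (Bool.rec (motive := fun _ => List ℕ) (rw432) (rw433) (Nat.ble 433 i)) (Bool.rec (motive := fun _ => List ℕ) (rw434) (rw435) (Nat.ble 435 i)) (Nat.ble 434 i)) (Bool.rec (motive := fun _ => List ℕ) (Bool.rec (motive := fun _ => List ℕ) (rw436) (rw437) (Nat.ble 437 i)) (Bool.rec (motive := fun _ => List ℕ) (rw438) (rw439) (Nat.ble 439 i)) (Nat.ble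 438 i)) (Nat.ble 436 i)) (Bool.rec (motive := fun _ => List ℕ) (Bool.rec (motive := fun _ => List ℕ) (Bool.rec (motive := fun _ => List ℕ) (rw440) (rw441) (Nat.ble 441 i)) (Bool.rec (motive := fun _ => List ℕ) (rw442) (rw443) (Nat.ble 443 i)) (Nat.ble 442 i)) (Bool.rec (motive := fun _ => List ℕ) (Bool.rec (motive := fun _ => List ℕ) (rw444) (rw445) (Nat.ble 445 i)) (Bool.rec (motive := fun _ => List ℕ) (rw446) (rw447) (Nat.ble 447 i)) (Nat.ble 446 i)) (Nat.ble 444 i)) (Nat.ble 440 i)) (Nat.ble 432 i)) (Nat.ble 416 i)) (Bool.rec (motive := fun _ => List ℕ) (Bool.rec (motive := fun _ => List ℕ) (Bool.rec (motive := fun _ => List ℕ) (Bool.rec (motive := fun _ => List ℕ) (Bool.rec (motive := fun _ => List ℕ) (Bool.rec (motive := fun _ => List ℕ) (rw448) (rw449) (Nat.ble 449 i)) (Bool.rec (motive := fun _ => List ℕ) (rw450) (rw451)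 (Nat.ble 451 i)) (Nat.ble 450 i)) (Bool.rec (motive := fun _ => List ℕ) (Bool.rec (motive := fun _ => List ℕ) (rw452) (rw453) (Nat.ble 453 i)) (Bool.rec (motive := fun _ => List ℕ) (rw454) (rw455) (Nat.ble 455 i)) (Nat.ble 454 i)) (Nat.ble 452 i)) (Bool.rec (motive := fun _ => List ℕ) (Bool.rec (motive := fun _ => List ℕ) (Bool.rec (motive := fun _ => List ℕ) (rw456) (rw457) (Nat.ble 457 i)) (Bool.rec (motive := fun _ => List ℕ) (rw458) (rw459) (Nat.ble 459 i)) (Nat.ble 458 i)) (Bool.rec (motive := fun _ => List ℕ) (Bool.rec (motive := fun _ => List ℕ) (rw460) (rw461) (Nat.ble 461 i)) (Bool.rec (motive := fun _ => List ℕ) (rw462) (rw463) (Nat.ble 463 i)) (Nat.ble 462 i)) (Nat.ble 460 i)) (Nat.ble 456 i)) (Bool.rec (motive := fun _ => List ℕ) (Bool.rec (motive := fun _ => List ℕ) (Bool.rec (motive := fun _ => List ℕ) (Bool.rec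 (motive := fun _ => List ℕ) (rw464) (rw465) (Nat.ble 465 i)) (Bool.rec (motive := fun _ => List ℕ) (rw466) (rw467) (Nat.ble 467 i)) (Nat.ble 466 i)) (Bool.rec (motive := fun _ => List ℕ) (Bool.rec (motive := fun _ => List ℕ) (rw468) (rw469) (Nat.ble 469 i)) (Bool.rec (motive := fun _ => List ℕ) (rw470) (rw471) (Nat.ble 471 i)) (Nat.ble 470 i)) (Nat.ble 468 i)) (Bool.rec (motive := fun _ => List ℕ) (Bool.rec (motive := fun _ => List ℕ) (Bool.rec (motive := fun _ => List ℕ) (rw472) (rw473) (Nat.ble 473 i)) (Bool.rec (motive := fun _ => List ℕ) (rw474) (rw475) (Nat.ble 475 i)) (Nat.ble 474 i)) (Bool.rec (motive := fun _ => List ℕ) (Bool.rec (motive := fun _ => List ℕ) (rw476) (rw477) (Nat.ble 477 i)) (Bool.rec (motive := fun _ => List ℕ) (rw478) (rw479) (Nat.ble 479 i)) (Nat.ble 478 i)) (Nat.ble 476 i)) (Nat.ble 472 i)) (Nat.ble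 464 i)) (Bool.rec (motive := fun _ => List ℕ) (Bool.rec (motive := fun _ => List ℕ) (Bool.rec (motive := fun _ => List ℕ) (Bool.rec (motive := fun _ => List ℕ) (Bool.rec (motive := fun _ => List ℕ) (rw480) (rw481) (Nat.ble 481 i)) (Bool.rec (motive := fun _ => List ℕ) (rw482) (rw483) (Nat.ble 483 i)) (Nat.ble 482 i)) (Bool.rec (motive := fun _ => List ℕ) (Bool.rec (motive := fun _ => List ℕ) (rw484) (rw485) (Nat.ble 485 i)) (Bool.rec (motive := fun _ => List ℕ) (rw486) (rw487) (Nat.ble 487 i)) (Nat.ble 486 i)) (Nat.ble 484 i)) (Bool.rec (motive := fun _ => List ℕ) (Bool.rec (motive := fun _ => List ℕ) (Bool.rec (motive := fun _ => List ℕ) (rw488) (rw489) (Nat.ble 489 i)) (Bool.rec (motive := fun _ => List ℕ) (rw490) (rw491) (Nat.ble 491 i)) (Nat.ble 490 i)) (Bool.rec (motive := fun _ => List ℕ) (Bool.rec (motive := fun _ => List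 ℕ) (rw492) (rw493) (Nat.ble 493 i)) (Bool.rec (motive := fun _ => List ℕ) (rw494) (rw495) (Nat.ble 495 i)) (Nat.ble 494 i)) (Nat.ble 492 i)) (Nat.ble 488 i)) (Bool.rec (motive := fun _ => List ℕ) (Bool.rec (motive := fun _ => List ℕ) (Bool.rec (motive := fun _ => List ℕ) (Bool.rec (motive := fun _ => List ℕ) (rw496) (rw497) (Nat.ble 497 i)) (Bool.rec (motive := fun _ => List ℕ) (rw498) (rw499) (Nat.ble 499 i)) (Nat.ble 498 i)) (Bool.rec (motive := fun _ => List ℕ) (Bool.rec (motive := fun _ => List ℕ) (rw500) (rw501) (Nat.ble 501 i)) (Bool.rec (motive := fun _ => List ℕ) (rw502) (rw503) (Nat.ble 503 i)) (Nat.ble 502 i)) (Nat.ble 500 i)) (Bool.rec (motive := fun _ => List ℕ) (Bool.rec (motive := fun _ => List ℕ) (Bool.rec (motive := fun _ => List ℕ) (rw504) (rw505) (Nat.ble 505 i)) (Bool.rec (motive := fun _ => List ℕ) (rw506)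 (rw507) (Nat.ble 507 i)) (Nat.ble 506 i)) (Bool.rec (motive := fun _ => List ℕ) (Bool.rec (motive := fun _ => List ℕ) (rw508) (rw509) (Nat.ble 509 i)) (Bool.rec (motive := fun _ => List ℕ) (rw510) (rw511) (Nat.ble 511 i)) (Nat.ble 510 i)) (Nat.ble 508 i)) (Nat.ble 504 i)) (Nat.ble 496 i)) (Nat.ble 480 i)) (Nat.ble 448 i)) (Nat.ble 384 i)) (Nat.ble 256 i)) (Bool.rec (motive := fun _ => List ℕ) (Bool.rec (motive := fun _ => List ℕ) (Bool.rec (motive := fun _ => List ℕ) (Bool.rec (motive := fun _ => List ℕ) (Bool.rec (motive := fun _ => List ℕ) (Bool.rec (motive := fun _ => List ℕ) (Bool.rec (motive := fun _ => List ℕ) (Bool.rec (motive := fun _ => List ℕ) (Bool.rec (motive := fun _ => List ℕ) (rw512) (rw513) (Nat.ble 513 i)) (Bool.rec (motive := fun _ => List ℕ) (rw514) (rw515) (Nat.ble 515 i)) (Nat.ble 514 i)) (Bool.rec (motive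 := fun _ => List ℕ) (Bool.rec (motive := fun _ => List ℕ) (rw516) (rw517) (Nat.ble 517 i)) (Bool.rec (motive := fun _ => List ℕ) (rw518) (rw519) (Nat.ble 519 i)) (Nat.ble 518 i)) (Nat.ble 516 i)) (Bool.rec (motive := fun _ => List ℕ) (Bool.rec (motive := fun _ => List ℕ) (Bool.rec (motive := fun _ => List ℕ) (rw520) (rw521) (Nat.ble 521 i)) (Bool.rec (motive := fun _ => List ℕ) (rw522) (rw523) (Nat.ble 523 i)) (Nat.ble 522 i)) (Bool.rec (motive := fun _ => List ℕ) (Bool.rec (motive := fun _ => List ℕ) (rw524) (rw525) (Nat.ble 525 i)) (Bool.rec (motive := fun _ => List ℕ) (rw526) (rw527) (Nat.ble 527 i)) (Nat.ble 526 i)) (Nat.ble 524 i)) (Nat.ble 520 i)) (Bool.rec (motive := fun _ => List ℕ) (Bool.rec (motive := fun _ => List ℕ) (Bool.rec (motive := fun _ => List ℕ) (Bool.rec (motive := fun _ => List ℕ) (rw528) (rw529) (Nat.ble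 529 i)) (Bool.rec (motive := fun _ => List ℕ) (rw530) (rw531) (Nat.ble 531 i)) (Nat.ble 530 i)) (Bool.rec (motive := fun _ => List ℕ) (Bool.rec (motive := fun _ => List ℕ) (rw532) (rw533) (Nat.ble 533 i)) (Bool.rec (motive := fun _ => List ℕ) (rw534) (rw535) (Nat.ble 535 i)) (Nat.ble 534 i)) (Nat.ble 532 i)) (Bool.rec (motive := fun _ => List ℕ) (Bool.rec (motive := fun _ => List ℕ) (Bool.rec (motive := fun _ => List ℕ) (rw536) (rw537) (Nat.ble 537 i)) (Bool.rec (motive := fun _ => List ℕ) (rw538) (rw539) (Nat.ble 539 i)) (Nat.ble 538 i)) (Bool.rec (motive := fun _ => List ℕ) (Bool.rec (motive := fun _ => List ℕ) (rw540) (rw541) (Nat.ble 541 i)) (Bool.rec (motive := fun _ => List ℕ) (rw542) (rw543) (Nat.ble 543 i)) (Nat.ble 542 i)) (Nat.ble 540 i)) (Nat.ble 536 i)) (Nat.ble 528 i)) (Bool.rec (motive := fun _ => List ℕ) (Bool.rec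 (motive := fun _ => List ℕ) (Bool.rec (motive := fun _ => List ℕ) (Bool.rec (motive := fun _ => List ℕ) (Bool.rec (motive := fun _ => List ℕ) (rw544) (rw545) (Nat.ble 545 i)) (Bool.rec (motive := fun _ => List ℕ) (rw546) (rw547) (Nat.ble 547 i)) (Nat.ble 546 i)) (Bool.rec (motive := fun _ => List ℕ) (Bool.rec (motive := fun _ => List ℕ) (rw548) (rw549) (Nat.ble 549 i)) (Bool.rec (motive := fun _ => List ℕ) (rw550) (rw551) (Nat.ble 551 i)) (Nat.ble 550 i)) (Nat.ble 548 i)) (Bool.rec (motive := fun _ => List ℕ) (Bool.rec (motive := fun _ => List ℕ) (Bool.rec (motive := fun _ => List ℕ) (rw552) (rw553) (Nat.ble 553 i)) (Bool.rec (motive := fun _ => List ℕ) (rw554) (rw555) (Nat.ble 555 i)) (Nat.ble 554 i)) (Bool.rec (motive := fun _ => List ℕ) (Bool.rec (motive := fun _ => List ℕ) (rw556) (rw557) (Nat.ble 557 i)) (Bool.rec (motive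 := fun _ => List ℕ) (rw558) (rw559) (Nat.ble 559 i)) (Nat.ble 558 i)) (Nat.ble 556 i)) (Nat.ble 552 i)) (Bool.rec (motive := fun _ => List ℕ) (Bool.rec (motive := fun _ => List ℕ) (Bool.rec (motive := fun _ => List ℕ) (Bool.rec (motive := fun _ => List ℕ) (rw560) (rw561) (Nat.ble 561 i)) (Bool.rec (motive := fun _ => List ℕ) (rw562) (rw563) (Nat.ble 563 i)) (Nat.ble 562 i)) (Bool.rec (motive := fun _ => List ℕ) (Bool.rec (motive := fun _ => List ℕ) (rw564) (rw565) (Nat.ble 565 i)) (Bool.rec (motive := fun _ => List ℕ) (rw566) (rw567) (Nat.ble 567 i)) (Nat.ble 566 i)) (Nat.ble 564 i)) (Bool.rec (motive := fun _ => List ℕ) (Bool.rec (motive := fun _ => List ℕ) (Bool.rec (motive := fun _ => List ℕ) (rw568) (rw569) (Nat.ble 569 i)) (Bool.rec (motive := fun _ => List ℕ) (rw570) (rw571) (Nat.ble 571 i)) (Nat.ble 570 i)) (Bool.rec (motive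 := fun _ => List ℕ) (Bool.rec (motive := fun _ => List ℕ) (rw572) (rw573) (Nat.ble 573 i)) (Bool.rec (motive := fun _ => List ℕ) (rw574) (rw575) (Nat.ble 575 i)) (Nat.ble 574 i)) (Nat.ble 572 i)) (Nat.ble 568 i)) (Nat.ble 560 i)) (Nat.ble 544 i)) (Bool.rec (motive := fun _ => List ℕ) (Bool.rec (motive := fun _ => List ℕ) (Bool.rec (motive := fun _ => List ℕ) (Bool.rec (motive := fun _ => List ℕ) (Bool.rec (motive := fun _ => List ℕ) (Bool.rec (motive := fun _ => List ℕ) (rw576) (rw577) (Nat.ble 577 i)) (Bool.rec (motive := fun _ => List ℕ) (rw578) (rw579) (Nat.ble 579 i)) (Nat.ble 578 i)) (Bool.rec (motive := fun _ => List ℕ) (Bool.rec (motive := fun _ => List ℕ) (rw580) (rw581) (Nat.ble 581 i)) (Bool.rec (motive := fun _ => List ℕ) (rw582) (rw583) (Nat.ble 583 i)) (Nat.ble 582 i)) (Nat.ble 580 i)) (Bool.rec (motive := fun _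 => List ℕ) (Bool.rec (motive := fun _ => List ℕ) (Bool.rec (motive := fun _ => List ℕ) (rw584) (rw585) (Nat.ble 585 i)) (Bool.rec (motive := fun _ => List ℕ) (rw586) (rw587) (Nat.ble 587 i)) (Nat.ble 586 i)) (Bool.rec (motive := fun _ => List ℕ) (Bool.rec (motive := fun _ => List ℕ) (rw588) (rw589) (Nat.ble 589 i)) (Bool.rec (motive := fun _ => List ℕ) (rw590) (rw591) (Nat.ble 591 i)) (Nat.ble 590 i)) (Nat.ble 588 i)) (Nat.ble 584 i)) (Bool.rec (motive := fun _ => List ℕ) (Bool.rec (motive := fun _ => List ℕ) (Bool.rec (motive := fun _ => List ℕ) (Bool.rec (motive := fun _ => List ℕ) (rw592) (rw593) (Nat.ble 593 i)) (Bool.rec (motive := fun _ => List ℕ) (rw594) (rw595) (Nat.ble 595 i)) (Nat.ble 594 i)) (Bool.rec (motive := fun _ => List ℕ) (Bool.rec (motive := fun _ => List ℕ) (rw596) (rw597) (Nat.ble 597 i)) (Bool.rec (motive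 := fun _ => List ℕ) (rw598) (rw599) (Nat.ble 599 i)) (Nat.ble 598 i)) (Nat.ble 596 i)) (Bool.rec (motive := fun _ => List ℕ) (Bool.rec (motive := fun _ => List ℕ) (Bool.rec (motive := fun _ => List ℕ) (rw600) (rw601) (Nat.ble 601 i)) (Bool.rec (motive := fun _ => List ℕ) (rw602) (rw603) (Nat.ble 603 i)) (Nat.ble 602 i)) (Bool.rec (motive := fun _ => List ℕ) (Bool.rec (motive := fun _ => List ℕ) (rw604) (rw605) (Nat.ble 605 i)) (Bool.rec (motive := fun _ => List ℕ) (rw606) (rw607) (Nat.ble 607 i)) (Nat.ble 606 i)) (Nat.ble 604 i)) (Nat.ble 600 i)) (Nat.ble 592 i)) (Bool.rec (motive := fun _ => List ℕ) (Bool.rec (motive := fun _ => List ℕ) (Bool.rec (motive := fun _ => List ℕ) (Bool.rec (motive := fun _ => List ℕ) (Bool.rec (motive := fun _ => List ℕ) (rw608) (rw609) (Nat.ble 609 i)) (Bool.rec (motive := fun _ => List ℕ) (rw610)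 (rw611) (Nat.ble 611 i)) (Nat.ble 610 i)) (Bool.rec (motive := fun _ => List ℕ) (Bool.rec (motive := fun _ => List ℕ) (rw612) (rw613) (Nat.ble 613 i)) (Bool.rec (motive := fun _ => List ℕ) (rw614) (rw615) (Nat.ble 615 i)) (Nat.ble 614 i)) (Nat.ble 612 i)) (Bool.rec (motive := fun _ => List ℕ) (Bool.rec (motive := fun _ => List ℕ) (Bool.rec (motive := fun _ => List ℕ) (rw616) (rw617) (Nat.ble 617 i)) (Bool.rec (motive := fun _ => List ℕ) (rw618) (rw619) (Nat.ble 619 i)) (Nat.ble 618 i)) (Bool.rec (motive := fun _ => List ℕ) (Bool.rec (motive := fun _ => List ℕ) (rw620) (rw621) (Nat.ble 621 i)) (Bool.rec (motive := fun _ => List ℕ) (rw622) (rw623) (Nat.ble 623 i)) (Nat.ble 622 i)) (Nat.ble 620 i)) (Nat.ble 616 i)) (Bool.rec (motive := fun _ => List ℕ) (Bool.rec (motive := fun _ => List ℕ) (Bool.rec (motive := fun _ => List ℕ) (Bool.rec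 (motive := fun _ => List ℕ) (rw624) (rw625) (Nat.ble 625 i)) (Bool.rec (motive := fun _ => List ℕ) (rw626) (rw627) (Nat.ble 627 i)) (Nat.ble 626 i)) (Bool.rec (motive := fun _ => List ℕ) (Bool.rec (motive := fun _ => List ℕ) (rw628) (rw629) (Nat.ble 629 i)) (Bool.rec (motive := fun _ => List ℕ) (rw630) (rw631) (Nat.ble 631 i)) (Nat.ble 630 i)) (Nat.ble 628 i)) (Bool.rec (motive := fun _ => List ℕ) (Bool.rec (motive := fun _ => List ℕ) (Bool.rec (motive := fun _ => List ℕ) (rw632) (rw633) (Nat.ble 633 i)) (Bool.rec (motive := fun _ => List ℕ) (rw634) (rw635) (Nat.ble 635 i)) (Nat.ble 634 i)) (Bool.rec (motive := fun _ => List ℕ) (Bool.rec (motive := fun _ => List ℕ) (rw636) (rw637) (Nat.ble 637 i)) (Bool.rec (motive := fun _ => List ℕ) (rw638) (rw639) (Nat.ble 639 i)) (Nat.ble 638 i)) (Nat.ble 636 i)) (Nat.ble 632 i)) (Nat.ble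 624 i)) (Nat.ble 608 i)) (Nat.ble 576 i)) (Bool.rec (motive := fun _ => List ℕ) (Bool.rec (motive := fun _ => List ℕ) (Bool.rec (motive := fun _ => List ℕ) (Bool.rec (motive := fun _ => List ℕ) (Bool.rec (motive := fun _ => List ℕ) (Bool.rec (motive := fun _ => List ℕ) (Bool.rec (motive := fun _ => List ℕ) (rw640) (rw641) (Nat.ble 641 i)) (Bool.rec (motive := fun _ => List ℕ) (rw642) (rw643) (Nat.ble 643 i)) (Nat.ble 642 i)) (Bool.rec (motive := fun _ => List ℕ) (Bool.rec (motive := fun _ => List ℕ) (rw644) (rw645) (Nat.ble 645 i)) (Bool.rec (motive := fun _ => List ℕ) (rw646) (rw647) (Nat.ble 647 i)) (Nat.ble 646 i)) (Nat.ble 644 i)) (Bool.rec (motive := fun _ => List ℕ) (Bool.rec (motive := fun _ => List ℕ) (Bool.rec (motive := fun _ => List ℕ) (rw648) (rw649) (Nat.ble 649 i)) (Bool.rec (motive := fun _ => List ℕ) (rw650) (rw651)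 (Nat.ble 651 i)) (Nat.ble 650 i)) (Bool.rec (motive := fun _ => List ℕ) (Bool.rec (motive := fun _ => List ℕ) (rw652) (rw653) (Nat.ble 653 i)) (Bool.rec (motive := fun _ => List ℕ) (rw654) (rw655) (Nat.ble 655 i)) (Nat.ble 654 i)) (Nat.ble 652 i)) (Nat.ble 648 i)) (Bool.rec (motive := fun _ => List ℕ) (Bool.rec (motive := fun _ => List ℕ) (Bool.rec (motive := fun _ => List ℕ) (Bool.rec (motive := fun _ => List ℕ) (rw656) (rw657) (Nat.ble 657 i)) (Bool.rec (motive := fun _ => List ℕ) (rw658) (rw659) (Nat.ble 659 i)) (Nat.ble 658 i)) (Bool.rec (motive := fun _ => List ℕ) (Bool.rec (motive := fun _ => List ℕ) (rw660) (rw661) (Nat.ble 661 i)) (Bool.rec (motive := fun _ => List ℕ) (rw662) (rw663) (Nat.ble 663 i)) (Nat.ble 662 i)) (Nat.ble 660 i)) (Bool.rec (motive := fun _ => List ℕ) (Bool.rec (motive := fun _ => List ℕ) (Bool.rec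 (motive := fun _ => List ℕ) (rw664) (rw665) (Nat.ble 665 i)) (Bool.rec (motive := fun _ => List ℕ) (rw666) (rw667) (Nat.ble 667 i)) (Nat.ble 666 i)) (Bool.rec (motive := fun _ => List ℕ) (Bool.rec (motive := fun _ => List ℕ) (rw668) (rw669) (Nat.ble 669 i)) (Bool.rec (motive := fun _ => List ℕ) (rw670) (rw671) (Nat.ble 671 i)) (Nat.ble 670 i)) (Nat.ble 668 i)) (Nat.ble 664 i)) (Nat.ble 656 i)) (Bool.rec (motive := fun _ => List ℕ) (Bool.rec (motive := fun _ => List ℕ) (Bool.rec (motive := fun _ => List ℕ) (Bool.rec (motive := fun _ => List ℕ) (Bool.rec (motive := fun _ => List ℕ) (rw672) (rw673) (Nat.ble 673 i)) (Bool.rec (motive := fun _ => List ℕ) (rw674) (rw675) (Nat.ble 675 i)) (Nat.ble 674 i)) (Bool.rec (motive := fun _ => List ℕ) (Bool.rec (motive := fun _ => List ℕ) (rw676) (rw677) (Nat.ble 677 i)) (Bool.rec (motive :=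 fun _ => List ℕ) (rw678) (rw679) (Nat.ble 679 i)) (Nat.ble 678 i)) (Nat.ble 676 i)) (Bool.rec (motive := fun _ => List ℕ) (Bool.rec (motive := fun _ => List ℕ) (Bool.rec (motive := fun _ => List ℕ) (rw680) (rw681) (Nat.ble 681 i)) (Bool.rec (motive := fun _ => List ℕ) (rw682) (rw683) (Nat.ble 683 i)) (Nat.ble 682 i)) (Bool.rec (motive := fun _ => List ℕ) (Bool.rec (motive := fun _ => List ℕ) (rw684) (rw685) (Nat.ble 685 i)) (Bool.rec (motive := fun _ => List ℕ) (rw686) (rw687) (Nat.ble 687 i)) (Nat.ble 686 i)) (Nat.ble 684 i)) (Nat.ble 680 i)) (Bool.rec (motive := fun _ => List ℕ) (Bool.rec (motive := fun _ => List ℕ) (Bool.rec (motive := fun _ => List ℕ) (Bool.rec (motive := fun _ => List ℕ) (rw688) (rw689) (Nat.ble 689 i)) (Bool.rec (motive := fun _ => List ℕ) (rw690) (rw691) (Nat.ble 691 i)) (Nat.ble 690 i)) (Bool.rec (motive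 := fun _ => List ℕ) (Bool.rec (motive := fun _ => List ℕ) (rw692) (rw693) (Nat.ble 693 i)) (Bool.rec (motive := fun _ => List ℕ) (rw694) (rw695) (Nat.ble 695 i)) (Nat.ble 694 i)) (Nat.ble 692 i)) (Bool.rec (motive := fun _ => List ℕ) (Bool.rec (motive := fun _ => List ℕ) (Bool.rec (motive := fun _ => List ℕ) (rw696) (rw697) (Nat.ble 697 i)) (Bool.rec (motive := fun _ => List ℕ) (rw698) (rw699) (Nat.ble 699 i)) (Nat.ble 698 i)) (Bool.rec (motive := fun _ => List ℕ) (Bool.rec (motive := fun _ => List ℕ) (rw700) (rw701) (Nat.ble 701 i)) (Bool.rec (motive := fun _ => List ℕ) (rw702) (rw703) (Nat.ble 703 i)) (Nat.ble 702 i)) (Nat.ble 700 i)) (Nat.ble 696 i)) (Nat.ble 688 i)) (Nat.ble 672 i)) (Bool.rec (motive := fun _ => List ℕ) (Bool.rec (motive := fun _ => List ℕ) (Bool.rec (motive := fun _ => List ℕ) (Bool.rec (motive := fun _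 => List ℕ) (Bool.rec (motive := fun _ => List ℕ) (Bool.rec (motive := fun _ => List ℕ) (rw704) (rw705) (Nat.ble 705 i)) (Bool.rec (motive := fun _ => List ℕ) (rw706) (rw707) (Nat.ble 707 i)) (Nat.ble 706 i)) (Bool.rec (motive := fun _ => List ℕ) (Bool.rec (motive := fun _ => List ℕ) (rw708) (rw709) (Nat.ble 709 i)) (Bool.rec (motive := fun _ => List ℕ) (rw710) (rw711) (Nat.ble 711 i)) (Nat.ble 710 i)) (Nat.ble 708 i)) (Bool.rec (motive := fun _ => List ℕ) (Bool.rec (motive := fun _ => List ℕ) (Bool.rec (motive := fun _ => List ℕ) (rw712) (rw713) (Nat.ble 713 i)) (Bool.rec (motive := fun _ => List ℕ) (rw714) (rw715) (Nat.ble 715 i)) (Nat.ble 714 i)) (Bool.rec (motive := fun _ => List ℕ) (Bool.rec (motive := fun _ => List ℕ) (rw716) (rw717) (Nat.ble 717 i)) (Bool.rec (motive := fun _ => List ℕ) (rw718) (rw719) (Nat.ble 719 i))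 (Nat.ble 718 i)) (Nat.ble 716 i)) (Nat.ble 712 i)) (Bool.rec (motive := fun _ => List ℕ) (Bool.rec (motive := fun _ => List ℕ) (Bool.rec (motive := fun _ => List ℕ) (Bool.rec (motive := fun _ => List ℕ) (rw720) (rw721) (Nat.ble 721 i)) (Bool.rec (motive := fun _ => List ℕ) (rw722) (rw723) (Nat.ble 723 i)) (Nat.ble 722 i)) (Bool.rec (motive := fun _ => List ℕ) (Bool.rec (motive := fun _ => List ℕ) (rw724) (rw725) (Nat.ble 725 i)) (Bool.rec (motive := fun _ => List ℕ) (rw726) (rw727) (Nat.ble 727 i)) (Nat.ble 726 i)) (Nat.ble 724 i)) (Bool.rec (motive := fun _ => List ℕ) (Bool.rec (motive := fun _ => List ℕ) (Bool.rec (motive := fun _ => List ℕ) (rw728) (rw729) (Nat.ble 729 i)) (Bool.rec (motive := fun _ => List ℕ) (rw730) (rw731) (Nat.ble 731 i)) (Nat.ble 730 i)) (Bool.rec (motive := fun _ => List ℕ) (Bool.rec (motive := fun _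 => List ℕ) (rw732) (rw733) (Nat.ble 733 i)) (Bool.rec (motive := fun _ => List ℕ) (rw734) (rw735) (Nat.ble 735 i)) (Nat.ble 734 i)) (Nat.ble 732 i)) (Nat.ble 728 i)) (Nat.ble 720 i)) (Bool.rec (motive := fun _ => List ℕ) (Bool.rec (motive := fun _ => List ℕ) (Bool.rec (motive := fun _ => List ℕ) (Bool.rec (motive := fun _ => List ℕ) (Bool.rec (motive := fun _ => List ℕ) (rw736) (rw737) (Nat.ble 737 i)) (Bool.rec (motive := fun _ => List ℕ) (rw738) (rw739) (Nat.ble 739 i)) (Nat.ble 738 i)) (Bool.rec (motive := fun _ => List ℕ) (Bool.rec (motive := fun _ => List ℕ) (rw740) (rw741) (Nat.ble 741 i)) (Bool.rec (motive := fun _ => List ℕ) (rw742) (rw743) (Nat.ble 743 i)) (Nat.ble 742 i)) (Nat.ble 740 i)) (Bool.rec (motive := fun _ => List ℕ) (Bool.rec (motive := fun _ => List ℕ) (Bool.rec (motive := fun _ => List ℕ) (rw744) (rw745)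 (Nat.ble 745 i)) (Bool.rec (motive := fun _ => List ℕ) (rw746) (rw747) (Nat.ble 747 i)) (Nat.ble 746 i)) (Bool.rec (motive := fun _ => List ℕ) (Bool.rec (motive := fun _ => List ℕ) (rw748) (rw749) (Nat.ble 749 i)) (Bool.rec (motive := fun _ => List ℕ) (rw750) (rw751) (Nat.ble 751 i)) (Nat.ble 750 i)) (Nat.ble 748 i)) (Nat.ble 744 i)) (Bool.rec (motive := fun _ => List ℕ) (Bool.rec (motive := fun _ => List ℕ) (Bool.rec (motive := fun _ => List ℕ) (Bool.rec (motive := fun _ => List ℕ) (rw752) (rw753) (Nat.ble 753 i)) (Bool.rec (motive := fun _ => List ℕ) (rw754) (rw755) (Nat.ble 755 i)) (Nat.ble 754 i)) (Bool.rec (motive := fun _ => List ℕ) (Bool.rec (motive := fun _ => List ℕ) (rw756) (rw757) (Nat.ble 757 i)) (Bool.rec (motive := fun _ => List ℕ) (rw758) (rw759) (Nat.ble 759 i)) (Nat.ble 758 i)) (Nat.ble 756 i)) (Bool.rec (motive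 := fun _ => List ℕ) (Bool.rec (motive := fun _ => List ℕ) (Bool.rec (motive := fun _ => List ℕ) (rw760) (rw761) (Nat.ble 761 i)) (Bool.rec (motive := fun _ => List ℕ) (rw762) (rw763) (Nat.ble 763 i)) (Nat.ble 762 i)) (Bool.rec (motive := fun _ => List ℕ) (Bool.rec (motive := fun _ => List ℕ) (rw764) (rw765) (Nat.ble 765 i)) (Bool.rec (motive := fun _ => List ℕ) (rw766) (rw767) (Nat.ble 767 i)) (Nat.ble 766 i)) (Nat.ble 764 i)) (Nat.ble 760 i)) (Nat.ble 752 i)) (Nat.ble 736 i)) (Nat.ble 704 i)) (Nat.ble 640 i)) (Bool.rec (motive := fun _ => List ℕ) (Bool.rec (motive := fun _ => List ℕ) (Bool.rec (motive := fun _ => List ℕ) (Bool.rec (motive := fun _ => List ℕ) (Bool.rec (motive := fun _ => List ℕ) (Bool.rec (motive := fun _ => List ℕ) (Bool.rec (motive := fun _ => List ℕ) (Bool.rec (motive := fun _ => List ℕ) (rw768) (rw769) (Nat.ble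 769 i)) (Bool.rec (motive := fun _ => List ℕ) (rw770) (rw771) (Nat.ble 771 i)) (Nat.ble 770 i)) (Bool.rec (motive := fun _ => List ℕ) (Bool.rec (motive := fun _ => List ℕ) (rw772) (rw773) (Nat.ble 773 i)) (Bool.rec (motive := fun _ => List ℕ) (rw774) (rw775) (Nat.ble 775 i)) (Nat.ble 774 i)) (Nat.ble 772 i)) (Bool.rec (motive := fun _ => List ℕ) (Bool.rec (motive := fun _ => List ℕ) (Bool.rec (motive := fun _ => List ℕ) (rw776) (rw777) (Nat.ble 777 i)) (Bool.rec (motive := fun _ => List ℕ) (rw778) (rw779) (Nat.ble 779 i)) (Nat.ble 778 i)) (Bool.rec (motive := fun _ => List ℕ) (Bool.rec (motive := fun _ => List ℕ) (rw780) (rw781) (Nat.ble 781 i)) (Bool.rec (motive := fun _ => List ℕ) (rw782) (rw783) (Nat.ble 783 i)) (Nat.ble 782 i)) (Nat.ble 780 i)) (Nat.ble 776 i)) (Bool.rec (motive := fun _ => List ℕ) (Bool.rec (motive := fun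 _ => List ℕ) (Bool.rec (motive := fun _ => List ℕ) (Bool.rec (motive := fun _ => List ℕ) (rw784) (rw785) (Nat.ble 785 i)) (Bool.rec (motive := fun _ => List ℕ) (rw786) (rw787) (Nat.ble 787 i)) (Nat.ble 786 i)) (Bool.rec (motive := fun _ => List ℕ) (Bool.rec (motive := fun _ => List ℕ) (rw788) (rw789) (Nat.ble 789 i)) (Bool.rec (motive := fun _ => List ℕ) (rw790) (rw791) (Nat.ble 791 i)) (Nat.ble 790 i)) (Nat.ble 788 i)) (Bool.rec (motive := fun _ => List ℕ) (Bool.rec (motive := fun _ => List ℕ) (Bool.rec (motive := fun _ => List ℕ) (rw792) (rw793) (Nat.ble 793 i)) (Bool.rec (motive := fun _ => List ℕ) (rw794) (rw795) (Nat.ble 795 i)) (Nat.ble 794 i)) (Bool.rec (motive := fun _ => List ℕ) (Bool.rec (motive := fun _ => List ℕ) (rw796) (rw797) (Nat.ble 797 i)) (Bool.rec (motive := fun _ => List ℕ) (rw798) (rw799) (Nat.ble 799 i))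 (Nat.ble 798 i)) (Nat.ble 796 i)) (Nat.ble 792 i)) (Nat.ble 784 i)) (Bool.rec (motive := fun _ => List ℕ) (Bool.rec (motive := fun _ => List ℕ) (Bool.rec (motive := fun _ => List ℕ) (Bool.rec (motive := fun _ => List ℕ) (Bool.rec (motive := fun _ => List ℕ) (rw800) (rw801) (Nat.ble 801 i)) (Bool.rec (motive := fun _ => List ℕ) (rw802) (rw803) (Nat.ble 803 i)) (Nat.ble 802 i)) (Bool.rec (motive := fun _ => List ℕ) (Bool.rec (motive := fun _ => List ℕ) (rw804) (rw805) (Nat.ble 805 i)) (Bool.rec (motive := fun _ => List ℕ) (rw806) (rw807) (Nat.ble 807 i)) (Nat.ble 806 i)) (Nat.ble 804 i)) (Bool.rec (motive := fun _ => List ℕ) (Bool.rec (motive := fun _ => List ℕ) (Bool.rec (motive := fun _ => List ℕ) (rw808) (rw809) (Nat.ble 809 i)) (Bool.rec (motive := fun _ => List ℕ) (rw810) (rw811) (Nat.ble 811 i)) (Nat.ble 810 i)) (Bool.rec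 (motive := fun _ => List ℕ) (Bool.rec (motive := fun _ => List ℕ) (rw812) (rw813) (Nat.ble 813 i)) (Bool.rec (motive := fun _ => List ℕ) (rw814) (rw815) (Nat.ble 815 i)) (Nat.ble 814 i)) (Nat.ble 812 i)) (Nat.ble 808 i)) (Bool.rec (motive := fun _ => List ℕ) (Bool.rec (motive := fun _ => List ℕ) (Bool.rec (motive := fun _ => List ℕ) (Bool.rec (motive := fun _ => List ℕ) (rw816) (rw817) (Nat.ble 817 i)) (Bool.rec (motive := fun _ => List ℕ) (rw818) (rw819) (Nat.ble 819 i)) (Nat.ble 818 i)) (Bool.rec (motive := fun _ => List ℕ) (Bool.rec (motive := fun _ => List ℕ) (rw820) (rw821) (Nat.ble 821 i)) (Bool.rec (motive := fun _ => List ℕ) (rw822) (rw823) (Nat.ble 823 i)) (Nat.ble 822 i)) (Nat.ble 820 i)) (Bool.rec (motive := fun _ => List ℕ) (Bool.rec (motive := fun _ => List ℕ) (Bool.rec (motive := fun _ => List ℕ) (rw824) (rw825)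 (Nat.ble 825 i)) (Bool.rec (motive := fun _ => List ℕ) (rw826) (rw827) (Nat.ble 827 i)) (Nat.ble 826 i)) (Bool.rec (motive := fun _ => List ℕ) (Bool.rec (motive := fun _ => List ℕ) (rw828) (rw829) (Nat.ble 829 i)) (Bool.rec (motive := fun _ => List ℕ) (rw830) (rw831) (Nat.ble 831 i)) (Nat.ble 830 i)) (Nat.ble 828 i)) (Nat.ble 824 i)) (Nat.ble 816 i)) (Nat.ble 800 i)) (Bool.rec (motive := fun _ => List ℕ) (Bool.rec (motive := fun _ => List ℕ) (Bool.rec (motive := fun _ => List ℕ) (Bool.rec (motive := fun _ => List ℕ) (Bool.rec (motive := fun _ => List ℕ) (Bool.rec (motive := fun _ => List ℕ) (rw832) (rw833) (Nat.ble 833 i)) (Bool.rec (motive := fun _ => List ℕ) (rw834) (rw835) (Nat.ble 835 i)) (Nat.ble 834 i)) (Bool.rec (motive := fun _ => List ℕ) (Bool.rec (motive := fun _ => List ℕ) (rw836) (rw837) (Nat.ble 837 i)) (Bool.rec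 (motive := fun _ => List ℕ) (rw838) (rw839) (Nat.ble 839 i)) (Nat.ble 838 i)) (Nat.ble 836 i)) (Bool.rec (motive := fun _ => List ℕ) (Bool.rec (motive := fun _ => List ℕ) (Bool.rec (motive := fun _ => List ℕ) (rw840) (rw841) (Nat.ble 841 i)) (Bool.rec (motive := fun _ => List ℕ) (rw842) (rw843) (Nat.ble 843 i)) (Nat.ble 842 i)) (Bool.rec (motive := fun _ => List ℕ) (Bool.rec (motive := fun _ => List ℕ) (rw844) (rw845) (Nat.ble 845 i)) (Bool.rec (motive := fun _ => List ℕ) (rw846) (rw847) (Nat.ble 847 i)) (Nat.ble 846 i)) (Nat.ble 844 i)) (Nat.ble 840 i)) (Bool.rec (motive := fun _ => List ℕ) (Bool.rec (motive := fun _ => List ℕ) (Bool.rec (motive := fun _ => List ℕ) (Bool.rec (motive := fun _ => List ℕ) (rw848) (rw849) (Nat.ble 849 i)) (Bool.rec (motive := fun _ => List ℕ) (rw850) (rw851) (Nat.ble 851 i)) (Nat.ble 850 i)) (Bool.rec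 (motive := fun _ => List ℕ) (Bool.rec (motive := fun _ => List ℕ) (rw852) (rw853) (Nat.ble 853 i)) (Bool.rec (motive := fun _ => List ℕ) (rw854) (rw855) (Nat.ble 855 i)) (Nat.ble 854 i)) (Nat.ble 852 i)) (Bool.rec (motive := fun _ => List ℕ) (Bool.rec (motive := fun _ => List ℕ) (Bool.rec (motive := fun _ => List ℕ) (rw856) (rw857) (Nat.ble 857 i)) (Bool.rec (motive := fun _ => List ℕ) (rw858) (rw859) (Nat.ble 859 i)) (Nat.ble 858 i)) (Bool.rec (motive := fun _ => List ℕ) (Bool.rec (motive := fun _ => List ℕ) (rw860) (rw861) (Nat.ble 861 i)) (Bool.rec (motive := fun _ => List ℕ) (rw862) (rw863) (Nat.ble 863 i)) (Nat.ble 862 i)) (Nat.ble 860 i)) (Nat.ble 856 i)) (Nat.ble 848 i)) (Bool.rec (motive := fun _ => List ℕ) (Bool.rec (motive := fun _ => List ℕ) (Bool.rec (motive := fun _ => List ℕ) (Bool.rec (motive := fun _ => List ℕ)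 (Bool.rec (motive := fun _ => List ℕ) (rw864) (rw865) (Nat.ble 865 i)) (Bool.rec (motive := fun _ => List ℕ) (rw866) (rw867) (Nat.ble 867 i)) (Nat.ble 866 i)) (Bool.rec (motive := fun _ => List ℕ) (Bool.rec (motive := fun _ => List ℕ) (rw868) (rw869) (Nat.ble 869 i)) (Bool.rec (motive := fun _ => List ℕ) (rw870) (rw871) (Nat.ble 871 i)) (Nat.ble 870 i)) (Nat.ble 868 i)) (Bool.rec (motive := fun _ => List ℕ) (Bool.rec (motive := fun _ => List ℕ) (Bool.rec (motive := fun _ => List ℕ) (rw872) (rw873) (Nat.ble 873 i)) (Bool.rec (motive := fun _ => List ℕ) (rw874) (rw875) (Nat.ble 875 i)) (Nat.ble 874 i)) (Bool.rec (motive := fun _ => List ℕ) (Bool.rec (motive := fun _ => List ℕ) (rw876) (rw877) (Nat.ble 877 i)) (Bool.rec (motive := fun _ => List ℕ) (rw878) (rw879) (Nat.ble 879 i)) (Nat.ble 878 i)) (Nat.ble 876 i)) (Nat.ble 872 i))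 (Bool.rec (motive := fun _ => List ℕ) (Bool.rec (motive := fun _ => List ℕ) (Bool.rec (motive := fun _ => List ℕ) (Bool.rec (motive := fun _ => List ℕ) (rw880) (rw881) (Nat.ble 881 i)) (Bool.rec (motive := fun _ => List ℕ) (rw882) (rw883) (Nat.ble 883 i)) (Nat.ble 882 i)) (Bool.rec (motive := fun _ => List ℕ) (Bool.rec (motive := fun _ => List ℕ) (rw884) (rw885) (Nat.ble 885 i)) (Bool.rec (motive := fun _ => List ℕ) (rw886) (rw887) (Nat.ble 887 i)) (Nat.ble 886 i)) (Nat.ble 884 i)) (Bool.rec (motive := fun _ => List ℕ) (Bool.rec (motive := fun _ => List ℕ) (Bool.rec (motive := fun _ => List ℕ) (rw888) (rw889) (Nat.ble 889 i)) (Bool.rec (motive := fun _ => List ℕ) (rw890) (rw891) (Nat.ble 891 i)) (Nat.ble 890 i)) (Bool.rec (motive := fun _ => List ℕ) (Bool.rec (motive := fun _ => List ℕ) (rw892) (rw893) (Nat.ble 893 i)) (Bool.rec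 (motive := fun _ => List ℕ) (rw894) (rw895) (Nat.ble 895 i)) (Nat.ble 894 i)) (Nat.ble 892 i)) (Nat.ble 888 i)) (Nat.ble 880 i)) (Nat.ble 864 i)) (Nat.ble 832 i)) (Bool.rec (motive := fun _ => List ℕ) (Bool.rec (motive := fun _ => List ℕ) (Bool.rec (motive := fun _ => List ℕ) (Bool.rec (motive := fun _ => List ℕ) (Bool.rec (motive := fun _ => List ℕ) (Bool.rec (motive := fun _ => List ℕ) (Bool.rec (motive := fun _ => List ℕ) (rw896) (rw897) (Nat.ble 897 i)) (Bool.rec (motive := fun _ => List ℕ) (rw898) (rw899) (Nat.ble 899 i)) (Nat.ble 898 i)) (Bool.rec (motive := fun _ => List ℕ) (Bool.rec (motive := fun _ => List ℕ) (rw900) (rw901) (Nat.ble 901 i)) (Bool.rec (motive := fun _ => List ℕ) (rw902) (rw903) (Nat.ble 903 i)) (Nat.ble 902 i)) (Nat.ble 900 i)) (Bool.rec (motive := fun _ => List ℕ) (Bool.rec (motive := fun _ => List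 ℕ) (Bool.rec (motive := fun _ => List ℕ) (rw904) (rw905) (Nat.ble 905 i)) (Bool.rec (motive := fun _ => List ℕ) (rw906) (rw907) (Nat.ble 907 i)) (Nat.ble 906 i)) (Bool.rec (motive := fun _ => List ℕ) (Bool.rec (motive := fun _ => List ℕ) (rw908) (rw909) (Nat.ble 909 i)) (Bool.rec (motive := fun _ => List ℕ) (rw910) (rw911) (Nat.ble 911 i)) (Nat.ble 910 i)) (Nat.ble 908 i)) (Nat.ble 904 i)) (Bool.rec (motive := fun _ => List ℕ) (Bool.rec (motive := fun _ => List ℕ) (Bool.rec (motive := fun _ => List ℕ) (Bool.rec (motive := fun _ => List ℕ) (rw912) (rw913) (Nat.ble 913 i)) (Bool.rec (motive := fun _ => List ℕ) (rw914) (rw915) (Nat.ble 915 i)) (Nat.ble 914 i)) (Bool.rec (motive := fun _ => List ℕ) (Bool.rec (motive := fun _ => List ℕ) (rw916) (rw917) (Nat.ble 917 i)) (Bool.rec (motive := fun _ => List ℕ) (rw918) (rw919) (Nat.ble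 919 i)) (Nat.ble 918 i)) (Nat.ble 916 i)) (Bool.rec (motive := fun _ => List ℕ) (Bool.rec (motive := fun _ => List ℕ) (Bool.rec (motive := fun _ => List ℕ) (rw920) (rw921) (Nat.ble 921 i)) (Bool.rec (motive := fun _ => List ℕ) (rw922) (rw923) (Nat.ble 923 i)) (Nat.ble 922 i)) (Bool.rec (motive := fun _ => List ℕ) (Bool.rec (motive := fun _ => List ℕ) (rw924) (rw925) (Nat.ble 925 i)) (Bool.rec (motive := fun _ => List ℕ) (rw926) (rw927) (Nat.ble 927 i)) (Nat.ble 926 i)) (Nat.ble 924 i)) (Nat.ble 920 i)) (Nat.ble 912 i)) (Bool.rec (motive := fun _ => List ℕ) (Bool.rec (motive := fun _ => List ℕ) (Bool.rec (motive := fun _ => List ℕ) (Bool.rec (motive := fun _ => List ℕ) (Bool.rec (motive := fun _ => List ℕ) (rw928) (rw929) (Nat.ble 929 i)) (Bool.rec (motive := fun _ => List ℕ) (rw930) (rw931) (Nat.ble 931 i)) (Nat.ble 930 i)) (Bool.rec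 (motive := fun _ => List ℕ) (Bool.rec (motive := fun _ => List ℕ) (rw932) (rw933) (Nat.ble 933 i)) (Bool.rec (motive := fun _ => List ℕ) (rw934) (rw935) (Nat.ble 935 i)) (Nat.ble 934 i)) (Nat.ble 932 i)) (Bool.rec (motive := fun _ => List ℕ) (Bool.rec (motive := fun _ => List ℕ) (Bool.rec (motive := fun _ => List ℕ) (rw936) (rw937) (Nat.ble 937 i)) (Bool.rec (motive := fun _ => List ℕ) (rw938) (rw939) (Nat.ble 939 i)) (Nat.ble 938 i)) (Bool.rec (motive := fun _ => List ℕ) (Bool.rec (motive := fun _ => List ℕ) (rw940) (rw941) (Nat.ble 941 i)) (Bool.rec (motive := fun _ => List ℕ) (rw942) (rw943) (Nat.ble 943 i)) (Nat.ble 942 i)) (Nat.ble 940 i)) (Nat.ble 936 i)) (Bool.rec (motive := fun _ => List ℕ) (Bool.rec (motive := fun _ => List ℕ) (Bool.rec (motive := fun _ => List ℕ) (Bool.rec (motive := fun _ => List ℕ) (rw944) (rw945)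 (Nat.ble 945 i)) (Bool.rec (motive := fun _ => List ℕ) (rw946) (rw947) (Nat.ble 947 i)) (Nat.ble 946 i)) (Bool.rec (motive := fun _ => List ℕ) (Bool.rec (motive := fun _ => List ℕ) (rw948) (rw949) (Nat.ble 949 i)) (Bool.rec (motive := fun _ => List ℕ) (rw950) (rw951) (Nat.ble 951 i)) (Nat.ble 950 i)) (Nat.ble 948 i)) (Bool.rec (motive := fun _ => List ℕ) (Bool.rec (motive := fun _ => List ℕ) (Bool.rec (motive := fun _ => List ℕ) (rw952) (rw953) (Nat.ble 953 i)) (Bool.rec (motive := fun _ => List ℕ) (rw954) (rw955) (Nat.ble 955 i)) (Nat.ble 954 i)) (Bool.rec (motive := fun _ => List ℕ) (Bool.rec (motive := fun _ => List ℕ) (rw956) (rw957) (Nat.ble 957 i)) (Bool.rec (motive := fun _ => List ℕ) (rw958) (rw959) (Nat.ble 959 i)) (Nat.ble 958 i)) (Nat.ble 956 i)) (Nat.ble 952 i)) (Nat.ble 944 i)) (Nat.ble 928 i)) (Bool.rec (motive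 := fun _ => List ℕ) (Bool.rec (motive := fun _ => List ℕ) (Bool.rec (motive := fun _ => List ℕ) (Bool.rec (motive := fun _ => List ℕ) (Bool.rec (motive := fun _ => List ℕ) (Bool.rec (motive := fun _ => List ℕ) (rw960) (rw961) (Nat.ble 961 i)) (Bool.rec (motive := fun _ => List ℕ) (rw962) (rw963) (Nat.ble 963 i)) (Nat.ble 962 i)) (Bool.rec (motive := fun _ => List ℕ) (Bool.rec (motive := fun _ => List ℕ) (rw964) (rw965) (Nat.ble 965 i)) (Bool.rec (motive := fun _ => List ℕ) (rw966) (rw967) (Nat.ble 967 i)) (Nat.ble 966 i)) (Nat.ble 964 i)) (Bool.rec (motive := fun _ => List ℕ) (Bool.rec (motive := fun _ => List ℕ) (Bool.rec (motive := fun _ => List ℕ) (rw968) (rw969) (Nat.ble 969 i)) (Bool.rec (motive := fun _ => List ℕ) (rw970) (rw971) (Nat.ble 971 i)) (Nat.ble 970 i)) (Bool.rec (motive := fun _ => List ℕ) (Bool.rec (motive :=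 fun _ => List ℕ) (rw972) (rw973) (Nat.ble 973 i)) (Bool.rec (motive := fun _ => List ℕ) (rw974) (rw975) (Nat.ble 975 i)) (Nat.ble 974 i)) (Nat.ble 972 i)) (Nat.ble 968 i)) (Bool.rec (motive := fun _ => List ℕ) (Bool.rec (motive := fun _ => List ℕ) (Bool.rec (motive := fun _ => List ℕ) (Bool.rec (motive := fun _ => List ℕ) (rw976) (rw977) (Nat.ble 977 i)) (Bool.rec (motive := fun _ => List ℕ) (rw978) (rw979) (Nat.ble 979 i)) (Nat.ble 978 i)) (Bool.rec (motive := fun _ => List ℕ) (Bool.rec (motive := fun _ => List ℕ) (rw980) (rw981) (Nat.ble 981 i)) (Bool.rec (motive := fun _ => List ℕ) (rw982) (rw983) (Nat.ble 983 i)) (Nat.ble 982 i)) (Nat.ble 980 i)) (Bool.rec (motive := fun _ => List ℕ) (Bool.rec (motive := fun _ => List ℕ) (Bool.rec (motive := fun _ => List ℕ) (rw984) (rw985) (Nat.ble 985 i)) (Bool.rec (motive := fun _ => List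 ℕ) (rw986) (rw987) (Nat.ble 987 i)) (Nat.ble 986 i)) (Bool.rec (motive := fun _ => List ℕ) (Bool.rec (motive := fun _ => List ℕ) (rw988) (rw989) (Nat.ble 989 i)) (Bool.rec (motive := fun _ => List ℕ) (rw990) (rw991) (Nat.ble 991 i)) (Nat.ble 990 i)) (Nat.ble 988 i)) (Nat.ble 984 i)) (Nat.ble 976 i)) (Bool.rec (motive := fun _ => List ℕ) (Bool.rec (motive := fun _ => List ℕ) (Bool.rec (motive := fun _ => List ℕ) (Bool.rec (motive := fun _ => List ℕ) (Bool.rec (motive := fun _ => List ℕ) (rw992) (rw993) (Nat.ble 993 i)) (Bool.rec (motive := fun _ => List ℕ) (rw994) (rw995) (Nat.ble 995 i)) (Nat.ble 994 i)) (Bool.rec (motive := fun _ => List ℕ) (Bool.rec (motive := fun _ => List ℕ) (rw996) (rw997) (Nat.ble 997 i)) (Bool.rec (motive := fun _ => List ℕ) (rw998) (rw999) (Nat.ble 999 i)) (Nat.ble 998 i)) (Nat.ble 996 i)) (Bool.rec (motive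 := fun _ => List ℕ) (Bool.rec (motive := fun _ => List ℕ) (Bool.rec (motive := fun _ => List ℕ) (rw1000) (rw1001) (Nat.ble 1001 i)) (Bool.rec (motive := fun _ => List ℕ) (rw1002) (rw1003) (Nat.ble 1003 i)) (Nat.ble 1002 i)) (Bool.rec (motive := fun _ => List ℕ) (Bool.rec (motive := fun _ => List ℕ) (rw1004) (rw1005) (Nat.ble 1005 i)) (Bool.rec (motive := fun _ => List ℕ) (rw1006) (rw1007) (Nat.ble 1007 i)) (Nat.ble 1006 i)) (Nat.ble 1004 i)) (Nat.ble 1000 i)) (Bool.rec (motive := fun _ => List ℕ) (Bool.rec (motive := fun _ => List ℕ) (Bool.rec (motive := fun _ => List ℕ) (Bool.rec (motive := fun _ => List ℕ) (rw1008) (rw1009) (Nat.ble 1009 i)) (Bool.rec (motive := fun _ => List ℕ) (rw1010) (rw1011) (Nat.ble 1011 i)) (Nat.ble 1010 i)) (Bool.rec (motive := fun _ => List ℕ) (Bool.rec (motive := fun _ => List ℕ) (rw1012) (rw1013)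 (Nat.ble 1013 i)) (Bool.rec (motive := fun _ => List ℕ) (rw1014) (rw1015) (Nat.ble 1015 i)) (Nat.ble 1014 i)) (Nat.ble 1012 i)) (Bool.rec (motive := fun _ => List ℕ) (Bool.rec (motive := fun _ => List ℕ) (Bool.rec (motive := fun _ => List ℕ) (rw1016) (rw1017) (Nat.ble 1017 i)) (Bool.rec (motive := fun _ => List ℕ) (rw1018) (rw1019) (Nat.ble 1019 i)) (Nat.ble 1018 i)) (Bool.rec (motive := fun _ => List ℕ) (Bool.rec (motive := fun _ => List ℕ) (rw1020) (rw1021) (Nat.ble 1021 i)) (Bool.rec (motive := fun _ => List ℕ) (rw1022) (rw1023) (Nat.ble 1023 i)) (Nat.ble 1022 i)) (Nat.ble 1020 i)) (Nat.ble 1016 i)) (Nat.ble 1008 i)) (Nat.ble 992 i)) (Nat.ble 960 i)) (Nat.ble 896 i)) (Nat.ble 768 i)) (Nat.ble 512 i)) (Bool.rec (motive := fun _ => List ℕ) (Bool.rec (motive := fun _ => List ℕ) (Bool.rec (motive := fun _ => List ℕ) (Bool.rec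 (motive := fun _ => List ℕ) (Bool.rec (motive := fun _ => List ℕ) (Bool.rec (motive := fun _ => List ℕ) (Bool.rec (motive := fun _ => List ℕ) (Bool.rec (motive := fun _ => List ℕ) (Bool.rec (motive := fun _ => List ℕ) (Bool.rec (motive := fun _ => List ℕ) (rw1024) (rw1025) (Nat.ble 1025 i)) (Bool.rec (motive := fun _ => List ℕ) (rw1026) (rw1027) (Nat.ble 1027 i)) (Nat.ble 1026 i)) (Bool.rec (motive := fun _ => List ℕ) (Bool.rec (motive := fun _ => List ℕ) (rw1028) (rw1029) (Nat.ble 1029 i)) (Bool.rec (motive := fun _ => List ℕ) (rw1030) (rw1031) (Nat.ble 1031 i)) (Nat.ble 1030 i)) (Nat.ble 1028 i)) (Bool.rec (motive := fun _ => List ℕ) (Bool.rec (motive := fun _ => List ℕ) (Bool.rec (motive := fun _ => List ℕ) (rw1032) (rw1033) (Nat.ble 1033 i)) (Bool.rec (motive := fun _ => List ℕ) (rw1034) (rw1035) (Nat.ble 1035 i)) (Nat.ble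 1034 i)) (Bool.rec (motive := fun _ => List ℕ) (Bool.rec (motive := fun _ => List ℕ) (rw1036) (rw1037) (Nat.ble 1037 i)) (Bool.rec (motive := fun _ => List ℕ) (rw1038) (rw1039) (Nat.ble 1039 i)) (Nat.ble 1038 i)) (Nat.ble 1036 i)) (Nat.ble 1032 i)) (Bool.rec (motive := fun _ => List ℕ) (Bool.rec (motive := fun _ => List ℕ) (Bool.rec (motive := fun _ => List ℕ) (Bool.rec (motive := fun _ => List ℕ) (rw1040) (rw1041) (Nat.ble 1041 i)) (Bool.rec (motive := fun _ => List ℕ) (rw1042) (rw1043) (Nat.ble 1043 i)) (Nat.ble 1042 i)) (Bool.rec (motive := fun _ => List ℕ) (Bool.rec (motive := fun _ => List ℕ) (rw1044) (rw1045) (Nat.ble 1045 i)) (Bool.rec (motive := fun _ => List ℕ) (rw1046) (rw1047) (Nat.ble 1047 i)) (Nat.ble 1046 i)) (Nat.ble 1044 i)) (Bool.rec (motive := fun _ => List ℕ) (Bool.rec (motive := fun _ => List ℕ) (Bool.rec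 (motive := fun _ => List ℕ) (rw1048) (rw1049) (Nat.ble 1049 i)) (Bool.rec (motive := fun _ => List ℕ) (rw1050) (rw1051) (Nat.ble 1051 i)) (Nat.ble 1050 i)) (Bool.rec (motive := fun _ => List ℕ) (Bool.rec (motive := fun _ => List ℕ) (rw1052) (rw1053) (Nat.ble 1053 i)) (Bool.rec (motive := fun _ => List ℕ) (rw1054) (rw1055) (Nat.ble 1055 i)) (Nat.ble 1054 i)) (Nat.ble 1052 i)) (Nat.ble 1048 i)) (Nat.ble 1040 i)) (Bool.rec (motive := fun _ => List ℕ) (Bool.rec (motive := fun _ => List ℕ) (Bool.rec (motive := fun _ => List ℕ) (Bool.rec (motive := fun _ => List ℕ) (Bool.rec (motive := fun _ => List ℕ) (rw1056) (rw1057) (Nat.ble 1057 i)) (Bool.rec (motive := fun _ => List ℕ) (rw1058) (rw1059) (Nat.ble 1059 i)) (Nat.ble 1058 i)) (Bool.rec (motive := fun _ => List ℕ) (Bool.rec (motive := fun _ => List ℕ) (rw1060) (rw1061) (Nat.ble 1061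 i)) (Bool.rec (motive := fun _ => List ℕ) (rw1062) (rw1063) (Nat.ble 1063 i)) (Nat.ble 1062 i)) (Nat.ble 1060 i)) (Bool.rec (motive := fun _ => List ℕ) (Bool.rec (motive := fun _ => List ℕ) (Bool.rec (motive := fun _ => List ℕ) (rw1064) (rw1065) (Nat.ble 1065 i)) (Bool.rec (motive := fun _ => List ℕ) (rw1066) (rw1067) (Nat.ble 1067 i)) (Nat.ble 1066 i)) (Bool.rec (motive := fun _ => List ℕ) (Bool.rec (motive := fun _ => List ℕ) (rw1068) (rw1069) (Nat.ble 1069 i)) (Bool.rec (motive := fun _ => List ℕ) (rw1070) (rw1071) (Nat.ble 1071 i)) (Nat.ble 1070 i)) (Nat.ble 1068 i)) (Nat.ble 1064 i)) (Bool.rec (motive := fun _ => List ℕ) (Bool.rec (motive := fun _ => List ℕ) (Bool.rec (motive := fun _ => List ℕ) (Bool.rec (motive := fun _ => List ℕ) (rw1072) (rw1073) (Nat.ble 1073 i)) (Bool.rec (motive := fun _ => List ℕ) (rw1074) (rw1075)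 (Nat.ble 1075 i)) (Nat.ble 1074 i)) (Bool.rec (motive := fun _ => List ℕ) (Bool.rec (motive := fun _ => List ℕ) (rw1076) (rw1077) (Nat.ble 1077 i)) (Bool.rec (motive := fun _ => List ℕ) (rw1078) (rw1079) (Nat.ble 1079 i)) (Nat.ble 1078 i)) (Nat.ble 1076 i)) (Bool.rec (motive := fun _ => List ℕ) (Bool.rec (motive := fun _ => List ℕ) (Bool.rec (motive := fun _ => List ℕ) (rw1080) (rw1081) (Nat.ble 1081 i)) (Bool.rec (motive := fun _ => List ℕ) (rw1082) (rw1083) (Nat.ble 1083 i)) (Nat.ble 1082 i)) (Bool.rec (motive := fun _ => List ℕ) (Bool.rec (motive := fun _ => List ℕ) (rw1084) (rw1085) (Nat.ble 1085 i)) (Bool.rec (motive := fun _ => List ℕ) (rw1086) (rw1087) (Nat.ble 1087 i)) (Nat.ble 1086 i)) (Nat.ble 1084 i)) (Nat.ble 1080 i)) (Nat.ble 1072 i)) (Nat.ble 1056 i)) (Bool.rec (motive := fun _ => List ℕ) (Bool.rec (motive := fun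 _ => List ℕ) (Bool.rec (motive := fun _ => List ℕ) (Bool.rec (motive := fun _ => List ℕ) (Bool.rec (motive := fun _ => List ℕ) (Bool.rec (motive := fun _ => List ℕ) (rw1088) (rw1089) (Nat.ble 1089 i)) (Bool.rec (motive := fun _ => List ℕ) (rw1090) (rw1091) (Nat.ble 1091 i)) (Nat.ble 1090 i)) (Bool.rec (motive := fun _ => List ℕ) (Bool.rec (motive := fun _ => List ℕ) (rw1092) (rw1093) (Nat.ble 1093 i)) (Bool.rec (motive := fun _ => List ℕ) (rw1094) (rw1095) (Nat.ble 1095 i)) (Nat.ble 1094 i)) (Nat.ble 1092 i)) (Bool.rec (motive := fun _ => List ℕ) (Bool.rec (motive := fun _ => List ℕ) (Bool.rec (motive := fun _ => List ℕ) (rw1096) (rw1097) (Nat.ble 1097 i)) (Bool.rec (motive := fun _ => List ℕ) (rw1098) (rw1099) (Nat.ble 1099 i)) (Nat.ble 1098 i)) (Bool.rec (motive := fun _ => List ℕ) (Bool.rec (motive := fun _ => List ℕ) (rw1100)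 (rw1101) (Nat.ble 1101 i)) (Bool.rec (motive := fun _ => List ℕ) (rw1102) (rw1103) (Nat.ble 1103 i)) (Nat.ble 1102 i)) (Nat.ble 1100 i)) (Nat.ble 1096 i)) (Bool.rec (motive := fun _ => List ℕ) (Bool.rec (motive := fun _ => List ℕ) (Bool.rec (motive := fun _ => List ℕ) (Bool.rec (motive := fun _ => List ℕ) (rw1104) (rw1105) (Nat.ble 1105 i)) (Bool.rec (motive := fun _ => List ℕ) (rw1106) (rw1107) (Nat.ble 1107 i)) (Nat.ble 1106 i)) (Bool.rec (motive := fun _ => List ℕ) (Bool.rec (motive := fun _ => List ℕ) (rw1108) (rw1109) (Nat.ble 1109 i)) (Bool.rec (motive := fun _ => List ℕ) (rw1110) (rw1111) (Nat.ble 1111 i)) (Nat.ble 1110 i)) (Nat.ble 1108 i)) (Bool.rec (motive := fun _ => List ℕ) (Bool.rec (motive := fun _ => List ℕ) (Bool.rec (motive := fun _ => List ℕ) (rw1112) (rw1113) (Nat.ble 1113 i)) (Bool.rec (motive := fun _ =>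 List ℕ) (rw1114) (rw1115) (Nat.ble 1115 i)) (Nat.ble 1114 i)) (Bool.rec (motive := fun _ => List ℕ) (Bool.rec (motive := fun _ => List ℕ) (rw1116) (rw1117) (Nat.ble 1117 i)) (Bool.rec (motive := fun _ => List ℕ) (rw1118) (rw1119) (Nat.ble 1119 i)) (Nat.ble 1118 i)) (Nat.ble 1116 i)) (Nat.ble 1112 i)) (Nat.ble 1104 i)) (Bool.rec (motive := fun _ => List ℕ) (Bool.rec (motive := fun _ => List ℕ) (Bool.rec (motive := fun _ => List ℕ) (Bool.rec (motive := fun _ => List ℕ) (Bool.rec (motive := fun _ => List ℕ) (rw1120) (rw1121) (Nat.ble 1121 i)) (Bool.rec (motive := fun _ => List ℕ) (rw1122) (rw1123) (Nat.ble 1123 i)) (Nat.ble 1122 i)) (Bool.rec (motive := fun _ => List ℕ) (Bool.rec (motive := fun _ => List ℕ) (rw1124) (rw1125) (Nat.ble 1125 i)) (Bool.rec (motive := fun _ => List ℕ) (rw1126) (rw1127) (Nat.ble 1127 i)) (Nat.ble 1126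 i)) (Nat.ble 1124 i)) (Bool.rec (motive := fun _ => List ℕ) (Bool.rec (motive := fun _ => List ℕ) (Bool.rec (motive := fun _ => List ℕ) (rw1128) (rw1129) (Nat.ble 1129 i)) (Bool.rec (motive := fun _ => List ℕ) (rw1130) (rw1131) (Nat.ble 1131 i)) (Nat.ble 1130 i)) (Bool.rec (motive := fun _ => List ℕ) (Bool.rec (motive := fun _ => List ℕ) (rw1132) (rw1133) (Nat.ble 1133 i)) (Bool.rec (motive := fun _ => List ℕ) (rw1134) (rw1135) (Nat.ble 1135 i)) (Nat.ble 1134 i)) (Nat.ble 1132 i)) (Nat.ble 1128 i)) (Bool.rec (motive := fun _ => List ℕ) (Bool.rec (motive := fun _ => List ℕ) (Bool.rec (motive := fun _ => List ℕ) (Bool.rec (motive := fun _ => List ℕ) (rw1136) (rw1137) (Nat.ble 1137 i)) (Bool.rec (motive := fun _ => List ℕ) (rw1138) (rw1139) (Nat.ble 1139 i)) (Nat.ble 1138 i)) (Bool.rec (motive := fun _ => List ℕ) (Bool.rec (motive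 := fun _ => List ℕ) (rw1140) (rw1141) (Nat.ble 1141 i)) (Bool.rec (motive := fun _ => List ℕ) (rw1142) (rw1143) (Nat.ble 1143 i)) (Nat.ble 1142 i)) (Nat.ble 1140 i)) (Bool.rec (motive := fun _ => List ℕ) (Bool.rec (motive := fun _ => List ℕ) (Bool.rec (motive := fun _ => List ℕ) (rw1144) (rw1145) (Nat.ble 1145 i)) (Bool.rec (motive := fun _ => List ℕ) (rw1146) (rw1147) (Nat.ble 1147 i)) (Nat.ble 1146 i)) (Bool.rec (motive := fun _ => List ℕ) (Bool.rec (motive := fun _ => List ℕ) (rw1148) (rw1149) (Nat.ble 1149 i)) (Bool.rec (motive := fun _ => List ℕ) (rw1150) (rw1151) (Nat.ble 1151 i)) (Nat.ble 1150 i)) (Nat.ble 1148 i)) (Nat.ble 1144 i)) (Nat.ble 1136 i)) (Nat.ble 1120 i)) (Nat.ble 1088 i)) (Bool.rec (motive := fun _ => List ℕ) (Bool.rec (motive := fun _ => List ℕ) (Bool.rec (motive := fun _ => List ℕ) (Bool.rec (motive :=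 fun _ => List ℕ) (Bool.rec (motive := fun _ => List ℕ) (Bool.rec (motive := fun _ => List ℕ) (Bool.rec (motive := fun _ => List ℕ) (rw1152) (rw1153) (Nat.ble 1153 i)) (Bool.rec (motive := fun _ => List ℕ) (rw1154) (rw1155) (Nat.ble 1155 i)) (Nat.ble 1154 i)) (Bool.rec (motive := fun _ => List ℕ) (Bool.rec (motive := fun _ => List ℕ) (rw1156) (rw1157) (Nat.ble 1157 i)) (Bool.rec (motive := fun _ => List ℕ) (rw1158) (rw1159) (Nat.ble 1159 i)) (Nat.ble 1158 i)) (Nat.ble 1156 i)) (Bool.rec (motive := fun _ => List ℕ) (Bool.rec (motive := fun _ => List ℕ) (Bool.rec (motive := fun _ => List ℕ) (rw1160) (rw1161) (Nat.ble 1161 i)) (Bool.rec (motive := fun _ => List ℕ) (rw1162) (rw1163) (Nat.ble 1163 i)) (Nat.ble 1162 i)) (Bool.rec (motive := fun _ => List ℕ) (Bool.rec (motive := fun _ => List ℕ) (rw1164) (rw1165) (Nat.ble 1165 i)) (Bool.rec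 (motive := fun _ => List ℕ) (rw1166) (rw1167) (Nat.ble 1167 i)) (Nat.ble 1166 i)) (Nat.ble 1164 i)) (Nat.ble 1160 i)) (Bool.rec (motive := fun _ => List ℕ) (Bool.rec (motive := fun _ => List ℕ) (Bool.rec (motive := fun _ => List ℕ) (Bool.rec (motive := fun _ => List ℕ) (rw1168) (rw1169) (Nat.ble 1169 i)) (Bool.rec (motive := fun _ => List ℕ) (rw1170) (rw1171) (Nat.ble 1171 i)) (Nat.ble 1170 i)) (Bool.rec (motive := fun _ => List ℕ) (Bool.rec (motive := fun _ => List ℕ) (rw1172) (rw1173) (Nat.ble 1173 i)) (Bool.rec (motive := fun _ => List ℕ) (rw1174) (rw1175) (Nat.ble 1175 i)) (Nat.ble 1174 i)) (Nat.ble 1172 i)) (Bool.rec (motive := fun _ => List ℕ) (Bool.rec (motive := fun _ => List ℕ) (Bool.rec (motive := fun _ => List ℕ) (rw1176) (rw1177) (Nat.ble 1177 i)) (Bool.rec (motive := fun _ => List ℕ) (rw1178) (rw1179) (Nat.ble 1179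 i)) (Nat.ble 1178 i)) (Bool.rec (motive := fun _ => List ℕ) (Bool.rec (motive := fun _ => List ℕ) (rw1180) (rw1181) (Nat.ble 1181 i)) (Bool.rec (motive := fun _ => List ℕ) (rw1182) (rw1183) (Nat.ble 1183 i)) (Nat.ble 1182 i)) (Nat.ble 1180 i)) (Nat.ble 1176 i)) (Nat.ble 1168 i)) (Bool.rec (motive := fun _ => List ℕ) (Bool.rec (motive := fun _ => List ℕ) (Bool.rec (motive := fun _ => List ℕ) (Bool.rec (motive := fun _ => List ℕ) (Bool.rec (motive := fun _ => List ℕ) (rw1184) (rw1185) (Nat.ble 1185 i)) (Bool.rec (motive := fun _ => List ℕ) (rw1186) (rw1187) (Nat.ble 1187 i)) (Nat.ble 1186 i)) (Bool.rec (motive := fun _ => List ℕ) (Bool.rec (motive := fun _ => List ℕ) (rw1188) (rw1189) (Nat.ble 1189 i)) (Bool.rec (motive := fun _ => List ℕ) (rw1190) (rw1191) (Nat.ble 1191 i)) (Nat.ble 1190 i)) (Nat.ble 1188 i)) (Bool.rec (motive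 := fun _ => List ℕ) (Bool.rec (motive := fun _ => List ℕ) (Bool.rec (motive := fun _ => List ℕ) (rw1192) (rw1193) (Nat.ble 1193 i)) (Bool.rec (motive := fun _ => List ℕ) (rw1194) (rw1195) (Nat.ble 1195 i)) (Nat.ble 1194 i)) (Bool.rec (motive := fun _ => List ℕ) (Bool.rec (motive := fun _ => List ℕ) (rw1196) (rw1197) (Nat.ble 1197 i)) (Bool.rec (motive := fun _ => List ℕ) (rw1198) (rw1199) (Nat.ble 1199 i)) (Nat.ble 1198 i)) (Nat.ble 1196 i)) (Nat.ble 1192 i)) (Bool.rec (motive := fun _ => List ℕ) (Bool.rec (motive := fun _ => List ℕ) (Bool.rec (motive := fun _ => List ℕ) (Bool.rec (motive := fun _ => List ℕ) (rw1200) (rw1201) (Nat.ble 1201 i)) (Bool.rec (motive := fun _ => List ℕ) (rw1202) (rw1203) (Nat.ble 1203 i)) (Nat.ble 1202 i)) (Bool.rec (motive := fun _ => List ℕ) (Bool.rec (motive := fun _ => List ℕ) (rw1204) (rw1205)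 (Nat.ble 1205 i)) (Bool.rec (motive := fun _ => List ℕ) (rw1206) (rw1207) (Nat.ble 1207 i)) (Nat.ble 1206 i)) (Nat.ble 1204 i)) (Bool.rec (motive := fun _ => List ℕ) (Bool.rec (motive := fun _ => List ℕ) (Bool.rec (motive := fun _ => List ℕ) (rw1208) (rw1209) (Nat.ble 1209 i)) (Bool.rec (motive := fun _ => List ℕ) (rw1210) (rw1211) (Nat.ble 1211 i)) (Nat.ble 1210 i)) (Bool.rec (motive := fun _ => List ℕ) (Bool.rec (motive := fun _ => List ℕ) (rw1212) (rw1213) (Nat.ble 1213 i)) (Bool.rec (motive := fun _ => List ℕ) (rw1214) (rw1215) (Nat.ble 1215 i)) (Nat.ble 1214 i)) (Nat.ble 1212 i)) (Nat.ble 1208 i)) (Nat.ble 1200 i)) (Nat.ble 1184 i)) (Bool.rec (motive := fun _ => List ℕ) (Bool.rec (motive := fun _ => List ℕ) (Bool.rec (motive := fun _ => List ℕ) (Bool.rec (motive := fun _ => List ℕ) (Bool.rec (motive := fun _ => List ℕ) (Bool.rec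 (motive := fun _ => List ℕ) (rw1216) (rw1217) (Nat.ble 1217 i)) (Bool.rec (motive := fun _ => List ℕ) (rw1218) (rw1219) (Nat.ble 1219 i)) (Nat.ble 1218 i)) (Bool.rec (motive := fun _ => List ℕ) (Bool.rec (motive := fun _ => List ℕ) (rw1220) (rw1221) (Nat.ble 1221 i)) (Bool.rec (motive := fun _ => List ℕ) (rw1222) (rw1223) (Nat.ble 1223 i)) (Nat.ble 1222 i)) (Nat.ble 1220 i)) (Bool.rec (motive := fun _ => List ℕ) (Bool.rec (motive := fun _ => List ℕ) (Bool.rec (motive := fun _ => List ℕ) (rw1224) (rw1225) (Nat.ble 1225 i)) (Bool.rec (motive := fun _ => List ℕ) (rw1226) (rw1227) (Nat.ble 1227 i)) (Nat.ble 1226 i)) (Bool.rec (motive := fun _ => List ℕ) (Bool.rec (motive := fun _ => List ℕ) (rw1228) (rw1229) (Nat.ble 1229 i)) (Bool.rec (motive := fun _ => List ℕ) (rw1230) (rw1231) (Nat.ble 1231 i)) (Nat.ble 1230 i)) (Nat.ble 1228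 i)) (Nat.ble 1224 i)) (Bool.rec (motive := fun _ => List ℕ) (Bool.rec (motive := fun _ => List ℕ) (Bool.rec (motive := fun _ => List ℕ) (Bool.rec (motive := fun _ => List ℕ) (rw1232) (rw1233) (Nat.ble 1233 i)) (Bool.rec (motive := fun _ => List ℕ) (rw1234) (rw1235) (Nat.ble 1235 i)) (Nat.ble 1234 i)) (Bool.rec (motive := fun _ => List ℕ) (Bool.rec (motive := fun _ => List ℕ) (rw1236) (rw1237) (Nat.ble 1237 i)) (Bool.rec (motive := fun _ => List ℕ) (rw1238) (rw1239) (Nat.ble 1239 i)) (Nat.ble 1238 i)) (Nat.ble 1236 i)) (Bool.rec (motive := fun _ => List ℕ) (Bool.rec (motive := fun _ => List ℕ) (Bool.rec (motive := fun _ => List ℕ) (rw1240) (rw1241) (Nat.ble 1241 i)) (Bool.rec (motive := fun _ => List ℕ) (rw1242) (rw1243) (Nat.ble 1243 i)) (Nat.ble 1242 i)) (Bool.rec (motive := fun _ => List ℕ) (Bool.rec (motive := fun _ => List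 ℕ) (rw1244) (rw1245) (Nat.ble 1245 i)) (Bool.rec (motive := fun _ => List ℕ) (rw1246) (rw1247) (Nat.ble 1247 i)) (Nat.ble 1246 i)) (Nat.ble 1244 i)) (Nat.ble 1240 i)) (Nat.ble 1232 i)) (Bool.rec (motive := fun _ => List ℕ) (Bool.rec (motive := fun _ => List ℕ) (Bool.rec (motive := fun _ => List ℕ) (Bool.rec (motive := fun _ => List ℕ) (Bool.rec (motive := fun _ => List ℕ) (rw1248) (rw1249) (Nat.ble 1249 i)) (Bool.rec (motive := fun _ => List ℕ) (rw1250) (rw1251) (Nat.ble 1251 i)) (Nat.ble 1250 i)) (Bool.rec (motive := fun _ => List ℕ) (Bool.rec (motive := fun _ => List ℕ) (rw1252) (rw1253) (Nat.ble 1253 i)) (Bool.rec (motive := fun _ => List ℕ) (rw1254) (rw1255) (Nat.ble 1255 i)) (Nat.ble 1254 i)) (Nat.ble 1252 i)) (Bool.rec (motive := fun _ => List ℕ) (Bool.rec (motive := fun _ => List ℕ) (Bool.rec (motive := fun _ => List ℕ)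 (rw1256) (rw1257) (Nat.ble 1257 i)) (Bool.rec (motive := fun _ => List ℕ) (rw1258) (rw1259) (Nat.ble 1259 i)) (Nat.ble 1258 i)) (Bool.rec (motive := fun _ => List ℕ) (Bool.rec (motive := fun _ => List ℕ) (rw1260) (rw1261) (Nat.ble 1261 i)) (Bool.rec (motive := fun _ => List ℕ) (rw1262) (rw1263) (Nat.ble 1263 i)) (Nat.ble 1262 i)) (Nat.ble 1260 i)) (Nat.ble 1256 i)) (Bool.rec (motive := fun _ => List ℕ) (Bool.rec (motive := fun _ => List ℕ) (Bool.rec (motive := fun _ => List ℕ) (Bool.rec (motive := fun _ => List ℕ) (rw1264) (rw1265) (Nat.ble 1265 i)) (Bool.rec (motive := fun _ => List ℕ) (rw1266) (rw1267) (Nat.ble 1267 i)) (Nat.ble 1266 i)) (Bool.rec (motive := fun _ => List ℕ) (Bool.rec (motive := fun _ => List ℕ) (rw1268) (rw1269) (Nat.ble 1269 i)) (Bool.rec (motive := fun _ => List ℕ) (rw1270) (rw1271) (Nat.ble 1271 i)) (Nat.ble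 1270 i)) (Nat.ble 1268 i)) (Bool.rec (motive := fun _ => List ℕ) (Bool.rec (motive := fun _ => List ℕ) (Bool.rec (motive := fun _ => List ℕ) (rw1272) (rw1273) (Nat.ble 1273 i)) (Bool.rec (motive := fun _ => List ℕ) (rw1274) (rw1275) (Nat.ble 1275 i)) (Nat.ble 1274 i)) (Bool.rec (motive := fun _ => List ℕ) (Bool.rec (motive := fun _ => List ℕ) (rw1276) (rw1277) (Nat.ble 1277 i)) (Bool.rec (motive := fun _ => List ℕ) (rw1278) (rw1279) (Nat.ble 1279 i)) (Nat.ble 1278 i)) (Nat.ble 1276 i)) (Nat.ble 1272 i)) (Nat.ble 1264 i)) (Nat.ble 1248 i)) (Nat.ble 1216 i)) (Nat.ble 1152 i)) (Bool.rec (motive := fun _ => List ℕ) (Bool.rec (motive := fun _ => List ℕ) (Bool.rec (motive := fun _ => List ℕ) (Bool.rec (motive := fun _ => List ℕ) (Bool.rec (motive := fun _ => List ℕ) (Bool.rec (motive := fun _ => List ℕ) (Bool.rec (motive := fun _ =>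 List ℕ) (Bool.rec (motive := fun _ => List ℕ) (rw1280) (rw1281) (Nat.ble 1281 i)) (Bool.rec (motive := fun _ => List ℕ) (rw1282) (rw1283) (Nat.ble 1283 i)) (Nat.ble 1282 i)) (Bool.rec (motive := fun _ => List ℕ) (Bool.rec (motive := fun _ => List ℕ) (rw1284) (rw1285) (Nat.ble 1285 i)) (Bool.rec (motive := fun _ => List ℕ) (rw1286) (rw1287) (Nat.ble 1287 i)) (Nat.ble 1286 i)) (Nat.ble 1284 i)) (Bool.rec (motive := fun _ => List ℕ) (Bool.rec (motive := fun _ => List ℕ) (Bool.rec (motive := fun _ => List ℕ) (rw1288) (rw1289) (Nat.ble 1289 i)) (Bool.rec (motive := fun _ => List ℕ) (rw1290) (rw1291) (Nat.ble 1291 i)) (Nat.ble 1290 i)) (Bool.rec (motive := fun _ => List ℕ) (Bool.rec (motive := fun _ => List ℕ) (rw1292) (rw1293) (Nat.ble 1293 i)) (Bool.rec (motive := fun _ => List ℕ) (rw1294) (rw1295) (Nat.ble 1295 i)) (Nat.ble 1294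 i)) (Nat.ble 1292 i)) (Nat.ble 1288 i)) (Bool.rec (motive := fun _ => List ℕ) (Bool.rec (motive := fun _ => List ℕ) (Bool.rec (motive := fun _ => List ℕ) (Bool.rec (motive := fun _ => List ℕ) (rw1296) (rw1297) (Nat.ble 1297 i)) (Bool.rec (motive := fun _ => List ℕ) (rw1298) (rw1299) (Nat.ble 1299 i)) (Nat.ble 1298 i)) (Bool.rec (motive := fun _ => List ℕ) (Bool.rec (motive := fun _ => List ℕ) (rw1300) (rw1301) (Nat.ble 1301 i)) (Bool.rec (motive := fun _ => List ℕ) (rw1302) (rw1303) (Nat.ble 1303 i)) (Nat.ble 1302 i)) (Nat.ble 1300 i)) (Bool.rec (motive := fun _ => List ℕ) (Bool.rec (motive := fun _ => List ℕ) (Bool.rec (motive := fun _ => List ℕ) (rw1304) (rw1305) (Nat.ble 1305 i)) (Bool.rec (motive := fun _ => List ℕ) (rw1306) (rw1307) (Nat.ble 1307 i)) (Nat.ble 1306 i)) (Bool.rec (motive := fun _ => List ℕ) (Bool.rec (motive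 := fun _ => List ℕ) (rw1308) (rw1309) (Nat.ble 1309 i)) (Bool.rec (motive := fun _ => List ℕ) (rw1310) (rw1311) (Nat.ble 1311 i)) (Nat.ble 1310 i)) (Nat.ble 1308 i)) (Nat.ble 1304 i)) (Nat.ble 1296 i)) (Bool.rec (motive := fun _ => List ℕ) (Bool.rec (motive := fun _ => List ℕ) (Bool.rec (motive := fun _ => List ℕ) (Bool.rec (motive := fun _ => List ℕ) (Bool.rec (motive := fun _ => List ℕ) (rw1312) (rw1313) (Nat.ble 1313 i)) (Bool.rec (motive := fun _ => List ℕ) (rw1314) (rw1315) (Nat.ble 1315 i)) (Nat.ble 1314 i)) (Bool.rec (motive := fun _ => List ℕ) (Bool.rec (motive := fun _ => List ℕ) (rw1316) (rw1317) (Nat.ble 1317 i)) (Bool.rec (motive := fun _ => List ℕ) (rw1318) (rw1319) (Nat.ble 1319 i)) (Nat.ble 1318 i)) (Nat.ble 1316 i)) (Bool.rec (motive := fun _ => List ℕ) (Bool.rec (motive := fun _ => List ℕ) (Bool.rec (motive :=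 fun _ => List ℕ) (rw1320) (rw1321) (Nat.ble 1321 i)) (Bool.rec (motive := fun _ => List ℕ) (rw1322) (rw1323) (Nat.ble 1323 i)) (Nat.ble 1322 i)) (Bool.rec (motive := fun _ => List ℕ) (Bool.rec (motive := fun _ => List ℕ) (rw1324) (rw1325) (Nat.ble 1325 i)) (Bool.rec (motive := fun _ => List ℕ) (rw1326) (rw1327) (Nat.ble 1327 i)) (Nat.ble 1326 i)) (Nat.ble 1324 i)) (Nat.ble 1320 i)) (Bool.rec (motive := fun _ => List ℕ) (Bool.rec (motive := fun _ => List ℕ) (Bool.rec (motive := fun _ => List ℕ) (Bool.rec (motive := fun _ => List ℕ) (rw1328) (rw1329) (Nat.ble 1329 i)) (Bool.rec (motive := fun _ => List ℕ) (rw1330) (rw1331) (Nat.ble 1331 i)) (Nat.ble 1330 i)) (Bool.rec (motive := fun _ => List ℕ) (Bool.rec (motive := fun _ => List ℕ) (rw1332) (rw1333) (Nat.ble 1333 i)) (Bool.rec (motive := fun _ => List ℕ) (rw1334) (rw1335) (Nat.ble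 1335 i)) (Nat.ble 1334 i)) (Nat.ble 1332 i)) (Bool.rec (motive := fun _ => List ℕ) (Bool.rec (motive := fun _ => List ℕ) (Bool.rec (motive := fun _ => List ℕ) (rw1336) (rw1337) (Nat.ble 1337 i)) (Bool.rec (motive := fun _ => List ℕ) (rw1338) (rw1339) (Nat.ble 1339 i)) (Nat.ble 1338 i)) (Bool.rec (motive := fun _ => List ℕ) (Bool.rec (motive := fun _ => List ℕ) (rw1340) (rw1341) (Nat.ble 1341 i)) (Bool.rec (motive := fun _ => List ℕ) (rw1342) (rw1343) (Nat.ble 1343 i)) (Nat.ble 1342 i)) (Nat.ble 1340 i)) (Nat.ble 1336 i)) (Nat.ble 1328 i)) (Nat.ble 1312 i)) (Bool.rec (motive := fun _ => List ℕ) (Bool.rec (motive := fun _ => List ℕ) (Bool.rec (motive := fun _ => List ℕ) (Bool.rec (motive := fun _ => List ℕ) (Bool.rec (motive := fun _ => List ℕ) (Bool.rec (motive := fun _ => List ℕ) (rw1344) (rw1345) (Nat.ble 1345 i)) (Bool.rec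 (motive := fun _ => List ℕ) (rw1346) (rw1347) (Nat.ble 1347 i)) (Nat.ble 1346 i)) (Bool.rec (motive := fun _ => List ℕ) (Bool.rec (motive := fun _ => List ℕ) (rw1348) (rw1349) (Nat.ble 1349 i)) (Bool.rec (motive := fun _ => List ℕ) (rw1350) (rw1351) (Nat.ble 1351 i)) (Nat.ble 1350 i)) (Nat.ble 1348 i)) (Bool.rec (motive := fun _ => List ℕ) (Bool.rec (motive := fun _ => List ℕ) (Bool.rec (motive := fun _ => List ℕ) (rw1352) (rw1353) (Nat.ble 1353 i)) (Bool.rec (motive := fun _ => List ℕ) (rw1354) (rw1355) (Nat.ble 1355 i)) (Nat.ble 1354 i)) (Bool.rec (motive := fun _ => List ℕ) (Bool.rec (motive := fun _ => List ℕ) (rw1356) (rw1357) (Nat.ble 1357 i)) (Bool.rec (motive := fun _ => List ℕ) (rw1358) (rw1359) (Nat.ble 1359 i)) (Nat.ble 1358 i)) (Nat.ble 1356 i)) (Nat.ble 1352 i)) ([]) (Nat.ble 1360 i)) ([]) (Nat.ble 1376 i)) (Nat.ble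 1344 i)) ([]) (Nat.ble 1408 i)) (Nat.ble 1280 i)) ([]) (Nat.ble 1536 i)) (Nat.ble 1024 i))
def sw0 : List ℕ := [2]
def sw1 : List ℕ := [4]
def sw2 : List ℕ := [6]
def sw3 : List ℕ := [8]
def sw4 : List ℕ := [10]
def sw5 : List ℕ := [12]
noncomputable def subW (i : ℕ) : List ℕ := (Bool.rec (motive := fun _ => List ℕ) (Bool.rec (motive := fun _ => List ℕ) (Bool.rec (motive := fun _ => List ℕ) (sw0) (sw1) (Nat.ble 1 i)) (Bool.rec (motive := fun _ => List ℕ) (sw2) (sw3) (Nat.ble 3 i)) (Nat.ble 2 i)) (Bool.rec (motive := fun _ => List ℕ) (Bool.rec (motive := fun _ => List ℕ) (sw4) (sw5) (Nat.ble 5 i)) ([]) (Nat.ble 6 i)) (Nat.ble 4 i))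

noncomputable def data : Data where
  w := 20
  mask := 1048575
  tw := 23
  tmask := 8388607
  hsh := 43
  lsh := 63
  ew := 66
  emask := 73786976294838206463
  mw := 68
  mmask := 295147905179352825855
  jw := 27
  jmask := 134217727
  bsh := 11
  bmask := 2047
  nc := 14
  fuel := 6
  E := eT
  J := jT
  Mg := mgT
  JM := jmT
  relW := relW
  nrot := 1360
  subW := subW
  nsub := 6

def M : ℕ := 545318
def n : ℕ := 368280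

def bases : List (List ℕ) := [
  [2, 2],
  [3, 3],
  [4, 2, 4, 2, 4, 2],
  [3, 5, 3, 5, 3, 5],
  [6, 2, 6, 2],
  [3, 7, 3, 7],
  [8, 2, 8, 2],
  [3, 9, 3, 9],
  [10, 2, 10, 2],
  [3, 11, 3, 11],
  [12, 2, 12, 2],
  [3, 13, 3, 13],
  [4, 4],
  [5, 5],
  [6, 4, 6, 4, 6, 4],
  [5, 7, 5, 7, 5, 7],
  [8, 4, 8, 4],
  [5, 9, 5, 9],
  [10, 4, 10, 4],
  [5, 11, 5, 11],
  [12, 4, 12, 4],
  [5, 13, 5, 13],
  [6, 6],
  [7, 7],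
  [8, 6, 8, 6, 8, 6, 8, 6, 8, 6, 8, 6, 8, 6, 8, 6],
  [7, 9, 7, 9, 7, 9, 7, 9, 7, 9, 7, 9, 7, 9, 7, 9],
  [10, 6, 10, 6],
  [7, 11, 7, 11],
  [12, 6, 12, 6],
  [7, 13, 7, 13],
  [8, 8],
  [9, 9],
  [10, 8, 10, 8, 10, 8],
  [9, 11, 9, 11, 9, 11],
  [12, 8, 12, 8],
  [9, 13, 9, 13],
  [10, 10],
  [11, 11],
  [12, 10, 12, 10, 12, 10],
  [11, 13, 11, 13, 11, 13],
  [12, 12],
  [13, 13],
  [1, 1, 12, 2],
  [3, 13, 0, 0],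
  [7, 9, 7, 9, 7, 9, 7, 9, 12, 2],
  [3, 13, 8, 6, 8, 6, 8, 6, 8, 6],
  [0, 8, 0, 8, 6, 9, 1, 9, 1, 6],
  [7, 0, 8, 0, 8, 7, 9, 1, 9, 1],
  [0, 6, 0, 6, 8, 7, 1, 7, 1, 8],
  [9, 0, 6, 0, 6, 9, 7, 1, 7, 1],
  [3, 0, 6, 0, 6, 0, 6, 0, 6],
  [7, 1, 7, 1, 7, 1, 7, 1, 2],
  [9, 7, 9, 7, 1, 10, 8, 7, 1, 11, 9, 0, 11, 9, 7, 9, 6, 8, 6, 8, 10, 1, 8, 10, 0, 6, 9, 11],
  [10, 8, 7, 1, 11, 9, 0, 11, 9, 7, 9, 7, 8, 6, 8, 10, 1, 8, 10, 0, 6, 9, 11, 0, 6, 8, 6, 8],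
  [1, 5, 7, 9, 1, 5, 7, 9, 1, 5, 7, 9, 1, 5, 7, 9, 1, 5, 7, 9, 1, 0, 0, 8, 6, 4, 0, 8, 6, 4, 0, 8, 6, 4, 0, 8, 6, 4, 0, 8, 6, 4],
  [5, 7, 9, 1, 5, 7, 9, 1, 5, 7, 9, 1, 5, 7, 9, 1, 5, 7, 9, 1, 1, 0, 8, 6, 4, 0, 8, 6, 4, 0, 8, 6, 4, 0, 8, 6, 4, 0, 8, 6, 4, 0],
  [3, 5, 7, 9, 1, 5, 7, 9, 1, 5, 7, 9, 1, 5, 7, 9, 1, 5, 7, 9, 1, 2, 0, 8, 6, 4, 0, 8, 6, 4, 0, 8, 6, 4, 0, 8, 6, 4, 0, 8, 6, 4],
  [5, 7, 9, 1, 5, 7, 9, 1, 5, 7, 9, 1, 5, 7, 9, 1, 5, 7, 9, 1, 3, 0, 8, 6, 4, 0, 8, 6, 4, 0, 8, 6, 4, 0, 8, 6, 4, 0, 8, 6, 4, 2],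
  [5, 5, 7, 9, 1, 5, 7, 9, 1, 5, 7, 9, 1, 5, 7, 9, 1, 5, 7, 9, 1, 4, 0, 8, 6, 4, 0, 8, 6, 4, 0, 8, 6, 4, 0, 8, 6, 4, 0, 8, 6, 4],
  [5, 7, 9, 1, 5, 7, 9, 1, 5, 7, 9, 1, 5, 7, 9, 1, 5, 7, 9, 1, 5, 0, 8, 6, 4, 0, 8, 6, 4, 0, 8, 6, 4, 0, 8, 6, 4, 0, 8, 6, 4, 4],
  [7, 5, 7, 9, 1, 5, 7, 9, 1, 5, 7, 9, 1, 5, 7, 9, 1, 5, 7, 9, 1, 6, 0, 8, 6, 4, 0, 8, 6, 4, 0, 8, 6, 4, 0, 8, 6, 4, 0, 8, 6, 4],
  [5, 7, 9, 1, 5, 7, 9, 1, 5, 7, 9, 1, 5, 7, 9, 1, 5, 7, 9, 1, 7, 0, 8, 6, 4, 0, 8, 6, 4, 0, 8, 6, 4, 0, 8, 6, 4, 0, 8, 6, 4, 6],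
  [9, 5, 7, 9, 1, 5, 7, 9, 1, 5, 7, 9, 1, 5, 7, 9, 1, 5, 7, 9, 1, 8, 0, 8, 6, 4, 0, 8, 6, 4, 0, 8, 6, 4, 0, 8, 6, 4, 0, 8, 6, 4],
  [5, 7, 9, 1, 5, 7, 9, 1, 5, 7, 9, 1, 5, 7, 9, 1, 5, 7, 9, 1, 9, 0, 8, 6, 4, 0, 8, 6, 4, 0, 8, 6, 4, 0, 8, 6, 4, 0, 8, 6, 4, 8],
  [11, 5, 7, 9, 1, 5, 7, 9, 1, 5, 7, 9, 1, 5, 7, 9, 1, 5, 7, 9, 1, 10, 0, 8, 6, 4, 0, 8, 6, 4, 0, 8, 6, 4, 0, 8, 6, 4, 0, 8, 6, 4],
  [5, 7, 9, 1, 5, 7, 9, 1, 5, 7, 9, 1, 5, 7, 9, 1, 5, 7, 9, 1, 11, 0, 8, 6, 4, 0, 8, 6, 4, 0, 8, 6, 4, 0, 8, 6, 4, 0, 8, 6, 4, 10],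
  [13, 5, 7, 9, 1, 5, 7, 9, 1, 5, 7, 9, 1, 5, 7, 9, 1, 5, 7, 9, 1, 12, 0, 8, 6, 4, 0, 8, 6, 4, 0, 8, 6, 4, 0, 8, 6, 4, 0, 8, 6, 4],
  [5, 7, 9, 1, 5, 7, 9, 1, 5, 7, 9, 1, 5, 7, 9, 1, 5, 7, 9, 1, 13, 0, 8, 6, 4, 0, 8, 6, 4, 0, 8, 6, 4, 0, 8, 6, 4, 0, 8, 6, 4, 12],
  [1, 1, 5, 6, 1, 7, 4, 1, 5, 6, 1, 7, 0, 6, 0, 7, 4, 0, 5, 6, 0, 7, 4, 0],
  [1, 5, 6, 1, 7, 4, 1, 5, 6, 1, 7, 1, 6, 0, 7, 4, 0, 5, 6, 0, 7, 4, 0, 0],
  [3, 1, 5, 6, 1, 7, 4, 1, 5, 6, 1, 7, 2, 6, 0, 7, 4, 0, 5, 6, 0, 7, 4, 0],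
  [1, 5, 6, 1, 7, 4, 1, 5, 6, 1, 7, 3, 6, 0, 7, 4, 0, 5, 6, 0, 7, 4, 0, 2],
  [5, 1, 5, 6, 1, 7, 4, 1, 5, 6, 1, 7, 4, 6, 0, 7, 4, 0, 5, 6, 0, 7, 4, 0],
  [1, 5, 6, 1, 7, 4, 1, 5, 6, 1, 7, 5, 6, 0, 7, 4, 0, 5, 6, 0, 7, 4, 0, 4],
  [7, 1, 5, 6, 1, 7, 4, 1, 5, 6, 1, 7, 6, 6, 0, 7, 4, 0, 5, 6, 0, 7, 4, 0],
  [1, 5, 6, 1, 7, 4, 1, 5, 6, 1, 7, 7, 6, 0, 7, 4, 0, 5, 6, 0, 7, 4, 0, 6],
  [9, 1, 5, 6, 1, 7, 4, 1, 5, 6, 1, 7, 8, 6, 0, 7, 4, 0, 5, 6, 0, 7, 4, 0],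
  [1, 5, 6, 1, 7, 4, 1, 5, 6, 1, 7, 9, 6, 0, 7, 4, 0, 5, 6, 0, 7, 4, 0, 8],
  [11, 1, 5, 6, 1, 7, 4, 1, 5, 6, 1, 7, 10, 6, 0, 7, 4, 0, 5, 6, 0, 7, 4, 0],
  [1, 5, 6, 1, 7, 4, 1, 5, 6, 1, 7, 11, 6, 0, 7, 4, 0, 5, 6, 0, 7, 4, 0, 10],
  [13, 1, 5, 6, 1, 7, 4, 1, 5, 6, 1, 7, 12, 6, 0, 7, 4, 0, 5, 6, 0, 7, 4, 0],
  [1, 5, 6, 1, 7, 4, 1, 5, 6, 1, 7, 13, 6, 0, 7, 4, 0, 5, 6, 0, 7, 4, 0, 12],
  [1, 1, 11, 8, 1, 9, 10, 1, 11, 8, 1, 9, 0, 8, 0, 9, 10, 0, 11, 8, 0, 9, 10, 0],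
  [1, 11, 8, 1, 9, 10, 1, 11, 8, 1, 9, 1, 8, 0, 9, 10, 0, 11, 8, 0, 9, 10, 0, 0],
  [3, 1, 11, 8, 1, 9, 10, 1, 11, 8, 1, 9, 2, 8, 0, 9, 10, 0, 11, 8, 0, 9, 10, 0],
  [1, 11, 8, 1, 9, 10, 1, 11, 8, 1, 9, 3, 8, 0, 9, 10, 0, 11, 8, 0, 9, 10, 0, 2],
  [5, 1, 11, 8, 1, 9, 10, 1, 11, 8, 1, 9, 4, 8, 0, 9, 10, 0, 11, 8, 0, 9, 10, 0],
  [1, 11, 8, 1, 9, 10, 1, 11, 8, 1, 9, 5, 8, 0, 9, 10, 0, 11, 8, 0, 9, 10, 0, 4],
  [7, 1, 11, 8, 1, 9, 10, 1, 11, 8, 1, 9, 6, 8, 0, 9, 10, 0, 11, 8, 0, 9, 10, 0],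
  [1, 11, 8, 1, 9, 10, 1, 11, 8, 1, 9, 7, 8, 0, 9, 10, 0, 11, 8, 0, 9, 10, 0, 6],
  [9, 1, 11, 8, 1, 9, 10, 1, 11, 8, 1, 9, 8, 8, 0, 9, 10, 0, 11, 8, 0, 9, 10, 0],
  [1, 11, 8, 1, 9, 10, 1, 11, 8, 1, 9, 9, 8, 0, 9, 10, 0, 11, 8, 0, 9, 10, 0, 8],
  [11, 1, 11, 8, 1, 9, 10, 1, 11, 8, 1, 9, 10, 8, 0, 9, 10, 0, 11, 8, 0, 9, 10, 0],
  [1, 11, 8, 1, 9, 10, 1, 11, 8, 1, 9, 11, 8, 0, 9, 10, 0, 11, 8, 0, 9, 10, 0, 10],
  [13, 1, 11, 8, 1, 9, 10, 1, 11, 8, 1, 9, 12, 8, 0, 9, 10, 0, 11, 8, 0, 9, 10, 0],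
  [1, 11, 8, 1, 9, 10, 1, 11, 8, 1, 9, 13, 8, 0, 9, 10, 0, 11, 8, 0, 9, 10, 0, 12],
  [2, 4, 2, 4, 2, 4],
  [2, 6, 2, 6],
  [4, 6, 4, 6, 4, 6],
  [2, 8, 2, 8],
  [4, 8, 4, 8],
  [6, 8, 6, 8, 6, 8, 6, 8, 6, 8, 6, 8, 6, 8, 6, 8],
  [2, 10, 2, 10],
  [4, 10, 4, 10],
  [6, 10, 6, 10],
  [8, 10, 8, 10, 8, 10],
  [2, 12, 2, 12],
  [4, 12, 4, 12],
  [6, 12, 6, 12],
  [8, 12, 8, 12],
  [10, 12, 10, 12, 10, 12]]

def rots : List (ℕ × ℕ) := [(43, 3), (50, 1), (50, 3), (43, 2), (68, 14), (50, 7), (68, 17), (50, 5), (48, 2), (46, 0), (48, 0), (70, 17), (74, 17), (68, 20), (92, 23), (88, 23), (82, 12), (46, 2), (92, 14), (69, 16), (72, 14), (77, 13), (76, 20), (84, 14), (93, 13), (90, 17), (83, 16), (80, 20), (72, 23), (69, 19), (49, 1), (84, 17), (69, 22), (80, 23), (82, 20), (82, 14), (88, 17), (88, 20), (76, 14), (80, 17), (74, 20), (78,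 17), (89, 13), (78, 23), (81, 22), (76, 23), (92, 20), (86, 17), (86, 23), (93, 16), (83, 13), (77, 16), (90, 20), (70, 20), (74, 14), (88, 14), (78, 14), (82, 17), (86, 14), (76, 17), (72, 17), (93, 22), (47, 1), (70, 14), (90, 23), (94, 20), (74, 23), (85, 22), (73, 13), (68, 12), (94, 17), (78, 20), (84, 20), (70, 23), (57, 33), (54, 34), (94, 23), (49, 3), (60, 22), (58, 22), (69, 13), (58, 26), (86, 20), (94, 14), (55, 41), (89, 22), (83, 19), (95, 16), (72, 20), (52, 24), (92, 17), (79, 22), (87, 22), (80, 14), (56, 22), (73, 16), (84, 23), (75, 22), (60, 26), (56, 38), (77, 22), (81, 16), (54, 30), (54, 38), (53, 23), (73, 22), (47, 3), (90, 14), (81, 19), (95, 22), (52, 11), (71, 13), (71, 22), (55, 29), (75, 16), (53, 19), (79, 16), (58, 34), (64, 34), (87, 13), (58, 30), (66, 38), (79, 13), (66, 26), (60, 34), (91,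 22), (95, 13), (56, 26), (75, 19), (55, 33), (64, 26), (83, 22), (64, 30), (91, 16), (77, 19), (85, 19), (56, 30), (85, 13), (87, 16), (91, 19), (54, 22), (71, 19), (55, 37), (55, 25), (93, 19), (62, 26), (56, 34), (95, 19), (66, 34), (81, 13), (62, 30), (87, 19), (66, 22), (53, 6), (85, 16), (60, 38), (91, 13), (64, 38), (54, 26), (60, 30), (73, 19), (62, 34), (64, 22), (66, 30), (89, 19), (75, 13), (62, 22), (89, 16), (58, 38), (71, 16), (62, 38), (65, 33), (59, 37), (57, 37), (57, 25), (57, 21), (63, 21), (65, 37), (59, 21), (42, 0), (42, 1), (69, 9), (72, 7), (47, 7), (46, 8), (48, 6), (73, 0), (68, 4), (48, 8), (69, 6), (51, 3), (74, 4), (74, 7), (68, 1), (51, 1), (46, 6), (83, 9), (51, 5), (68, 7), (70, 4), (51, 7), (80, 7), (69, 11), (92, 10), (76, 7), (90, 1), (83, 11), (80, 10), (72, 1), (76, 1), (68, 10), (84, 4), (84,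 10), (84, 1), (84, 7), (86, 10), (74, 1), (88, 7), (92, 1), (88, 1), (82, 4), (82, 10), (82, 7), (52, 4), (94, 7), (95, 0), (69, 3), (76, 10), (94, 4), (86, 1), (78, 1), (90, 4), (72, 10), (83, 3), (81, 9), (92, 7), (83, 6), (79, 9), (78, 4), (85, 0), (62, 20), (90, 7), (87, 3), (78, 10), (54, 0), (95, 9), (47, 9), (86, 7), (88, 10), (81, 0), (86, 4), (87, 0), (93, 0), (76, 4), (77, 0), (70, 10), (88, 4), (89, 0), (52, 21), (49, 7), (72, 4), (58, 20), (79, 0), (78, 7), (91, 6), (92, 4), (70, 7), (70, 1), (80, 4), (90, 10), (73, 9), (77, 3), (71, 0), (91, 0), (73, 6), (71, 3), (82, 1), (75, 0), (80, 1), (93, 6), (71, 6), (94, 10), (55, 3), (85, 6), (53, 3), (94, 1), (52, 8), (62, 12), (60, 4), (74, 10), (62, 16), (64, 16), (60, 16), (75, 3), (81, 6), (91, 3), (56, 8), (93, 9), (66, 20), (66, 4), (55, 11), (56, 4), (79, 6), (49,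 9), (77, 9), (77, 6), (93, 3), (60, 8), (95, 6), (75, 9), (66, 16), (85, 9), (89, 6), (95, 3), (87, 6), (87, 9), (53, 16), (62, 8), (55, 15), (75, 6), (89, 9), (62, 4), (55, 7), (54, 4), (54, 8), (91, 9), (56, 16), (73, 3), (71, 9), (56, 20), (61, 19), (89, 3), (85, 3), (60, 20), (55, 19), (64, 8), (58, 4), (58, 16), (54, 12), (58, 8), (64, 4), (54, 16), (58, 12), (64, 12), (64, 20), (56, 12), (65, 11), (65, 7), (59, 7), (65, 19), (59, 19), (61, 15), (0, 1), (4, 1), (6, 1), (8, 1), (10, 1), (51, 8), (70, 12), (10, 3), (42, 3), (4, 3), (6, 3), (2, 1), (44, 9), (8, 3), (84, 12), (85, 23), (2, 3), (2, 5), (71, 23), (56, 21), (57, 41), (50, 0), (7, 0), (9, 0), (11, 0), (5, 0), (1, 1), (43, 0), (5, 2), (45, 0), (11, 2), (70, 0), (3, 0), (84, 0), (9, 2), (3, 4), (3, 2), (7, 2), (85, 11), (71, 11), (56, 0), (57, 20), (12, 1), (16, 1),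 (18, 1), (20, 1), (2, 2), (2, 0), (2, 4), (20, 3), (14, 3), (72, 16), (68, 16), (16, 3), (69, 21), (14, 1), (86, 12), (73, 15), (77, 15), (72, 22), (72, 12), (75, 5), (74, 22), (80, 22), (87, 23), (73, 23), (69, 15), (18, 3), (68, 22), (74, 16), (71, 21), (81, 21), (80, 6), (14, 5), (68, 6), (80, 16), (74, 6), (70, 16), (77, 21), (69, 5), (81, 5), (76, 22), (76, 16), (70, 6), (76, 6), (56, 37), (54, 41), (70, 22), (62, 41), (54, 25), (72, 6), (78, 16), (54, 29), (78, 22), (56, 29), (60, 37), (78, 6), (54, 37), (60, 29), (55, 36), (64, 33), (55, 28), (77, 5), (60, 25), (66, 25), (64, 29), (73, 5), (75, 15), (66, 41), (64, 25), (54, 33), (60, 33), (55, 32), (58, 21), (66, 37), (62, 29), (56, 41), (59, 40), (67, 40), (58, 29), (71, 5), (73, 21), (55, 24), (62, 37), (61, 40), (56, 33), (56, 25), (64, 41), (75, 21), (79, 15), (60,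 41), (55, 40), (62, 25), (58, 33), (58, 37), (57, 40), (64, 37), (58, 25), (81, 15), (61, 36), (62, 33), (79, 21), (66, 29), (17, 0), (19, 0), (3, 5), (21, 0), (3, 3), (15, 0), (74, 18), (3, 1), (72, 8), (13, 1), (68, 18), (76, 8), (19, 2), (72, 0), (68, 8), (73, 11), (68, 2), (72, 2), (21, 2), (15, 4), (80, 18), (69, 1), (15, 2), (17, 2), (76, 2), (70, 18), (74, 2), (70, 2), (86, 0), (78, 8), (69, 7), (74, 8), (73, 1), (69, 17), (60, 1), (80, 8), (87, 11), (72, 18), (61, 0), (70, 8), (75, 1), (71, 17), (63, 0), (78, 2), (76, 18), (80, 2), (62, 17), (73, 7), (56, 17), (56, 5), (58, 1), (60, 17), (54, 1), (77, 7), (55, 0), (78, 18), (75, 7), (66, 17), (81, 1), (60, 13), (54, 5), (81, 7), (54, 13), (67, 0), (71, 7), (81, 17), (56, 13), (79, 7), (57, 0), (58, 17), (55, 4), (71, 1), (56, 9), (60, 5), (55, 12), (58, 9), (54, 9), (62,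 9), (77, 17), (66, 1), (79, 1), (75, 17), (58, 5), (64, 17), (62, 13), (64, 13), (59, 20), (58, 13), (65, 0), (56, 1), (66, 5), (55, 16), (55, 8), (77, 1), (54, 17), (60, 9), (64, 1), (73, 17), (64, 9), (64, 5), (66, 13), (62, 5), (62, 1), (66, 9), (57, 16), (22, 1), (4, 2), (50, 4), (14, 0), (46, 4), (26, 1), (48, 1), (4, 0), (14, 2), (28, 1), (68, 3), (14, 4), (50, 6), (70, 19), (45, 3), (46, 9), (45, 9), (28, 3), (45, 7), (50, 2), (24, 1), (24, 15), (48, 3), (26, 3), (45, 5), (70, 3), (72, 9), (50, 8), (70, 13), (72, 3), (74, 19), (49, 2), (68, 19), (68, 13), (69, 12), (88, 12), (89, 23), (71, 12), (53, 24), (80, 19), (80, 13), (71, 2), (72, 13), (69, 18), (60, 24), (72, 19), (68, 9), (53, 26), (52, 25), (56, 36), (62, 36), (69, 2), (69, 8), (75, 23), (54, 40), (74, 13), (24, 9), (76, 13), (74, 9), (78, 3), (80, 9), (76, 3),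 (49, 4), (76, 9), (80, 3), (81, 12), (78, 9), (74, 3), (60, 28), (54, 36), (53, 20), (60, 21), (24, 3), (55, 35), (60, 36), (70, 9), (78, 19), (73, 8), (76, 19), (73, 2), (73, 18), (61, 41), (24, 7), (58, 36), (64, 28), (78, 13), (54, 32), (66, 36), (55, 39), (62, 28), (62, 32), (64, 24), (54, 24), (54, 28), (56, 28), (58, 24), (81, 18), (56, 24), (79, 8), (24, 11), (52, 16), (24, 13), (24, 5), (55, 31), (58, 32), (64, 32), (77, 18), (75, 8), (60, 32), (79, 2), (56, 32), (66, 40), (66, 24), (64, 36), (52, 18), (77, 12), (81, 2), (58, 28), (77, 8), (55, 23), (60, 40), (79, 12), (56, 40), (75, 2), (55, 27), (75, 18), (66, 32), (64, 40), (61, 23), (61, 35), (62, 40), (58, 40), (53, 13), (62, 24), (47, 5), (27, 0), (5, 3), (5, 1), (23, 1), (29, 0), (15, 3), (51, 0), (15, 5), (51, 6), (51, 4), (74, 0), (48, 7), (68, 21), (51, 2),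 (48, 5), (47, 0), (70, 21), (72, 21), (44, 6), (89, 11), (75, 20), (70, 15), (80, 11), (25, 0), (69, 10), (68, 11), (68, 5), (44, 2), (69, 20), (88, 0), (27, 2), (52, 7), (80, 5), (74, 5), (29, 2), (52, 1), (68, 15), (69, 14), (25, 8), (69, 4), (74, 21), (44, 4), (70, 5), (25, 2), (76, 15), (70, 11), (75, 4), (80, 15), (78, 5), (49, 8), (78, 11), (44, 0), (52, 3), (72, 11), (15, 1), (60, 0), (25, 10), (72, 15), (73, 10), (76, 5), (49, 6), (76, 21), (78, 15), (72, 5), (76, 11), (58, 2), (25, 12), (80, 21), (78, 21), (81, 14), (74, 15), (52, 14), (53, 11), (25, 6), (53, 2), (81, 10), (56, 14), (60, 2), (58, 6), (75, 10), (61, 20), (54, 6), (54, 10), (79, 4), (71, 4), (77, 10), (66, 18), (73, 20), (60, 14), (57, 13), (66, 14), (71, 10), (64, 2), (60, 6), (25, 14), (57, 1), (62, 10), (60, 18), (53, 9), (56, 18), (62, 6), (60, 10),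 (79, 10), (55, 13), (54, 2), (66, 2), (79, 14), (54, 18), (55, 9), (25, 4), (62, 18), (64, 18), (56, 2), (55, 1), (81, 20), (56, 10), (77, 20), (62, 14), (62, 2), (58, 10), (56, 6), (64, 10), (55, 5), (64, 14), (58, 14), (54, 14), (73, 14), (79, 20), (73, 4), (64, 6), (30, 1), (48, 4), (6, 2), (16, 0), (16, 2), (6, 0), (34, 1), (76, 12), (24, 0), (46, 3), (46, 1), (24, 2), (45, 2), (32, 3), (45, 4), (45, 8), (48, 9), (32, 5), (32, 1), (94, 19), (84, 3), (83, 12), (94, 3), (34, 3), (84, 9), (86, 9), (82, 3), (91, 23), (52, 6), (45, 6), (53, 25), (83, 2), (52, 19), (77, 23), (83, 8), (82, 19), (94, 13), (84, 13), (84, 19), (92, 13), (58, 23), (82, 9), (83, 18), (47, 4), (82, 13), (93, 18), (92, 9), (88, 13), (89, 12), (90, 13), (86, 13), (52, 22), (54, 39), (54, 35), (58, 31), (90, 9), (92, 19), (88, 19), (92, 3), (95, 12), (90,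 19), (24, 10), (90, 3), (93, 12), (53, 17), (66, 39), (62, 21), (60, 23), (85, 12), (55, 26), (55, 38), (63, 41), (86, 3), (24, 14), (86, 19), (88, 3), (95, 18), (53, 27), (24, 8), (58, 27), (60, 27), (58, 35), (87, 8), (94, 9), (47, 2), (54, 31), (24, 12), (55, 30), (88, 9), (64, 27), (53, 12), (66, 31), (62, 35), (60, 35), (56, 27), (58, 39), (93, 8), (53, 1), (55, 34), (54, 27), (62, 31), (89, 8), (56, 39), (85, 18), (56, 35), (91, 18), (87, 18), (64, 35), (24, 6), (91, 2), (56, 31), (64, 39), (60, 31), (87, 2), (24, 4), (56, 23), (66, 27), (62, 39), (93, 2), (52, 17), (85, 8), (60, 39), (62, 27), (89, 2), (57, 34), (54, 23), (66, 35), (87, 12), (64, 23), (64, 31), (91, 8), (66, 23), (55, 22), (57, 30), (95, 2), (61, 38), (53, 14), (67, 22), (62, 23), (33, 0), (31, 1), (46, 7), (17, 3), (76, 0), (49, 5), (7, 1), (46, 5), (17,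 1), (25, 7), (7, 3), (33, 4), (90, 0), (94, 5), (33, 2), (82, 11), (44, 7), (35, 0), (44, 1), (53, 21), (52, 10), (47, 8), (49, 0), (82, 15), (94, 21), (84, 15), (83, 4), (35, 2), (90, 15), (83, 10), (82, 5), (86, 15), (25, 11), (52, 15), (47, 6), (25, 13), (90, 5), (88, 21), (92, 11), (84, 5), (84, 21), (84, 11), (44, 3), (44, 5), (94, 11), (83, 14), (92, 21), (91, 10), (92, 15), (82, 21), (94, 15), (86, 21), (86, 5), (83, 20), (52, 0), (55, 2), (62, 0), (54, 11), (60, 19), (25, 15), (55, 6), (25, 9), (54, 3), (88, 5), (52, 26), (88, 15), (88, 11), (92, 5), (93, 10), (90, 21), (77, 11), (63, 20), (91, 4), (58, 3), (62, 11), (52, 2), (52, 13), (89, 20), (87, 20), (55, 14), (86, 11), (87, 10), (60, 15), (60, 11), (57, 14), (25, 1), (85, 4), (56, 15), (85, 10), (55, 18), (89, 10), (89, 14), (64, 15), (66, 3), (60, 7), (54, 7),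 (55, 10), (66, 15), (58, 7), (66, 19), (54, 15), (91, 20), (93, 4), (95, 4), (54, 19), (87, 14), (85, 20), (85, 14), (53, 10), (25, 3), (56, 19), (58, 11), (25, 5), (58, 19), (62, 15), (53, 8), (56, 7), (93, 14), (58, 15), (64, 11), (56, 11), (62, 3), (93, 20), (89, 4), (62, 19), (53, 5), (64, 19), (56, 3), (64, 7), (60, 3), (59, 10), (95, 10), (65, 2), (64, 3), (62, 7), (66, 7), (36, 1), (32, 0), (18, 0), (32, 2), (26, 0), (8, 0), (26, 2), (38, 1), (8, 2), (18, 2), (38, 3), (78, 12), (32, 4), (93, 23), (82, 16), (38, 5), (82, 6), (90, 6), (92, 22), (86, 22), (91, 21), (94, 22), (88, 16), (83, 5), (84, 22), (92, 12), (90, 16), (94, 6), (88, 6), (84, 6), (89, 21), (84, 16), (90, 22), (92, 16), (85, 15), (94, 16), (83, 15), (83, 21), (82, 22), (91, 15), (92, 6), (79, 23), (52, 5), (52, 20), (86, 6), (85, 21), (93, 15), (88, 22),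 (53, 0), (52, 23), (86, 16), (95, 15), (95, 5), (93, 5), (91, 5), (95, 21), (53, 18), (87, 15), (87, 5), (93, 21), (89, 5), (89, 15), (85, 5), (87, 21), (53, 15), (65, 41), (64, 21), (39, 0), (9, 1), (78, 0), (9, 3), (82, 8), (92, 0), (37, 1), (90, 18), (88, 2), (91, 17), (19, 3), (90, 2), (27, 3), (94, 2), (33, 5), (90, 8), (84, 8), (95, 17), (86, 2), (82, 18), (39, 4), (27, 1), (33, 3), (91, 7), (82, 2), (94, 8), (88, 18), (33, 1), (84, 18), (93, 11), (92, 2), (39, 2), (83, 17), (86, 18), (92, 8), (92, 18), (83, 7), (84, 2), (94, 18), (19, 1), (91, 1), (52, 27), (52, 9), (53, 22), (79, 11), (86, 8), (83, 1), (85, 7), (52, 12), (88, 8), (53, 7), (93, 7), (95, 1), (87, 1), (93, 17), (85, 17), (53, 4), (85, 1), (87, 7), (89, 7), (93, 1), (65, 20), (89, 17), (95, 7), (64, 0), (89, 1), (42, 2), (40, 1), (20, 0), (28, 0), (34, 0),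 (20, 2), (28, 2), (34, 2), (10, 2), (10, 0), (80, 12), (38, 0), (44, 8), (38, 2), (38, 4), (95, 23), (81, 23), (94, 12), (66, 21), (67, 41), (43, 1), (11, 3), (80, 0), (41, 1), (11, 1), (29, 1), (35, 3), (21, 3), (45, 1), (35, 1), (29, 3), (94, 0), (81, 11), (39, 3), (39, 5), (95, 11), (21, 1), (66, 0), (39, 1), (67, 20), (74, 12), (68, 23), (82, 23), (73, 12), (40, 0), (83, 23), (90, 11), (71, 20), (69, 23), (81, 3), (89, 18), (95, 20), (63, 2), (1, 0), (41, 0), (74, 11), (57, 38), (91, 11), (77, 4), (79, 17), (22, 0), (13, 0), (12, 0), (61, 34), (23, 0), (82, 0), (36, 0), (65, 29), (87, 17), (75, 11), (67, 8), (71, 18), (68, 0), (67, 37), (75, 14), (0, 0), (66, 33), (30, 0), (67, 34), (67, 39), (37, 0), (77, 14), (31, 0), (65, 16), (95, 14), (87, 4), (66, 6)]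

def subsL : List (List ℕ) := [
  [2],
  [4],
  [6],
  [8],
  [10],
  [12]]

end Cfsg.Agent.Lib.Helper18.ONM.TCO
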